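import Mathlib

/-!
# Quadratic modules for `SL₂(F)`, `F` finite of characteristic 2, without any list (bb OMEGA #18875 (4))

`X = ⟨U₁, U₂⟩` acts on `F²` through the root groups and on the elementary abelian 2-group `A`; `U₁`, `U₂` act
quadratically, through their action on `F²`.

* `Quad.exists_hom` : for `e ∈ C_A(U₁)` there is an additive `φ : F² → A` with `φ(1, 0) ≡ e`, `g φ(p) ≡ φ(g p)` modulo
  `C_A(X)`;
* `Quad.add_of` : if `g_r`, `g_s`, `g_t` map `(1, 0)` to `(s + t, 0)`, `(s, 0)`, `(t, 0)`, then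
  `g_r e ≡ g_s e + g_t e` modulo `C_A(X)`.
-/

set_option autoImplicit false
set_option linter.unusedSectionVars false

namespace Cfsg.Agent.Omega.NO3S.OneQ.QuadNat

variable {F : Type*} [Field F] {X : Type*} [Group X] {A : Type*} [AddCommGroup A] [DistribMulAction X A]

/-- `X = ⟨U₁, U₂⟩` acts as `SL₂(F)` on `F²` and quadratically on `A` -/
structure Quad (F : Type*) [Field F] (A : Type*) [AddCommGroup A] {X : Type*} [Group X] [DistribMulAction X A]
    (ρ : X → F × F → F × F) (U₁ U₂ : Subgroup X) : Prop where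
  mul : ∀ g h p, ρ (g * h) p = ρ g (ρ h p)
  one : ∀ p, ρ 1 p = p
  tv₁ : ∀ k ∈ U₁, ∃ t, ∀ x y, ρ k (x, y) = (x + t * y, y)
  tv₂ : ∀ k ∈ U₂, ∃ t, ∀ x y, ρ k (x, y) = (x, y + t * x)
  ex₁ : ∀ t, ∃ k ∈ U₁, ∀ x y, ρ k (x, y) = (x + t * y, y)
  ex₂ : ∀ t, ∃ k ∈ U₂, ∀ x y, ρ k (x, y) = (x, y + t * x)
  norm₁ : ∀ g, (∀ x, (ρ g (x, 0)).2 = 0) → ∀ k ∈ U₁, g * k * g⁻¹ ∈ U₁
  swap₂ : ∀ g, (∀ y, (ρ g (0, y)).2 = 0) → ∀ k ∈ U₂, g * k * g⁻¹ ∈ U₁
  swap₁ : ∀ g, (∀ x, (ρ g (x, 0)).1 = 0) → ∀ k ∈ U₁, g * k * g⁻¹ ∈ U₂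
  gen : ∀ g : X, g ∈ Subgroup.closure ((U₁ : Set X) ∪ U₂)
  eq₁ : ∀ k ∈ U₁, (∀ p, ρ k p = p) → ∀ a : A, k • a = a
  eq₂ : ∀ k ∈ U₂, (∀ p, ρ k p = p) → ∀ a : A, k • a = a
  quad₁ : ∀ k ∈ U₁, ∀ k' ∈ U₁, ∀ a : A, k' • (k • a - a) = k • a - a
  quad₂ : ∀ k ∈ U₂, ∀ k' ∈ U₂, ∀ a : A, k' • (k • a - a) = k • a - a
  two : ∀ a : A, a + a = 0

/-- `C_A(X)` -/
def cen (X A : Type*) [Group X] [AddCommGroup A] [DistribMulAction X A] : AddSubgroup A where
  carrier := {a | ∀ g : X, g • a = a}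
  zero_mem' := fun g => smul_zero g
  add_mem' := by
    intro a b ha hb g
    rw [smul_add, ha g, hb g]
  neg_mem' := by
    intro a ha g
    rw [smul_neg, ha g]

theorem mem_cen {a : A} : a ∈ cen X A ↔ ∀ g : X, g • a = a := Iff.rfl

theorem smul_cen {a : A} (ha : a ∈ cen X A) (g : X) : g • a ∈ cen X A := by
  rw [ha g]; exact ha

/-- `a ≡ b` modulo `C_A(X)` -/
def Eqv (X : Type*) {A : Type*} [Group X] [AddCommGroup A] [DistribMulAction X A] (a b : A) : Prop := a - b ∈ cen X A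

theorem Eqv.refl (a : A) : Eqv X a a := by
  unfold Eqv
  rw [sub_self]
  exact zero_mem _

theorem Eqv.of_eq {a b : A} (h : a = b) : Eqv X a b := h ▸ Eqv.refl a

theorem Eqv.symm {a b : A} (h : Eqv X a b) : Eqv X b a := by
  unfold Eqv at *
  rw [← neg_sub]
  exact neg_mem h

theorem Eqv.trans {a b c : A} (h : Eqv X a b) (h' : Eqv X b c) : Eqv X a c := by
  unfold Eqv at *
  have := add_mem h h'
  rwa [sub_add_sub_cancel] at this

theorem Eqv.add {a b c d : A} (h : Eqv X a b) (h' : Eqv X c d) : Eqv X (a + c) (b + d) := by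
  unfold Eqv at *
  have := add_mem h h'
  rwa [sub_add_sub_comm] at this

theorem Eqv.smul {a b : A} (h : Eqv X a b) (g : X) : Eqv X (g • a) (g • b) := by
  unfold Eqv at *
  rw [← smul_sub]
  exact smul_cen h g

namespace Quad

variable {ρ : X → F × F → F × F} {U₁ U₂ : Subgroup X} (h : Quad F A ρ U₁ U₂)

include h

theorem neg_eq (a : A) : -a = a := neg_eq_of_add_eq_zero_left (h.two a)

theorem sub_eq (a b : A) : a - b = a + b := by rw [sub_eq_add_neg, h.neg_eq]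

theorem inv_eq {g : X} {p q : F × F} (hp : ρ g p = q) : ρ g⁻¹ q = p := by
  rw [← hp, ← h.mul, inv_mul_cancel, h.one]

/-- elements of `U₁` with the same action on `F²` act in the same way -/
theorem same₁ {k k' : X} (hk : k ∈ U₁) (hk' : k' ∈ U₁) (he : ∀ x y, ρ k (x, y) = ρ k' (x, y)) (a : A) :
    k • a = k' • a := by
  have h1 := h.eq₁ (k'⁻¹ * k) (mul_mem (inv_mem hk') hk) (fun p => by
    rw [h.mul]
    exact h.inv_eq (he p.1 p.2).symm) a
  rw [mul_smul, inv_smul_eq_iff] at h1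
  exact h1

theorem same₂ {k k' : X} (hk : k ∈ U₂) (hk' : k' ∈ U₂) (he : ∀ x y, ρ k (x, y) = ρ k' (x, y)) (a : A) :
    k • a = k' • a := by
  have h1 := h.eq₂ (k'⁻¹ * k) (mul_mem (inv_mem hk') hk) (fun p => by
    rw [h.mul]
    exact h.inv_eq (he p.1 p.2).symm) a
  rw [mul_smul, inv_smul_eq_iff] at h1
  exact h1

theorem mem_cen_of {a : A} (h1 : ∀ k ∈ U₁, k • a = a) (h2 : ∀ k ∈ U₂, k • a = a) : a ∈ cen X A := by
  intro g
  induction h.gen g using Subgroup.closure_induction with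
  | mem x hx => exact hx.elim (h1 x) (h2 x)
  | one => exact one_smul _ _
  | mul x y _ _ hx hy => rw [mul_smul, hy, hx]
  | inv x _ hx => rw [inv_smul_eq_iff, hx]

end Quad

/-- representatives -/
structure Rep (F : Type*) [Field F] (A : Type*) [AddCommGroup A] {X : Type*} [Group X] [DistribMulAction X A]
    (ρ : X → F × F → F × F) (U₁ U₂ : Subgroup X) extends Quad F A ρ U₁ U₂ where
  u : F → X
  v : F → X
  hu : ∀ t, u t ∈ U₁
  hv : ∀ t, v t ∈ U₂
  ru : ∀ t x y, ρ (u t) (x, y) = (x + t * y, y)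
  rv : ∀ t x y, ρ (v t) (x, y) = (x, y + t * x)

theorem Quad.exists_rep {ρ : X → F × F → F × F} {U₁ U₂ : Subgroup X} (h : Quad F A ρ U₁ U₂) :
    Nonempty (Rep F A ρ U₁ U₂) := by
  choose u hu ru using h.ex₁
  choose v hv rv using h.ex₂
  exact ⟨{ toQuad := h, u := u, v := v, hu := hu, hv := hv, ru := ru, rv := rv }⟩

namespace Rep

variable [CharP F 2] {ρ : X → F × F → F × F} {U₁ U₂ : Subgroup X} (h : Rep F A ρ U₁ U₂)

theorem uu (t : F) (a : A) : h.u t • h.u t • a = a := by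
  rw [← mul_smul]
  refine h.eq₁ _ (mul_mem (h.hu t) (h.hu t)) (fun p => ?_) a
  rw [h.mul, ← Prod.mk.eta (p := p), h.ru, h.ru, add_assoc, CharTwo.add_self_eq_zero, add_zero]

theorem vv (t : F) (a : A) : h.v t • h.v t • a = a := by
  rw [← mul_smul]
  refine h.eq₂ _ (mul_mem (h.hv t) (h.hv t)) (fun p => ?_) a
  rw [h.mul, ← Prod.mk.eta (p := p), h.rv, h.rv, add_assoc, CharTwo.add_self_eq_zero, add_zero]

/-- `n(t)` -/
def n (t : F) : X := h.u t * h.v t⁻¹ * h.u t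

theorem n_smul (t : F) (a : A) : h.n t • a = h.u t • h.v t⁻¹ • h.u t • a := by
  rw [n, mul_smul, mul_smul]

theorem nn (t : F) (a : A) : h.n t • h.n t • a = a := by
  rw [n_smul, n_smul, h.uu, h.vv, h.uu]

theorem rn {t : F} (ht : t ≠ 0) (x y : F) : ρ (h.n t) (x, y) = (t * y, t⁻¹ * x) := by
  have h1 : y + t⁻¹ * (x + t * y) = t⁻¹ * x := by
    rw [mul_add, inv_mul_cancel_left₀ ht, add_comm y, add_assoc, CharTwo.add_self_eq_zero, add_zero]
  rw [n, h.mul, h.mul, h.ru, h.rv, h.ru, h1, mul_inv_cancel_left₀ ht]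
  congr 1
  rw [add_right_comm, CharTwo.add_self_eq_zero, zero_add]

theorem rn_inv {t : F} (ht : t ≠ 0) (x y : F) : ρ (h.n t)⁻¹ (x, y) = (t * y, t⁻¹ * x) := by
  apply h.inv_eq
  rw [h.rn ht, mul_inv_cancel_left₀ ht, inv_mul_cancel_left₀ ht]

theorem inv_n_smul (t : F) (a : A) : (h.n t)⁻¹ • a = h.n t • a := by
  rw [inv_smul_eq_iff, h.nn]

/-- `n(t)` maps `C(U₁)` to `C(U₂)` -/
theorem n_mem₂ {t : F} (ht : t ≠ 0) {e : A} (he : ∀ k ∈ U₁, k • e = e) : ∀ k ∈ U₂, k • h.n t • e = h.n t • e := by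
  intro k hk
  have h1 := he _ (h.swap₂ (h.n t)⁻¹ (fun y => by rw [h.rn_inv ht]; exact mul_zero _) k hk)
  rw [inv_inv, mul_smul, mul_smul, inv_smul_eq_iff] at h1
  exact h1

theorem n_mem₁ {t : F} (ht : t ≠ 0) {e : A} (he : ∀ k ∈ U₂, k • e = e) : ∀ k ∈ U₁, k • h.n t • e = h.n t • e := by
  intro k hk
  have h1 := he _ (h.swap₁ (h.n t)⁻¹ (fun y => by rw [h.rn_inv ht]; exact mul_zero _) k hk)
  rw [inv_inv, mul_smul, mul_smul, inv_smul_eq_iff] at h1
  exact h1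

/-- `u(t) n(t) e ≡ n(t) e + e` -/
theorem stepB {t : F} (ht : t ≠ 0) {e : A} (he : ∀ k ∈ U₁, k • e = e) :
    Eqv X (h.u t • h.n t • e - h.n t • e) e := by
  have h0 : h.u t • h.n t • e = h.v t⁻¹ • e := by
    rw [h.n_smul, h.uu, he _ (h.hu t)]
  refine h.mem_cen_of ?_ ?_
  · intro k hk
    rw [smul_sub, h.quad₁ _ (h.hu t) k hk, he k hk]
  · intro k hk
    have e1 : h.u t • h.n t • e - h.n t • e - e = h.v t⁻¹ • e - e - h.n t • e := by
      rw [h0]; abel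
    rw [e1, smul_sub, h.quad₂ _ (h.hv _) k hk, h.n_mem₂ ht he k hk]

/-- `f(e, t) = [n(1) e, u(t)]` -/
def f (e : A) (t : F) : A := h.u t • h.n 1 • e - h.n 1 • e

theorem f_add (e : A) (s t : F) : h.f e (s + t) = h.f e s + h.f e t := by
  have h1 : h.u (s + t) • h.n 1 • e = h.u s • h.u t • h.n 1 • e := by
    rw [← mul_smul (h.u s)]
    refine h.same₁ (h.hu _) (mul_mem (h.hu s) (h.hu t)) (fun x y => ?_) _
    rw [h.mul, h.ru, h.ru, h.ru, add_mul, add_comm (s * y), add_assoc]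
  have h2 := h.quad₁ _ (h.hu t) _ (h.hu s) (h.n 1 • e)
  rw [smul_sub, sub_eq_iff_eq_add] at h2
  rw [f, f, f, h1, h2]
  abel

theorem f_add' (e e' : A) (t : F) : h.f (e + e') t = h.f e t + h.f e' t := by
  rw [f, f, f, smul_add, smul_add]
  abel

theorem f_zero (e : A) : h.f e 0 = 0 := by
  have := h.f_add e 0 0
  rw [add_zero] at this
  exact left_eq_add.1 this

theorem f_zero' (t : F) : h.f (0 : A) t = 0 := by
  rw [f, smul_zero, smul_zero, sub_zero]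

theorem f_mem (e : A) (t : F) : ∀ k ∈ U₁, k • h.f e t = h.f e t := fun k hk => h.quad₁ _ (h.hu t) k hk _

theorem f_cen {e : A} (he : e ∈ cen X A) (t : F) : h.f e t = 0 := by
  rw [f, he, he, sub_self]

theorem f_eqv {e e' : A} (he : Eqv X e e') (t : F) : h.f e t = h.f e' t := by
  have h1 : e = (e - e') + e' := by abel
  rw [h1, h.f_add', h.f_cen he, zero_add]

/-- `h(t) = n(t) n(1)` -/
def d (t : F) : X := h.n t * h.n 1

theorem d_smul (t : F) (a : A) : h.d t • a = h.n t • h.n 1 • a := by rw [d, mul_smul]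

theorem rd {t : F} (ht : t ≠ 0) (x y : F) : ρ (h.d t) (x, y) = (t * x, t⁻¹ * y) := by
  rw [d, h.mul, h.rn one_ne_zero, h.rn ht, inv_one, one_mul, one_mul]

theorem rd_inv {t : F} (ht : t ≠ 0) (x y : F) : ρ (h.d t)⁻¹ (x, y) = (t⁻¹ * x, t * y) := by
  apply h.inv_eq
  rw [h.rd ht, mul_inv_cancel_left₀ ht, inv_mul_cancel_left₀ ht]

theorem d_mem {t : F} (ht : t ≠ 0) {e : A} (he : ∀ k ∈ U₁, k • e = e) : ∀ k ∈ U₁, k • h.d t • e = h.d t • e := by
  intro k hk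
  rw [h.d_smul]
  exact h.n_mem₁ ht (h.n_mem₂ one_ne_zero he) k hk

theorem stepC {t : F} (ht : t ≠ 0) {e : A} (he : ∀ k ∈ U₁, k • e = e) : Eqv X (h.f e t) (h.d t • e) := by
  have h1 := h.stepB ht (h.d_mem ht he)
  have h2 : h.n t • h.d t • e = h.n 1 • e := by rw [h.d_smul, h.nn]
  rw [h2] at h1
  exact h1

theorem stepD {c : F} (hc : c ≠ 0) (t : F) (e : A) :
    h.d c • h.f (h.d c • e) t = h.f e (c * c * t) := by
  have h1 : ∀ b : A, h.d c • h.u t • b = h.u (c * c * t) • h.d c • b := by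
    intro b
    have h2 : h.d c * h.u t * (h.d c)⁻¹ ∈ U₁ :=
      h.norm₁ _ (fun x => by rw [h.rd hc]; exact mul_zero _) _ (h.hu t)
    have h3 := h.same₁ h2 (h.hu (c * c * t)) (fun x y => by
      rw [h.mul, h.mul, h.rd_inv hc, h.ru, h.rd hc, h.ru]
      congr 1
      · rw [mul_add, mul_inv_cancel_left₀ hc]
        ring
      · rw [inv_mul_cancel_left₀ hc]) (h.d c • b)
    rw [mul_smul, mul_smul, inv_smul_smul] at h3
    exact h3
  have h4 : h.d c • h.n 1 • h.d c • e = h.n 1 • e := by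
    rw [h.d_smul, h.nn, h.d_smul, h.nn]
  rw [f, f, smul_sub, h1, h4]

/-- `T_c T_t T_c ≡ T_{c² t}` -/
theorem stepE (c t : F) {e : A} (he : ∀ k ∈ U₁, k • e = e) :
    Eqv X (h.f (h.f (h.f e c) t) c) (h.f e (c * c * t)) := by
  by_cases hc : c = 0
  · subst hc
    rw [h.f_zero, mul_zero, zero_mul, h.f_zero]
    exact Eqv.refl _
  by_cases ht : t = 0
  · subst ht
    rw [h.f_zero, h.f_zero', mul_zero, h.f_zero]
    exact Eqv.refl _
  have h1 : h.f (h.f e c) t = h.f (h.d c • e) t := h.f_eqv (h.stepC hc he) t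
  rw [h1]
  refine (h.stepC hc (h.f_mem _ t)).trans ?_
  rw [h.stepD hc]
  exact Eqv.refl _

theorem f_one {e : A} (he : ∀ k ∈ U₁, k • e = e) : Eqv X (h.f e 1) e := by
  have h1 := h.stepC one_ne_zero he
  rw [h.d_smul, h.nn] at h1
  exact h1

theorem f_sq (c : F) {e : A} (he : ∀ k ∈ U₁, k • e = e) : Eqv X (h.f (h.f e c) c) (h.f e (c * c)) := by
  have h1 := h.stepE c 1 he
  rw [mul_one, h.f_eqv (h.f_one (h.f_mem e c)) c] at h1
  exact h1

theorem f_comm (c t : F) {e : A} (he : ∀ k ∈ U₁, k • e = e) : Eqv X (h.f (h.f e c) t) (h.f (h.f e t) c) := by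
  have h1 := h.f_sq (c + t) he
  have e1 : (c + t) * (c + t) = c * c + t * t := by
    have : (c + t) * (c + t) = c * c + t * t + (c * t + c * t) := by ring
    rw [this, CharTwo.add_self_eq_zero, add_zero]
  rw [e1, h.f_add, h.f_add, h.f_add e (c * c), h.f_add', h.f_add'] at h1
  have h2 := h1.trans (((h.f_sq c he).symm).add ((h.f_sq t he).symm))
  -- a + b + (c' + d) ≡ a + d
  unfold Eqv at *
  have e2 : h.f (h.f e c) t - h.f (h.f e t) c =
      h.f (h.f e c) c + h.f (h.f e t) c + (h.f (h.f e c) t + h.f (h.f e t) t) -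
      (h.f (h.f e c) c + h.f (h.f e t) t) - (h.f (h.f e t) c + h.f (h.f e t) c) := by abel
  rw [e2, h.two, sub_zero]
  exact h2

theorem f_mul [Finite F] (c t : F) {e : A} (he : ∀ k ∈ U₁, k • e = e) :
    Eqv X (h.f (h.f e c) t) (h.f e (t * c)) := by
  obtain ⟨b, rfl⟩ : ∃ b, c = b * b := by
    have := Fintype.ofFinite F
    obtain ⟨b, hb⟩ := FiniteField.isSquare_of_char_two (F := F) (CharP.ringChar_of_prime_eq_zero Nat.prime_two
      (CharP.cast_eq_zero F 2)) c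
    exact ⟨b, hb⟩
  have h1 := h.stepE b t he
  have h2 : Eqv X (h.f (h.f (h.f e b) t) b) (h.f (h.f e (b * b)) t) := by
    refine (h.f_comm t b (h.f_mem e b)).trans ?_
    rw [h.f_eqv (h.f_sq b he) t]
    exact Eqv.refl _
  rw [mul_comm t]
  exact h2.symm.trans h1

/-- the homomorphism -/
def ph (e : A) (p : F × F) : A := h.f e p.1 + h.n 1 • h.f e p.2

theorem ph_add (e : A) (p q : F × F) : h.ph e (p + q) = h.ph e p + h.ph e q := by
  rw [ph, ph, ph, Prod.fst_add, Prod.snd_add, h.f_add, h.f_add, smul_add]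
  abel

theorem ph_u [Finite F] {e : A} (he : ∀ k ∈ U₁, k • e = e) {k : X} (hk : k ∈ U₁) (p : F × F) :
    Eqv X (k • h.ph e p) (h.ph e (ρ k p)) := by
  obtain ⟨t, ht⟩ := h.tv₁ k hk
  obtain ⟨a, b⟩ := p
  rw [ht, ph, ph]
  have h1 : k • h.n 1 • h.f e b = h.n 1 • h.f e b + h.f (h.f e b) t := by
    have h5 : h.f (h.f e b) t = h.u t • h.n 1 • h.f e b - h.n 1 • h.f e b := rfl
    rw [h.same₁ hk (h.hu t) (fun x y => by rw [ht, h.ru]), h5]
    abel
  change Eqv X (k • (h.f e a + h.n 1 • h.f e b)) (h.f e (a + t * b) + h.n 1 • h.f e b)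
  rw [smul_add, h.f_mem e a k hk, h1, h.f_add]
  have h2 : h.f e a + (h.n 1 • h.f e b + h.f (h.f e b) t) = h.f (h.f e b) t + (h.f e a + h.n 1 • h.f e b) := by abel
  have h3 : h.f e a + h.f e (t * b) + h.n 1 • h.f e b = h.f e (t * b) + (h.f e a + h.n 1 • h.f e b) := by abel
  rw [h2, h3]
  exact (h.f_mul b t he).add (Eqv.refl _)

theorem ph_n (e : A) (a b : F) : h.n 1 • h.ph e (a, b) = h.ph e (b, a) := by
  rw [ph, ph, smul_add, h.nn, add_comm]

theorem ph_v [Finite F] {e : A} (he : ∀ k ∈ U₁, k • e = e) {k : X} (hk : k ∈ U₂) (p : F × F) :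
    Eqv X (k • h.ph e p) (h.ph e (ρ k p)) := by
  obtain ⟨t, ht⟩ := h.tv₂ k hk
  obtain ⟨a, b⟩ := p
  rw [ht]
  have h1 : (h.n 1)⁻¹ * k * (h.n 1)⁻¹⁻¹ ∈ U₁ :=
    h.swap₂ _ (fun y => by rw [h.rn_inv one_ne_zero, inv_one]; exact mul_zero _) k hk
  have h2 : k • h.ph e (a, b) = h.n 1 • ((h.n 1)⁻¹ * k * (h.n 1)⁻¹⁻¹) • h.ph e (b, a) := by
    rw [inv_inv, mul_smul, mul_smul, smul_inv_smul, h.ph_n]
  have h3 : ρ ((h.n 1)⁻¹ * k * (h.n 1)⁻¹⁻¹) (b, a) = (b + t * a, a) := by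
    rw [inv_inv, h.mul, h.mul, h.rn one_ne_zero, ht, h.rn_inv one_ne_zero, inv_one, one_mul, one_mul, one_mul, one_mul]
  have h4 := (h.ph_u he h1 (b, a)).smul (h.n 1)
  rw [h3, h.ph_n, ← h2] at h4
  exact h4

theorem ph_smul [Finite F] {e : A} (he : ∀ k ∈ U₁, k • e = e) (g : X) (p : F × F) :
    Eqv X (g • h.ph e p) (h.ph e (ρ g p)) := by
  induction h.gen g using Subgroup.closure_induction generalizing p with
  | mem x hx => exact hx.elim (fun hx => h.ph_u he hx p) (fun hx => h.ph_v he hx p)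
  | one => rw [one_smul, h.one]; exact Eqv.refl _
  | mul x y _ _ hx hy =>
    rw [mul_smul, h.mul]
    exact ((hy p).smul x).trans (hx _)
  | inv x _ hx =>
    have h1 := (hx (ρ x⁻¹ p)).smul x⁻¹
    rw [inv_smul_smul, ← h.mul, mul_inv_cancel, h.one] at h1
    exact h1.symm

end Rep

namespace Quad

variable [CharP F 2] [Finite F] {ρ : X → F × F → F × F} {U₁ U₂ : Subgroup X} (h : Quad F A ρ U₁ U₂)

include h

/-- **an element of `C_A(U₁)` generates a natural module or a trivial one modulo `C_A(X)`** -/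
theorem exists_hom {e : A} (he : ∀ k ∈ U₁, k • e = e) :
    ∃ φ : F × F → A, Eqv X (φ (1, 0)) e ∧ (∀ p q, φ (p + q) = φ p + φ q) ∧ (∀ g p, Eqv X (g • φ p) (φ (ρ g p))) ∧
      ∀ x, ∀ k ∈ U₁, k • φ (x, 0) = φ (x, 0) := by
  obtain ⟨R⟩ := h.exists_rep
  have h0 : ∀ x, R.ph e (x, 0) = R.f e x := fun x => by rw [Rep.ph, R.f_zero, smul_zero, add_zero]
  refine ⟨R.ph e, ?_, R.ph_add e, R.ph_smul he, fun x k hk => ?_⟩
  · rw [h0]
    exact R.f_one he
  · rw [h0]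
    exact R.f_mem e x k hk

/-- **`t ↦ h(t) e` is additive modulo `C_A(X)`** -/
theorem add_of {e : A} (he : ∀ k ∈ U₁, k • e = e) {a b c : X} {s t : F} (ha : ρ a (1, 0) = (s, 0))
    (hb : ρ b (1, 0) = (t, 0)) (hc : ρ c (1, 0) = (s + t, 0)) : Eqv X (c • e) (a • e + b • e) := by
  obtain ⟨φ, h1, h2, h3, -⟩ := h.exists_hom he
  have key : ∀ {g : X} {p : F × F}, ρ g (1, 0) = p → Eqv X (g • e) (φ p) := by
    intro g p hp
    refine ((h1.symm).smul g).trans ?_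
    rw [← hp]
    exact h3 g (1, 0)
  have e1 : φ (s + t, 0) = φ (s, 0) + φ (t, 0) := by
    rw [← h2, Prod.mk_add_mk, add_zero]
  refine (key hc).trans ?_
  rw [e1]
  exact (key ha).symm.add (key hb).symm

end Quad

end Cfsg.Agent.Omega.NO3S.OneQ.QuadNat
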