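import Mathlib.GroupTheory.SpecificGroups.Cyclic
import Mathlib.FieldTheory.Finite.Basic
import Mathlib.RingTheory.IntegralDomain
import Mathlib.Algebra.CharP.Two

/-!
# Central extensions of `SL₂(F)` generated by two root groups (bb OMEGA #17428 (A))

`Ext xp xm ρ` : `Q` is generated by the groups `xp(F)`, `xm(F)`, `ρ : Q →* Perm (F × F)` maps them to the root groups, the
kernel of `ρ` is central and `Q` permutes the root groups as `SL₂(F)` does.  `Ext.inj` : `ρ` is injective.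
-/

set_option autoImplicit false
set_option linter.unusedSectionVars false

namespace Cfsg.Agent.Omega.NO3S.OneQ.SLExt

variable {F : Type*} [Field F] [CharP F 2] {Q : Type*} [Group Q]

/-- the hypotheses -/
structure Ext (xp xm : F → Q) (ρ : Q →* Equiv.Perm (F × F)) : Prop where
  addp : ∀ s t, xp (s + t) = xp s * xp t
  addm : ∀ s t, xm (s + t) = xm s * xm t
  actp : ∀ s x y, ρ (xp s) (x, y) = (x + s * y, y)
  actm : ∀ s x y, ρ (xm s) (x, y) = (x, y + s * x)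
  cen : ∀ g, ρ g = 1 → ∀ g', g * g' = g' * g
  torp : ∀ (g : Q) (ζ : F), ζ ≠ 0 → (∀ x y, ρ g (x, y) = (ζ * x, ζ⁻¹ * y)) → ∀ s, ∃ s', g * xp s * g⁻¹ = xp s'
  torm : ∀ (g : Q) (ζ : F), ζ ≠ 0 → (∀ x y, ρ g (x, y) = (ζ * x, ζ⁻¹ * y)) → ∀ s, ∃ s', g * xm s * g⁻¹ = xm s'
  swap : ∀ g : Q, (∀ x y, ρ g (x, y) = (y, x)) → ∀ s, ∃ s', g * xp s * g⁻¹ = xm s'
  gen : Subgroup.closure (Set.range xp ∪ Set.range xm) = ⊤

namespace Ext

variable {xp xm : F → Q} {ρ : Q →* Equiv.Perm (F × F)} (h : Ext xp xm ρ)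
include h

theorem xp_zero : xp 0 = 1 := by
  have := h.addp 0 0
  rw [add_zero] at this
  exact left_eq_mul.1 this

theorem xm_zero : xm 0 = 1 := by
  have := h.addm 0 0
  rw [add_zero] at this
  exact left_eq_mul.1 this

theorem xp_sq (s : F) : xp s * xp s = 1 := by rw [← h.addp, CharTwo.add_self_eq_zero, h.xp_zero]

theorem xm_sq (s : F) : xm s * xm s = 1 := by rw [← h.addm, CharTwo.add_self_eq_zero, h.xm_zero]

theorem xp_inj {s t : F} (e : xp s = xp t) : s = t := by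
  have h1 := h.actp s 0 1
  rw [e, h.actp] at h1
  have h2 := congrArg Prod.fst h1
  simp only [mul_one, zero_add] at h2
  exact h2.symm

theorem xm_inj {s t : F} (e : xm s = xm t) : s = t := by
  have h1 := h.actm s 1 0
  rw [e, h.actm] at h1
  have h2 := congrArg Prod.snd h1
  simp only [mul_one, zero_add] at h2
  exact h2.symm

omit h in
theorem conj_act {g k : Q} (p : F × F) : ρ (g * k * g⁻¹) (ρ g p) = ρ g (ρ k p) := by
  have e : g * k * g⁻¹ * g = g * k := by group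
  rw [← Equiv.Perm.mul_apply, ← map_mul, e, map_mul, Equiv.Perm.mul_apply]

/-- conjugation by a torus element -/
theorem tor_xp {g : Q} {ζ : F} (hζ : ζ ≠ 0) (hg : ∀ x y, ρ g (x, y) = (ζ * x, ζ⁻¹ * y)) (s : F) :
    g * xp s * g⁻¹ = xp (ζ * ζ * s) := by
  obtain ⟨s', hs⟩ := h.torp g ζ hζ hg s
  have h1 := conj_act (ρ := ρ) (g := g) (k := xp s) (0, ζ)
  rw [hs, hg, h.actp, h.actp, hg] at h1
  have h2 := congrArg Prod.fst h1
  simp only [mul_zero, zero_add, inv_mul_cancel₀ hζ, mul_one] at h2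
  rw [hs, h2]
  congr 1
  ring

theorem tor_xm {g : Q} {ζ : F} (hζ : ζ ≠ 0) (hg : ∀ x y, ρ g (x, y) = (ζ * x, ζ⁻¹ * y)) (s : F) :
    g * xm s * g⁻¹ = xm (ζ⁻¹ * ζ⁻¹ * s) := by
  obtain ⟨s', hs⟩ := h.torm g ζ hζ hg s
  have h1 := conj_act (ρ := ρ) (g := g) (k := xm s) (ζ⁻¹, 0)
  rw [hs, hg, h.actm, h.actm, hg] at h1
  have h2 := congrArg Prod.snd h1
  simp only [mul_zero, zero_add, mul_inv_cancel₀ hζ, mul_one] at h2
  rw [hs, h2]
  congr 1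
  ring

/-- `n(s)` -/
theorem n_sq {s : F} : (xp s * xm s⁻¹ * xp s) * (xp s * xm s⁻¹ * xp s) = 1 := by
  calc (xp s * xm s⁻¹ * xp s) * (xp s * xm s⁻¹ * xp s) = xp s * xm s⁻¹ * (xp s * xp s) * xm s⁻¹ * xp s := by group
    _ = xp s * (xm s⁻¹ * xm s⁻¹) * xp s := by rw [h.xp_sq]; group
    _ = 1 := by rw [h.xm_sq, mul_one, h.xp_sq]

theorem n_act {s : F} (hs : s ≠ 0) (x y : F) : ρ (xp s * xm s⁻¹ * xp s) (x, y) = (s * y, s⁻¹ * x) := by
  rw [map_mul, map_mul, Equiv.Perm.mul_apply, Equiv.Perm.mul_apply, h.actp, h.actm, h.actp]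
  have h1 : y + s⁻¹ * (x + s * y) = s⁻¹ * x := by
    rw [mul_add, inv_mul_cancel_left₀ hs, add_comm y, add_assoc, CharTwo.add_self_eq_zero, add_zero]
  rw [h1, mul_inv_cancel_left₀ hs, add_right_comm, CharTwo.add_self_eq_zero, zero_add]

end Ext

/-- `n(s) = xp(s) xm(s⁻¹) xp(s)` -/
def nn (xp xm : F → Q) (s : F) : Q := xp s * xm s⁻¹ * xp s

/-- `h(s) = n(s) n(1)` -/
def hh (xp xm : F → Q) (s : F) : Q := nn xp xm s * nn xp xm 1

/-- the torus -/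
def tor (ρ : Q →* Equiv.Perm (F × F)) : Subgroup Q where
  carrier := {g | ∃ ζ : F, ζ ≠ 0 ∧ ∀ x y, ρ g (x, y) = (ζ * x, ζ⁻¹ * y)}
  one_mem' := ⟨1, one_ne_zero, fun x y => by rw [map_one, inv_one, one_mul, one_mul]; rfl⟩
  mul_mem' := by
    rintro a b ⟨ζ, hζ, ha⟩ ⟨ξ, hξ, hb⟩
    refine ⟨ζ * ξ, mul_ne_zero hζ hξ, fun x y => ?_⟩
    rw [map_mul, Equiv.Perm.mul_apply, hb, ha, mul_inv_rev, mul_assoc, ← mul_assoc ζ⁻¹, mul_comm ζ⁻¹]
  inv_mem' := by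
    rintro a ⟨ζ, hζ, ha⟩
    refine ⟨ζ⁻¹, inv_ne_zero hζ, fun x y => ?_⟩
    rw [map_inv, Equiv.Perm.inv_eq_iff_eq, ha, mul_inv_cancel_left₀ hζ, inv_inv, inv_mul_cancel_left₀ hζ]

open Classical in
/-- the character of the torus -/
noncomputable def chi (ρ : Q →* Equiv.Perm (F × F)) : tor ρ →* Fˣ where
  toFun g := Units.mk0 (g.2.choose) g.2.choose_spec.1
  map_one' := by
    have h1 := (1 : tor ρ).2.choose_spec.2 1 1
    have h2 : ρ ((1 : tor ρ) : Q) (1, 1) = (1, 1) := by rw [OneMemClass.coe_one, map_one]; rfl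
    rw [h2] at h1
    apply Units.ext
    have h3 := congrArg Prod.fst h1
    simp only [mul_one] at h3
    exact h3.symm
  map_mul' := by
    intro a b
    have h1 := (a * b).2.choose_spec.2 1 1
    have h2 : ρ ((a * b : tor ρ) : Q) (1, 1) = ρ (a : Q) (ρ (b : Q) (1, 1)) := by
      rw [Subgroup.coe_mul, map_mul, Equiv.Perm.mul_apply]
    rw [h2, b.2.choose_spec.2, a.2.choose_spec.2] at h1
    have h3 := congrArg Prod.fst h1
    apply Units.ext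
    simp only [mul_one] at h3
    exact h3.symm


namespace Ext

variable {xp xm : F → Q} {ρ : Q →* Equiv.Perm (F × F)} (h : Ext xp xm ρ)
include h

theorem nn_sq (s : F) : nn xp xm s * nn xp xm s = 1 := h.n_sq

theorem nn_inv (s : F) : (nn xp xm s)⁻¹ = nn xp xm s := inv_eq_of_mul_eq_one_right (h.nn_sq s)

theorem nn_act {s : F} (hs : s ≠ 0) (x y : F) : ρ (nn xp xm s) (x, y) = (s * y, s⁻¹ * x) := h.n_act hs x y

theorem nn_one_act (x y : F) : ρ (nn xp xm 1) (x, y) = (y, x) := by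
  rw [h.nn_act one_ne_zero, inv_one, one_mul, one_mul]

theorem hh_act {s : F} (hs : s ≠ 0) (x y : F) : ρ (hh xp xm s) (x, y) = (s * x, s⁻¹ * y) := by
  rw [hh, map_mul, Equiv.Perm.mul_apply, h.nn_one_act, h.nn_act hs]

theorem hh_one : hh xp xm (1 : F) = 1 := h.nn_sq 1

/-- `n(1) xp(s) n(1) = xm(s)` -/
theorem nn_xp (s : F) : nn xp xm 1 * xp s * nn xp xm 1 = xm s := by
  obtain ⟨s', hs⟩ := h.swap (nn xp xm 1) h.nn_one_act s
  have h1 := conj_act (ρ := ρ) (g := nn xp xm 1) (k := xp s) (0, 1)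
  rw [hs, h.nn_one_act, h.actm, h.actp, h.nn_one_act] at h1
  have h2 := congrArg Prod.snd h1
  simp only [mul_one, zero_add] at h2
  rw [h.nn_inv] at hs
  rw [hs, h2]

theorem nn_hh (s : F) : nn xp xm 1 * hh xp xm s = (hh xp xm s)⁻¹ * nn xp xm 1 := by
  rw [hh, mul_inv_rev, h.nn_inv, h.nn_inv]
  group

theorem tor_nn {g : Q} {ζ : F} (hζ : ζ ≠ 0) (hg : ∀ x y, ρ g (x, y) = (ζ * x, ζ⁻¹ * y)) (t : F) :
    g * nn xp xm t * g⁻¹ = nn xp xm (ζ * ζ * t) := by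
  have e : g * nn xp xm t * g⁻¹ = g * xp t * g⁻¹ * (g * xm t⁻¹ * g⁻¹) * (g * xp t * g⁻¹) := by
    rw [nn]; group
  rw [e, h.tor_xp hζ hg, h.tor_xm hζ hg, nn]
  congr 3
  rw [mul_inv_rev, mul_inv_rev]
  ring

/-- `h(ζ²) = g n(1) g⁻¹ n(1)` -/
theorem hh_sq {g : Q} {ζ : F} (hζ : ζ ≠ 0) (hg : ∀ x y, ρ g (x, y) = (ζ * x, ζ⁻¹ * y)) :
    hh xp xm (ζ * ζ) = g * nn xp xm 1 * g⁻¹ * nn xp xm 1 := by
  rw [h.tor_nn hζ hg, mul_one, hh]

theorem hh_mem {s : F} (hs : s ≠ 0) : hh xp xm s ∈ tor ρ := ⟨s, hs, h.hh_act hs⟩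

theorem nn_tor {g : Q} (hg : g ∈ tor ρ) : nn xp xm 1 * g * nn xp xm 1 ∈ tor ρ := by
  obtain ⟨ζ, hζ, ha⟩ := hg
  refine ⟨ζ⁻¹, inv_ne_zero hζ, fun x y => ?_⟩
  rw [map_mul, map_mul, Equiv.Perm.mul_apply, Equiv.Perm.mul_apply, h.nn_one_act, ha, h.nn_one_act, inv_inv]

theorem chi_ker [Finite F] : (chi ρ).ker ≤ Subgroup.center (tor ρ) := by
  intro g hg
  rw [MonoidHom.mem_ker] at hg
  rw [Subgroup.mem_center_iff]
  intro k
  have h1 := congrArg Units.val hg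
  have h2 : g.2.choose = 1 := h1
  have h3 : ρ (g : Q) = 1 := by
    ext p
    · have := g.2.choose_spec.2 p.1 p.2
      rw [h2, inv_one, one_mul, one_mul] at this
      rw [show p = (p.1, p.2) from rfl, this]
      rfl
    · have := g.2.choose_spec.2 p.1 p.2
      rw [h2, inv_one, one_mul, one_mul] at this
      rw [show p = (p.1, p.2) from rfl, this]
      rfl
  exact Subtype.ext (h.cen g h3 k).symm

/-- the torus is abelian -/
theorem tor_comm [Finite F] {a b : Q} (ha : a ∈ tor ρ) (hb : b ∈ tor ρ) : a * b = b * a :=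
  congrArg Subtype.val ((MonoidHom.isMulCommutative_of_isCyclic_of_ker_le_center (chi ρ) h.chi_ker).is_comm.comm
    ⟨a, ha⟩ ⟨b, hb⟩)

theorem exists_sq [Finite F] (s : F) : ∃ t, t * t = s := by
  have h1 : Function.Surjective (frobenius F 2) := Finite.surjective_of_injective (frobenius_inj F 2)
  obtain ⟨c, hc⟩ := h1 s
  exact ⟨c, by rw [← pow_two]; exact hc⟩

/-- `h(s t) = h(s) h(t)` -/
theorem hh_mul [Finite F] {s t : F} (hs : s ≠ 0) (ht : t ≠ 0) : hh xp xm (s * t) = hh xp xm s * hh xp xm t := by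
  obtain ⟨ζ, rfl⟩ := h.exists_sq s
  obtain ⟨ξ, rfl⟩ := h.exists_sq t
  have hζ : ζ ≠ 0 := fun e => hs (by rw [e, mul_zero])
  have hξ : ξ ≠ 0 := fun e => ht (by rw [e, mul_zero])
  have h1 := h.hh_act hζ
  have h2 := h.hh_act hξ
  have h3 : ∀ x y, ρ (hh xp xm ζ * hh xp xm ξ) (x, y) = (ζ * ξ * x, (ζ * ξ)⁻¹ * y) := by
    intro x y
    rw [map_mul, Equiv.Perm.mul_apply, h2, h1, mul_inv_rev, mul_assoc, ← mul_assoc ζ⁻¹, mul_comm ζ⁻¹]
  have e : ζ * ζ * (ξ * ξ) = ζ * ξ * (ζ * ξ) := by ring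
  rw [e, h.hh_sq (mul_ne_zero hζ hξ) h3, h.hh_sq hζ h1, h.hh_sq hξ h2]
  set n := nn xp xm (1 : F)
  set a := hh xp xm ζ
  set b := hh xp xm ξ
  have ha : a ∈ tor ρ := h.hh_mem hζ
  have hb : b ∈ tor ρ := h.hh_mem hξ
  have hnn : n * n = 1 := h.nn_sq 1
  have hna : n * a⁻¹ * n ∈ tor ρ := h.nn_tor (inv_mem ha)
  have hnb : n * b⁻¹ * n ∈ tor ρ := h.nn_tor (inv_mem hb)
  calc a * b * n * (a * b)⁻¹ * n = a * b * (n * b⁻¹ * n) * (n * n)⁻¹ * (n * a⁻¹ * n) := by group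
    _ = a * (b * (n * b⁻¹ * n) * (n * a⁻¹ * n)) := by rw [hnn]; group
    _ = a * (n * a⁻¹ * n * (b * (n * b⁻¹ * n))) := by rw [h.tor_comm (mul_mem hb hnb) hna]
    _ = a * n * a⁻¹ * n * (b * n * b⁻¹ * n) := by group

theorem hh_inv [Finite F] {s : F} (hs : s ≠ 0) : (hh xp xm s)⁻¹ = hh xp xm s⁻¹ := by
  rw [inv_eq_iff_mul_eq_one, ← h.hh_mul hs (inv_ne_zero hs), mul_inv_cancel₀ hs, h.hh_one]

/-- `xp(b) h(s) = h(s) xp(s⁻² b)` -/
theorem xp_hh [Finite F] {s : F} (hs : s ≠ 0) (b : F) :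
    xp b * hh xp xm s = hh xp xm s * xp (s⁻¹ * s⁻¹ * b) := by
  have h1 := h.tor_xp (inv_ne_zero hs) (h.hh_act (inv_ne_zero hs)) b
  rw [← h1, ← h.hh_inv hs]
  group

/-- the normal form -/
def NF (xp xm : F → Q) (g : Q) : Prop :=
  ∃ a s : F, s ≠ 0 ∧ (g = xp a * hh xp xm s ∨ ∃ b, g = xp a * hh xp xm s * nn xp xm 1 * xp b)

theorem nf_xp {g : Q} (c : F) (hg : NF xp xm g) : NF xp xm (xp c * g) := by
  obtain ⟨a, s, hs, rfl | ⟨b, rfl⟩⟩ := hg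
  · exact ⟨c + a, s, hs, Or.inl (by rw [h.addp]; group)⟩
  · exact ⟨c + a, s, hs, Or.inr ⟨b, by rw [h.addp]; group⟩⟩

/-- `xm(a) = xp(a⁻¹) h(a⁻¹) n xp(a⁻¹)` -/
theorem xm_eq {a : F} (ha : a ≠ 0) : xm a = xp a⁻¹ * hh xp xm a⁻¹ * nn xp xm 1 * xp a⁻¹ := by
  have h1 : hh xp xm a⁻¹ * nn xp xm 1 = nn xp xm a⁻¹ := by
    rw [hh, mul_assoc, h.nn_sq, mul_one]
  calc xm a = xp a⁻¹ * xp a⁻¹ * xm a * (xp a⁻¹ * xp a⁻¹) := by rw [h.xp_sq]; group
    _ = xp a⁻¹ * (xp a⁻¹ * xm a⁻¹⁻¹ * xp a⁻¹) * xp a⁻¹ := by rw [inv_inv]; group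
    _ = xp a⁻¹ * (hh xp xm a⁻¹ * nn xp xm 1) * xp a⁻¹ := by rw [h1]; rfl
    _ = _ := by group

theorem nf_nn [Finite F] {g : Q} (hg : NF xp xm g) : NF xp xm (nn xp xm 1 * g) := by
  obtain ⟨a, s, hs, rfl | ⟨b, rfl⟩⟩ := hg
  · refine ⟨0, s⁻¹, inv_ne_zero hs, Or.inr ⟨s⁻¹ * s⁻¹ * a, ?_⟩⟩
    rw [h.xp_hh hs, ← mul_assoc, h.nn_hh, h.hh_inv hs, h.xp_zero, one_mul]
  · by_cases ha : a = 0
    · subst ha
      refine ⟨s⁻¹ * s⁻¹ * b, s⁻¹, inv_ne_zero hs, Or.inl ?_⟩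
      have h1 := h.xp_hh (inv_ne_zero hs) (s⁻¹ * s⁻¹ * b)
      have h2 : s⁻¹⁻¹ * s⁻¹⁻¹ * (s⁻¹ * s⁻¹ * b) = b := by
        rw [inv_inv]
        field_simp
      rw [h2] at h1
      have h3 : nn xp xm 1 * (xp 0 * hh xp xm s * nn xp xm 1 * xp b) =
          nn xp xm 1 * hh xp xm s * nn xp xm 1 * xp b := by
        rw [h.xp_zero]; group
      rw [h3, h.nn_hh, h.hh_inv hs, h1]
      calc hh xp xm s⁻¹ * nn xp xm 1 * nn xp xm 1 * xp b = hh xp xm s⁻¹ * (nn xp xm 1 * nn xp xm 1) * xp b := by group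
        _ = _ := by rw [h.nn_sq, mul_one]
    · refine ⟨a⁻¹, a⁻¹ * s, mul_ne_zero (inv_ne_zero ha) hs, Or.inr ⟨s * s * a⁻¹ + b, ?_⟩⟩
      have h1 := h.xp_hh (inv_ne_zero hs) a⁻¹
      rw [inv_inv] at h1
      have h4 : nn xp xm 1 * hh xp xm s⁻¹ = hh xp xm s * nn xp xm 1 := by
        rw [h.nn_hh, h.hh_inv (inv_ne_zero hs), inv_inv]
      calc nn xp xm 1 * (xp a * hh xp xm s * nn xp xm 1 * xp b)
          = nn xp xm 1 * xp a * nn xp xm 1 * (nn xp xm 1)⁻¹ * hh xp xm s * nn xp xm 1 * xp b := by group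
        _ = xm a * (nn xp xm 1 * hh xp xm s * nn xp xm 1) * xp b := by rw [h.nn_xp, h.nn_inv]; group
        _ = xm a * hh xp xm s⁻¹ * (nn xp xm 1 * nn xp xm 1) * xp b := by rw [h.nn_hh, h.hh_inv hs]; group
        _ = xp a⁻¹ * hh xp xm a⁻¹ * nn xp xm 1 * xp a⁻¹ * hh xp xm s⁻¹ * xp b := by
            rw [h.nn_sq, mul_one, h.xm_eq ha]
        _ = xp a⁻¹ * hh xp xm a⁻¹ * (nn xp xm 1 * (xp a⁻¹ * hh xp xm s⁻¹)) * xp b := by group
        _ = xp a⁻¹ * hh xp xm a⁻¹ * (nn xp xm 1 * hh xp xm s⁻¹) * (xp (s * s * a⁻¹) * xp b) := by rw [h1]; group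
        _ = xp a⁻¹ * (hh xp xm a⁻¹ * hh xp xm s) * nn xp xm 1 * xp (s * s * a⁻¹ + b) := by
            rw [h4, ← h.addp]; group
        _ = xp a⁻¹ * hh xp xm (a⁻¹ * s) * nn xp xm 1 * xp (s * s * a⁻¹ + b) := by
            rw [h.hh_mul (inv_ne_zero ha) hs]

theorem nf_xm [Finite F] {g : Q} (c : F) (hg : NF xp xm g) : NF xp xm (xm c * g) := by
  have e : xm c * g = nn xp xm 1 * (xp c * (nn xp xm 1 * g)) := by rw [← h.nn_xp]; group
  rw [e]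
  exact h.nf_nn (h.nf_xp c (h.nf_nn hg))

/-- every element has a normal form -/
theorem nf [Finite F] (g : Q) : NF xp xm g := by
  have hg : g ∈ Subgroup.closure (Set.range xp ∪ Set.range xm) := by rw [h.gen]; trivial
  refine Subgroup.closure_induction_left (p := fun g _ => NF xp xm g) ?_ ?_ ?_ hg
  · exact ⟨0, 1, one_ne_zero, Or.inl (by rw [h.xp_zero, h.hh_one, mul_one])⟩
  · rintro x (⟨c, rfl⟩ | ⟨c, rfl⟩) y _ hy
    · exact h.nf_xp c hy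
    · exact h.nf_xm c hy
  · rintro x (⟨c, rfl⟩ | ⟨c, rfl⟩) y _ hy
    · have e : (xp c)⁻¹ = xp c := inv_eq_of_mul_eq_one_right (h.xp_sq c)
      rw [e]
      exact h.nf_xp c hy
    · have e : (xm c)⁻¹ = xm c := inv_eq_of_mul_eq_one_right (h.xm_sq c)
      rw [e]
      exact h.nf_xm c hy

/-- **`ρ` is injective** -/
theorem inj [Finite F] {g : Q} (hg : ρ g = 1) : g = 1 := by
  obtain ⟨a, s, hs, rfl | ⟨b, rfl⟩⟩ := h.nf g
  · have h1 : ∀ x y, ρ (xp a * hh xp xm s) (x, y) = (s * x + a * (s⁻¹ * y), s⁻¹ * y) := by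
      intro x y
      rw [map_mul, Equiv.Perm.mul_apply, h.hh_act hs, h.actp]
    rw [hg] at h1
    have h2 := congrArg Prod.fst (h1 1 0)
    have h3 := congrArg Prod.fst (h1 0 1)
    simp only [Equiv.Perm.coe_one, id_eq, mul_one, mul_zero, add_zero, zero_add] at h2 h3
    have h4 : a = 0 := by
      rcases mul_eq_zero.1 h3.symm with h5 | h5
      · exact h5
      · exact absurd h5 (inv_ne_zero hs)
    rw [h4, ← h2, h.xp_zero, h.hh_one, mul_one]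
  · exfalso
    have h1 : ρ (xp a * hh xp xm s * nn xp xm 1 * xp b) (1, 0) = (a * s⁻¹, s⁻¹) := by
      rw [map_mul, map_mul, map_mul, Equiv.Perm.mul_apply, Equiv.Perm.mul_apply, Equiv.Perm.mul_apply, h.actp,
        h.nn_one_act, h.hh_act hs, h.actp]
      simp
    rw [hg] at h1
    have h2 := congrArg Prod.snd h1
    simp only [Equiv.Perm.coe_one, id_eq] at h2
    exact inv_ne_zero hs h2.symm

end Ext

end Cfsg.Agent.Omega.NO3S.OneQ.SLExt
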