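import Cfsg.Agent.Omega.NO3S.OneQ.Fix
import Cfsg.Agent.Omega.NO3S.PB.Geom
import Cfsg.Agent.Lib.Cores

/-!
# NO-3S, critical distance 1: the base for all flags

* `One.conj`, `One.flag` : every flag `X ≤ L` is as good as `Z ≤ V`;
* `One.line_eq` : two points lie on at most one line;
* `One.lin_fix` : `b ∈ C_G(X)` commuting with `1 ≠ t ∈ T` centralises the line `L ∋ X, T`;
* `NN V Z` : `{w ∈ W_Z | [w, W_Y] ≤ V} ≤ E_Z`; `One.nn_mem`, `One.nn_dd` for all flags.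
-/

set_option autoImplicit false
set_option linter.unusedSectionVars false

namespace Cfsg.Agent.Omega.NO3S.OneQ

open Subgroup Cfsg.Agent.Omega.NO3S.PT Cfsg.Agent.Omega.NoFF.Basic
open scoped Pointwise

variable {G : Type*} [Group G]

/-- `{w ∈ W_Z | [w, W_Y] ≤ V} ≤ E_Z` -/
def NN (V Z : Subgroup G) : Prop := n0 V Z Z ≤ ee V Z Z

theorem ws_line {V L X : Subgroup G} (hL : IsCj V L) : ws L X = ws V X := by
  obtain ⟨g, rfl⟩ := hL
  exact ws_cj_left V X g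

theorem kx_line {V L X : Subgroup G} (hL : IsCj V L) : kx L X = kx V X := by
  obtain ⟨g, rfl⟩ := hL
  exact kx_cj_left V X g

theorem cj_conj_ee {V Z X : Subgroup G} (g : G) : PT.cj g (ee V Z X) = ee (PT.cj g V) Z (PT.cj g X) := by
  have key : ∀ (g : G) (V X : Subgroup G), PT.cj g (ee V Z X) ≤ ee (PT.cj g V) Z (PT.cj g X) := by
    intro g V X w hw
    rw [mem_cj, mem_ee] at hw
    refine mem_ee.2 ⟨?_, fun Y hY hne => ?_⟩
    · rw [ws_cj_left, ws_cj, mem_cj]; exact hw.1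
    · have h1 := hw.2 (PT.cj g⁻¹ Y) ⟨hY.cj.cj g⁻¹, by rw [cj_le_iff, inv_inv]; exact hY.le⟩ (fun e => hne (by
        rw [← e, cj_cj, mul_inv_cancel, cj_one]))
      rw [kx_cj, mem_cj, inv_inv] at h1
      have e : g * (g⁻¹ * w * g) * g⁻¹ = w := by group
      rwa [e, ← kx_cj_left V Y g] at h1
  refine le_antisymm (key g V X) ?_
  have h1 := key g⁻¹ (PT.cj g V) (PT.cj g X)
  rw [cj_cj, cj_cj, inv_mul_cancel, cj_one, cj_one, cj_le_iff, inv_inv] at h1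
  exact h1

theorem cj_conj_dd {V Z X : Subgroup G} (g : G) : PT.cj g (dd V Z X) = dd (PT.cj g V) Z (PT.cj g X) := by
  have key : ∀ (g : G) (V X : Subgroup G), PT.cj g (dd V Z X) ≤ dd (PT.cj g V) Z (PT.cj g X) := by
    intro g V X w hw
    rw [mem_cj, mem_dd] at hw
    refine mem_dd.2 ⟨?_, fun Y hY hne => ?_⟩
    · rw [ws_cj_left, ws_cj, mem_cj]; exact hw.1
    · have h1 := hw.2 (PT.cj g⁻¹ Y) ⟨hY.cj.cj g⁻¹, by rw [cj_le_iff, inv_inv]; exact hY.le⟩ (fun e => hne (by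
        rw [← e, cj_cj, mul_inv_cancel, cj_one]))
      rw [ws_cj, ← cj_centralizer, mem_cj, inv_inv] at h1
      have e : g * (g⁻¹ * w * g) * g⁻¹ = w := by group
      rwa [e, ← ws_cj_left V Y g] at h1
  refine le_antisymm (key g V X) ?_
  have h1 := key g⁻¹ (PT.cj g V) (PT.cj g X)
  rw [cj_cj, cj_cj, inv_mul_cancel, cj_one, cj_one, cj_le_iff, inv_inv] at h1
  exact h1

namespace One

variable [Finite G] {S : Sylow 2 G} {B P V Z : Subgroup G} (h : One S B P V Z)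
include h

/-- everything is invariant under conjugation -/
theorem conj (g : G) : One (g • S) (PT.cj g B) (PT.cj g P) (PT.cj g V) (PT.cj g Z) where
  pl := h.pl.conj g
  hf := PtGeom.hf_conj h.hf g
  hO := PB.Geom.omB_conj h.hO g
  nc := by
    obtain ⟨Y, hY, hn⟩ := h.nc
    refine ⟨PT.cj g Y, ⟨isCj_cj.2 (hY.cj.cj g), cj_le_cj.2 hY.le⟩, fun e => hn ?_⟩
    rw [ws_cj_left, ws_cj_left, ws_cj, ws_cj, ← cj_centralizer, cj_le_cj] at e
    exact e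

/-- every flag is as good as `Z ≤ V` -/
theorem flag {L X : Subgroup G} (hL : IsCj V L) (hX : IsCj Z X) (hXL : X ≤ L) :
    ∃ (T : Sylow 2 G) (C Q : Subgroup G), One T C Q L X := by
  obtain ⟨g, rfl⟩ := hL
  have h1 : Pnt V Z (PT.cj g⁻¹ X) := ⟨hX.cj g⁻¹, by rw [cj_le_iff, inv_inv]; exact hXL⟩
  obtain ⟨T, C, h'⟩ := h.pt h1
  have h2 := h'.conj g
  rw [cj_cj g g⁻¹, mul_inv_cancel, cj_one] at h2
  exact ⟨_, _, _, h2⟩

theorem pnt_line {L X Y : Subgroup G} (hX : IsCj Z X) (hY : IsCj Z Y) (hYL : Y ≤ L) : Pnt L X Y :=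
  (pnt_iff hX).2 ⟨hY, hYL⟩

/-- two points of a line generate it -/
theorem line_mul {L X Y : Subgroup G} (hL : IsCj V L) (hX : IsCj Z X) (hXL : X ≤ L) (hY : IsCj Z Y) (hYL : Y ≤ L)
    (hne : X ≠ Y) {v : G} (hv : v ∈ L) : ∃ x ∈ X, ∃ y ∈ Y, v = x * y := by
  obtain ⟨T, C', Q, h'⟩ := h.flag hL hX hXL
  exact h'.pl.exists_mul h'.pl.isCj_self hXL (h.pnt_line hX hY hYL).cj hYL hne hv

/-- two points lie on at most one line -/
theorem line_eq {L M X Y : Subgroup G} (hL : IsCj V L) (hM : IsCj V M) (hX : IsCj Z X) (hY : IsCj Z Y)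
    (hXL : X ≤ L) (hYL : Y ≤ L) (hXM : X ≤ M) (hYM : Y ≤ M) (hne : X ≠ Y) : L = M := by
  apply le_antisymm
  · intro v hv
    obtain ⟨x, hx, y, hy, rfl⟩ := h.line_mul hL hX hXL hY hYL hne hv
    exact M.mul_mem (hXM hx) (hYM hy)
  · intro v hv
    obtain ⟨x, hx, y, hy, rfl⟩ := h.line_mul hM hX hXM hY hYM hne hv
    exact L.mul_mem (hXL hx) (hYL hy)

theorem line_le_ws {L X : Subgroup G} (hL : IsCj V L) (hXL : X ≤ L) : L ≤ ws V X := le_ws hL hXL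

theorem ws_le_line {L X : Subgroup G} (hL : IsCj V L) (hX : IsCj Z X) (hXL : X ≤ L) :
    ws V X ≤ centralizer (L : Set G) := by
  intro a ha
  rw [mem_centralizer_iff]
  exact fun v hv => h.comm_W hX (h.line_le_ws hL hXL hv) ha

/-- an element centralising `Z` and one element of `V - Z` centralises `V` -/
theorem lin_base {k v : G} (hk : ∀ z ∈ Z, k * z = z * k) (hv : v ∈ V) (hvZ : v ∉ Z)
    (hkv : k * v = v * k) : k ∈ centralizer (V : Set G) := by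
  -- `k` normalises every point `X ≠ Z` of `V`
  have hpt : ∀ X, IsCj Z X → X ≤ V → X ≠ Z → k ∈ normalizer (X : Set G) := by
    intro X hX hXV hXZ
    obtain ⟨z, hz, x, hx, hzx⟩ := h.pl.exists_mul h.pl.isCj_self h.pl.ZV hX hXV hXZ.symm hv
    have hx1 : x ≠ 1 := by
      rintro rfl
      exact hvZ (by rw [hzx, mul_one]; exact hz)
    refine h.pl.norm_of_comm hX hx hx1 ?_
    have e : x = z⁻¹ * v := by rw [hzx]; group
    rw [e, ← mul_assoc, hk _ (Z.inv_mem hz), mul_assoc, hkv, mul_assoc]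
  have key : ∀ u ∈ V, u ∉ Z → k * u = u * k := by
    intro u hu huZ
    have hu1 : u ≠ 1 := fun e => huZ (by rw [e]; exact one_mem _)
    obtain ⟨X, hX, hXV, huX⟩ := h.pl.exists_point hu hu1
    have hXZ : X ≠ Z := fun e => huZ (e ▸ huX)
    obtain ⟨z, hz, hz1⟩ := h.pl.pt_ne_bot h.pl.isCj_self
    have hzu : z * u ∉ Z := fun e => huZ ((Z.mul_mem_cancel_left hz).1 e)
    have hzu1 : z * u ≠ 1 := fun e => hzu (by rw [e]; exact one_mem _)
    obtain ⟨Y, hY, hYV, huY⟩ := h.pl.exists_point (V.mul_mem (h.pl.ZV hz) hu) hzu1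
    have hYZ : Y ≠ Z := fun e => hzu (e ▸ huY)
    have hYX : Y ≠ X := by
      rintro rfl
      have hzY : z ∈ Y := (Y.mul_mem_cancel_right huX).1 huY
      exact hYZ (h.pl.pts_eq hY h.pl.isCj_self hzY hz hz1)
    have h1 : k * u * k⁻¹ * u⁻¹ ∈ X :=
      X.mul_mem ((mem_normalizer_iff.1 (hpt X hX hXV hXZ) u).1 huX) (X.inv_mem huX)
    have h2 : k * (z * u) * k⁻¹ * (z * u)⁻¹ ∈ Y :=
      Y.mul_mem ((mem_normalizer_iff.1 (hpt Y hY hYV hYZ) _).1 huY) (Y.inv_mem huY)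
    have h3 : k * (z * u) * k⁻¹ * (z * u)⁻¹ = k * u * k⁻¹ * u⁻¹ := by
      have hkuV : k * u * k⁻¹ * u⁻¹ ∈ V := hXV h1
      calc k * (z * u) * k⁻¹ * (z * u)⁻¹ = (k * z) * u * k⁻¹ * (u⁻¹ * z⁻¹) := by group
        _ = z * (k * u * k⁻¹ * u⁻¹) * z⁻¹ := by rw [hk z hz]; group
        _ = k * u * k⁻¹ * u⁻¹ := by rw [h.pl.Vcomm (h.pl.ZV hz) hkuV, mul_inv_cancel_right]
    rw [h3] at h2
    have h4 : k * u * k⁻¹ * u⁻¹ ∈ Y ⊓ X := ⟨h2, h1⟩
    rw [h.pl.pts_inf hY hX hYX, mem_bot, mul_inv_eq_one, mul_inv_eq_iff_eq_mul] at h4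
    exact h4
  rw [mem_centralizer_iff]
  intro u hu
  by_cases huZ : u ∈ Z
  · exact (hk u huZ).symm
  · exact (key u hu huZ).symm

/-- a 2-subgroup of `C_G(Z) / Γ`, normal, `Γ` centralises `V`: it acts trivially on `V / Z` -/
theorem act_of_pCore (Γ : Subgroup (centralizer (Z : Set G))) [Γ.Normal]
    (hΓ : ∀ γ ∈ Γ, (γ : G) ∈ centralizer (V : Set G)) {a : centralizer (Z : Set G)}
    (ha : QuotientGroup.mk' Γ a ∈ pCore 2 (centralizer (Z : Set G) ⧸ Γ)) {v : G} (hv : v ∈ V) :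
    (a : G) * v * (a : G)⁻¹ * v⁻¹ ∈ Z := by
  have h1 : IsPGroup 2 ((B.subgroupOf (centralizer (Z : Set G))).map (QuotientGroup.mk' Γ)) := by
    refine IsPGroup.map ?_ _
    exact h.isP_B.comap_of_injective (centralizer (Z : Set G)).subtype (Subgroup.subtype_injective _)
  have h2 : ¬ 2 ∣ ((B.subgroupOf (centralizer (Z : Set G))).map (QuotientGroup.mk' Γ)).index := by
    intro h3
    refine h.B_index (h3.trans ?_)
    exact Subgroup.index_map_dvd _ (QuotientGroup.mk'_surjective Γ)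
  have h3 := Lib.Cores.pCore_le_sylow (h1.toSylow h2) ha
  change QuotientGroup.mk' Γ a ∈ (B.subgroupOf (centralizer (Z : Set G))).map (QuotientGroup.mk' Γ) at h3
  obtain ⟨b, hb, hba⟩ := mem_map.1 h3
  rw [QuotientGroup.mk'_apply, QuotientGroup.mk'_apply, QuotientGroup.eq] at hba
  have h4 := hΓ _ hba
  have h5 := h.pl.act b (mem_subgroupOf.1 hb) v hv
  have h6 : (a : G) * v * (a : G)⁻¹ = (b : G) * v * (b : G)⁻¹ := by
    have h7 : ((b⁻¹ * a : centralizer (Z : Set G)) : G) * v * ((b⁻¹ * a : centralizer (Z : Set G)) : G)⁻¹ = v := by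
      rw [← mem_centralizer_iff.1 h4 v hv, mul_inv_cancel_right]
    have h8 : (b⁻¹ * a : centralizer (Z : Set G)) = ((b : G)⁻¹ * (a : G)) := rfl
    rw [h8] at h7
    calc (a : G) * v * (a : G)⁻¹ = (b : G) * (((b : G)⁻¹ * (a : G)) * v * ((b : G)⁻¹ * (a : G))⁻¹) * (b : G)⁻¹ := by
          group
      _ = _ := by rw [h7]
  rw [h6]
  exact h5

/-- (LIN) -/
theorem lin_fix {L X T : Subgroup G} (hL : IsCj V L) (hX : IsCj Z X) (hXL : X ≤ L) (hT : IsCj Z T) (hTL : T ≤ L)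
    (hne : X ≠ T) {b t : G} (hb : b ∈ centralizer (X : Set G)) (ht : t ∈ T) (ht1 : t ≠ 1) (hbt : b * t = t * b) :
    b ∈ centralizer (L : Set G) := by
  obtain ⟨S', C', Q, h'⟩ := h.flag hL hX hXL
  refine h'.lin_base (v := t) (fun x hx => (mem_centralizer_iff.1 hb x hx).symm) (hTL ht) ?_ hbt
  exact fun htX => hne (h.pl.pts_eq hX hT htX ht ht1)

theorem W_sq {X : Subgroup G} (hX : IsCj Z X) {a : G} (ha : a ∈ ws V X) : a * a = 1 := PB.Geom.ws_sq_pt h.pl hX a ha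

theorem W_inv {X : Subgroup G} (hX : IsCj Z X) {a : G} (ha : a ∈ ws V X) : a⁻¹ = a :=
  inv_eq_of_mul_eq_one_left (h.W_sq hX ha)

theorem ee_line {L X Y : Subgroup G} (hL : IsCj V L) (hX : IsCj Z X) (hXL : X ≤ L) (hY : IsCj Z Y) (hYL : Y ≤ L)
    (hne : Y ≠ X) : ee L Z X = ws V X ⊓ kx V Y := by
  obtain ⟨S', C', Q, h'⟩ := h.flag hL hX hXL
  have h1 := h'.ee_eq h'.self (h.pnt_line hX hY hYL) hne
  rwa [ee_of hX, ws_line hL, kx_line hL] at h1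

theorem dd_line {L X Y : Subgroup G} (hL : IsCj V L) (hX : IsCj Z X) (hXL : X ≤ L) (hY : IsCj Z Y) (hYL : Y ≤ L)
    (hne : Y ≠ X) : dd L Z X = ws V X ⊓ centralizer ((ws V Y : Subgroup G) : Set G) := by
  obtain ⟨S', C', Q, h'⟩ := h.flag hL hX hXL
  have h1 := h'.dd_eq h'.self (h.pnt_line hX hY hYL) hne
  rwa [dd_of hX, ws_line hL, ws_line hL] at h1

/-- `[E_X(L), W_Y] ≤ Y` -/
theorem ee_line_act {L X Y : Subgroup G} (hL : IsCj V L) (hX : IsCj Z X) (hXL : X ≤ L) (hY : IsCj Z Y) (hYL : Y ≤ L)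
    (hne : Y ≠ X) {w u : G} (hw : w ∈ ee L Z X) (hu : u ∈ ws V Y) : w * u * w⁻¹ * u⁻¹ ∈ Y := by
  rw [h.ee_line hL hX hXL hY hYL hne] at hw
  exact (mem_kx.1 hw.2).2 u hu

/-- `[K_T ∩ C_G(L), E_X(L)] ≤ D_X(L)` -/
theorem kx_dd_line {L X T : Subgroup G} (hL : IsCj V L) (hX : IsCj Z X) (hXL : X ≤ L) (hT : IsCj Z T) (hTL : T ≤ L)
    {k w : G} (hk : k ∈ kx V T) (hkL : k ∈ centralizer (L : Set G)) (hw : w ∈ ee L Z X) :
    k * w * k⁻¹ * w⁻¹ ∈ dd L Z X := by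
  obtain ⟨S', C', Q, h'⟩ := h.flag hL hX hXL
  have h1 := h'.kx_dd h'.self (h.pnt_line hX hT hTL) (by rw [kx_line hL]; exact hk) hkL
    (w := w) (by rw [ee_of hX]; exact hw)
  rwa [dd_of hX] at h1

/-- (FU) -/
theorem F2_line {L X T : Subgroup G} (hL : IsCj V L) (hX : IsCj Z X) (hXL : X ≤ L) (hT : IsCj Z T) (hTL : T ≤ L)
    {u y : G} (hu : u ∈ IV L Z) (huL : u ∉ L) (hy : y ∈ T) :
    ∃ d ∈ kx V T, d ∈ centralizer (L : Set G) ∧ d * u * d⁻¹ * u⁻¹ = y := by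
  obtain ⟨S', C', Q, h'⟩ := h.flag hL hX hXL
  rw [← IV_of hX] at hu
  have h1 := h'.pl.F2' h'.hf h'.hO hu huL (h.pnt_line hX hT hTL).cj hTL hy
  rwa [kx_line hL] at h1

/-- conjugation by `K_X` is transitive on the points of `L` other than `X` -/
theorem move_line {L X A B : Subgroup G} (hL : IsCj V L) (hX : IsCj Z X) (hXL : X ≤ L) (hA : IsCj Z A) (hAL : A ≤ L)
    (hB : IsCj Z B) (hBL : B ≤ L) (hAX : A ≠ X) (hBX : B ≠ X) : ∃ k ∈ kx V X, PT.cj k A = B := by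
  obtain ⟨S', C', Q, h'⟩ := h.flag hL hX hXL
  have h1 := h'.move h'.self (h.pnt_line hX hA hAL) (h.pnt_line hX hB hBL) hAX hBX
  rwa [kx_line hL] at h1

theorem nn_flag (hN : NN V Z) {L X : Subgroup G} (hL : IsCj V L) (hX : IsCj Z X) (hXL : X ≤ L) :
    n0 L Z X ≤ ee L Z X := by
  obtain ⟨g, rfl, rfl⟩ := PB.Geom.exists_conj_flag h.pl hX hL hXL
  intro w hw
  rw [← cj_conj_ee, mem_cj]
  apply hN
  rw [mem_n0] at hw ⊢
  obtain ⟨h1, h2, h3⟩ := hw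
  refine ⟨?_, ?_, fun Y hY u hu => ?_⟩
  · rw [← mem_cj, ← ws_cj]; rwa [ws_cj_left] at h1
  · rwa [← mem_cj, cj_centralizer]
  · have h4 := h3 (PT.cj g Y) ⟨hY.cj.cj g, cj_le_cj.2 hY.le⟩ (g * u * g⁻¹)
      (by rw [ws_cj_left, ws_cj]; exact conj_mem_cj hu)
    rw [mem_cj] at h4
    have e : g⁻¹ * w * g * u * (g⁻¹ * w * g)⁻¹ * u⁻¹ =
      g⁻¹ * (w * (g * u * g⁻¹) * w⁻¹ * (g * u * g⁻¹)⁻¹) * g := by group
    rw [e]; exact h4

/-- (N) for all flags -/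
theorem nn_mem (hN : NN V Z) {L X Y : Subgroup G} (hL : IsCj V L) (hX : IsCj Z X) (hXL : X ≤ L) (hY : IsCj Z Y)
    (hYL : Y ≤ L) (hne : Y ≠ X) {w : G} (hw : w ∈ ws V X) (hwY : ∀ u ∈ ws V Y, w * u * w⁻¹ * u⁻¹ ∈ L) :
    w ∈ ee L Z X := by
  apply h.nn_flag hN hL hX hXL
  obtain ⟨S', C', Q, h'⟩ := h.flag hL hX hXL
  have h1 := h'.n0_eq h'.self (h.pnt_line hX hY hYL) hne (w := w) (by rw [ws_line hL]; exact hw)
    (fun u hu => hwY u (by rwa [ws_line hL] at hu))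
  rwa [n0_of hX] at h1

/-- (N): `[w, W_Y] ≤ X` implies `[w, W_Y] = 1` -/
theorem nn_dd (hN : NN V Z) {L X Y : Subgroup G} (hL : IsCj V L) (hX : IsCj Z X) (hXL : X ≤ L) (hY : IsCj Z Y)
    (hYL : Y ≤ L) (hne : Y ≠ X) {w : G} (hw : w ∈ ws V X) (hwY : ∀ u ∈ ws V Y, w * u * w⁻¹ * u⁻¹ ∈ X) :
    w ∈ dd L Z X := by
  have h1 := h.nn_mem hN hL hX hXL hY hYL hne hw fun u hu => hXL (hwY u hu)
  rw [h.dd_line hL hX hXL hY hYL hne]
  refine ⟨hw, mem_centralizer_iff.2 fun u hu => ?_⟩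
  have h2 : w * u * w⁻¹ * u⁻¹ ∈ X ⊓ Y := ⟨hwY u hu, h.ee_line_act hL hX hXL hY hYL hne h1 hu⟩
  rw [h.pl.pts_inf hX hY hne.symm, mem_bot, mul_inv_eq_one, mul_inv_eq_iff_eq_mul] at h2
  exact h2.symm

/-- `W_X` is not in `D_X(L)` -/
theorem dd_ne_line {L X : Subgroup G} (hL : IsCj V L) (hX : IsCj Z X) (hXL : X ≤ L) : ¬ ws V X ≤ dd L Z X := by
  intro e
  obtain ⟨S', C', Q, h'⟩ := h.flag hL hX hXL
  apply h'.ee_ne h'.self
  refine le_antisymm ee_le ?_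
  rw [ws_line hL]
  refine e.trans ?_
  rw [← dd_of hX]
  exact h'.dd_le_ee h'.self

theorem dd_le_ee_line {L X : Subgroup G} (hL : IsCj V L) (hX : IsCj Z X) (hXL : X ≤ L) : dd L Z X ≤ ee L Z X := by
  obtain ⟨S', C', Q, h'⟩ := h.flag hL hX hXL
  rw [← dd_of hX, ← ee_of hX]
  exact h'.dd_le_ee h'.self

/-- `E = D` for one flag implies `E = D` for all flags -/
theorem ee_le_dd_flag {L M X Y : Subgroup G} (hL : IsCj V L) (hX : IsCj Z X) (hXL : X ≤ L) (hM : IsCj V M) (hY : IsCj Z Y)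
    (hYM : Y ≤ M) (he : ee L Z X ≤ dd L Z X) : ee M Z Y ≤ dd M Z Y := by
  obtain ⟨g, rfl, rfl⟩ := PB.Geom.exists_conj_flag h.pl hX hL hXL
  obtain ⟨k, rfl, rfl⟩ := PB.Geom.exists_conj_flag h.pl hY hM hYM
  rw [← cj_conj_ee, ← cj_conj_dd, cj_le_cj] at he ⊢
  exact he

end One

end Cfsg.Agent.Omega.NO3S.OneQ
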