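import Cfsg.Agent.Omega.NO3S.OneQ.Hat
import Cfsg.Agent.Omega.NO3S.OneQ.Flag

/-!
# NO-3S, `OneQ`: the maps `α`, `β`, `φ` (bb OMEGA #17428, #17971, #19637 FRAME)

`NTr V Z` : `A` contains no `λ`-transvection (case (N)).

* `Co.XV_mat` : `X_l` acts on `V` by matrices of determinant 1;
* `NTr.mem_ee` : `[w, W_Y] ≤ V` ⟹ `w ∈ E_Z`; `NTr.rd_le` : `rd ≤ D_Z`;
* `Co.sw` : the swap; `Co.Eb`; `Co.al m` (`m ∈ MF`) : the operator of `sw w sw⁻¹`, `m = fm w`;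
  `al_add`, `al_eq_one` (`↔ m ∈ Eb`), `al_symm`, `al_smul_Eb`, `al_smul`.
-/

set_option autoImplicit false
set_option linter.unusedSectionVars false

namespace Cfsg.Agent.Omega.NO3S.OneQ

open Subgroup Cfsg.Agent.Omega.NO3S.PT Cfsg.Agent.Omega.NoFF.Basic
open scoped Pointwise

universe u

variable {G : Type u} [Group G]

/-- `A` contains no `λ`-transvection: case (N) -/
def NTr (V Z : Subgroup G) : Prop :=
  ∀ Y, Pnt V Z Y → Y ≠ Z → ∀ u ∈ ws V Y, (∀ w ∈ ws V Z, u * w * u⁻¹ * w⁻¹ ∈ V) → u ∈ kx V Z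

namespace Co

variable [Finite G] {F : Type*} [Field F] [CharP F 2] {S : Sylow 2 G} {B P V Z : Subgroup G} (h : Co F S B P V Z)

include h in
/-- `X_l` acts on `V` by matrices -/
theorem XV_mat {g : G} (hg : g ∈ XV V Z) : ∃ a b c d : F, a * d + b * c = 1 ∧
    ∀ x y, g * h.e x y * g⁻¹ = h.e (a * x + b * y) (c * x + d * y) := by
  let E : Subgroup G :=
    { carrier := {g | ∃ a b c d : F, a * d + b * c = 1 ∧
        ∀ x y, g * h.e x y * g⁻¹ = h.e (a * x + b * y) (c * x + d * y)}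
      one_mem' := ⟨1, 0, 0, 1, by ring, fun x y => by
        rw [one_mul, inv_one, mul_one]; congr 1 <;> ring⟩
      mul_mem' := by
        rintro g k ⟨a, b, c, d, h1, h2⟩ ⟨a', b', c', d', h1', h2'⟩
        refine ⟨a * a' + b * c', a * b' + b * d', c * a' + d * c', c * b' + d * d', ?_, fun x y => ?_⟩
        · have h3 : (a * a' + b * c') * (c * b' + d * d') + (a * b' + b * d') * (c * a' + d * c') =
              (a * d + b * c) * (a' * d' + b' * c') + (a * c * a' * b' + a * c * a' * b') +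
                (b * d * c' * d' + b * d * c' * d') := by ring
          rw [h3, h1, h1', CharTwo.add_self_eq_zero, CharTwo.add_self_eq_zero, mul_one, add_zero, add_zero]
        · have e : g * k * h.e x y * (g * k)⁻¹ = g * (k * h.e x y * k⁻¹) * g⁻¹ := by group
          rw [e, h2', h2]
          congr 1 <;> ring
      inv_mem' := by
        rintro g ⟨a, b, c, d, h1, h2⟩
        refine ⟨d, b, c, a, by rw [mul_comm d a]; exact h1, fun x y => ?_⟩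
        have h3 := h2 (d * x + b * y) (c * x + a * y)
        have e1 : a * (d * x + b * y) + b * (c * x + a * y) = x := by
          have : a * (d * x + b * y) + b * (c * x + a * y) = (a * d + b * c) * x + (a * b * y + a * b * y) := by ring
          rw [this, h1, CharTwo.add_self_eq_zero, one_mul, add_zero]
        have e2 : c * (d * x + b * y) + d * (c * x + a * y) = y := by
          have : c * (d * x + b * y) + d * (c * x + a * y) = (a * d + b * c) * y + (c * d * x + c * d * x) := by ring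
          rw [this, h1, CharTwo.add_self_eq_zero, one_mul, add_zero]
        rw [e1, e2] at h3
        rw [← h3, inv_inv]
        group }
  have h1 : XV V Z ≤ E := by
    refine h.XV_le.trans (sup_le ?_ ?_)
    · intro k hk
      obtain ⟨t, ht⟩ := h.K_tv hk
      exact ⟨1, t, 0, 1, by ring, fun x y => by rw [ht]; congr 1 <;> ring⟩
    · intro k hk
      obtain ⟨t, ht⟩ := h.K_tv' hk
      exact ⟨1, 0, t, 1, by ring, fun x y => by rw [ht]; congr 1 <;> ring⟩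
  exact h1 hg

/-- the swap in `X_l` -/
noncomputable def sw : G := (h.exists_n (one_ne_zero (α := F))).choose

theorem sw_XV : h.sw ∈ XV V Z := (h.exists_n (one_ne_zero (α := F))).choose_spec.1

theorem sw_act (x y : F) : h.sw * h.e x y * h.sw⁻¹ = h.e y x := by
  have h1 : h.sw * h.e x y * h.sw⁻¹ = h.e (1 * y) (1⁻¹ * x) :=
    (h.exists_n (one_ne_zero (α := F))).choose_spec.2 x y
  rw [h1, inv_one, one_mul, one_mul]

theorem sw_act' (x y : F) : h.sw⁻¹ * h.e x y * h.sw = h.e y x := by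
  rw [← h.sw_act y x]; group

theorem cj_sw : cj h.sw Z = h.Yp := h.cj_swap h.sw_act

theorem cj_sw' : cj h.sw h.Yp = Z := by
  ext v
  rw [mem_cj, h.mem_Yp, h.mem_Z]
  constructor
  · rintro ⟨b, hb⟩
    refine ⟨b, ?_⟩
    rw [← h.sw_act, hb]; group
  · rintro ⟨a, rfl⟩
    exact ⟨a, (h.sw_act' a 0).symm⟩

theorem sw_sq : h.sw * h.sw ∈ yl V Z := by
  rw [← h.XV_cent]
  refine ⟨mul_mem h.sw_XV h.sw_XV, h.mem_cent fun a b => ?_⟩
  have e : h.sw * h.sw * h.e a b * (h.sw * h.sw)⁻¹ = h.sw * (h.sw * h.e a b * h.sw⁻¹) * h.sw⁻¹ := by group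
  rw [e, h.sw_act, h.sw_act]

theorem sw_N : h.sw ∈ normalizer (V : Set G) := h.one.pl.XV_le_N h.sw_XV

theorem sw_W {w : G} (hw : w ∈ ws V Z) : h.sw * w * h.sw⁻¹ ∈ ws V h.Yp := by
  have := conj_mem_cj (g := h.sw) hw
  rwa [← ws_cj, h.cj_sw] at this

theorem sw_W' {w : G} (hw : w ∈ ws V h.Yp) : h.sw * w * h.sw⁻¹ ∈ ws V Z := by
  have := conj_mem_cj (g := h.sw) hw
  rwa [← ws_cj, h.cj_sw'] at this

theorem sw_inv_W {w : G} (hw : w ∈ ws V h.Yp) : h.sw⁻¹ * w * h.sw ∈ ws V Z := by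
  rw [← h.cj_sw, ws_cj, mem_cj] at hw
  exact hw

theorem sw_inv_W' {w : G} (hw : w ∈ ws V Z) : h.sw⁻¹ * w * h.sw ∈ ws V h.Yp := by
  rw [← h.cj_sw', ws_cj, mem_cj] at hw
  exact hw

theorem sw_ee {w : G} : h.sw * w * h.sw⁻¹ ∈ ee V Z h.Yp ↔ w ∈ ee V Z Z := by
  rw [← h.cj_sw, ← cj_ee h.sw_N, mem_cj]
  have e : h.sw⁻¹ * (h.sw * w * h.sw⁻¹) * h.sw = w := by group
  rw [e]

end Co

namespace NTr

variable [Finite G] {S : Sylow 2 G} {B P V Z : Subgroup G} (hN : NTr V Z) (h : One S B P V Z)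
include hN h

/-- `[w, W_Y] ≤ V` implies `w ∈ E_Z` -/
theorem mem_ee {Y : Subgroup G} (hY : Pnt V Z Y) (hne : Y ≠ Z) {w : G} (hw : w ∈ ws V Z)
    (hc : ∀ u ∈ ws V Y, w * u * w⁻¹ * u⁻¹ ∈ V) : w ∈ ee V Z Z := by
  obtain ⟨g, hg, -, hgZ, hgY⟩ := h.pl.swap h.hf h.self.cj h.self.le hY.cj hY.le
  have hgN := h.pl.XV_le_N hg
  have h1 : g * w * g⁻¹ ∈ ws V Y := by
    have := conj_mem_cj (g := g) hw
    rwa [← ws_cj, hgZ] at this
  have h2 : g * w * g⁻¹ ∈ kx V Z := by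
    refine hN Y hY hne _ h1 fun v hv => ?_
    have h3 : g⁻¹ * v * g ∈ ws V Y := by
      rw [← hgY, ws_cj, mem_cj] at hv
      exact hv
    have h4 := (mem_normalizer_iff.1 hgN _).1 (hc _ h3)
    have e : g * (w * (g⁻¹ * v * g) * w⁻¹ * (g⁻¹ * v * g)⁻¹) * g⁻¹ = g * w * g⁻¹ * v * (g * w * g⁻¹)⁻¹ * v⁻¹ := by group
    rwa [e] at h4
  have h3 : g * w * g⁻¹ ∈ ee V Z Y := by
    rw [h.ee_eq hY h.self hne.symm]
    exact ⟨h1, h2⟩
  rw [← hgZ, ← cj_ee hgN, mem_cj] at h3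
  have e : g⁻¹ * (g * w * g⁻¹) * g = w := by group
  rwa [e] at h3

omit hN in
/-- `NN` (helper248) implies `NTr` -/
theorem of_nn (hN : NN V Z) : NTr V Z := by
  intro Y hY hne u hu hc
  obtain ⟨g, hg, -, hgZ, hgY⟩ := h.pl.swap h.hf h.self.cj h.self.le hY.cj hY.le
  have hgN := h.pl.XV_le_N hg
  have h1 : g * u * g⁻¹ ∈ ws V Z := by
    have := conj_mem_cj (g := g) hu
    rwa [← ws_cj, hgY] at this
  have h2 : g * u * g⁻¹ ∈ ee V Z Z := by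
    refine hN (h.n0_eq h.self hY hne h1 fun v hv => ?_)
    have h3 : g⁻¹ * v * g ∈ ws V Z := by
      rw [← hgZ, ws_cj, mem_cj] at hv
      exact hv
    have h4 := (mem_normalizer_iff.1 hgN _).1 (hc _ h3)
    have e : g * (u * (g⁻¹ * v * g) * u⁻¹ * (g⁻¹ * v * g)⁻¹) * g⁻¹ = g * u * g⁻¹ * v * (g * u * g⁻¹)⁻¹ * v⁻¹ := by group
    rwa [e] at h4
  have h3 : u ∈ ee V Z Y := by
    have h4 : g * u * g⁻¹ ∈ cj g (ee V Z Y) := by
      rw [cj_ee hgN, hgY]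
      exact h2
    rw [mem_cj] at h4
    have e : g⁻¹ * (g * u * g⁻¹) * g = u := by group
    rwa [e] at h4
  rw [h.ee_eq hY h.self hne.symm] at h3
  exact h3.2

end NTr

namespace Co

variable [Finite G] {F : Type*} [Field F] [CharP F 2] {S : Sylow 2 G} {B P V Z : Subgroup G} (h : Co F S B P V Z)

include h in
/-- `rd ≤ D_Z` in case (N) -/
theorem rd_le_dd (hN : NTr V Z) : rd V Z ≤ dd V Z Z := by
  intro w hw
  have hwW := rd_le hw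
  have h1 : w ∈ ee V Z Z := by
    refine hN.mem_ee h.one h.pY h.Yp_ne hwW fun u hu => h.one.pl.ZV ?_
    exact h.rd_comm h.pY h.Yp_ne hw hu
  refine h.one.mem_dd_of h.one.self h.pY h.Yp_ne hwW fun u hu => ?_
  have h2 := h.one.ee_act' h.pY h.Yp_ne h1 hu
  have h3 := h.rd_comm h.pY h.Yp_ne hw hu
  have h3' : u * w * u⁻¹ * w⁻¹ ∈ Z := by
    have := inv_mem h3
    have e : (w * u * w⁻¹ * u⁻¹)⁻¹ = u * w * u⁻¹ * w⁻¹ := by group
    rwa [e] at this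
  have h4 : u * w * u⁻¹ * w⁻¹ ∈ Z ⊓ h.Yp := ⟨h3', h2⟩
  rw [h.one.pl.pts_inf h.one.self.cj h.pY.cj h.Yp_ne.symm, mem_bot, mul_inv_eq_one, mul_inv_eq_iff_eq_mul] at h4
  exact h4.symm

include h in
/-- `rd ≤ E_Z` in case (N) -/
theorem rd_le_ee (hN : NTr V Z) : rd V Z ≤ ee V Z Z := (h.rd_le_dd hN).trans (h.one.dd_le_ee h.one.self)

include h in
/-- `D_Z = I` implies `rd = Z` -/
theorem rd_eq (hN : NTr V Z) (hD : dd V Z Z ≤ IV V Z) : rd V Z = Z :=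
  le_antisymm ((le_inf le_rfl ((h.rd_le_dd hN).trans hD)).trans h.rd_inf_I) h.Z_le_rd

/-- `Ē` -/
noncomputable def Eb : Submodule F h.MF where
  carrier := {m | ∀ a (ha : a ∈ ws V h.Yp), h.rp ⟨a, h.W_hat h.pY ha⟩ m - m ∈ h.lam}
  zero_mem' := fun a ha => by rw [map_zero, sub_zero]; exact zero_mem _
  add_mem' := by
    intro m n hm hn a ha
    rw [map_add, add_sub_add_comm]
    exact add_mem (hm a ha) (hn a ha)
  smul_mem' := by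
    intro c m hm a ha
    have e : h.rp ⟨a, h.W_hat h.pY ha⟩ (c • m) - c • m = c • (h.rp ⟨a, h.W_hat h.pY ha⟩ m - m) := by
      rw [map_smul]; exact (smul_sub _ _ _).symm
    rw [e]
    exact h.lam.smul_mem c (hm a ha)

theorem mem_Eb {m : h.MF} : m ∈ h.Eb ↔ ∀ a (ha : a ∈ ws V h.Yp), h.rp ⟨a, h.W_hat h.pY ha⟩ m - m ∈ h.lam := Iff.rfl

theorem fm_Eb {w : ws V Z} (hw : (w : G) ∈ ee V Z Z) : h.fm w ∈ h.Eb := by
  intro a ha
  obtain ⟨u, hu, hu', e⟩ := h.rp_W h.pY h.Yp_ne ha w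
  rw [e, h.fm_mem_lam_I hu, hu']
  exact h.pY.le (h.one.ee_act' h.pY h.Yp_ne hw ha)

theorem fm_Eb_iff (hN : NTr V Z) {w : ws V Z} : h.fm w ∈ h.Eb ↔ (w : G) ∈ ee V Z Z := by
  refine ⟨fun h1 => hN.mem_ee h.one h.pY h.Yp_ne w.2 fun u hu => ?_, h.fm_Eb⟩
  obtain ⟨v, hv, hv', e⟩ := h.rp_W h.pY h.Yp_ne hu w
  have h2 := h1 u hu
  rw [e, h.fm_mem_lam_I hv, hv'] at h2
  have h3 := inv_mem h2
  have e : (u * w * u⁻¹ * (w : G)⁻¹)⁻¹ = w * u * (w : G)⁻¹ * u⁻¹ := by group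
  rwa [e] at h3

theorem add_self (m : h.MF) : m + m = 0 := by
  rw [← two_smul F m, CharTwo.two_eq_zero, zero_smul]

theorem neg_eq (m : h.MF) : -m = m := neg_eq_of_add_eq_zero_left (h.add_self m)

theorem sub_eq (m n : h.MF) : m - n = m + n := by rw [sub_eq_add_neg, h.neg_eq]

/-- the operator of `sw w sw⁻¹` -/
noncomputable def ag (w : ws V Z) : Module.End F h.MF := h.rp ⟨h.sw * w * h.sw⁻¹, h.W_hat h.pY (h.sw_W w.2)⟩

theorem ag_mul (w w' : ws V Z) : h.ag (w * w') = h.ag w * h.ag w' := by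
  rw [ag, ag, ag, ← map_mul]
  congr 1
  apply Subtype.ext
  show h.sw * (w * w') * h.sw⁻¹ = h.sw * w * h.sw⁻¹ * (h.sw * w' * h.sw⁻¹)
  group

/-- `W_Y ∩ K_Z` acts trivially -/
theorem rp_one_of {g : G} (hg : g ∈ kx V Z) (hgh : g ∈ h.hat) : h.rp ⟨g, hgh⟩ = 1 :=
  LinearMap.ext fun m => h.rp_K hg m

theorem ag_one_of {w : ws V Z} (hw : (w : G) ∈ ee V Z Z) : h.ag w = 1 := by
  refine h.rp_one_of ?_ _
  have h1 := h.sw_ee.2 hw
  rw [h.one.ee_eq h.pY h.one.self h.Yp_ne.symm] at h1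
  exact h1.2

theorem ag_eq_one (hN : NTr V Z) {w : ws V Z} : h.ag w = 1 ↔ (w : G) ∈ ee V Z Z := by
  refine ⟨fun h1 => ?_, h.ag_one_of⟩
  have h2 : h.sw * w * h.sw⁻¹ ∈ ee V Z h.Yp := by
    rw [h.one.ee_eq h.pY h.one.self h.Yp_ne.symm]
    refine ⟨h.sw_W w.2, hN _ h.pY h.Yp_ne _ (h.sw_W w.2) fun v hv => ?_⟩
    obtain ⟨u, hu, hu', e⟩ := h.rp_W h.pY h.Yp_ne (h.sw_W w.2) ⟨v, hv⟩
    have h3 : h.rp ⟨h.sw * w * h.sw⁻¹, h.W_hat h.pY (h.sw_W w.2)⟩ = 1 := h1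
    rw [h3, Module.End.one_apply, sub_self] at e
    rw [← hu', ← h.fm_mem_lam_I hu, ← e]
    exact zero_mem _
  exact h.sw_ee.1 h2

theorem ag_congr (hN : NTr V Z) {w w' : ws V Z} (hw : h.fm w - h.fm w' ∈ h.Eb) : h.ag w = h.ag w' := by
  have h1 : h.fm (w * w'⁻¹) ∈ h.Eb := by
    rw [h.fm_mul, h.fm_inv]
    rw [← h.sub_eq]
    exact hw
  have h2 := (h.ag_eq_one hN).2 ((h.fm_Eb_iff hN).1 h1)
  have h3 := h.ag_mul (w * w'⁻¹) w'
  rw [inv_mul_cancel_right, h2, one_mul] at h3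
  exact h3

/-- **`α`** -/
noncomputable def al (m : h.MF) : Module.End F h.MF := h.ag (h.fm_surj m).choose

theorem al_fm (hN : NTr V Z) (w : ws V Z) : h.al (h.fm w) = h.ag w := by
  refine h.ag_congr hN ?_
  rw [(h.fm_surj (h.fm w)).choose_spec, sub_self]
  exact zero_mem _

theorem al_add (hN : NTr V Z) (m n : h.MF) : h.al (m + n) = h.al m * h.al n := by
  obtain ⟨w, rfl⟩ := h.fm_surj m
  obtain ⟨w', rfl⟩ := h.fm_surj n
  rw [← h.fm_mul, h.al_fm hN, h.al_fm hN, h.al_fm hN, h.ag_mul]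

theorem al_eq_one (hN : NTr V Z) {m : h.MF} : h.al m = 1 ↔ m ∈ h.Eb := by
  obtain ⟨w, rfl⟩ := h.fm_surj m
  rw [h.al_fm hN, h.ag_eq_one hN, h.fm_Eb_iff hN]

theorem al_zero (hN : NTr V Z) : h.al 0 = 1 := (h.al_eq_one hN).2 (zero_mem _)

theorem al_sq (hN : NTr V Z) (m : h.MF) : h.al m * h.al m = 1 := by
  rw [← h.al_add hN, h.add_self, h.al_zero hN]

theorem al_congr (hN : NTr V Z) {m n : h.MF} : h.al m = h.al n ↔ m + n ∈ h.Eb := by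
  rw [← h.al_eq_one hN, h.al_add hN]
  constructor
  · intro e
    rw [e, h.al_sq hN]
  · intro e
    calc h.al m = h.al m * (h.al n * h.al n) := by rw [h.al_sq hN, mul_one]
      _ = h.al m * h.al n * h.al n := (mul_assoc _ _ _).symm
      _ = h.al n := by rw [e, one_mul]

theorem exists_al (hN : NTr V Z) (m : h.MF) :
    ∃ a, ∃ ha : a ∈ ws V h.Yp, h.al m = h.rp ⟨a, h.W_hat h.pY ha⟩ := by
  obtain ⟨w, rfl⟩ := h.fm_surj m
  exact ⟨_, h.sw_W w.2, h.al_fm hN w⟩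

theorem al_surj (hN : NTr V Z) {a : G} (ha : a ∈ ws V h.Yp) : ∃ m, h.al m = h.rp ⟨a, h.W_hat h.pY ha⟩ := by
  have h1 := h.sw_inv_W ha
  refine ⟨h.fm ⟨_, h1⟩, ?_⟩
  rw [h.al_fm hN, ag]
  congr 1
  apply Subtype.ext
  show h.sw * (h.sw⁻¹ * a * h.sw) * h.sw⁻¹ = a
  group

theorem al_comm (hN : NTr V Z) (m n : h.MF) : h.al m * h.al n = h.al n * h.al m := by
  rw [← h.al_add hN, add_comm, h.al_add hN]

/-- `A` is quadratic -/
theorem al_quad (hN : NTr V Z) (m n x : h.MF) : h.al m (h.al n x - x) = h.al n x - x := by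
  obtain ⟨a, ha, e⟩ := h.exists_al hN m
  obtain ⟨b, hb, e'⟩ := h.exists_al hN n
  rw [e, e']
  exact h.rp_quad h.pY h.Yp_ne ha hb x

theorem al_Ib (hN : NTr V Z) (m : h.MF) {x : h.MF} (hx : x ∈ h.Ib) : h.al m x = x := by
  obtain ⟨a, ha, e⟩ := h.exists_al hN m
  obtain ⟨u, hu, rfl⟩ := hx
  rw [e]
  exact h.rp_W_I h.pY ha hu

theorem al_sub_Ib (hN : NTr V Z) (m x : h.MF) : h.al m x - x ∈ h.Ib := by
  obtain ⟨a, ha, e⟩ := h.exists_al hN m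
  rw [e]
  exact h.Rb_le_Ib h.pY h.Yp_ne (h.mem_Rb h.pY ha x)

theorem al_Eb (hN : NTr V Z) (m : h.MF) {x : h.MF} (hx : x ∈ h.Eb) : h.al m x - x ∈ h.lam := by
  obtain ⟨a, ha, e⟩ := h.exists_al hN m
  rw [e]
  exact hx a ha

theorem mem_Eb_iff (hN : NTr V Z) {x : h.MF} : x ∈ h.Eb ↔ ∀ m, h.al m x - x ∈ h.lam := by
  refine ⟨fun hx m => h.al_Eb hN m hx, fun hx a ha => ?_⟩
  obtain ⟨m, hm⟩ := h.al_surj hN ha
  rw [← hm]
  exact hx m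

theorem sw_ee' {x : G} (hx : x ∈ ee V Z Z) : h.sw⁻¹ * x * h.sw ∈ ee V Z h.Yp := by
  have h1 : x ∈ cj h.sw (ee V Z h.Yp) := by
    rw [cj_ee h.sw_N, h.cj_sw']
    exact hx
  exact mem_cj.1 h1

theorem sw_ee_kx {x : G} (hx : x ∈ ee V Z Z) : h.sw⁻¹ * x * h.sw ∈ kx V Z := by
  have h1 := h.sw_ee' hx
  rw [h.one.ee_eq h.pY h.one.self h.Yp_ne.symm] at h1
  exact h1.2

/-- the formula for `φ_e` -/
theorem ag_ee {x : G} (hx : x ∈ ee V Z Z) (w : ws V Z) :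
    h.ag w (h.fm ⟨x, ee_le hx⟩) - h.fm ⟨x, ee_le hx⟩ = h.fn w (h.sw⁻¹ * x * h.sw) • h.v0 := by
  obtain ⟨u, hu, hu', e⟩ := h.rp_W h.pY h.Yp_ne (h.sw_W w.2) ⟨x, ee_le hx⟩
  have hk := h.sw_ee_kx hx
  have e1 := h.e_fn w.2 hk
  have e2 : u = h.e 0 (h.fn w (h.sw⁻¹ * x * h.sw)) := by
    rw [hu', ← h.sw_act, ← h.e_inv, e1]
    group
  have e3 : h.ag w (h.fm ⟨x, ee_le hx⟩) - h.fm ⟨x, ee_le hx⟩ = _ := e
  rw [e3, ← h.fm_e 0]
  congr 1
  exact Subtype.ext e2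

/-- **`φ_e` is `F`-linear** -/
theorem al_smul_Eb (hN : NTr V Z) (c : F) (m : h.MF) {x : h.MF} (hx : x ∈ h.Eb) :
    h.al (c • m) x - x = c • (h.al m x - x) := by
  obtain ⟨w, rfl⟩ := h.fm_surj m
  obtain ⟨y, rfl⟩ := h.fm_surj x
  obtain ⟨w', hw'⟩ := h.fm_surj (c • h.fm w)
  have hy := (h.fm_Eb_iff hN).1 hx
  have h1 := h.ag_ee hy w
  have h2 := h.ag_ee hy w'
  have hk := h.sw_ee_kx hy
  have h3 : h.fn w' (h.sw⁻¹ * y * h.sw) = c * h.fn w (h.sw⁻¹ * y * h.sw) := by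
    have h4 := congrFun (congrArg Subtype.val hw') ⟨_, hk⟩
    exact h4
  rw [← hw', h.al_fm hN, h.al_fm hN]
  have e1 : h.ag w' (h.fm y) - h.fm y = _ := h2
  have e2 : h.ag w (h.fm y) - h.fm y = _ := h1
  rw [e1, e2, h3, mul_smul]

/-- **`β` is symmetric** -/
theorem ag_symm (w w' : ws V Z) : (h.ag w' (h.fm w) - h.fm w) - (h.ag w (h.fm w') - h.fm w') ∈ h.lam := by
  obtain ⟨u, hu, hu', e⟩ := h.rp_W h.pY h.Yp_ne (h.sw_W w'.2) w
  obtain ⟨v, hv, hv', e'⟩ := h.rp_W h.pY h.Yp_ne (h.sw_W w.2) w'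
  have e1 : h.ag w' (h.fm w) - h.fm w = _ := e
  have e2 : h.ag w (h.fm w') - h.fm w' = _ := e'
  rw [e1, e2, h.sub_eq, ← h.fm_mul]
  have hI : u * v ∈ IV V Z := mul_mem hu hv
  have key : u * v ∈ V := by
    -- `s⁻¹ u s = u` mod `V`
    have h1 : h.sw⁻¹ * u * h.sw * u⁻¹ ∈ V := by
      have := h.one.XV_I (inv_mem h.sw_XV) hu
      rwa [inv_inv] at this
    set a := h.sw * w * h.sw⁻¹ with ha
    have haW : a ∈ ws V h.Yp := h.sw_W w.2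
    have hy := inv_mem h.sw_sq
    have h2 := h.one.yl_ee h.pY hy haW
    set ε := (h.sw * h.sw)⁻¹ * a * (h.sw * h.sw)⁻¹⁻¹ * a⁻¹ with hε
    have h3 : h.sw⁻¹ * w * h.sw = ε * a := by rw [hε, ha]; group
    have h4 : h.sw⁻¹ * u * h.sw = w' * (ε * a) * (w' : G)⁻¹ * (ε * a)⁻¹ := by
      rw [← h3, hu']; group
    have h5 : w' * ε * (w' : G)⁻¹ * ε⁻¹ ∈ Z := h.one.ee_act' h.one.self h.Yp_ne.symm h2 w'.2
    have hεW : ε ∈ ws V h.Yp := ee_le h2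
    have h6 : w' * a * (w' : G)⁻¹ * a⁻¹ ∈ IV V Z := h.one.comm_mem h.one.self h.pY h.Yp_ne.symm w'.2 haW
    have h7 : ε * (w' * a * (w' : G)⁻¹ * a⁻¹) = w' * a * (w' : G)⁻¹ * a⁻¹ * ε := (h.one.I_comm_W h.pY h6 hεW).symm
    have h8 : w' * (ε * a) * (w' : G)⁻¹ * (ε * a)⁻¹ = w' * ε * (w' : G)⁻¹ * ε⁻¹ * (w' * a * (w' : G)⁻¹ * a⁻¹) := by
      calc w' * (ε * a) * (w' : G)⁻¹ * (ε * a)⁻¹ =
          w' * ε * (w' : G)⁻¹ * ε⁻¹ * (ε * (w' * a * (w' : G)⁻¹ * a⁻¹)) * ε⁻¹ := by group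
        _ = _ := by rw [h7]; group
    have h9 : w' * a * (w' : G)⁻¹ * a⁻¹ = v⁻¹ := by rw [hv']; group
    rw [h8, h9] at h4
    rw [h4] at h1
    have h10 : v⁻¹ * u⁻¹ ∈ V := by
      have e3 : v⁻¹ * u⁻¹ = (w' * ε * (w' : G)⁻¹ * ε⁻¹)⁻¹ * (w' * ε * (w' : G)⁻¹ * ε⁻¹ * v⁻¹ * u⁻¹) := by group
      rw [e3]
      exact mul_mem (inv_mem (h.one.pl.ZV h5)) h1
    have h11 := inv_mem h10
    rwa [mul_inv_rev, inv_inv, inv_inv] at h11
  rw [h.mem_lam]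
  exact ⟨⟨u * v, h.one.I_le_W' hI⟩, key, rfl⟩

theorem al_symm (hN : NTr V Z) (m n : h.MF) : (h.al n m - m) - (h.al m n - n) ∈ h.lam := by
  obtain ⟨w, rfl⟩ := h.fm_surj m
  obtain ⟨w', rfl⟩ := h.fm_surj n
  rw [h.al_fm hN, h.al_fm hN]
  exact h.ag_symm w w'

/-- **`β` is `F`-bilinear** -/
theorem al_smul (hN : NTr V Z) (c : F) (m n : h.MF) : (h.al (c • m) n - n) - c • (h.al m n - n) ∈ h.lam := by
  have h1 := h.al_symm hN (c • m) n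
  have h2 := h.lam.smul_mem c (h.al_symm hN m n)
  have h3 := sub_mem h2 h1
  have e : h.al n (c • m) - c • m = c • (h.al n m - m) := by
    rw [map_smul]; exact (smul_sub _ _ _).symm
  rw [e] at h3
  have e2 : c • ((h.al n m - m) - (h.al m n - n)) - (c • (h.al n m - m) - (h.al (c • m) n - n)) =
      (h.al (c • m) n - n) - c • (h.al m n - n) := by
    have e3 : c • ((h.al n m - m) - (h.al m n - n)) = c • (h.al n m - m) - c • (h.al m n - n) := smul_sub _ _ _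
    rw [e3]
    abel
  rw [← e2]
  exact h3

/-! ### `K~` -/

include h in
theorem yl_C : yl V Z ≤ centralizer (Z : Set G) := (yl_le_cent V Z).trans (centralizer_le h.one.pl.ZV)

/-- `[MF, Y_l] ≤ Ē` -/
theorem yl_Eb {k : G} (hk : k ∈ yl V Z) (m : h.MF) : h.rp ⟨k, h.C_le_hat (h.yl_C hk)⟩ m - m ∈ h.Eb := by
  obtain ⟨w, rfl⟩ := h.fm_surj m
  have e : h.rp ⟨k, h.C_le_hat (h.yl_C hk)⟩ (h.fm w) = _ := h.rp_fm' (h.C_le_hat (h.yl_C hk)) w.2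
  have h1 := h.one.yl_ee h.one.self hk w.2
  rw [e, h.sub_eq, ← h.fm_mul]
  refine h.fm_Eb ?_
  have e2 : ((⟨k * w * k⁻¹, h.W_conj (h.hat_norm (h.C_le_hat (h.yl_C hk))) w.2⟩ : ws V Z) * w : ws V Z) =
      k * w * k⁻¹ * (w : G)⁻¹ := by
    rw [h.one.inv_eq_W h.one.self w.2]; rfl
  show ((⟨k * w * k⁻¹, h.W_conj (h.hat_norm (h.C_le_hat (h.yl_C hk))) w.2⟩ : ws V Z) * w : G) ∈ ee V Z Z
  rw [h.one.inv_eq_W h.one.self w.2] at h1
  exact h1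

/-- `Y_l` centralises `A` -/
theorem yl_A {k : G} (hk : k ∈ yl V Z) {a : G} (ha : a ∈ ws V h.Yp) :
    h.rp ⟨k, h.C_le_hat (h.yl_C hk)⟩ * h.rp ⟨a, h.W_hat h.pY ha⟩ =
      h.rp ⟨a, h.W_hat h.pY ha⟩ * h.rp ⟨k, h.C_le_hat (h.yl_C hk)⟩ := by
  have h1 := h.one.yl_ee h.pY hk ha
  rw [h.one.ee_eq h.pY h.one.self h.Yp_ne.symm] at h1
  have h2 := h.rp_one_of h1.2 (h.C_le_hat (kx_le_cent h1.2))
  rw [← map_mul, ← map_mul]
  have e : (⟨k, h.C_le_hat (h.yl_C hk)⟩ * ⟨a, h.W_hat h.pY ha⟩ : h.hat) =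
      ⟨k * a * k⁻¹ * a⁻¹, h.C_le_hat (kx_le_cent h1.2)⟩ * (⟨a, h.W_hat h.pY ha⟩ * ⟨k, h.C_le_hat (h.yl_C hk)⟩) :=
    Subtype.ext (by
      show k * a = k * a * k⁻¹ * a⁻¹ * (a * k)
      group)
  rw [e, map_mul, h2, one_mul]

theorem yl_al (hN : NTr V Z) {k : G} (hk : k ∈ yl V Z) (m : h.MF) :
    h.rp ⟨k, h.C_le_hat (h.yl_C hk)⟩ * h.al m = h.al m * h.rp ⟨k, h.C_le_hat (h.yl_C hk)⟩ := by
  obtain ⟨a, ha, e⟩ := h.exists_al hN m
  rw [e]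
  exact h.yl_A hk ha

theorem hat_inv_mul {g : G} (hg : g ∈ h.hat) : h.rp ⟨g⁻¹, inv_mem hg⟩ * h.rp ⟨g, hg⟩ = 1 := by
  rw [← map_mul]
  have e : (⟨g⁻¹, inv_mem hg⟩ * ⟨g, hg⟩ : h.hat) = 1 := Subtype.ext (inv_mul_cancel g)
  rw [e, map_one]

theorem hat_mul_inv {g : G} (hg : g ∈ h.hat) : h.rp ⟨g, hg⟩ * h.rp ⟨g⁻¹, inv_mem hg⟩ = 1 := by
  rw [← map_mul]
  have e : (⟨g, hg⟩ * ⟨g⁻¹, inv_mem hg⟩ : h.hat) = 1 := Subtype.ext (mul_inv_cancel g)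
  rw [e, map_one]

/-- **`α` is `C_G(V)`-equivariant** -/
theorem al_equi (hN : NTr V Z) {c : G} (hc : c ∈ centralizer (V : Set G)) (m : h.MF) :
    h.al (h.rp ⟨c, h.C_le_hat (centralizer_le h.one.pl.ZV hc)⟩ m) * h.rp ⟨c, h.C_le_hat (centralizer_le h.one.pl.ZV hc)⟩ =
      h.rp ⟨c, h.C_le_hat (centralizer_le h.one.pl.ZV hc)⟩ * h.al m := by
  obtain ⟨w, rfl⟩ := h.fm_surj m
  have hcC := centralizer_le h.one.pl.ZV hc
  have hch := h.C_le_hat hcC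
  have e : h.rp ⟨c, hch⟩ (h.fm w) = _ := h.rp_fm' hch w.2
  rw [e, h.al_fm hN, h.al_fm hN, ag, ag]
  -- `s c = y c s`
  have hy : h.sw * c * h.sw⁻¹ * c⁻¹ ∈ yl V Z := h.one.comm_yl h.sw_XV hc
  set y := h.sw * c * h.sw⁻¹ * c⁻¹ with hyd
  set a := h.sw * w * h.sw⁻¹ with had
  have haW : a ∈ ws V h.Yp := h.sw_W w.2
  have hca : c * a * c⁻¹ ∈ ws V h.Yp := (mem_normalizer_iff.1 (h.one.cent_norm_W h.pY hc) _).1 haW
  have h1 := h.yl_A hy hca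
  have h2 := h.hat_mul_inv (h.C_le_hat (h.yl_C hy))
  have e1 : (⟨h.sw * (c * w * c⁻¹) * h.sw⁻¹, h.W_hat h.pY (h.sw_W (h.W_conj (h.hat_norm hch) w.2))⟩ : h.hat) *
      ⟨c, hch⟩ = ⟨y, h.C_le_hat (h.yl_C hy)⟩ * ⟨c * a * c⁻¹, h.W_hat h.pY hca⟩ * ⟨y⁻¹, inv_mem (h.C_le_hat (h.yl_C hy))⟩ *
        ⟨c, hch⟩ := Subtype.ext (by
    show h.sw * (c * w * c⁻¹) * h.sw⁻¹ * c = y * (c * a * c⁻¹) * y⁻¹ * c
    rw [hyd, had]; group)
  have e2 : (⟨c, hch⟩ : h.hat) * ⟨a, h.W_hat h.pY haW⟩ = ⟨c * a * c⁻¹, h.W_hat h.pY hca⟩ * ⟨c, hch⟩ :=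
    Subtype.ext (by
      show c * a = c * a * c⁻¹ * c
      group)
  have e3 : h.rp (⟨h.sw * (c * w * c⁻¹) * h.sw⁻¹, h.W_hat h.pY (h.sw_W (h.W_conj (h.hat_norm hch) w.2))⟩ : h.hat) *
      h.rp ⟨c, hch⟩ = h.rp ⟨c, hch⟩ * h.rp ⟨a, h.W_hat h.pY haW⟩ := by
    rw [← map_mul, e1, map_mul, map_mul, map_mul, h1, mul_assoc (h.rp ⟨c * a * c⁻¹, h.W_hat h.pY hca⟩), h2, mul_one,
      ← map_mul, ← map_mul, e2]
  exact e3

include h in
/-- **`K~`** : `[u, K_Y ∩ C_G(V)] = Y`, `u ∈ I - V` -/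
theorem exists_yl {u : G} (hu : u ∈ IV V Z) (huV : u ∉ V) (a : F) :
    ∃ k ∈ yl V Z, k * u * k⁻¹ = h.e 0 a * u := by
  obtain ⟨k, hk, hkV, hku⟩ := h.one.pl.F2' h.one.hf h.one.hO hu huV h.pY.cj h.pY.le (h.e_memY a)
  refine ⟨k, mem_yl_of h.pY hk hkV, ?_⟩
  rw [← hku]; group

/-- an element of `C_G(Z)` fixing the line vector lies in `K_Z C_G(V)` -/
theorem fix_v0 (hrd : rd V Z = Z) {d : G} (hd : d ∈ centralizer (Z : Set G))
    (hd0 : h.rp ⟨d, h.C_le_hat hd⟩ h.v0 = h.v0) : ∃ k ∈ kx V Z, k⁻¹ * d ∈ centralizer (V : Set G) := by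
  have h1 : ∀ y, d * h.e 0 y * d⁻¹ * (h.e 0 y)⁻¹ ∈ Z := by
    intro y
    have e : h.rp ⟨d, h.C_le_hat hd⟩ (h.fm ⟨h.e 0 y, h.W_V 0 y⟩) = _ := h.rp_fm' (h.C_le_hat hd) (h.W_V 0 y)
    have e2 : h.rp ⟨d, h.C_le_hat hd⟩ (h.fm ⟨h.e 0 y, h.W_V 0 y⟩) = h.fm ⟨h.e 0 y, h.W_V 0 y⟩ := by
      rw [h.fm_e, map_smul, hd0]
    rw [e, h.fm_eq, hrd] at e2
    exact e2
  obtain ⟨t, ht⟩ := (h.mem_Z _).1 (h1 1)
  obtain ⟨k, hk, -, hkt⟩ := h.exists_K t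
  refine ⟨k, hk, ?_⟩
  set f := k⁻¹ * d with hf
  have hkC : k ∈ centralizer (Z : Set G) := kx_le_cent hk
  have hfC : f ∈ centralizer (Z : Set G) := mul_mem (inv_mem hkC) hd
  have hf1 : f * h.e 0 1 = h.e 0 1 * f := by
    have e1 : d * h.e 0 1 * d⁻¹ = k * h.e 0 1 * k⁻¹ := by
      rw [hkt, zero_add, mul_one]
      have e2 : d * h.e 0 1 * d⁻¹ = h.e t 0 * h.e 0 1 := by rw [ht]; group
      rw [e2, ← h.e_add, add_zero, zero_add]
    calc f * h.e 0 1 = k⁻¹ * (d * h.e 0 1 * d⁻¹) * d := by rw [hf]; group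
      _ = k⁻¹ * (k * h.e 0 1 * k⁻¹) * d := by rw [e1]
      _ = h.e 0 1 * f := by rw [hf]; group
  -- `f` acts trivially on `V / Z`
  have hfy : ∀ y, ∃ x, f * h.e 0 y * f⁻¹ = h.e x y := by
    intro y
    obtain ⟨s, hs⟩ := (h.mem_Z _).1 (h1 y)
    have e2 : d * h.e 0 y * d⁻¹ = h.e s y := by
      have e3 : d * h.e 0 y * d⁻¹ = h.e s 0 * h.e 0 y := by rw [hs]; group
      rw [e3, ← h.e_add, add_zero, zero_add]
    refine ⟨s + t * y, ?_⟩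
    have hki : ∀ x y, k⁻¹ * h.e x y * k = h.e (x + t * y) y := by
      intro x y
      have e4 : h.e x y = h.e (x + t * y + t * y) y := by rw [add_assoc, CharTwo.add_self_eq_zero, add_zero]
      rw [e4, ← hkt]; group
    have e5 : f * h.e 0 y * f⁻¹ = k⁻¹ * (d * h.e 0 y * d⁻¹) * k := by rw [hf]; group
    rw [e5, e2, hki]
  have hfz : ∀ x, f * h.e x 0 * f⁻¹ = h.e x 0 := fun x => by
    rw [(mem_centralizer_iff.1 hfC _ (h.e_memZ x)).symm, mul_inv_cancel_right]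
  have hfxy : ∀ x y, ∃ x', f * h.e x y * f⁻¹ = h.e x' y := by
    intro x y
    obtain ⟨x', hx'⟩ := hfy y
    refine ⟨x + x', ?_⟩
    have e1 : h.e x y = h.e x 0 * h.e 0 y := by rw [← h.e_add, add_zero, zero_add]
    have e2 : f * h.e x y * f⁻¹ = f * h.e x 0 * f⁻¹ * (f * h.e 0 y * f⁻¹) := by rw [e1]; group
    rw [e2, hfz, hx', ← h.e_add, zero_add]
  have hfV : f ∈ normalizer (V : Set G) := by
    rw [← cj_eq_iff]
    refine eq_of_le_of_card_ge ?_ (by rw [card_cj])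
    intro v hv
    rw [mem_cj] at hv
    obtain ⟨x, y, hxy⟩ := (h.mem_V _).1 hv
    obtain ⟨x', hx'⟩ := hfxy x y
    rw [hxy] at hx'
    have e : f * (f⁻¹ * v * f) * f⁻¹ = v := by group
    rw [e] at hx'
    rw [hx']
    exact h.e_memV _ _
  have hff : f * f ∈ centralizer (V : Set G) := by
    refine h.mem_cent fun x y => ?_
    obtain ⟨x', hx'⟩ := hfy y
    have e1 : h.e x y = h.e x 0 * h.e 0 y := by rw [← h.e_add, add_zero, zero_add]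
    have e2 : f * f * h.e x y * (f * f)⁻¹ = f * (f * h.e x 0 * f⁻¹) * f⁻¹ * (f * (f * h.e 0 y * f⁻¹) * f⁻¹) := by
      rw [e1]; group
    have e3 : h.e x' y = h.e x' 0 * h.e 0 y := by rw [← h.e_add, add_zero, zero_add]
    have e4 : f * h.e x' y * f⁻¹ = f * h.e x' 0 * f⁻¹ * (f * h.e 0 y * f⁻¹) := by rw [e3]; group
    rw [e2, hfz, hfz, hx', e4, hfz, hx', ← h.e_add, ← h.e_add]
    congr 1
    · rw [← add_assoc, add_comm x x', add_assoc, add_comm x, ← add_assoc, CharTwo.add_self_eq_zero, zero_add]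
    · rw [zero_add, zero_add]
  obtain ⟨m, hm, hfm⟩ := exists_odd_pow f
  have hmV : f ^ m ∈ centralizer (V : Set G) := by
    refine h.one.pl.two_line hfm (pow_mem hfC m) (pow_mem hfV m) (h.e_memV 0 1) ?_
      (Commute.pow_left (show Commute f (h.e 0 1) from hf1) m)
    rw [h.e_memZ_iff]
    exact one_ne_zero
  obtain ⟨j, rfl⟩ := hm
  have e : f = f ^ (2 * j + 1) * ((f * f) ^ j)⁻¹ := by
    rw [pow_succ', pow_mul, pow_two, mul_inv_cancel_right]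
  rw [e]
  exact mul_mem hmV (inv_mem (pow_mem hff j))

end Co

end Cfsg.Agent.Omega.NO3S.OneQ
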