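import Cfsg.Agent.Omega.NO3S.OneQ.AlphaA
import Cfsg.Agent.Omega.NO3S.OneQ.Tor

/-!
# NO-3S, `OneQ`, critical distance 1: THEOREM ALPHA for `q ≥ 4` (bb OMEGA #19637 (B))

`h : One S B P V Z`, `hG` : characteristic 2 type, `hD : dd V Z Z ≤ IV V Z` (`D_x = I`),
`hw : w1 V Z Z ≤ ee V Z Z` (duality: `C_{W_Z}(E_Y) ≤ E_Z`), `L` a line on `Z`, `u ∈ I_V ∩ I_L`, `u ∉ Z`, `q ∈ L`:

* `One.alpha_core` : `g ∈ X_V`, `g u = u g` ==> `q` commutes with `g q g⁻¹`;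
* `Co.alpha` : `g ∈ X_V`, `Z^g ≠ Z` ==> `[q, g q g⁻¹] ∈ Z`; `Co.alpha_cj` the same for `L = cj c V`, `c ∈ C_G(Z)`.
-/

set_option autoImplicit false
set_option linter.unusedSectionVars false

namespace Cfsg.Agent.Omega.NO3S.OneQ

open Subgroup Cfsg Cfsg.Agent.Omega.NO3S.PT Cfsg.Agent.Omega.NoFF.Basic
open Cfsg.Agent.ZN (o2)
open Cfsg.Agent.ZN.Block (le_o2 o2_le o2_isPGroup le_normalizer_o2)
open Cfsg.Agent.Omega.NO3S.OneQ.Alpha
open scoped Pointwise commutatorElement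

variable {G : Type*} [Group G]

namespace Alpha

theorem isCj_line {V L M : Subgroup G} (hL : IsCj V L) (hM : IsCj V M) : IsCj L M := by
  obtain ⟨a, rfl⟩ := hL
  exact isCj_cj.2 hM

theorem isCj_line' {V L M : Subgroup G} (hL : IsCj V L) (hM : IsCj L M) : IsCj V M := by
  obtain ⟨a, rfl⟩ := hL
  exact isCj_cj.1 hM

/-- `⟨Z^J⟩` -/
def nu (J Z : Subgroup G) : Subgroup G := closure {a | ∃ c ∈ J, ∃ z ∈ Z, a = c * z * c⁻¹}

theorem nu_conj {J Z : Subgroup G} {c a : G} (hc : c ∈ J) (ha : a ∈ nu J Z) : c * a * c⁻¹ ∈ nu J Z := by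
  refine closure_induction (p := fun a _ => c * a * c⁻¹ ∈ nu J Z) ?_ ?_ ?_ ?_ ha
  · rintro _ ⟨d, hd, z, hz, rfl⟩
    exact subset_closure ⟨c * d, mul_mem hc hd, z, hz, by group⟩
  · simp
  · intro a b _ _ ha hb
    have e : c * (a * b) * c⁻¹ = (c * a * c⁻¹) * (c * b * c⁻¹) := by group
    rw [e]; exact mul_mem ha hb
  · intro a _ ha
    have e : c * a⁻¹ * c⁻¹ = (c * a * c⁻¹)⁻¹ := by group
    rw [e]; exact inv_mem ha

theorem le_nu {J Z : Subgroup G} : Z ≤ nu J Z := fun z hz => subset_closure ⟨1, one_mem _, z, hz, by simp⟩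

theorem nu_le {J Z N : Subgroup G} (hZ : Z ≤ N) (hJ : J ≤ normalizer (N : Set G)) : nu J Z ≤ N := by
  refine (closure_le _).2 ?_
  rintro _ ⟨c, hc, z, hz, rfl⟩
  exact conj_mem (hJ hc) (hZ hz)

theorem comm_norm {N J : Subgroup G} (h : J ≤ normalizer (N : Set G)) :
    J ≤ normalizer ((⁅N, N⁆ : Subgroup G) : Set G) := by
  have key : ∀ c ∈ J, ⁅N, N⁆ ≤ cj c ⁅N, N⁆ := by
    intro c hc
    rw [commutator_le]
    intro x hx y hy
    rw [mem_cj]
    have e1 : c⁻¹ * ⁅x, y⁆ * c = ⁅c⁻¹ * x * c, c⁻¹ * y * c⁆ := by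
      simp only [commutatorElement_def]; group
    rw [e1]
    exact commutator_mem_commutator (conj_mem' (h hc) hx) (conj_mem' (h hc) hy)
  intro c hc
  rw [← cj_eq_iff]
  refine le_antisymm ?_ (key c hc)
  rw [cj_le_iff]
  exact key c⁻¹ (inv_mem hc)

/-- `⟨Z^J⟩ ≤ Q` a 2-group, `Z ≠ 1`: `Z` is not in `⟨Z^J⟩'` -/
theorem not_le_comm [Finite G] {J Z Q : Subgroup G} (hne : Z ≠ ⊥) (hQ : IsPGroup 2 Q) (hZQ : Z ≤ Q)
    (hJQ : J ≤ normalizer (Q : Set G)) : ¬ Z ≤ ⁅nu J Z, nu J Z⁆ := by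
  intro hle
  set N := nu J Z with hNdef
  have hN2 : IsPGroup 2 N := hQ.to_le (nu_le hZQ hJQ)
  have hle' : N ≤ ⁅N, N⁆ := by
    refine nu_le hle (comm_norm ?_)
    intro c hc
    rw [← cj_eq_iff]
    refine le_antisymm ?_ ?_
    · rw [cj_le_iff]
      intro a ha
      rw [mem_cj, inv_inv]
      exact nu_conj hc ha
    · intro a ha
      rw [mem_cj]
      have := nu_conj (inv_mem hc) ha
      rwa [inv_inv] at this
  have : Fact (Nat.Prime 2) := ⟨Nat.prime_two⟩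
  have hnil : Group.IsNilpotent N := hN2.isNilpotent
  have hsol : Group.IsSolvable N := inferInstance
  have h1 : commutator N = ⊤ := by
    rw [eq_top_iff]
    intro x _
    have h2 : (x : G) ∈ ⁅N, N⁆ := hle' x.2
    have h3 : (commutator N).map N.subtype = ⁅N, N⁆ := by
      rw [_root_.commutator_def, map_commutator, ← MonoidHom.range_eq_map, range_subtype]
    rw [← h3] at h2
    obtain ⟨x', hx', e1⟩ := h2
    have : x' = x := Subtype.ext e1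
    rwa [← this]
  have h4 : Subsingleton N := by
    by_contra hns
    rw [not_subsingleton_iff_nontrivial] at hns
    exact (Group.IsSolvable.commutator_lt_top_of_nontrivial N).ne h1
  apply hne
  rw [eq_bot_iff]
  intro z hz
  have h5 : (⟨z, le_nu hz⟩ : N) = 1 := Subsingleton.elim _ _
  exact (mem_bot).2 (congrArg Subtype.val h5)

end Alpha

/-- the assumptions of ALPHA -/
structure HA (V Z : Subgroup G) : Prop where
  hD : dd V Z Z ≤ IV V Z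
  hw : w1 V Z Z ≤ ee V Z Z

theorem HA.line [Finite G] {S : Sylow 2 G} {B P V Z L : Subgroup G} (h : One S B P V Z) (ha : HA V Z) (hL : IsCj V L)
    (hZL : Z ≤ L) : HA L Z := by
  obtain ⟨g, hgZ, rfl⟩ := PB.Geom.exists_conj_flag h.pl h.pl.isCj_self hL hZL
  have hZ' : PT.cj g⁻¹ Z = Z := by
    nth_rewrite 1 [hgZ]
    rw [cj_cj, inv_mul_cancel, cj_one]
  constructor
  · have h1 := (cj_le_cj (g := g)).2 ha.hD
    rw [cj_conj_dd, ← PB.Geom.IV_conj h.pl h.hf g, ← hgZ] at h1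
    exact h1
  · intro w hw
    have h1 : g⁻¹ * w * g ∈ w1 V Z Z := by
      rw [mem_w1] at hw ⊢
      refine ⟨?_, fun Y hY hYZ => ?_⟩
      · have h2 := hw.1
        rw [ws_cj_left, hgZ, ws_cj, mem_cj] at h2
        exact h2
      · have h3 := hw.2 (PT.cj g Y) ⟨hY.cj.cj g, cj_le_cj.2 hY.le⟩ (fun e => hYZ (by
          rw [hgZ] at e
          exact cj_inj.1 e))
        rw [← cj_conj_ee, ← cj_centralizer, mem_cj] at h3
        exact h3
    have h2 := conj_mem_cj (g := g) (ha.hw h1)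
    rw [cj_conj_ee, ← hgZ] at h2
    have e : g * (g⁻¹ * w * g) * g⁻¹ = w := by group
    rwa [e] at h2

namespace One

variable [Finite G] {S : Sylow 2 G} {B P V Z : Subgroup G} (h : One S B P V Z)
include h

/-- `L ≤ I_V` implies `V ≤ I_L` -/
theorem coplanar {L : Subgroup G} (hL : IsCj V L) (hZL : Z ≤ L) (hLV : L ≠ V) (hLI : L ≤ IV V Z) : V ≤ IV L Z := by
  have hp := h.plg_of hL hZL hLV hLI
  refine le_sInf ?_
  rintro _ ⟨Y, hY, hYM, rfl⟩
  rw [ws_line hL]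
  exact le_sup_left.trans (hp.leW Y hY (hYM.trans le_sup_right))

/-- a point containing `u` collinear with `Z` -/
theorem alpha_pt {L : Subgroup G} (hL : IsCj V L) (hZL : Z ≤ L) {u : G} (hu' : u ∈ IV L Z)
    {N p : Subgroup G} (hN : IsCj V N) (hZN : Z ≤ N) (hp : IsCj Z p) (hpN : p ≤ N) (hup : u ∈ p) (hu1 : u ≠ 1)
    {q g : G} (hq : q ∈ L) (hgu : g * u = u * g) : q * (g * q * g⁻¹) = g * q * g⁻¹ * q := by
  have hZp : Z ≤ ws V p := hZN.trans (h.line_le_ws hN hpN)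
  have hnorm : ∀ {g : G}, g * u = u * g → g ∈ normalizer ((ws V p : Subgroup G) : Set G) := fun {g} hg =>
    normalizer_le_ws V p (h.pl.norm_of_comm hp hup hu1 hg)
  have hLp : L ≤ ws V p := by
    by_cases huL : u ∈ L
    · exact h.line_le_ws hL (Pla.pt_le h hL hp hup hu1 huL)
    · obtain ⟨S', C', Q', h'⟩ := h.flag hL h.pl.isCj_self hZL
      intro l hl
      by_cases hl1 : l = 1
      · rw [hl1]; exact one_mem _
      obtain ⟨X, hX, hXL, hlX⟩ := h.line_pt hL hl hl1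
      obtain ⟨x, hx, hxX⟩ := Alpha.trans h' hu' huL h'.self (⟨hX, hXL⟩ : Pnt L Z X)
      have h1 : PT.cj x Z ≤ PT.cj x (ws V p) := cj_le_cj.2 hZp
      rw [hxX, cj_eq_iff.2 (hnorm (mem_xs.1 hx).2)] at h1
      exact h1 hlX
  exact h.comm_W hp (hLp hq) (conj_mem (hnorm hgu) (hLp hq))

/-- **THEOREM ALPHA**, `g` centralises `u` -/
theorem alpha_core (hG : IsCharacteristicTwoType G) (ha : HA V Z) {L : Subgroup G} (hL : IsCj V L) (hZL : Z ≤ L)
    {u : G} (hu : u ∈ IV V Z) (hu' : u ∈ IV L Z) (huZ : u ∉ Z) {q g : G} (hq : q ∈ L) (hg : g ∈ XV V Z)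
    (hgu : g * u = u * g) : q * (g * q * g⁻¹) = g * q * g⁻¹ * q := by
  classical
  have hVV : IsCj V V := ⟨1, (cj_one V).symm⟩
  have hu1 : u ≠ 1 := fun e => huZ (e ▸ one_mem Z)
  by_cases hLV : L = V
  · subst hLV
    exact h.pl.Vcomm hq (conj_mem (h.pl.XV_le_N hg) hq)
  -- coplanar
  have hcop : L ≤ IV V Z → q * (g * q * g⁻¹) = g * q * g⁻¹ * q := fun hLI =>
    h.pl.IV_comm (hLI hq) (conj_mem (normalizer_le_IV V Z (h.pl.XV_le_N hg)) (hLI hq))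
  obtain ⟨S', C', P', h'⟩ := h.flag hL h.pl.isCj_self hZL
  have ha' : HA L Z := ha.line h hL hZL
  by_cases huL : u ∈ L
  · exact hcop (line_le h ha.hD hL hZL huL huZ hu)
  by_cases huV : u ∈ V
  · have hVL : IsCj L V := by
      obtain ⟨a, rfl⟩ := hL
      exact isCj_cj.2 hVV
    have h1 : V ≤ IV L Z := line_le h' ha'.hD hVL h.pl.ZV huV huZ hu'
    have h2 := h'.coplanar hVL h.pl.ZV (Ne.symm hLV) h1
    exact hcop h2
  -- no point collinear with `Z` contains `u`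
  by_contra hne
  have hnp : ∀ N p, IsCj V N → Z ≤ N → IsCj Z p → p ≤ N → u ∉ p := fun N p hN hZN hp hpN hup =>
    hne (h.alpha_pt hL hZL hu' hN hZN hp hpN hup hu1 hq hgu)
  set U : Subgroup G := ul V Z u ⊓ ul L Z u with hU
  have hUV : U ≤ ul V Z u := inf_le_left
  have hUL : U ≤ ul L Z u := inf_le_right
  have huU : u ∈ U := ⟨self_mem_ul hu, self_mem_ul hu'⟩
  set J := centralizer (U : Set G) with hJ
  have hxJ : xs V Z u ≤ J := fun g hg => mem_centralizer_iff.2 fun t ht => ((mem_ul.1 (hUV ht)).2 g hg).symm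
  have hxJ' : xs L Z u ≤ J := fun g hg => mem_centralizer_iff.2 fun t ht => ((mem_ul.1 (hUL ht)).2 g hg).symm
  have hWJ : ∀ X, Pnt V Z X → ws V X ≤ J := fun X hX w hw =>
    mem_centralizer_iff.2 fun t ht => h.I_comm_W hX (mem_ul.1 (hUV ht)).1 hw
  have hWJ' : ∀ X, Pnt L Z X → ws L X ≤ J := fun X hX w hw =>
    mem_centralizer_iff.2 fun t ht => h'.I_comm_W hX (mem_ul.1 (hUL ht)).1 hw
  -- `W_Z ∩ Θ ≤ U`
  have hinf : ∀ T : Subgroup G, J ≤ normalizer (T : Set G) → (∀ z ∈ Z, z ∈ T → z = 1) → ∀ r ∈ ws V Z, r ∈ T → r ∈ U := by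
    intro T hT hZT r hr hrT
    exact ⟨inf_ul h hu huV ha.hD ha.hw hxJ hWJ hT hZT hr hrT,
      inf_ul h' hu' huL ha'.hD ha'.hw hxJ' hWJ' hT hZT (by rw [ws_line hL]; exact hr) hrT⟩
  -- all or nothing
  have hall : ∀ T : Subgroup G, J ≤ normalizer (T : Set G) → Z ≤ T ∨ ∀ z ∈ Z, z ∈ T → z = 1 := by
    intro T hT
    by_contra hcon
    push Not at hcon
    obtain ⟨h1, z, hz, hzT, hz1⟩ := hcon
    exact h1 (h.pl.ZV.trans (V_le_of h hu huV (fun g hg d hd => conj_mem (hT (hxJ hg)) hd) (h.pl.ZV hz) hz1 hzT))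
  have hVle : ∀ T : Subgroup G, J ≤ normalizer (T : Set G) → Z ≤ T → V ≤ T ∧ L ≤ T := by
    intro T hT hZT
    obtain ⟨z, hz, hz1⟩ := h.pl.pt_ne_bot h.pl.isCj_self
    exact ⟨V_le_of h hu huV (fun g hg d hd => conj_mem (hT (hxJ hg)) hd) (h.pl.ZV hz) hz1 (hZT hz),
      V_le_of h' hu' huL (fun g hg d hd => conj_mem (hT (hxJ' hg)) hd) (hZL hz) hz1 (hZT hz)⟩
  -- `Z ≤ O₂(J)`
  have hZQ : Z ≤ o2 J := by
    rcases hall (o2 J) (le_normalizer_o2 J) with h1 | h1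
    · exact h1
    · exact (alpha_a h hu huV hG ha.hD hUV huU
        (fun w hw hwQ => hinf _ (le_normalizer_o2 J) h1 w hw hwQ) hnp).elim
  set N := nu J Z with hN
  have hNn : J ≤ normalizer (N : Set G) := QAbs.norm_of fun c hc a ha => nu_conj hc ha
  have hN'n : J ≤ normalizer ((⁅N, N⁆ : Subgroup G) : Set G) := comm_norm hNn
  have hZN' : ∀ z ∈ Z, z ∈ ⁅N, N⁆ → z = 1 := by
    rcases hall _ hN'n with h1 | h1
    · exact (not_le_comm h.pl.Zne (o2_isPGroup J) hZQ (le_normalizer_o2 J) h1).elim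
    · exact h1
  have hLN : L ≤ N := (hVle N hNn le_nu).2
  have hgJ : g ∈ J := hxJ (mem_xs.2 ⟨hg, hgu⟩)
  obtain ⟨y, hy⟩ : ∃ y, y = g * q * g⁻¹ := ⟨_, rfl⟩
  rw [← hy] at hne
  have hqW : q ∈ ws V Z := h.line_le_ws hL hZL hq
  have hY : Pnt V Z (PT.cj g Z) := h.self.conj (h.pl.XV_le_N hg)
  have hyW : y ∈ ws V (PT.cj g Z) := by rw [hy, ws_cj]; exact conj_mem_cj hqW
  have hgZ : PT.cj g Z ≠ Z := by
    intro e
    rw [e] at hyW
    exact hne (h.comm_W h.self.cj hqW hyW)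
  obtain ⟨c, hc⟩ : ∃ c, c = q * y * q⁻¹ * y⁻¹ := ⟨_, rfl⟩
  have hc1 : c ≠ 1 := fun e => hne (comm_of_cm (hc.symm.trans e))
  have hcI : c ∈ IV V Z := by rw [hc]; exact h.comm_mem h.self hY hgZ.symm hqW hyW
  have hcN : c ∈ ⁅N, N⁆ := by
    have := commutator_mem_commutator (hLN hq) (show y ∈ N by rw [hy]; exact nu_conj hgJ (hLN hq))
    rwa [commutatorElement_def, ← hc] at this
  have hcU : c ∈ U := hinf _ hN'n hZN' c (h.I_le_W h.self hcI) hcN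
  -- the line `L^y`
  have hyV : y ∈ centralizer (V : Set G) := h.W_le_cent hY hyW
  have hyZ : PT.cj y Z = Z := cj_eq_iff.2 (centralizer_le_normalizer _ (centralizer_le h.pl.ZV hyV))
  have hL2 : IsCj V (PT.cj y L) := hL.cj y
  have hZL2 : Z ≤ PT.cj y L := by rw [← hyZ]; exact cj_le_cj.2 hZL
  have hyq : y * q * y⁻¹ = c⁻¹ * q := by rw [hc]; group
  have hqZ : q ∉ Z := by
    intro hqZ
    exact hne (mem_centralizer_iff.1 (centralizer_le h.pl.ZV hyV) q hqZ)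
  have hLI' : L ≤ IV L Z := h'.pl.V_le_IV
  have hL2' : IsCj L (PT.cj y L) := Alpha.isCj_line hL hL2
  have hcq : c⁻¹ * q ∈ PT.cj y L := by rw [← hyq]; exact conj_mem_cj hq
  have h1 : PT.cj y L ≤ IV L Z := by
    refine line_le h' ha'.hD hL2' hZL2 hcq (fun e => hqZ ?_) ?_
    · rw [← hyq] at e
      have e1 : y⁻¹ * (y * q * y⁻¹) * y ∈ Z := by
        rw [← mem_cj, hyZ]; exact e
      have e2 : y⁻¹ * (y * q * y⁻¹) * y = q := by group
      rwa [e2] at e1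
    · exact mul_mem (inv_mem (mem_ul.1 (hUL hcU)).1) (hLI' hq)
  by_cases e : PT.cj y L = L
  · have hcL : c ∈ L := by
      rw [e] at hcq
      exact (inv_mem_iff).1 ((L.mul_mem_cancel_right hq).1 hcq)
    obtain ⟨p, hp, hpL, hcp⟩ := h.line_pt hL hcL hc1
    exact hnp L p hL hZL hp hpL (mem_pt h hu huV ha.hD hL hZL hp hpL (hUV hcU) hc1 hcp)
  · have hpl := h'.plg_of hL2' hZL2 e h1
    have hcQ : c ∈ L ⊔ PT.cj y L := by
      have e1 : c = q * (c⁻¹ * q)⁻¹ := by group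
      rw [e1]
      exact mul_mem ((le_sup_left : L ≤ L ⊔ PT.cj y L) hq) ((le_sup_right : PT.cj y L ≤ L ⊔ PT.cj y L) (inv_mem hcq))
    obtain ⟨p, hp, hpQ, hcp⟩ := hpl.cov c hcQ hc1
    have hpZ : Z ≠ p := by
      rintro rfl
      exact hc1 (ul_inf h hu huV (h.pl.ZV hcp) (hUV hcU))
    obtain ⟨N, hN, hNQ, hZN, hpN⟩ := hpl.col Z p h.pl.isCj_self hp (hZL.trans le_sup_left) hpQ hpZ
    have hN' := Alpha.isCj_line' hL hN
    exact hnp N p hN' hZN hp hpN (mem_pt h hu huV ha.hD hN' hZN hp hpN (hUV hcU) hc1 hcp)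

end One

namespace Co

variable [Finite G] {F : Type*} [Field F] [CharP F 2] {S : Sylow 2 G} {B P V Z : Subgroup G} (h : Co F S B P V Z)
include h

/-- **THEOREM ALPHA** -/
theorem alpha (hG : IsCharacteristicTwoType G) (ha : HA V Z) {L : Subgroup G} (hL : IsCj V L) (hZL : Z ≤ L)
    {u : G} (hu : u ∈ IV V Z) (hu' : u ∈ IV L Z) (huZ : u ∉ Z) {q g : G} (hq : q ∈ L) (hg : g ∈ XV V Z)
    (hgZ : PT.cj g Z ≠ Z) : q * (g * q * g⁻¹) * q⁻¹ * (g * q * g⁻¹)⁻¹ ∈ Z := by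
  have hVV : IsCj V V := ⟨1, (cj_one V).symm⟩
  have hqW : q ∈ ws V Z := h.one.line_le_ws hL hZL hq
  by_cases huV : u ∈ V
  · -- coplanar
    have hone := h.one
    obtain ⟨S', C', P', h'⟩ := hone.flag hL hone.pl.isCj_self hZL
    have ha' : HA L Z := ha.line hone hL hZL
    have key : q * (g * q * g⁻¹) = g * q * g⁻¹ * q := by
      by_cases hLV : L = V
      · subst hLV
        exact hone.pl.Vcomm hq (conj_mem (hone.pl.XV_le_N hg) hq)
      have hVL : IsCj L V := Alpha.isCj_line hL hVV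
      have h1 : V ≤ IV L Z := line_le h' ha'.hD hVL hone.pl.ZV huV huZ hu'
      have hLI := h'.coplanar hVL hone.pl.ZV (Ne.symm hLV) h1
      exact hone.pl.IV_comm (hLI hq) (conj_mem (normalizer_le_IV V Z (hone.pl.XV_le_N hg)) (hLI hq))
    have e : q * (g * q * g⁻¹) * q⁻¹ * (g * q * g⁻¹)⁻¹ = 1 := by rw [key]; group
    rw [e]; exact one_mem _
  -- `x = c g` centralises `u`
  obtain ⟨x, hx, hxg⟩ := Alpha.cover h.one hu huV hg
  have hy : x * g⁻¹ ∈ yl V Z := by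
    rw [← h.XV_cent]
    exact ⟨(XV V Z).mul_mem (mem_xs.1 hx).1 ((XV V Z).inv_mem hg), hxg⟩
  have h1 := h.one.alpha_core hG ha hL hZL hu hu' huZ hq (mem_xs.1 hx).1 (mem_xs.1 hx).2
  have hY : Pnt V Z (PT.cj g Z) := h.one.self.conj (h.one.pl.XV_le_N hg)
  obtain ⟨y, hye⟩ : ∃ y, y = g * q * g⁻¹ := ⟨_, rfl⟩
  have hyW : y ∈ ws V (PT.cj g Z) := by rw [hye, ws_cj]; exact conj_mem_cj hqW
  have hE := h.one.yl_ee hY hy hyW
  obtain ⟨d, hd⟩ : ∃ d, d = x * g⁻¹ * y * (x * g⁻¹)⁻¹ * y⁻¹ := ⟨_, rfl⟩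
  rw [← hd] at hE
  have hxq : x * q * x⁻¹ = d * y := by rw [hd, hye]; group
  rw [hxq] at h1
  rw [← hye]
  -- `[q, y] = d⁻¹ [q, d]..`
  have h2 := h.one.ee_act h.one.self hgZ.symm hE hqW
  obtain ⟨t, ht⟩ : ∃ t, t = d * q * d⁻¹ * q⁻¹ := ⟨_, rfl⟩
  rw [← ht] at h2
  have htd : d * t = t * d :=
    (mem_centralizer_iff.1 (h.one.W_le_cent hY (ee_le hE)) t (h.one.pl.ZV h2)).symm
  have e1 : d⁻¹ * q * d = t⁻¹ * q := by
    have e2 : q = d⁻¹ * (t * q) * d := by rw [ht]; group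
    have e3 : d⁻¹ * t = t * d⁻¹ := by
      rw [inv_mul_eq_iff_eq_mul, ← mul_assoc, htd, mul_inv_cancel_right]
    have e4 : q = t * (d⁻¹ * q * d) := by
      calc q = d⁻¹ * (t * q) * d := e2
        _ = (d⁻¹ * t) * q * d := by group
        _ = t * (d⁻¹ * q * d) := by rw [e3]; group
    rw [eq_inv_mul_iff_mul_eq]
    exact e4.symm
  have e2 : y * q = t⁻¹ * (q * y) := by
    calc y * q = d⁻¹ * (d * y * q) := by group
      _ = d⁻¹ * (q * (d * y)) := by rw [h1]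
      _ = (d⁻¹ * q * d) * y := by group
      _ = t⁻¹ * (q * y) := by rw [e1]; group
  have e : q * y * q⁻¹ * y⁻¹ = t := by
    calc q * y * q⁻¹ * y⁻¹ = q * y * (y * q)⁻¹ := by group
      _ = t := by rw [e2]; group
  rw [e]; exact h2

/-- **THEOREM ALPHA**, `L = V^c`, `c ∈ C_G(Z)` -/
theorem alpha_cj (hG : IsCharacteristicTwoType G) (ha : HA V Z) {c u v g : G} (hc : c ∈ centralizer (Z : Set G))
    (hu : u ∈ IV V Z) (hu' : u ∈ PT.cj c (IV V Z)) (huZ : u ∉ Z) (hv : v ∈ PT.cj c V) (hg : g ∈ XV V Z)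
    (hgZ : PT.cj g Z ≠ Z) : v * (g * v * g⁻¹) * v⁻¹ * (g * v * g⁻¹)⁻¹ ∈ Z := by
  have hcZ : PT.cj c Z = Z := cj_eq_iff.2 (centralizer_le_normalizer _ hc)
  refine h.alpha hG ha (L := PT.cj c V) ⟨c, rfl⟩ ?_ hu ?_ huZ hv hg hgZ
  · rw [← hcZ]; exact cj_le_cj.2 h.one.pl.ZV
  · have h1 := PB.Geom.IV_conj h.one.pl h.one.hf c
    rw [hcZ] at h1
    rw [h1]; exact hu'

end Co

end Cfsg.Agent.Omega.NO3S.OneQ
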