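import Mathlib
import Cfsg.Agent.Lib.Cores

/-!
# NO-3S, `OneQ`: LEMMA Q+ (bb OMEGA #18518), abstract part

`QD C B K T` : subgroups `B i`, `K i`, `T i` (`i` the points of a line), `B i ≤ C` and `T i` normal in `C`, `K i / B i` of
exponent 2, `K i` permutes the `B j` and moves them transitively by elements which centralise `B i / T i`.

`QD.main` : all the elements of odd order of `B x` lie in `B y`.
-/

set_option autoImplicit false

namespace Cfsg.Agent.Omega.NO3S.OneQ.QAbs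

open Subgroup Cfsg
open scoped Pointwise

variable {G : Type*} [Group G]

/-! ### general lemmas -/

theorem mem_of_odd {N : Subgroup G} {b : G} (hb : Odd (orderOf b)) {m : ℕ} (h : b ^ (2 ^ m) ∈ N) : b ∈ N := by
  have hc : Nat.Coprime (orderOf b) (2 ^ m) := (Nat.Coprime.pow_right m (Nat.coprime_two_right.2 hb))
  obtain ⟨k, hk⟩ := exists_pow_eq_self_of_coprime hc.symm
  rw [← hk]
  exact pow_mem h k

theorem exists_odd [Finite G] (g : G) : ∃ m, Odd (orderOf (g ^ (2 ^ m))) := by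
  obtain ⟨m, k, hk, hmk⟩ := Nat.exists_eq_two_pow_mul_odd (orderOf_pos g).ne'
  refine ⟨m, ?_⟩
  rw [orderOf_pow' g (pow_ne_zero _ two_ne_zero), hmk, Nat.gcd_mul_right_left, Nat.mul_div_cancel_left _ (by positivity)]
  exact hk

theorem conj_mem {N C : Subgroup G} (h : C ≤ normalizer (N : Set G)) {c n : G} (hc : c ∈ C) (hn : n ∈ N) :
    c * n * c⁻¹ ∈ N := (mem_normalizer_iff.1 (h hc) n).1 hn

theorem norm_of {N C : Subgroup G} (h : ∀ c ∈ C, ∀ n ∈ N, c * n * c⁻¹ ∈ N) : C ≤ normalizer (N : Set G) := by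
  intro c hc
  rw [mem_normalizer_iff]
  refine fun n => ⟨h c hc n, fun hn => ?_⟩
  have h1 := h c⁻¹ (inv_mem hc) _ hn
  have e : c⁻¹ * (c * n * c⁻¹) * c⁻¹⁻¹ = n := by group
  rwa [e] at h1

/-- powers modulo `M` -/
theorem pow_mod {M : Subgroup G} {a n : G} (ha : a ∈ M) (hn : n ∈ normalizer (M : Set G)) (j : ℕ) :
    (a * n) ^ j * (n ^ j)⁻¹ ∈ M := by
  induction j with
  | zero => simp
  | succ j ih =>
    have h1 : n ^ j * a * (n ^ j)⁻¹ ∈ M := (mem_normalizer_iff.1 (pow_mem hn j) a).1 ha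
    have e : (a * n) ^ (j + 1) * (n ^ (j + 1))⁻¹ = ((a * n) ^ j * (n ^ j)⁻¹) * (n ^ j * a * (n ^ j)⁻¹) := by
      rw [pow_succ, pow_succ]; group
    rw [e]
    exact mul_mem ih h1

/-- the largest normal subgroup `N ≥ L` of `C` such that `N / L` is a 2-group -/
theorem exists_nn [Finite G] {C L : Subgroup G} (hLC : L ≤ C) (hL : C ≤ normalizer (L : Set G)) :
    ∃ N : Subgroup G, N ≤ C ∧ C ≤ normalizer (N : Set G) ∧ L ≤ N ∧ (∀ n ∈ N, ∃ m, n ^ (2 ^ m) ∈ L) ∧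
      ∀ M : Subgroup G, M ≤ C → C ≤ normalizer (M : Set G) → (∀ g ∈ M, ∃ m, g ^ (2 ^ m) ∈ L) → M ≤ N := by
  have : Fact (Nat.Prime 2) := ⟨Nat.prime_two⟩
  have hN : (L.subgroupOf C).Normal := by
    refine ⟨fun x hx c => ?_⟩
    rw [mem_subgroupOf] at hx ⊢
    exact conj_mem hL c.2 hx
  set π := QuotientGroup.mk' (L.subgroupOf C) with hπ
  have hker : ∀ c : C, π c = 1 ↔ (c : G) ∈ L := fun c => by
    rw [hπ, QuotientGroup.mk'_apply, QuotientGroup.eq_one_iff, mem_subgroupOf]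
  have hcn : (pCore 2 (C ⧸ L.subgroupOf C)).Normal := Cfsg.Agent.Lib.Cores.pCore_normal 2
  have hc2 : IsPGroup 2 (pCore 2 (C ⧸ L.subgroupOf C)) := Cfsg.Agent.Lib.Cores.pCore_isPGroup 2
  have hmem : ∀ g : G, g ∈ ((pCore 2 (C ⧸ L.subgroupOf C)).comap π).map C.subtype ↔
      ∃ hg : g ∈ C, π ⟨g, hg⟩ ∈ pCore 2 (C ⧸ L.subgroupOf C) := by
    intro g
    constructor
    · rintro ⟨x, hx, rfl⟩
      exact ⟨x.2, hx⟩
    · rintro ⟨hg, h1⟩
      exact ⟨⟨g, hg⟩, h1, rfl⟩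
  refine ⟨((pCore 2 (C ⧸ L.subgroupOf C)).comap π).map C.subtype, map_subtype_le _, ?_, ?_, ?_, ?_⟩
  · refine norm_of fun c hc n hn => ?_
    obtain ⟨h1, h2⟩ := (hmem n).1 hn
    refine (hmem _).2 ⟨mul_mem (mul_mem hc h1) (inv_mem hc), ?_⟩
    exact hcn.conj_mem _ h2 (π ⟨c, hc⟩)
  · intro l hl
    refine (hmem _).2 ⟨hLC hl, ?_⟩
    rw [(hker _).2 hl]
    exact one_mem _
  · intro n hn
    obtain ⟨h1, h2⟩ := (hmem n).1 hn
    obtain ⟨m, hm⟩ := hc2 ⟨_, h2⟩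
    refine ⟨m, ?_⟩
    have h3 : (π ⟨n, h1⟩) ^ (2 ^ m) = 1 := by
      have := congrArg Subtype.val hm
      simpa using this
    rw [← map_pow, hker] at h3
    simpa using h3
  · intro M hMC hM hpow g hg
    refine (hmem g).2 ⟨hMC hg, ?_⟩
    have hn : ((M.subgroupOf C).map π).Normal := by
      refine Subgroup.Normal.map ⟨fun x hx c => ?_⟩ π (QuotientGroup.mk'_surjective _)
      rw [mem_subgroupOf] at hx ⊢
      exact conj_mem hM c.2 hx
    have h2 : IsPGroup 2 ((M.subgroupOf C).map π) := by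
      rintro ⟨_, x, hx, rfl⟩
      obtain ⟨m, hm⟩ := hpow x hx
      refine ⟨m, Subtype.ext ?_⟩
      show (π x) ^ (2 ^ m) = 1
      rw [← map_pow, hker]
      simpa using hm
    exact Cfsg.Agent.Lib.Cores.le_pCore hn h2 (mem_map_of_mem π (mem_subgroupOf.2 hg))

/-! ### the situation -/

/-- the hypotheses of LEMMA Q+ -/
structure QD {ι : Type*} (C : Subgroup G) (B K T : ι → Subgroup G) : Prop where
  B_le : ∀ i, B i ≤ C
  B_norm : ∀ i, C ≤ normalizer (B i : Set G)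
  K_norm : ∀ i, C ≤ normalizer (K i : Set G)
  BK : ∀ i, B i ≤ K i
  sq : ∀ i, ∀ k ∈ K i, k * k ∈ B i
  KC : ∀ i, K i ≤ normalizer (C : Set G)
  KB : ∀ i, ∀ k ∈ K i, ∀ j, ∃ j', ∀ g, g ∈ B j' ↔ k⁻¹ * g * k ∈ B j
  T_le : ∀ i, T i ≤ B i
  T_two : ∀ i, IsPGroup 2 (T i)
  T_norm : ∀ i, C ≤ normalizer (T i : Set G)
  move : ∀ z x y, x ≠ z → y ≠ z → ∃ k ∈ K z, (∀ g, g ∈ B x ↔ k * g * k⁻¹ ∈ B y) ∧ ∀ b ∈ B z, k * b * k⁻¹ * b⁻¹ ∈ T z
  third : ∀ x y : ι, ∃ z : ι, z ≠ x ∧ z ≠ y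

namespace QD

variable {ι : Type*} {C : Subgroup G} {B K T : ι → Subgroup G} (h : QD C B K T)
include h

theorem T_pow {i : ι} {t : G} (ht : t ∈ T i) : ∃ m, t ^ (2 ^ m) = 1 := by
  obtain ⟨m, hm⟩ := h.T_two i ⟨t, ht⟩
  exact ⟨m, by simpa using congrArg Subtype.val hm⟩

/-- LEMMA Q: the elements of odd order of `B x ∩ B y` lie in all the `B z` -/
theorem odd_inf {x y z : ι} (hxy : y ≠ x) {b : G} (hx : b ∈ B x) (hy : b ∈ B y) (hb : Odd (orderOf b)) : b ∈ B z := by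
  by_cases hzx : z = x
  · rw [hzx]; exact hx
  obtain ⟨k, hk, hk1, hk2⟩ := h.move x y z hxy hzx
  have h1 : k * b * k⁻¹ ∈ B z := (hk1 b).1 hy
  have h2 := hk2 b hx
  set t := k * b * k⁻¹ * b⁻¹ with ht
  obtain ⟨m, hm⟩ := h.T_pow h2
  have htC : t ∈ C := h.B_le x (h.T_le x h2)
  -- `b = (t b) t⁻¹` up to conjugation
  have h3 : t * b ∈ B z := by
    have e : t * b = k * b * k⁻¹ := by rw [ht]; group
    rw [e]; exact h1
  have h4 : t⁻¹ * (t * b) * t⁻¹⁻¹ ∈ B z := conj_mem (h.B_norm z) (inv_mem htC) h3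
  have h5 := pow_mod h4 (h.B_norm z (inv_mem htC)) (2 ^ m)
  have e : t⁻¹ * (t * b) * t⁻¹⁻¹ * t⁻¹ = b := by group
  rw [e, inv_pow, hm, inv_one, inv_one, mul_one] at h5
  exact mem_of_odd hb h5

end QD

/-- **LEMMA Q+, abstract form** -/
theorem QD.main [Finite G] {ι : Type*} {C : Subgroup G} {B K T : ι → Subgroup G} (h : QD C B K T) {x y : ι} {b : G}
    (hb : b ∈ B x) (hodd : Odd (orderOf b)) : b ∈ B y := by
  classical
  -- `L = ⋂ B i`
  set L : Subgroup G := ⨅ i, B i with hLdef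
  have hmemL : ∀ g, g ∈ L ↔ ∀ i, g ∈ B i := fun g => by rw [hLdef, mem_iInf]
  have hLB : ∀ i, L ≤ B i := fun i => iInf_le _ i
  have hLC : L ≤ C := (hLB x).trans (h.B_le x)
  have hLn : C ≤ normalizer (L : Set G) := norm_of fun c hc n hn => (hmemL _).2 fun i =>
    conj_mem (h.B_norm i) hc ((hmemL n).1 hn i)
  obtain ⟨N, hNC, hNn, hLN, hNpow, hNmax⟩ := exists_nn hLC hLn
  have hL2 : ∀ (M : Subgroup G), (∀ g ∈ M, Odd (orderOf g) → g ∈ L) → ∀ g ∈ M, ∃ m, g ^ (2 ^ m) ∈ L := by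
    intro M hM g hg
    obtain ⟨m, hm⟩ := exists_odd g
    exact ⟨m, hM _ (pow_mem hg _) hm⟩
  -- the 2-elements modulo `L`
  have hpp : ∀ (g : G) (m n : ℕ), g ^ (2 ^ m) ^ 1 ∈ N → g ^ (2 ^ m) ∈ N := fun g m n h1 => by simpa using h1
  have hNp : ∀ g : G, ∀ m, g ^ (2 ^ m) ∈ N → ∃ m', g ^ (2 ^ m') ∈ L := by
    intro g m hg
    obtain ⟨n, hn⟩ := hNpow _ hg
    refine ⟨m + n, ?_⟩
    rw [pow_add, pow_mul]
    exact hn
  -- (3)
  have s3 : ∀ {x y : ι}, x ≠ y → B x ⊓ B y ≤ N := by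
    intro x y hxy
    refine hNmax _ (inf_le_left.trans (h.B_le x)) ?_ (hL2 _ fun g hg ho => (hmemL g).2 fun i =>
      h.odd_inf hxy.symm hg.1 hg.2 ho)
    exact norm_of fun c hc n hn => ⟨conj_mem (h.B_norm x) hc hn.1, conj_mem (h.B_norm y) hc hn.2⟩
  -- (4)
  have s4 : ∀ {x z : ι}, x ≠ z → B x ⊓ K z ≤ N := by
    intro x z hxz
    refine hNmax _ (inf_le_left.trans (h.B_le x)) (norm_of fun c hc n hn =>
      ⟨conj_mem (h.B_norm x) hc hn.1, conj_mem (h.K_norm z) hc hn.2⟩) fun g hg => ?_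
    have h1 : g * g ∈ N := s3 hxz ⟨mul_mem hg.1 hg.1, h.sq z g hg.2⟩
    exact hNp g 1 (by rw [pow_one, pow_two]; exact h1)
  -- (5)
  have s5 : ∀ {x y : ι} {a b : G}, a ∈ B x → b ∈ B y → a * b * a⁻¹ * b⁻¹ ∈ N := by
    have s5' : ∀ {x y : ι} {a b : G}, x ≠ y → a ∈ B x → b ∈ B y → a * b * a⁻¹ * b⁻¹ ∈ N := by
      intro x y a b hxy ha hb
      refine s3 hxy (mem_inf.2 ⟨?_, ?_⟩)
      · have e : a * b * a⁻¹ * b⁻¹ = a * (b * a⁻¹ * b⁻¹) := by group
        rw [e]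
        exact mul_mem ha (conj_mem (h.B_norm x) (h.B_le y hb) (inv_mem ha))
      · exact mul_mem (conj_mem (h.B_norm y) (h.B_le x ha) hb) (inv_mem hb)
    intro x y a b ha hb
    by_cases hxy : x = y
    · subst hxy
      obtain ⟨z, hz, -⟩ := h.third x x
      obtain ⟨y, hyx, hyz⟩ := h.third x z
      obtain ⟨k, hk, hk1, -⟩ := h.move z x y hz.symm hyz
      have hb' : k * b * k⁻¹ ∈ B y := (hk1 b).1 hb
      have hbC : b ∈ C := h.B_le x hb
      have haC : a ∈ C := h.B_le x ha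
      have hkb : (k * b * k⁻¹)⁻¹ * b ∈ K z := by
        have e : (k * b * k⁻¹)⁻¹ * b = k * (b⁻¹ * k⁻¹ * b⁻¹⁻¹) := by group
        rw [e]
        exact mul_mem hk (conj_mem (h.K_norm z) (inv_mem hbC) (inv_mem hk))
      set b' := k * b * k⁻¹ with hb'def
      have hb'C : b' ∈ C := h.B_le y hb'
      set κ := b'⁻¹ * b with hκ
      have hκC : κ ∈ C := mul_mem (inv_mem hb'C) hbC
      have e : b = b' * κ := by rw [hκ]; group
      have h1 : a * b' * a⁻¹ * b'⁻¹ ∈ N := s5' hyx.symm ha hb'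
      have h2 : a * κ * a⁻¹ * κ⁻¹ ∈ N := by
        refine s4 hz.symm (mem_inf.2 ⟨?_, mul_mem (conj_mem (h.K_norm z) haC hkb) (inv_mem hkb)⟩)
        have e : a * κ * a⁻¹ * κ⁻¹ = a * (κ * a⁻¹ * κ⁻¹) := by group
        rw [e]
        exact mul_mem ha (conj_mem (h.B_norm x) hκC (inv_mem ha))
      have e2 : a * b * a⁻¹ * b⁻¹ = (a * b' * a⁻¹ * b'⁻¹) * (b' * (a * κ * a⁻¹ * κ⁻¹) * b'⁻¹) := by
        rw [e]; group
      rw [e2]
      exact mul_mem h1 (conj_mem hNn hb'C h2)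
    · exact s5' hxy ha hb
  -- the quotient `C / N`
  have hNN : (N.subgroupOf C).Normal := by
    refine ⟨fun x hx c => ?_⟩
    rw [mem_subgroupOf] at hx ⊢
    exact conj_mem hNn c.2 hx
  set π := QuotientGroup.mk' (N.subgroupOf C) with hπ
  have hker : ∀ c : C, π c = 1 ↔ (c : G) ∈ N := fun c => by
    rw [hπ, QuotientGroup.mk'_apply, QuotientGroup.eq_one_iff, mem_subgroupOf]
  have hcomm : ∀ c d : C, (c : G) * d * (c : G)⁻¹ * (d : G)⁻¹ ∈ N ↔ π c * π d = π d * π c := by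
    intro c d
    have h1 := hker (c * d * c⁻¹ * d⁻¹)
    have e : ((c * d * c⁻¹ * d⁻¹ : C) : G) = (c : G) * d * (c : G)⁻¹ * (d : G)⁻¹ := rfl
    rw [e] at h1
    rw [← h1, map_mul, map_mul, map_mul, map_inv, map_inv, mul_inv_eq_one, mul_inv_eq_iff_eq_mul]
  -- (6) `R = ⟨B i⟩` is abelian modulo `N`
  set R : Subgroup G := ⨆ i, B i with hR
  have hBR : ∀ i, B i ≤ R := fun i => le_iSup _ i
  have hRC : R ≤ C := iSup_le h.B_le
  have hRn : C ≤ normalizer (R : Set G) := by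
    refine norm_of fun c hc n hn => ?_
    have h1 : R ≤ R.comap (MulAut.conj c).toMonoidHom := iSup_le fun i b hb => by
      rw [mem_comap]
      exact hBR i (conj_mem (h.B_norm i) hc hb)
    exact h1 hn
  have s6 : ∀ a ∈ R, ∀ b ∈ R, a * b * a⁻¹ * b⁻¹ ∈ N := by
    have h1 : ∀ j, R ≤ ((centralizer (((B j).subgroupOf C).map π : Set _)).comap π).map C.subtype := by
      intro j
      refine iSup_le fun i a ha => ?_
      refine ⟨⟨a, h.B_le i ha⟩, ?_, rfl⟩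
      rw [SetLike.mem_coe, mem_comap, mem_centralizer_iff]
      rintro _ ⟨b, hb, rfl⟩
      exact ((hcomm _ _).1 (s5 ha (mem_subgroupOf.1 hb))).symm
    have h2 : R ≤ ((centralizer ((R.subgroupOf C).map π : Set _)).comap π).map C.subtype := by
      refine iSup_le fun i b hb => ?_
      refine ⟨⟨b, h.B_le i hb⟩, ?_, rfl⟩
      rw [SetLike.mem_coe, mem_comap, mem_centralizer_iff]
      rintro _ ⟨a, ha, rfl⟩
      obtain ⟨a', ha', hae⟩ := h1 i (mem_subgroupOf.1 ha)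
      have hae' : a' = a := Subtype.ext hae
      subst hae'
      rw [SetLike.mem_coe, mem_comap, mem_centralizer_iff] at ha'
      exact (ha' _ ⟨⟨b, h.B_le i hb⟩, mem_subgroupOf.2 hb, rfl⟩).symm
    intro a ha b hb
    obtain ⟨b', hb', hbe⟩ := h2 hb
    rw [SetLike.mem_coe, mem_comap, mem_centralizer_iff] at hb'
    have h3 := hb' _ ⟨⟨a, hRC ha⟩, mem_subgroupOf.2 ha, rfl⟩
    have h4 := (hcomm ⟨a, hRC ha⟩ b').2 h3
    have hbe' : (b' : G) = b := hbe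
    rw [hbe'] at h4
    exact h4
  -- (N5)
  have n5 : ∀ a ∈ R, ∀ m, a ^ (2 ^ m) ∈ N → a ∈ N := by
    have hmul : ∀ a ∈ R, ∀ b ∈ R, ∀ k, a ^ k ∈ N → b ^ k ∈ N → (a * b) ^ k ∈ N := by
      intro a ha b hb k hak hbk
      have h1 : Commute (π ⟨a, hRC ha⟩) (π ⟨b, hRC hb⟩) := (hcomm ⟨a, hRC ha⟩ ⟨b, hRC hb⟩).1 (s6 a ha b hb)
      have h2 := h1.mul_pow k
      have h3 : π ⟨a, hRC ha⟩ ^ k = 1 := by rw [← map_pow]; exact (hker _).2 hak
      have h4 : π ⟨b, hRC hb⟩ ^ k = 1 := by rw [← map_pow]; exact (hker _).2 hbk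
      rw [h3, h4, mul_one, ← map_mul, ← map_pow] at h2
      exact (hker _).1 h2
    let M : Subgroup G :=
      { carrier := {g | g ∈ R ∧ ∃ m, g ^ (2 ^ m) ∈ N}
        one_mem' := ⟨one_mem _, 0, by simp⟩
        mul_mem' := by
          rintro a b ⟨ha, m, hm⟩ ⟨hb, n, hn⟩
          refine ⟨mul_mem ha hb, m + n, hmul a ha b hb _ ?_ ?_⟩
          · rw [pow_add, pow_mul]
            exact pow_mem hm _
          · rw [pow_add, mul_comm, pow_mul]
            exact pow_mem hn _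
        inv_mem' := by
          rintro a ⟨ha, m, hm⟩
          exact ⟨inv_mem ha, m, by rw [inv_pow]; exact inv_mem hm⟩ }
    have hM : M ≤ N := by
      refine hNmax M (fun g hg => hRC hg.1) (norm_of fun c hc n hn => ⟨conj_mem hRn hc hn.1, ?_⟩) fun g hg => ?_
      · obtain ⟨m, hm⟩ := hn.2
        refine ⟨m, ?_⟩
        rw [conj_pow]
        exact conj_mem hNn hc hm
      · obtain ⟨m, hm⟩ := hg.2
        exact hNp g m hm
    exact fun a ha m hm => hM ⟨ha, m, hm⟩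
  -- the elements of `K z` normalise `N`
  have hKL : ∀ z, ∀ k ∈ K z, ∀ g ∈ L, k * g * k⁻¹ ∈ L := by
    intro z k hk g hg
    rw [hmemL]
    intro i
    obtain ⟨j, hj⟩ := h.KB z k⁻¹ (inv_mem hk) i
    have h1 := (hj g).1 ((hmemL g).1 hg j)
    rwa [inv_inv] at h1
  have hKN : ∀ z, ∀ k ∈ K z, ∀ n ∈ N, k * n * k⁻¹ ∈ N := by
    intro z k hk n hn
    have hkC : k ∈ normalizer (C : Set G) := h.KC z hk
    have hle : N.map (MulAut.conj k).toMonoidHom ≤ N := by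
      refine hNmax _ ?_ ?_ ?_
      · rintro _ ⟨g, hg, rfl⟩
        exact (mem_normalizer_iff.1 hkC g).1 (hNC hg)
      · refine norm_of fun c hc => ?_
        rintro _ ⟨g, hg, rfl⟩
        refine ⟨(k⁻¹ * c * k) * g * (k⁻¹ * c * k)⁻¹, conj_mem hNn ?_ hg, ?_⟩
        · have := (mem_normalizer_iff.1 (inv_mem hkC) c).1 hc
          rwa [inv_inv] at this
        · simp only [MulEquiv.coe_toMonoidHom, MulAut.conj_apply]
          group
      · rintro _ ⟨g, hg, rfl⟩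
        obtain ⟨m, hm⟩ := hNpow g hg
        refine ⟨m, ?_⟩
        rw [← map_pow]
        exact hKL z k hk _ hm
    exact hle ⟨n, hn, rfl⟩
  have hTN : ∀ i, T i ≤ N := fun i => hNmax _ ((h.T_le i).trans (h.B_le i)) (h.T_norm i) fun g hg => by
    obtain ⟨m, hm⟩ := h.T_pow hg
    exact ⟨m, by rw [hm]; exact one_mem _⟩
  -- (7)
  have s7 : ∀ {x z : ι}, x ≠ z → ∀ y, y ≠ z → ∀ g ∈ B x, ∃ g' ∈ B y, g⁻¹ * g' ∈ N := by
    intro x z hxz y hyz g hg
    obtain ⟨k, hk, hk1, hk2⟩ := h.move z x y hxz hyz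
    refine ⟨k * g * k⁻¹, (hk1 g).1 hg, ?_⟩
    have hgC : g ∈ C := h.B_le x hg
    have hgR : g ∈ R := hBR x hg
    have hkgR : k * g * k⁻¹ ∈ R := hBR y ((hk1 g).1 hg)
    have huK : g⁻¹ * (k * g * k⁻¹) ∈ K z := by
      have e : g⁻¹ * (k * g * k⁻¹) = (g⁻¹ * k * g⁻¹⁻¹) * k⁻¹ := by group
      rw [e]
      exact mul_mem (conj_mem (h.K_norm z) (inv_mem hgC) hk) (inv_mem hk)
    set u := g⁻¹ * (k * g * k⁻¹) with hu
    have huR : u ∈ R := mul_mem (inv_mem hgR) hkgR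
    have huu : u * u ∈ B z := h.sq z u huK
    -- `u ∈ B z N`
    obtain ⟨b, hb, hbu⟩ : ∃ b ∈ B z, b⁻¹ * u ∈ N := by
      obtain ⟨m, hm⟩ := exists_odd (π ⟨u, hRC huR⟩)
      have h1 : u ^ (2 ^ m) ∈ R := pow_mem huR _
      have h2 : Odd (orderOf (π ⟨u, hRC huR⟩)) := by
        -- a power of 2 of `u` has odd order; the 2-part dies
        obtain ⟨j, hj⟩ := hm
        have h3 : (u ^ (orderOf (π ⟨u, hRC huR⟩ ^ 2 ^ m))) ∈ N := by
          refine n5 _ (pow_mem huR _) m ?_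
          have h4 : ((π ⟨u, hRC huR⟩) ^ (2 ^ m)) ^ (orderOf (π ⟨u, hRC huR⟩ ^ 2 ^ m)) = 1 := pow_orderOf_eq_one _
          rw [← pow_mul, ← map_pow, hker] at h4
          rw [← pow_mul, mul_comm]
          simpa using h4
        have h4 : (π ⟨u, hRC huR⟩) ^ (orderOf (π ⟨u, hRC huR⟩ ^ 2 ^ m)) = 1 := by
          rw [← map_pow, hker]
          simpa using h3
        exact (Odd.of_dvd_nat ⟨j, hj⟩ (orderOf_dvd_of_pow_eq_one h4))
      have h3 : (π ⟨u, hRC huR⟩) ^ (2 ^ 1) ∈ ((B z).subgroupOf C).map π := by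
        rw [pow_one, pow_two, ← map_mul]
        exact ⟨_, mem_subgroupOf.2 (by simpa using huu), rfl⟩
      obtain ⟨b, hb, hbe⟩ := mem_of_odd h2 h3
      refine ⟨b, mem_subgroupOf.1 hb, ?_⟩
      have h4 : π (b⁻¹ * ⟨u, hRC huR⟩) = 1 := by
        rw [map_mul, map_inv, hbe, inv_mul_cancel]
      exact (hker _).1 h4
    have hbC : b ∈ C := h.B_le z hb
    set n := b⁻¹ * u with hn
    have hub : u = b * n := by rw [hn]; group
    -- `k² g k⁻² = g b n (k b k⁻¹) (k n k⁻¹)`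
    have h1 : k * b * k⁻¹ * b⁻¹ ∈ N := hTN z (hk2 b hb)
    have h2 : k * n * k⁻¹ ∈ N := hKN z k hk n hbu
    have h3 : (k * k) * g * (k * k)⁻¹ * g⁻¹ ∈ N := s6 _ (hBR z (h.sq z k hk)) g hgR
    have hkg : k * g * k⁻¹ = g * (b * n) := by rw [← hub, hu]; group
    have h4 : (k * k) * g * (k * k)⁻¹ = g * (b * n) * (k * b * k⁻¹ * (k * n * k⁻¹)) := by
      have e : (k * k) * g * (k * k)⁻¹ = (k * g * k⁻¹) * (k * (g⁻¹ * (k * g * k⁻¹)) * k⁻¹) := by group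
      rw [e, hkg]
      group
    have hkn : k * b * k⁻¹ = (k * b * k⁻¹ * b⁻¹) * b := by group
    -- `g b² g⁻¹ ∈ N`
    have h5 : b * b ∈ N := by
      set s := k * b * k⁻¹ * b⁻¹ with hs
      rw [h4, hkn] at h3
      -- `h3 : g * (b * n) * (s * b * (k n k⁻¹)) * g⁻¹ ∈ N`
      have h6 := conj_mem hNn (inv_mem hgC) h3
      have e : g⁻¹ * (g * (b * n) * (s * b * (k * n * k⁻¹)) * g⁻¹) * g⁻¹⁻¹ = b * n * s * b * (k * n * k⁻¹) := by group
      rw [e] at h6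
      have h7 : b * n * s * b ∈ N := by
        have := mul_mem h6 (inv_mem h2)
        rwa [mul_inv_cancel_right] at this
      have h8 : b * (n * s) * b⁻¹ ∈ N := conj_mem hNn hbC (mul_mem hbu h1)
      have h9 := mul_mem (inv_mem h8) h7
      have e2 : (b * (n * s) * b⁻¹)⁻¹ * (b * n * s * b) = b * b := by group
      rwa [e2] at h9
    have h6 : b ∈ N := n5 b (hBR z hb) 1 (by rw [pow_one, pow_two]; exact h5)
    rw [hub]
    exact mul_mem h6 hbu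
  -- (8)
  have s8 : ∀ x, B x ≤ N := by
    intro x g hg
    obtain ⟨y, hy, -⟩ := h.third x x
    obtain ⟨z, hzx, hzy⟩ := h.third x y
    obtain ⟨g', hg', hn⟩ := s7 hzx.symm y hzy.symm g hg
    -- `g = g' n⁻¹`
    set n := (g⁻¹ * g')⁻¹ with hndef
    have hn' : n ∈ N := inv_mem hn
    have e : g = g' * n := by rw [hndef]; group
    obtain ⟨m, hm⟩ := hNpow n hn'
    have h1 := pow_mod (h.BK y hg') (h.K_norm y (hNC hn')) (2 ^ m)
    rw [← e] at h1
    have h2 : g ^ (2 ^ m) ∈ K y := by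
      have h3 := mul_mem h1 (h.BK y (hLB y hm))
      rwa [inv_mul_cancel_right] at h3
    exact n5 g (hBR x hg) m (s4 hy.symm ⟨pow_mem hg _, h2⟩)
  obtain ⟨m, hm⟩ := hNpow b (s8 x hb)
  exact hLB y (mem_of_odd hodd hm)

end Cfsg.Agent.Omega.NO3S.OneQ.QAbs
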