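import Cfsg.Agent.Omega.NO3S.OneQ.Co
import Cfsg.Agent.Omega.NO3S.OneQ.QAbs
import Cfsg.Agent.ZN.Block

/-!
# NO-3S, `OneQ`: LEMMA Q+ (bb OMEGA #18518, #17833 (2))

`W_X = ws V X`, `K_X = kx V X`, `X` a point of the line `V`.

* `lx V Z X` : `L_X`, generated by the `N_G(X)`-conjugates of the `W_Y`, `Y ≠ X` a point of `V`;
* `One.lx_o2` : `L_X` centralises `C_G(W_X) / O_2(C_G(W_X))`;
* `Co.exists_kl` : `K_Z ∩ L_Z` induces the full root group on `V`;
* `Co.two_cent` : `C_G(W_X)` is a 2-group; `Co.two_kx` : `K_X` is a 2-group; `Co.kx_eq` : `K_X = O_2(C_G(X))`;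
  `Co.yl_le_o2` : `⟨K_X ∩ C_G(V)⟩ ≤ O_2(C_G(V))`.
-/

set_option autoImplicit false
set_option linter.unusedSectionVars false

namespace Cfsg.Agent.Omega.NO3S.OneQ

open Subgroup Cfsg.Agent.Omega.NO3S.PT Cfsg.Agent.Omega.NoFF.Basic
open Cfsg.Agent.ZN (o2)
open Cfsg.Agent.ZN.Block (le_o2 o2_le o2_isPGroup le_normalizer_o2)
open scoped Pointwise

variable {G : Type*} [Group G]

/-! ### general lemmas -/

theorem norm_cent {A : Subgroup G} : normalizer (A : Set G) ≤ normalizer ((centralizer (A : Set G) : Subgroup G) : Set G) := by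
  intro g hg
  rw [← cj_eq_iff, cj_centralizer, cj_eq_iff.2 hg]

theorem q_norm_o2 {A : Subgroup G} : normalizer (A : Set G) ≤ normalizer ((o2 A : Subgroup G) : Set G) := by
  have key : ∀ g ∈ normalizer (A : Set G), PT.cj g (o2 A) ≤ o2 A := by
    intro g hg
    have h1 : PT.cj g A = A := cj_eq_iff.2 hg
    refine le_o2 ((o2_isPGroup A).map _) ?_ ?_
    · have := cj_le_cj (g := g) |>.2 (o2_le A)
      rwa [h1] at this
    · have h2 := cj_le_cj (g := g) |>.2 (le_normalizer_o2 A)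
      rwa [h1, cj_normalizer] at h2
  intro g hg
  rw [← cj_eq_iff]
  refine le_antisymm (key g hg) ?_
  rw [le_cj_iff]
  exact key g⁻¹ (inv_mem hg)

/-- characteristic 2 type -/
theorem mem_o2_of_c2 (hG : IsCharacteristicTwoType G) {T : Subgroup G} (hT : IsPGroup 2 T) (hne : T ≠ ⊥) {c : G}
    (hc : c ∈ normalizer (T : Set G)) (hcc : ∀ x ∈ o2 (normalizer (T : Set G)), c * x = x * c) :
    c ∈ o2 (normalizer (T : Set G)) := by
  have h1 := hG.2 T hT hne
  have h2 : (⟨c, hc⟩ : normalizer (T : Set G)) ∈ centralizer (pCore 2 (normalizer (T : Set G)) : Set _) := by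
    rw [mem_centralizer_iff]
    intro x hx
    apply Subtype.ext
    exact (hcc x ⟨x, hx, rfl⟩).symm
  exact ⟨_, h1 h2, rfl⟩

/-- the subgroup generated by the elements of odd order of `A` -/
def od (A : Subgroup G) : Subgroup G := closure {g | g ∈ A ∧ Odd (orderOf g)}

theorem od_le (A : Subgroup G) : od A ≤ A := (closure_le _).2 fun _ hg => hg.1

theorem mem_od {A : Subgroup G} {g : G} (hg : g ∈ A) (ho : Odd (orderOf g)) : g ∈ od A := subset_closure ⟨hg, ho⟩

theorem orderOf_conj' (c g : G) : orderOf (c * g * c⁻¹) = orderOf g := by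
  have := orderOf_injective (MulAut.conj c).toMonoidHom (MulAut.conj c).injective g
  simpa using this

theorem od_conj {A : Subgroup G} {c g : G} (hc : ∀ a ∈ A, Odd (orderOf a) → c * a * c⁻¹ ∈ A) (hg : g ∈ od A) :
    c * g * c⁻¹ ∈ od A := by
  have h1 : od A ≤ (od A).comap (MulAut.conj c).toMonoidHom := by
    refine (closure_le _).2 fun a ha => ?_
    exact mem_od (hc a ha.1 ha.2) (by
      rw [MulEquiv.coe_toMonoidHom, MulAut.conj_apply, orderOf_conj']
      exact ha.2)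
  exact h1 hg

theorem norm_od {A : Subgroup G} : normalizer (A : Set G) ≤ normalizer ((od A : Subgroup G) : Set G) :=
  QAbs.norm_of fun _ hc _ hn => od_conj (fun a ha _ => (mem_normalizer_iff.1 hc a).1 ha) hn

theorem isP_of_od [Finite G] {A : Subgroup G} (h : od A = ⊥) : IsPGroup 2 A := by
  rintro ⟨g, hg⟩
  obtain ⟨m, hm⟩ := QAbs.exists_odd g
  have h1 := mem_od (pow_mem hg (2 ^ m)) hm
  rw [h, mem_bot] at h1
  exact ⟨m, Subtype.ext h1⟩

/-- `L_X` -/
def lx (V Z X : Subgroup G) : Subgroup G :=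
  closure {g | ∃ c ∈ normalizer (X : Set G), ∃ Y, Pnt V Z Y ∧ Y ≠ X ∧ c⁻¹ * g * c ∈ ws V Y}

theorem W_le_lx {V Z X Y : Subgroup G} (hY : Pnt V Z Y) (hne : Y ≠ X) : ws V Y ≤ lx V Z X := fun g hg =>
  subset_closure ⟨1, one_mem _, Y, hY, hne, by simpa using hg⟩

theorem norm_lx (V Z X : Subgroup G) : normalizer (X : Set G) ≤ normalizer ((lx V Z X : Subgroup G) : Set G) := by
  refine QAbs.norm_of fun n hn g hg => ?_
  have h1 : lx V Z X ≤ (lx V Z X).comap (MulAut.conj n).toMonoidHom := by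
    refine (closure_le _).2 ?_
    rintro a ⟨c, hc, Y, hY, hne, ha⟩
    refine subset_closure ⟨n * c, mul_mem hn hc, Y, hY, hne, ?_⟩
    have e : (n * c)⁻¹ * ((MulAut.conj n).toMonoidHom a) * (n * c) = c⁻¹ * a * c := by
      rw [MulEquiv.coe_toMonoidHom, MulAut.conj_apply]; group
    rw [e]; exact ha
  exact h1 hg

theorem cj_lx {V Z X : Subgroup G} {p : G} (hp : p ∈ normalizer (V : Set G)) {g : G} (hg : g ∈ lx V Z X) :
    p * g * p⁻¹ ∈ lx V Z (PT.cj p X) := by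
  have h1 : lx V Z X ≤ (lx V Z (PT.cj p X)).comap (MulAut.conj p).toMonoidHom := by
    refine (closure_le _).2 ?_
    rintro a ⟨c, hc, Y, hY, hne, ha⟩
    refine subset_closure ⟨p * c * p⁻¹, ?_, PT.cj p Y, hY.conj hp, fun e => hne (cj_inj.1 e), ?_⟩
    · rw [← cj_normalizer]
      exact conj_mem_cj hc
    · have e : (p * c * p⁻¹)⁻¹ * ((MulAut.conj p).toMonoidHom a) * (p * c * p⁻¹) = p * (c⁻¹ * a * c) * p⁻¹ := by
        rw [MulEquiv.coe_toMonoidHom, MulAut.conj_apply]; group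
      rw [e, ws_cj]
      exact conj_mem_cj ha
  exact h1 hg

namespace One

variable [Finite G] {S : Sylow 2 G} {B P V Z : Subgroup G} (h : One S B P V Z)
include h

theorem lx_le_C {X : Subgroup G} (hX : Pnt V Z X) : lx V Z X ≤ centralizer (X : Set G) := by
  refine (closure_le _).2 ?_
  rintro a ⟨c, hc, Y, hY, hne, ha⟩
  have h1 : c⁻¹ * a * c ∈ centralizer (X : Set G) := centralizer_le hX.le (h.W_le_cent hY ha)
  have h2 := (mem_normalizer_iff.1 (norm_cent hc) _).1 h1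
  have e : c * (c⁻¹ * a * c) * c⁻¹ = a := by group
  rwa [e] at h2

/-- `L_X` centralises `C_G(W_X) / O_2(C_G(W_X))` -/
theorem lx_o2 {X : Subgroup G} (hX : Pnt V Z X) {g b : G} (hg : g ∈ lx V Z X)
    (hb : b ∈ centralizer ((ws V X : Subgroup G) : Set G)) :
    g * b * g⁻¹ * b⁻¹ ∈ o2 (centralizer ((ws V X : Subgroup G) : Set G)) := by
  set D := centralizer ((ws V X : Subgroup G) : Set G) with hD
  have hDV : D ≤ centralizer (V : Set G) := centralizer_le (h.V_le_W hX)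
  have hND : normalizer (X : Set G) ≤ normalizer (D : Set G) := (normalizer_le_ws V X).trans norm_cent
  have hVD : centralizer (V : Set G) ≤ normalizer (D : Set G) := (h.cent_norm_W hX).trans norm_cent
  -- the points `Y`
  have hW : ∀ Y, Pnt V Z Y → ws V Y ⊓ D ≤ o2 D := by
    intro Y hY
    refine le_o2 ?_ inf_le_right ?_
    · rintro ⟨w, hw⟩
      exact ⟨1, Subtype.ext (by
        have := h.sq_W hY hw.1
        simpa [pow_two] using this)⟩
    · refine (hDV.trans ?_)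
      refine QAbs.norm_of fun c hc n hn => ⟨QAbs.conj_mem (h.cent_norm_W hY) hc hn.1, QAbs.conj_mem hVD hc hn.2⟩
  have hlN : lx V Z X ≤ normalizer ((o2 D : Subgroup G) : Set G) :=
    (h.lx_le_C hX).trans ((centralizer_le_normalizer _).trans (hND.trans q_norm_o2))
  have hlD : lx V Z X ≤ normalizer (D : Set G) :=
    (h.lx_le_C hX).trans ((centralizer_le_normalizer _).trans hND)
  have key : lx V Z X ≤
      { carrier := {g | g ∈ lx V Z X ∧ ∀ b ∈ D, g * b * g⁻¹ * b⁻¹ ∈ o2 D}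
        one_mem' := ⟨one_mem _, fun b _ => by
          have : (1 : G) * b * 1⁻¹ * b⁻¹ = 1 := by group
          rw [this]; exact one_mem _⟩
        mul_mem' := by
          rintro x y ⟨hx, hx'⟩ ⟨hy, hy'⟩
          refine ⟨mul_mem hx hy, fun b hb => ?_⟩
          have e : x * y * b * (x * y)⁻¹ * b⁻¹ = (x * (y * b * y⁻¹ * b⁻¹) * x⁻¹) * (x * b * x⁻¹ * b⁻¹) := by group
          rw [e]
          exact mul_mem (QAbs.conj_mem hlN hx (hy' b hb)) (hx' b hb)
        inv_mem' := by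
          rintro x ⟨hx, hx'⟩
          refine ⟨inv_mem hx, fun b hb => ?_⟩
          have e : x⁻¹ * b * x⁻¹⁻¹ * b⁻¹ = x⁻¹ * (x * b * x⁻¹ * b⁻¹)⁻¹ * x⁻¹⁻¹ := by group
          rw [e]
          exact QAbs.conj_mem hlN (inv_mem hx) (inv_mem (hx' b hb)) : Subgroup G } := by
    refine (closure_le _).2 ?_
    rintro a ⟨c, hc, Y, hY, hne, ha⟩
    refine ⟨subset_closure ⟨c, hc, Y, hY, hne, ha⟩, fun b hb => ?_⟩
    have hb' : c⁻¹ * b * c ∈ D := by
      have := (mem_normalizer_iff.1 (inv_mem (hND hc)) b).1 hb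
      rwa [inv_inv] at this
    set u := c⁻¹ * a * c with hu
    have h1 : u * (c⁻¹ * b * c) * u⁻¹ * (c⁻¹ * b * c)⁻¹ ∈ ws V Y ⊓ D := by
      refine mem_inf.2 ⟨?_, ?_⟩
      · have e : u * (c⁻¹ * b * c) * u⁻¹ * (c⁻¹ * b * c)⁻¹ = u * ((c⁻¹ * b * c) * u⁻¹ * (c⁻¹ * b * c)⁻¹) := by group
        rw [e]
        exact mul_mem ha (QAbs.conj_mem (h.cent_norm_W hY) (hDV hb') (inv_mem ha))
      · exact mul_mem (QAbs.conj_mem hVD (h.W_le_cent hY ha) hb') (inv_mem hb')
    have h2 := QAbs.conj_mem (hND.trans q_norm_o2) hc (hW Y hY h1)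
    have e : c * (u * (c⁻¹ * b * c) * u⁻¹ * (c⁻¹ * b * c)⁻¹) * c⁻¹ = a * b * a⁻¹ * b⁻¹ := by
      rw [hu]; group
    rwa [e] at h2
  exact (key hg).2 b hb

/-- `K_X² ≤ C_G(W_X)` -/
theorem K_sq {X : Subgroup G} (hX : Pnt V Z X) {k : G} (hk : k ∈ kx V X) :
    k * k ∈ centralizer ((ws V X : Subgroup G) : Set G) := by
  rw [mem_centralizer_iff]
  intro w hw
  have h1 := (mem_kx.1 hk).2 w hw
  set x := k * w * k⁻¹ * w⁻¹ with hx
  have h2 := (mem_kx.1 hk).1 x h1
  have h3 : x * x = 1 := h.sq_W hX (h.V_le_W hX (hX.le h1))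
  have h4 : k * w * k⁻¹ = x * w := by rw [hx]; group
  have h5 : k * x * k⁻¹ = x := by rw [h2]; group
  have h6 : (k * k) * w * (k * k)⁻¹ = w := by
    calc (k * k) * w * (k * k)⁻¹ = k * (k * w * k⁻¹) * k⁻¹ := by group
      _ = k * (x * w) * k⁻¹ := by rw [h4]
      _ = (k * x * k⁻¹) * (k * w * k⁻¹) := by group
      _ = (x * x) * w := by rw [h4, h5]; group
      _ = w := by rw [h3, one_mul]
  rw [mul_inv_eq_iff_eq_mul] at h6
  exact h6.symm

theorem cent_W_le_K {X : Subgroup G} (hX : Pnt V Z X) : centralizer ((ws V X : Subgroup G) : Set G) ≤ kx V X := by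
  intro b hb
  rw [mem_kx]
  refine ⟨fun x hx => (mem_centralizer_iff.1 hb x (h.V_le_W hX (hX.le hx))).symm, fun w hw => ?_⟩
  rw [(mem_centralizer_iff.1 hb w hw).symm, mul_inv_cancel_right, mul_inv_cancel]
  exact one_mem _

/-- a third point -/
theorem third {X Y : Subgroup G} (hX : Pnt V Z X) (hY : Pnt V Z Y) : ∃ T, Pnt V Z T ∧ T ≠ X ∧ T ≠ Y := by
  by_cases hne : X = Y
  · obtain ⟨T, h1, h2⟩ := h.exists_ne hX
    exact ⟨T, h1, h2, hne ▸ h2⟩
  · obtain ⟨T, h1, h2, h3, h4⟩ := h.pl.exists_third hX.cj hX.le hY.cj hY.le hne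
    exact ⟨T, ⟨h1, h2⟩, h3, h4⟩

end One

namespace Co

variable [Finite G] {F : Type*} [Field F] [Finite F] [CharP F 2] {S : Sylow 2 G} {B P V Z : Subgroup G}
  (h : Co F S B P V Z)
include h

/-- `K_Z ∩ L_Z` does not centralise `V` -/
theorem exists_kl_ne : ∃ k ∈ kx V Z, k ∈ lx V Z Z ∧ k ∉ centralizer (V : Set G) := by
  by_contra hcon
  push Not at hcon
  have hCK : centralizer (Z : Set G) ≤ normalizer ((kx V Z : Subgroup G) : Set G) :=
    (centralizer_le_normalizer _).trans (normalizer_le_kx V Z)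
  have hCl : centralizer (Z : Set G) ≤ normalizer ((lx V Z Z : Subgroup G) : Set G) :=
    (centralizer_le_normalizer _).trans (norm_lx V Z Z)
  -- `R = K ∩ L` centralises `W_Z`
  have hR : ∀ r ∈ kx V Z, r ∈ lx V Z Z → r ∈ centralizer ((ws V Z : Subgroup G) : Set G) := by
    intro r hr hr'
    have h1 : ws V Z ≤ centralizer ((kx V Z ⊓ lx V Z Z : Subgroup G) : Set G) := by
      refine h.W_le_of_V ?_ ?_
      · intro v hv
        rw [mem_centralizer_iff]
        intro x hx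
        exact (mem_centralizer_iff.1 (hcon x hx.1 hx.2) v hv).symm
      · refine le_trans ?_ norm_cent
        exact QAbs.norm_of fun c hc n hn => ⟨QAbs.conj_mem hCK hc hn.1, QAbs.conj_mem hCl hc hn.2⟩
    rw [mem_centralizer_iff]
    intro w hw
    exact (mem_centralizer_iff.1 (h1 hw) r ⟨hr, hr'⟩).symm
  -- `D = C_{W_Z}(K_Z)`
  have hD : h.Inv (ws V Z ⊓ centralizer ((kx V Z : Subgroup G) : Set G)) := by
    refine Inv.of_normZ (le_inf (h.one.self.le.trans (h.one.V_le_W h.one.self)) ?_) ?_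
    · intro z hz
      rw [mem_centralizer_iff]
      intro k hk
      exact (mem_kx.1 hk).1 z hz
    · exact QAbs.norm_of fun c hc n hn => ⟨QAbs.conj_mem (normalizer_le_ws V Z) hc hn.1,
        QAbs.conj_mem ((normalizer_le_kx V Z).trans norm_cent) hc hn.2⟩
  have hVD := h.V_le_of_comm hD h.pY h.Yp_ne (fun w hw u hu => by
    have hWI := h.one.comm_mem h.one.self h.pY h.Yp_ne.symm hw hu
    refine mem_inf.2 ⟨h.one.I_le_W h.one.self hWI, ?_⟩
    rw [mem_centralizer_iff]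
    intro k hk
    have huC : u ∈ centralizer (Z : Set G) := centralizer_le h.one.self.le (h.one.W_le_cent h.pY hu)
    -- `c = [k, u]`
    have hc : k * u * k⁻¹ * u⁻¹ ∈ centralizer ((ws V Z : Subgroup G) : Set G) := by
      refine hR _ ?_ ?_
      · have e : k * u * k⁻¹ * u⁻¹ = k * (u * k⁻¹ * u⁻¹) := by group
        rw [e]
        exact mul_mem hk (QAbs.conj_mem hCK huC (inv_mem hk))
      · have hul : u ∈ lx V Z Z := W_le_lx h.pY h.Yp_ne hu
        exact mul_mem (QAbs.conj_mem hCl (kx_le_cent hk) hul) (inv_mem hul)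
    set c := k * u * k⁻¹ * u⁻¹ with hcdef
    have hkw := (mem_kx.1 hk).2 w hw
    set z := k * w * k⁻¹ * w⁻¹ with hz
    have h1 : k * w * k⁻¹ = z * w := by rw [hz]; group
    have h2 : k * u * k⁻¹ = c * u := by rw [hcdef]; group
    have hwu : u * w * u⁻¹ ∈ ws V Z := (mem_normalizer_iff.1 (h.one.cent_norm_W h.one.self (h.one.W_le_cent h.pY hu)) w).1 hw
    have hzu : u * z = z * u := (mem_centralizer_iff.1 huC z hkw).symm
    have hzW : z ∈ ws V Z := h.one.V_le_W h.one.self (h.one.self.le hkw)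
    have hcc : ∀ y ∈ ws V Z, c * y * c⁻¹ = y := fun y hy => by
      rw [(mem_centralizer_iff.1 hc y hy).symm, mul_inv_cancel_right]
    have h3 : k * (u * w * u⁻¹) * k⁻¹ = z * (u * w * u⁻¹) := by
      calc k * (u * w * u⁻¹) * k⁻¹ = (k * u * k⁻¹) * (k * w * k⁻¹) * (k * u * k⁻¹)⁻¹ := by group
        _ = c * (u * z * w * u⁻¹) * c⁻¹ := by rw [h1, h2]; group
        _ = c * (z * (u * w * u⁻¹)) * c⁻¹ := by rw [hzu]; group
        _ = z * (u * w * u⁻¹) := hcc _ (mul_mem hzW hwu)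
    have h4 : k * (w * u * w⁻¹ * u⁻¹) * k⁻¹ = w * u * w⁻¹ * u⁻¹ := by
      calc k * (w * u * w⁻¹ * u⁻¹) * k⁻¹ = (k * w * k⁻¹) * (k * (u * w * u⁻¹) * k⁻¹)⁻¹ := by group
        _ = z * (w * (u * w * u⁻¹)⁻¹) * z⁻¹ := by rw [h1, h3]; group
        _ = (w * (u * w * u⁻¹)⁻¹) * z * z⁻¹ := by
          rw [h.one.comm_W h.one.self.cj hzW (mul_mem hw (inv_mem hwu))]
        _ = w * u * w⁻¹ * u⁻¹ := by group
    rw [mul_inv_eq_iff_eq_mul] at h4
    exact h4)
  apply h.one.hf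
  intro k hk
  rw [mem_centralizer_iff]
  intro v hv
  exact (mem_centralizer_iff.1 (hVD hv).2 k hk).symm

/-- `K_Z ∩ L_Z` induces the full root group on `V` -/
theorem exists_kl (t : F) : ∃ k ∈ kx V Z, k ∈ lx V Z Z ∧ ∀ x y, k * h.e x y * k⁻¹ = h.e (x + t * y) y := by
  obtain ⟨r, hr, hrl, hrV⟩ := h.exists_kl_ne
  obtain ⟨s, hs⟩ := h.K_tv hr
  have hs0 : s ≠ 0 := by
    rintro rfl
    apply hrV
    refine h.mem_cent fun a b => ?_
    rw [hs, zero_mul, add_zero]
  by_cases ht : t = 0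
  · refine ⟨1, one_mem _, one_mem _, fun x y => ?_⟩
    rw [ht, zero_mul, add_zero]; group
  -- `t = ζ² s`
  obtain ⟨ζ, hζ⟩ : ∃ ζ : F, ζ * ζ = t * s⁻¹ := by
    have := Fintype.ofFinite F
    have h1 : IsSquare (t * s⁻¹) := FiniteField.isSquare_of_char_two (CharP.eq F ‹CharP F 2› (ringChar.charP F) ▸ rfl) _
    obtain ⟨ζ, hζ⟩ := h1
    exact ⟨ζ, hζ.symm⟩
  have hζ0 : ζ ≠ 0 := by
    rintro rfl
    rw [mul_zero] at hζ
    exact mul_ne_zero ht (inv_ne_zero hs0) hζ.symm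
  obtain ⟨τ, hτ⟩ := h.exists_tor hζ0
  have hτZ := hτ.norm_Z hζ0
  refine ⟨τ * r * τ⁻¹, (mem_normalizer_iff.1 (normalizer_le_kx V Z hτZ) r).1 hr,
    (mem_normalizer_iff.1 (norm_lx V Z Z hτZ) r).1 hrl, fun x y => ?_⟩
  have hτ' : τ⁻¹ * h.e x y * τ = h.e (ζ⁻¹ * x) (ζ * y) := by
    have h1 := hτ.act (ζ⁻¹ * x) (ζ * y)
    rw [mul_inv_cancel_left₀ hζ0, inv_mul_cancel_left₀ hζ0] at h1
    rw [← h1]; group
  have e : τ * r * τ⁻¹ * h.e x y * (τ * r * τ⁻¹)⁻¹ = τ * (r * (τ⁻¹ * h.e x y * τ) * r⁻¹) * τ⁻¹ := by group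
  rw [e, hτ', hs, hτ.act]
  congr 1
  · have h1 : ζ * ζ * s = t := by rw [hζ, inv_mul_cancel_right₀ hs0]
    rw [mul_add, mul_inv_cancel_left₀ hζ0, ← h1]
    ring
  · rw [inv_mul_cancel_left₀ hζ0]

/-- every element of `K_X` acts on `V` as an element of `K_X ∩ L_X` -/
theorem exists_kl_pt {X : Subgroup G} (hX : Pnt V Z X) {k : G} (hk : k ∈ kx V X) :
    ∃ l ∈ kx V X, l ∈ lx V Z X ∧ l⁻¹ * k ∈ centralizer (V : Set G) := by
  obtain ⟨p, hp, rfl⟩ := h.one.pl.exists_pt hX.cj hX.le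
  have hpV : p ∈ normalizer (V : Set G) := h.one.pl.PN hp
  have hk' : p⁻¹ * k * p ∈ kx V Z := by
    rw [← mem_cj, ← kx_cj]
    exact hk
  obtain ⟨t, ht⟩ := h.K_tv hk'
  obtain ⟨l, hl, hll, hle⟩ := h.exists_kl t
  refine ⟨p * l * p⁻¹, ?_, cj_lx hpV hll, ?_⟩
  · rw [kx_cj]
    exact conj_mem_cj hl
  · have h1 : l⁻¹ * (p⁻¹ * k * p) ∈ centralizer (V : Set G) := by
      refine h.mem_cent fun a b => ?_
      have e : l⁻¹ * (p⁻¹ * k * p) * h.e a b * (l⁻¹ * (p⁻¹ * k * p))⁻¹ =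
        l⁻¹ * (p⁻¹ * k * p * h.e a b * (p⁻¹ * k * p)⁻¹) * l := by group
      rw [e, ht, ← hle]; group
    have h2 := QAbs.conj_mem (norm_cent (A := V)) hpV h1
    have e : p * (l⁻¹ * (p⁻¹ * k * p)) * p⁻¹ = (p * l * p⁻¹)⁻¹ * k := by group
    rwa [e] at h2

/-- LEMMA Q+ (q1), (q2): the elements of odd order of `C_G(W_X)` lie in `C_G(W_Y)` -/
theorem odd_cent {X Y : Subgroup G} (hX : Pnt V Z X) (hY : Pnt V Z Y) {b : G}
    (hb : b ∈ centralizer ((ws V X : Subgroup G) : Set G)) (hodd : Odd (orderOf b)) :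
    b ∈ centralizer ((ws V Y : Subgroup G) : Set G) := by
  have hB : ∀ X : Subgroup G, Pnt V Z X → centralizer (V : Set G) ≤
      normalizer ((centralizer ((ws V X : Subgroup G) : Set G) : Subgroup G) : Set G) := fun X hX =>
    (h.one.cent_norm_W hX).trans norm_cent
  have hcj : ∀ (k : G) (X : Subgroup G) (g : G), g ∈ centralizer ((ws V X : Subgroup G) : Set G) ↔
      k * g * k⁻¹ ∈ centralizer ((ws V (PT.cj k X) : Subgroup G) : Set G) := by
    intro k X g
    rw [ws_cj, ← cj_centralizer, mem_cj]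
    have e : k⁻¹ * (k * g * k⁻¹) * k = g := by group
    rw [e]
  have hQD : QAbs.QD (ι := {X // Pnt V Z X}) (centralizer (V : Set G))
      (fun X => centralizer ((ws V X.1 : Subgroup G) : Set G)) (fun X => kx V X.1)
      (fun X => o2 (centralizer ((ws V X.1 : Subgroup G) : Set G))) := by
    refine ⟨?_, ?_, ?_, ?_, ?_, ?_, ?_, ?_, ?_, ?_, ?_, ?_⟩
    · exact fun X => centralizer_le (h.one.V_le_W X.2)
    · exact fun X => hB X.1 X.2
    · exact fun X => h.one.cent_norm_K X.2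
    · exact fun X => h.one.cent_W_le_K X.2
    · exact fun X k hk => h.one.K_sq X.2 hk
    · exact fun X => (h.one.K_norm X.2).trans norm_cent
    · rintro X k hk ⟨Y, hY⟩
      refine ⟨⟨PT.cj k Y, hY.conj (h.one.K_norm X.2 hk)⟩, fun g => ?_⟩
      rw [hcj k Y (k⁻¹ * g * k)]
      have e : k * (k⁻¹ * g * k) * k⁻¹ = g := by group
      rw [e]
    · exact fun X => o2_le _
    · exact fun X => o2_isPGroup _
    · exact fun X => (hB X.1 X.2).trans q_norm_o2
    · rintro ⟨T, hT⟩ ⟨X, hX⟩ ⟨Y, hY⟩ hXT hYT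
      obtain ⟨k, hk, hke⟩ := h.one.move hT hX hY (fun e => hXT (Subtype.ext e)) (fun e => hYT (Subtype.ext e))
      obtain ⟨l, hl, hll, hlk⟩ := h.exists_kl_pt hT hk
      have hle : PT.cj l X = Y := by
        have h1 : PT.cj (l⁻¹ * k) X = X := h.one.cent_fix hX hlk
        rw [← cj_cj, hke] at h1
        rw [← h1, cj_cj, mul_inv_cancel, cj_one]
      refine ⟨l, hl, fun g => ?_, fun b hb => h.one.lx_o2 hT hll hb⟩
      have h1 := hcj l X g
      rw [hle] at h1
      exact h1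
    · rintro ⟨X, hX⟩ ⟨Y, hY⟩
      obtain ⟨T, hT, h1, h2⟩ := h.one.third hX hY
      exact ⟨⟨T, hT⟩, fun e => h1 (congrArg Subtype.val e), fun e => h2 (congrArg Subtype.val e)⟩
  exact hQD.main (x := ⟨X, hX⟩) (y := ⟨Y, hY⟩) hb hodd

/-- no 2-local contains `N_G(Z)` and `N_G(V)` -/
theorem not_local (hG : IsCharacteristicTwoType G) {U : Subgroup G} (hU : IsPGroup 2 U) (hne : U ≠ ⊥)
    (hUZ : centralizer (Z : Set G) ≤ normalizer (U : Set G)) (hUP : P ≤ normalizer (U : Set G)) : False := by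
  set O := o2 (normalizer (U : Set G)) with hO
  have hON : normalizer (U : Set G) ≤ normalizer (O : Set G) := le_normalizer_o2 _
  have hSU : (S : Subgroup G) ≤ normalizer (U : Set G) := h.one.pl.SP.trans hUP
  have hOS : O ≤ (S : Subgroup G) := by
    have h1 : IsPGroup 2 (O ⊔ (S : Subgroup G) : Subgroup G) :=
      IsPGroup.to_sup_of_normal_left' (o2_isPGroup _) S.isPGroup' (hSU.trans hON)
    have h2 := S.is_maximal' h1 le_sup_right
    exact le_sup_left.trans h2.le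
  set A := O ⊓ centralizer (O : Set G) with hA
  have hAN : normalizer (U : Set G) ≤ normalizer (A : Set G) := by
    refine hON.trans (QAbs.norm_of fun c hc n hn => ⟨QAbs.conj_mem le_rfl hc hn.1, QAbs.conj_mem norm_cent hc hn.2⟩)
  have hZA : Z ≤ A := by
    intro z hz
    by_cases hz1 : z = 1
    · rw [hz1]; exact one_mem _
    obtain ⟨k, hkP, hkZ, hks⟩ := h.one.pl.tor z hz hz1
    have h1 : k * z * k⁻¹ ∈ Z := (mem_normalizer_iff.1 hkZ z).1 hz
    have h2 : k * z * k⁻¹ ∈ normalizer (U : Set G) := hSU (h.one.pl.VS (h.one.pl.ZV h1))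
    have h3 : k * z * k⁻¹ ∈ O := mem_o2_of_c2 hG hU hne h2 fun x hx => (hks x (hOS hx)).symm
    have h4 : k * z * k⁻¹ ∈ A := ⟨h3, mem_centralizer_iff.2 fun x hx => hks x (hOS hx)⟩
    have h5 := (mem_normalizer_iff.1 (hAN (hUP (inv_mem hkP))) _).1 h4
    have e : k⁻¹ * (k * z * k⁻¹) * k⁻¹⁻¹ = z := by group
    rwa [e] at h5
  have hcjA : ∀ p ∈ P, PT.cj p A = A := fun p hp => cj_eq_iff.2 (hAN (hUP hp))
  have hVA : V ≤ A := by
    intro v hv
    by_cases hv1 : v = 1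
    · rw [hv1]; exact one_mem _
    obtain ⟨p, hp, hvp⟩ := h.one.pl.part v hv hv1
    rw [← hcjA p hp]
    exact cj_le_cj.2 hZA hvp
  have hWA : ws V Z ≤ A := h.W_le_of_V hVA (hUZ.trans hAN)
  obtain ⟨Y, hY, hYc⟩ := h.one.nc
  obtain ⟨p, hp, rfl⟩ := h.one.pl.exists_pt hY.cj hY.le
  apply hYc
  have hWA' : ws V (PT.cj p Z) ≤ A := by
    rw [ws_cj, ← hcjA p hp]
    exact cj_le_cj.2 hWA
  intro w hw
  rw [mem_centralizer_iff]
  exact fun u hu => (mem_centralizer_iff.1 (hWA hw).2 u (hWA' hu).1)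

/-- **LEMMA Q+** `C_G(W_Z)` is a 2-group -/
theorem two_cent' (hG : IsCharacteristicTwoType G) : IsPGroup 2 (centralizer ((ws V Z : Subgroup G) : Set G)) := by
  apply isP_of_od
  by_contra hne
  set D := centralizer ((ws V Z : Subgroup G) : Set G) with hD
  -- normalised by `N_G(Z)`, `N_G(V)`, `N_G(W_Z)`
  have h1 : normalizer (Z : Set G) ≤ normalizer ((od D : Subgroup G) : Set G) :=
    (normalizer_le_ws V Z).trans (norm_cent.trans norm_od)
  have h2 : normalizer ((ws V Z : Subgroup G) : Set G) ≤ normalizer ((od D : Subgroup G) : Set G) := norm_cent.trans norm_od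
  have h3 : normalizer (V : Set G) ≤ normalizer ((od D : Subgroup G) : Set G) := by
    refine QAbs.norm_of fun c hc n hn => od_conj (fun a ha hao => ?_) hn
    refine h.odd_cent (h.one.self.conj hc) h.one.self ?_ (by rw [orderOf_conj']; exact hao)
    rw [ws_cj, ← cj_centralizer]
    exact conj_mem_cj ha
  -- `O_2(od D) ≠ 1`
  have hWne : ws V Z ≠ ⊥ := by
    intro e
    obtain ⟨z, hz, hz1⟩ := h.one.pl.pt_ne_bot h.one.self.cj
    apply hz1
    have := h.one.V_le_W h.one.self (h.one.self.le hz)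
    rwa [e, mem_bot] at this
  have hW2 : IsPGroup 2 (ws V Z) := h.one.isP_B.to_le (h.one.W_le_B h.one.self)
  have hO2 : o2 (od D) ≠ ⊥ := by
    intro e
    set N := normalizer ((ws V Z : Subgroup G) : Set G) with hN
    have hDN : D ≤ N := centralizer_le_normalizer _
    have hoN : od D ≤ N := (od_le D).trans hDN
    have h4 : od D ⊓ o2 N ≤ ⊥ := by
      rw [← e]
      refine le_o2 ((o2_isPGroup N).to_le inf_le_right) inf_le_left ?_
      exact QAbs.norm_of fun c hc n hn => mem_inf.2 ⟨mul_mem (mul_mem hc hn.1) (inv_mem hc),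
        QAbs.conj_mem (le_normalizer_o2 N) (hoN hc) hn.2⟩
    apply hne
    rw [eq_bot_iff]
    intro g hg
    apply h4
    refine ⟨hg, mem_o2_of_c2 hG hW2 hWne (hoN hg) fun x hx => ?_⟩
    have hxN : x ∈ N := o2_le N hx
    have h5 : g * x * g⁻¹ * x⁻¹ ∈ od D ⊓ o2 N := by
      refine mem_inf.2 ⟨?_, mul_mem (QAbs.conj_mem (le_normalizer_o2 N) (hoN hg) hx) (inv_mem hx)⟩
      have e : g * x * g⁻¹ * x⁻¹ = g * (x * g⁻¹ * x⁻¹) := by group
      rw [e]
      exact mul_mem hg (QAbs.conj_mem h2 hxN (inv_mem hg))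
    have h6 := mem_bot.1 (h4 h5)
    rwa [mul_inv_eq_one, mul_inv_eq_iff_eq_mul] at h6
  refine h.not_local hG (o2_isPGroup (od D)) hO2 ?_ ?_
  · exact (centralizer_le_normalizer _).trans (h1.trans q_norm_o2)
  · exact h.one.pl.PN.trans (h3.trans q_norm_o2)

/-- **LEMMA Q+** `C_G(W_X)` is a 2-group -/
theorem two_cent (hG : IsCharacteristicTwoType G) {X : Subgroup G} (hX : IsCj Z X) :
    IsPGroup 2 (centralizer ((ws V X : Subgroup G) : Set G)) := by
  obtain ⟨g, rfl⟩ := hX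
  rw [ws_cj, ← cj_centralizer]
  exact (h.two_cent' hG).map _

/-- **LEMMA Q+** `K_X` is a 2-group -/
theorem two_kx (hG : IsCharacteristicTwoType G) {X : Subgroup G} (hX : IsCj Z X) : IsPGroup 2 (kx V X) := by
  obtain ⟨g, rfl⟩ := hX
  rw [kx_cj]
  refine IsPGroup.map ?_ _
  rintro ⟨k, hk⟩
  obtain ⟨m, hm⟩ := h.two_cent' hG ⟨k * k, h.one.K_sq h.one.self hk⟩
  refine ⟨m + 1, Subtype.ext ?_⟩
  have h1 := congrArg Subtype.val hm
  show k ^ (2 ^ (m + 1)) = 1
  rw [pow_succ, mul_comm, pow_mul, pow_two]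
  simpa using h1

/-- **LEMMA Q+** `K_X = O_2(C_G(X))` -/
theorem kx_eq (hG : IsCharacteristicTwoType G) {X : Subgroup G} (hX : IsCj Z X) :
    kx V X = o2 (centralizer (X : Set G)) := by
  have key : kx V Z = o2 (centralizer (Z : Set G)) := by
    refine le_antisymm ?_ ?_
    · exact le_o2 (h.two_kx hG h.one.self.cj) kx_le_cent ((centralizer_le_normalizer _).trans (normalizer_le_kx V Z))
    · intro k hk
      have hOn : centralizer (Z : Set G) ≤ normalizer ((o2 (centralizer (Z : Set G)) : Subgroup G) : Set G) :=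
        le_normalizer_o2 _
      have hOB : o2 (centralizer (Z : Set G)) ≤ B := by
        have h1 : IsPGroup 2 (o2 (centralizer (Z : Set G)) ⊔ B : Subgroup G) :=
          IsPGroup.to_sup_of_normal_left' (o2_isPGroup _) h.one.isP_B (h.one.B_le_C.trans hOn)
        exact le_sup_left.trans (h.one.max_B (sup_le (o2_le _) h.one.B_le_C) h1 le_sup_right)
      have hWm : ws V Z ≤
          { carrier := {w | w ∈ centralizer (Z : Set G) ∧ ∀ k ∈ o2 (centralizer (Z : Set G)), k * w * k⁻¹ * w⁻¹ ∈ Z}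
            one_mem' := ⟨one_mem _, fun k _ => by
              have : k * 1 * k⁻¹ * 1⁻¹ = 1 := by group
              rw [this]; exact one_mem _⟩
            mul_mem' := by
              rintro a b ⟨ha, ha'⟩ ⟨hb, hb'⟩
              refine ⟨mul_mem ha hb, fun k hk => ?_⟩
              have h1 := hb' k hk
              have h2 : a * (k * b * k⁻¹ * b⁻¹) = (k * b * k⁻¹ * b⁻¹) * a := (mem_centralizer_iff.1 ha _ h1).symm
              have e : k * (a * b) * k⁻¹ * (a * b)⁻¹ = (k * a * k⁻¹ * a⁻¹) * (a * (k * b * k⁻¹ * b⁻¹)) * a⁻¹ := by group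
              rw [e, h2]
              have e2 : (k * a * k⁻¹ * a⁻¹) * ((k * b * k⁻¹ * b⁻¹) * a) * a⁻¹ = (k * a * k⁻¹ * a⁻¹) * (k * b * k⁻¹ * b⁻¹) := by
                group
              rw [e2]
              exact mul_mem (ha' k hk) h1
            inv_mem' := by
              rintro a ⟨ha, ha'⟩
              refine ⟨inv_mem ha, fun k hk => ?_⟩
              have h1 := inv_mem (ha' k hk)
              have h2 : a * (k * a * k⁻¹ * a⁻¹)⁻¹ = (k * a * k⁻¹ * a⁻¹)⁻¹ * a := (mem_centralizer_iff.1 ha _ h1).symm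
              have e : k * a⁻¹ * k⁻¹ * a⁻¹⁻¹ = a⁻¹ * ((k * a * k⁻¹ * a⁻¹)⁻¹ * a) := by group
              rw [e, ← h2, inv_mul_cancel_left]
              exact h1 : Subgroup G } := by
        refine h.W_le_of_V ?_ ?_
        · intro v hv
          refine ⟨(centralizer_le h.one.self.le) (h.one.W_le_cent h.one.self (h.one.V_le_W h.one.self hv)), fun k hk => ?_⟩
          exact h.one.pl.act k (hOB hk) v hv
        · refine QAbs.norm_of fun c hc n hn => ⟨mul_mem (mul_mem hc hn.1) (inv_mem hc), fun k hk => ?_⟩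
          have hk' : c⁻¹ * k * c⁻¹⁻¹ ∈ o2 (centralizer (Z : Set G)) := QAbs.conj_mem hOn (inv_mem hc) hk
          have h1 := (mem_normalizer_iff.1 (centralizer_le_normalizer _ hc) _).1 (hn.2 _ hk')
          have e : c * (c⁻¹ * k * c⁻¹⁻¹ * n * (c⁻¹ * k * c⁻¹⁻¹)⁻¹ * n⁻¹) * c⁻¹ = k * (c * n * c⁻¹) * k⁻¹ * (c * n * c⁻¹)⁻¹ := by
            group
          rwa [e] at h1
      rw [mem_kx]
      refine ⟨fun x hx => (mem_centralizer_iff.1 (o2_le _ hk) x hx).symm, fun w hw => (hWm hw).2 k hk⟩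
  obtain ⟨g, rfl⟩ := hX
  have h1 : PT.cj g (o2 (centralizer (Z : Set G))) = o2 (centralizer ((PT.cj g Z : Subgroup G) : Set G)) := by
    have h2 : ∀ (g : G) (A : Subgroup G), PT.cj g (o2 A) ≤ o2 (PT.cj g A) := by
      intro g A
      refine le_o2 ((o2_isPGroup A).map _) (cj_le_cj.2 (o2_le A)) ?_
      rw [← cj_normalizer]
      exact cj_le_cj.2 (le_normalizer_o2 A)
    rw [← cj_centralizer]
    refine le_antisymm (h2 g _) ?_
    rw [le_cj_iff]
    have := h2 g⁻¹ (PT.cj g (centralizer (Z : Set G)))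
    rwa [cj_cj, inv_mul_cancel, cj_one] at this
  rw [kx_cj, key, h1]

/-- `⟨K_X ∩ C_G(V)⟩ ≤ O_2(C_G(V))` -/
theorem yl_le_o2 (hG : IsCharacteristicTwoType G) : yl V Z ≤ o2 (centralizer (V : Set G)) := by
  unfold yl
  refine sSup_le ?_
  rintro _ ⟨Y, hY, rfl⟩
  refine le_o2 ((h.two_kx hG hY.cj).to_le inf_le_left) inf_le_right ?_
  exact QAbs.norm_of fun c hc n hn => mem_inf.2 ⟨QAbs.conj_mem (h.one.cent_norm_K hY) hc hn.1,
    mul_mem (mul_mem hc hn.2) (inv_mem hc)⟩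

end Co

end Cfsg.Agent.Omega.NO3S.OneQ
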