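import Cfsg.Agent.Omega.NO3S.OneQ.PlaneOf
import Cfsg.Agent.Omega.NO3S.OneQ.QPlus

/-!
# NO-3S, `OneQ`, critical distance 1: THEOREM ALPHA for `q ≥ 4` (bb OMEGA #19637 (B)), tools and case (a)

`h : One S B P V Z`, `u ∈ I - V` (`I = IV V Z`), `hD : D_Z ≤ I`, `hw : C_{W_Z}(E_Y) ≤ E_Z`.

* `xs V Z u = C_{X_l}(u)`, `ul V Z u = C_I(C_{X_l}(u))`; `Alpha.irr`, `Alpha.trans`, `Alpha.ul_inf` : `U_l ∩ V = 1`;
  `Alpha.ul_card` : `|U_l| ≤ |Z|`;
* `Alpha.line_le` : a line on `Z` which contains `w ∈ I - Z` lies in `I`;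
* `Alpha.mem_pt` : if a point collinear with `Z` meets `U_l`, then it contains `u`;
* `Alpha.inf_ul` : `W_Z ∩ Θ ≤ U_l` for a `J`-invariant `Θ` with `Z ∩ Θ = 1`, `J ≥ C_{X_l}(u), W_X`;
* `Alpha.le_o2_of_cent` : characteristic 2 type: `A ≤ C(U)` centralises `O₂(C(U))` ==> `A ≤ O₂(C(U))`;
* `Alpha.alpha_a` : `W_Z ∩ O₂(C(U)) ≤ U ≤ U_l` is impossible if no point collinear with `Z` contains `u`.
-/

set_option autoImplicit false
set_option linter.unusedSectionVars false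

namespace Cfsg.Agent.Omega.NO3S.OneQ.Alpha

open Subgroup Cfsg Cfsg.Agent.Omega.NO3S.PT Cfsg.Agent.Omega.NO3S.OneQ Cfsg.Agent.Omega.NoFF.Basic
open Cfsg.Agent.ZN (o2)
open Cfsg.Agent.ZN.Block (le_o2 o2_le o2_isPGroup le_normalizer_o2)
open scoped Pointwise

variable {G : Type*} [Group G]

/-! ### general lemmas -/

theorem comm_of_conj {a b : G} (h : a * b * a⁻¹ = b) : a * b = b * a := by
  rwa [mul_inv_eq_iff_eq_mul] at h

theorem conj_of_comm {a b : G} (h : a * b = b * a) : a * b * a⁻¹ = b := by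
  rw [h, mul_inv_cancel_right]

theorem comm_of_cm {a b : G} (h : a * b * a⁻¹ * b⁻¹ = 1) : a * b = b * a := by
  rwa [mul_inv_eq_one, mul_inv_eq_iff_eq_mul] at h

theorem conj_mem {T : Subgroup G} {g t : G} (hg : g ∈ normalizer (T : Set G)) (ht : t ∈ T) : g * t * g⁻¹ ∈ T :=
  (mem_normalizer_iff.1 hg t).1 ht

theorem conj_mem' {T : Subgroup G} {g t : G} (hg : g ∈ normalizer (T : Set G)) (ht : t ∈ T) : g⁻¹ * t * g ∈ T := by
  have := conj_mem (inv_mem hg) ht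
  rwa [inv_inv] at this

/-- `A` a 2-group, `R₀ < A`: some element of `A` outside `R₀` normalises `R₀` -/
theorem exists_norm_of_lt [Finite G] {A R₀ : Subgroup G} (hA : IsPGroup 2 A) (hle : R₀ ≤ A) (hne : ¬ A ≤ R₀) :
    ∃ x ∈ A, x ∉ R₀ ∧ x ∈ normalizer (R₀ : Set G) := by
  have : Fact (Nat.Prime 2) := ⟨Nat.prime_two⟩
  have hlt : R₀.subgroupOf A < ⊤ := by
    refine lt_of_le_of_ne le_top fun e => hne ?_
    exact subgroupOf_eq_top.mp e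
  have : Group.IsNilpotent A := hA.isNilpotent
  have h1 := Group.normalizerCondition_of_isNilpotent (G := A) _ hlt
  obtain ⟨x, hx, hxT⟩ := SetLike.exists_of_lt h1
  refine ⟨x, x.2, fun hc => hxT (mem_subgroupOf.mpr hc), ?_⟩
  rw [mem_normalizer_iff] at hx ⊢
  intro t
  constructor
  · intro ht
    exact mem_subgroupOf.mp ((hx ⟨t, hle ht⟩).mp (mem_subgroupOf.mpr ht))
  · intro ht
    have h2 : (x : G) * t * (x : G)⁻¹ ∈ A := hle ht
    have h3 : t ∈ A := by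
      have := mul_mem (mul_mem (inv_mem x.2) h2) x.2
      have e : (x : G)⁻¹ * (x * t * (x : G)⁻¹) * x = t := by group
      rwa [e] at this
    exact mem_subgroupOf.mp ((hx ⟨t, h3⟩).mpr (mem_subgroupOf.mpr ht))

/-- a form of the three subgroups lemma -/
theorem three_sub {Γ : Type*} [Group Γ] {K A B : Γ} (h1 : Commute (K * A * K⁻¹ * A⁻¹) A)
    (h2 : Commute (K * A * K⁻¹ * A⁻¹) B) (h3 : Commute (K * B * K⁻¹ * B⁻¹) A)
    (h4 : Commute (K * B * K⁻¹ * B⁻¹) B) (h5 : Commute (K⁻¹ * A * K * A⁻¹) B) :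
    K * (A * B * A⁻¹ * B⁻¹) * K⁻¹ = A * B * A⁻¹ * B⁻¹ := by
  obtain ⟨a, ha⟩ : ∃ a, a = K * A * K⁻¹ * A⁻¹ := ⟨_, rfl⟩
  obtain ⟨b, hb⟩ : ∃ b, b = K * B * K⁻¹ * B⁻¹ := ⟨_, rfl⟩
  rw [← ha] at h1 h2
  rw [← hb] at h3 h4
  have h6 : Commute a⁻¹ (b * B) := by
    have e1 : a⁻¹ = K * (K⁻¹ * A * K * A⁻¹) * K⁻¹ := by rw [ha]; group
    have e2 : b * B = K * B * K⁻¹ := by rw [hb]; group
    rw [e1, e2]
    have := h5.eq
    change K * (K⁻¹ * A * K * A⁻¹) * K⁻¹ * (K * B * K⁻¹) = K * B * K⁻¹ * (K * (K⁻¹ * A * K * A⁻¹) * K⁻¹)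
    calc K * (K⁻¹ * A * K * A⁻¹) * K⁻¹ * (K * B * K⁻¹) = K * ((K⁻¹ * A * K * A⁻¹) * B) * K⁻¹ := by group
      _ = K * (B * (K⁻¹ * A * K * A⁻¹)) * K⁻¹ := by rw [this]
      _ = K * B * K⁻¹ * (K * (K⁻¹ * A * K * A⁻¹) * K⁻¹) := by group
  have h7 : Commute a b := by
    have h8 : Commute a⁻¹ b := by
      have := h6.mul_right (h2.inv_left.inv_right)
      rwa [mul_inv_cancel_right] at this
    rw [← inv_inv a]
    exact h8.inv_left
  have e1 : K * (A * B * A⁻¹ * B⁻¹) * K⁻¹ = (a * A) * (b * B) * (a * A)⁻¹ * (b * B)⁻¹ := by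
    rw [ha, hb]; group
  have e2 : A * b = b * A := h3.eq.symm
  have e3 : A⁻¹ * a⁻¹ = a⁻¹ * A⁻¹ := (h1.inv_left.inv_right).eq.symm
  have e4 : (A * B) * a⁻¹ = a⁻¹ * (A * B) := ((h1.mul_right h2).inv_left).eq.symm
  have e5 : a * b * a⁻¹ = b := by rw [h7.eq]; group
  have e6 : b * (A * B * A⁻¹ * B⁻¹) = (A * B * A⁻¹ * B⁻¹) * b :=
    (((h3.mul_right h4).mul_right h3.inv_right).mul_right h4.inv_right).eq
  rw [e1]
  calc (a * A) * (b * B) * (a * A)⁻¹ * (b * B)⁻¹ = a * (A * b) * B * (A⁻¹ * a⁻¹) * (B⁻¹ * b⁻¹) := by group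
    _ = a * (b * A) * B * (a⁻¹ * A⁻¹) * (B⁻¹ * b⁻¹) := by rw [e2, e3]
    _ = a * b * ((A * B) * a⁻¹) * A⁻¹ * B⁻¹ * b⁻¹ := by group
    _ = a * b * (a⁻¹ * (A * B)) * A⁻¹ * B⁻¹ * b⁻¹ := by rw [e4]
    _ = (a * b * a⁻¹) * (A * B * A⁻¹ * B⁻¹) * b⁻¹ := by group
    _ = (A * B * A⁻¹ * B⁻¹) * b * b⁻¹ := by rw [e5, e6]
    _ = A * B * A⁻¹ * B⁻¹ := by group

/-- characteristic 2 type: a subgroup of `C(U)` which centralises `O₂(C(U))` lies in `O₂(C(U))` -/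
theorem le_o2_of_cent [Finite G] (hG : IsCharacteristicTwoType G) {U A : Subgroup G} (hU : IsPGroup 2 U)
    (hne : U ≠ ⊥) (hA : A ≤ centralizer (U : Set G))
    (hAQ : ∀ a ∈ A, ∀ q ∈ o2 (centralizer (U : Set G)), a * q = q * a) : A ≤ o2 (centralizer (U : Set G)) := by
  have : Fact (Nat.Prime 2) := ⟨Nat.prime_two⟩
  set J := centralizer (U : Set G) with hJ
  set M := normalizer (U : Set G) with hM
  have hJM : J ≤ M := centralizer_le_normalizer _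
  have hMJ : M ≤ normalizer (J : Set G) := norm_cent
  set E : Subgroup G := J ⊓ centralizer ((o2 J : Subgroup G) : Set G) with hE
  have hAE : A ≤ E := fun a ha => ⟨hA ha, mem_centralizer_iff.2 fun q hq => (hAQ a ha q hq).symm⟩
  have hEn : J ≤ normalizer (E : Set G) := by
    intro g hg
    have e1 : cj g J = J := cj_eq_iff.2 (Subgroup.le_normalizer hg)
    have e2 : cj g (centralizer ((o2 J : Subgroup G) : Set G)) = centralizer ((o2 J : Subgroup G) : Set G) := by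
      rw [cj_centralizer, cj_eq_iff.2 (le_normalizer_o2 J hg)]
    rw [← cj_eq_iff, hE, cj_inf, e1, e2]
  have hMQ : J ⊓ o2 M ≤ o2 J := by
    refine le_o2 ((o2_isPGroup M).to_le inf_le_right) inf_le_left fun g hg => ?_
    rw [← cj_eq_iff, cj_inf, cj_eq_iff.2 (Subgroup.le_normalizer hg), cj_eq_iff.2 (le_normalizer_o2 M (hJM hg))]
  have hE2 : IsPGroup 2 E := by
    obtain ⟨m, hm⟩ := IsPGroup.iff_card.1 (o2_isPGroup J)
    rintro ⟨e, he, heQ⟩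
    have h1 : ∀ y ∈ o2 M, e ^ (2 ^ m) * y = y * e ^ (2 ^ m) := by
      intro y hy
      obtain ⟨c, hc⟩ : ∃ c, c = e * y * e⁻¹ * y⁻¹ := ⟨_, rfl⟩
      have hyM := o2_le M hy
      have hcQ : c ∈ o2 J := by
        refine hMQ ⟨?_, ?_⟩
        · have e1 : c = e * (y * e⁻¹ * y⁻¹) := by rw [hc]; group
          rw [e1]
          exact J.mul_mem he (conj_mem (hMJ hyM) (J.inv_mem he))
        · rw [hc]
          exact (o2 M).mul_mem (conj_mem (le_normalizer_o2 M (hJM he)) hy) ((o2 M).inv_mem hy)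
      have hec : e * c = c * e := (mem_centralizer_iff.1 heQ c hcQ).symm
      have hey : e * y = c * y * e := by rw [hc]; group
      have h2 : ∀ n : ℕ, e ^ n * y = c ^ n * y * e ^ n := by
        intro n
        induction n with
        | zero => simp
        | succ n ih =>
          have h3 : e * c ^ n = c ^ n * e := ((show Commute e c from hec).pow_right n).eq
          calc e ^ (n + 1) * y = e * (e ^ n * y) := by rw [pow_succ']; group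
            _ = (e * c ^ n) * y * e ^ n := by rw [ih]; group
            _ = c ^ n * (e * y) * e ^ n := by rw [h3]; group
            _ = c ^ (n + 1) * y * e ^ (n + 1) := by rw [hey, pow_succ c, pow_succ' e]; group
      have h3 : c ^ (2 ^ m) = 1 := by
        have h4 : (⟨c, hcQ⟩ : o2 J) ^ Nat.card (o2 J) = 1 := pow_card_eq_one'
        rw [hm] at h4
        exact congrArg Subtype.val h4
      rw [h2, h3, one_mul]
    have h2 : e ^ (2 ^ m) ∈ o2 M := mem_o2_of_c2 hG hU hne (hJM (pow_mem he _)) h1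
    obtain ⟨n, hn⟩ := o2_isPGroup M ⟨_, h2⟩
    refine ⟨m + n, Subtype.ext ?_⟩
    have h3 : (e ^ (2 ^ m)) ^ 2 ^ n = 1 := congrArg Subtype.val hn
    show e ^ 2 ^ (m + n) = 1
    rw [pow_add, pow_mul, h3]
  exact hAE.trans (le_o2 hE2 inf_le_left hEn)

/-! ### `X_l*` and `U_l` -/

/-- `X_l* = C_{X_l}(u)` -/
def xs (V Z : Subgroup G) (u : G) : Subgroup G := XV V Z ⊓ centralizer ({u} : Set G)

/-- `U_l = C_I(X_l*)` -/
def ul (V Z : Subgroup G) (u : G) : Subgroup G := IV V Z ⊓ centralizer ((xs V Z u : Subgroup G) : Set G)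

theorem mem_xs {V Z : Subgroup G} {u g : G} : g ∈ xs V Z u ↔ g ∈ XV V Z ∧ g * u = u * g := by
  unfold xs
  rw [mem_inf, mem_centralizer_singleton_iff]

theorem mem_ul {V Z : Subgroup G} {u w : G} : w ∈ ul V Z u ↔ w ∈ IV V Z ∧ ∀ g ∈ xs V Z u, g * w = w * g := by
  unfold ul
  rw [mem_inf, mem_centralizer_iff]
  rfl

theorem self_mem_ul {V Z : Subgroup G} {u : G} (hu : u ∈ IV V Z) : u ∈ ul V Z u :=
  mem_ul.2 ⟨hu, fun _ hg => (mem_xs.1 hg).2⟩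

section

variable [Finite G] {S : Sylow 2 G} {B P V Z : Subgroup G} (h : One S B P V Z)
include h

theorem act_eq {x g v : G} (hxg : x * g⁻¹ ∈ centralizer (V : Set G)) (hg : g ∈ normalizer (V : Set G)) (hv : v ∈ V) :
    x * v * x⁻¹ = g * v * g⁻¹ := by
  have h1 := mem_centralizer_iff.1 hxg _ (conj_mem hg hv)
  calc x * v * x⁻¹ = (x * g⁻¹) * (g * v * g⁻¹) * (x * g⁻¹)⁻¹ := by group
    _ = (g * v * g⁻¹) * (x * g⁻¹) * (x * g⁻¹)⁻¹ := by rw [h1]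
    _ = _ := by group

/-- a line on `Z` which contains `w ∈ I - Z` lies in `I` -/
theorem line_le (hD : dd V Z Z ≤ IV V Z) {L : Subgroup G} (hL : IsCj V L) (hZL : Z ≤ L) {w : G} (hw : w ∈ L)
    (hwZ : w ∉ Z) (hwI : w ∈ IV V Z) : L ≤ IV V Z := by
  obtain ⟨Y, hY, hYZ⟩ := h.exists_ne h.self
  refine le_trans ?_ hD
  rw [h.dd_eq h.self hY hYZ]
  refine le_inf (h.line_le_ws hL hZL) fun l hl => ?_
  rw [mem_centralizer_iff]
  intro a ha
  obtain ⟨S', C', Q', h'⟩ := h.flag hL h.pl.isCj_self hZL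
  have h1 := h'.lin_base (k := a) (v := w) (fun z hz => ?_) hw hwZ ?_
  · exact (mem_centralizer_iff.1 h1 l hl).symm
  · exact h.comm_W hY.cj ha (h.V_le_W hY (h.pl.ZV hz))
  · exact (h.I_comm_W hY hwI ha).symm

variable {u : G} (hu : u ∈ IV V Z) (huV : u ∉ V)
include hu huV

theorem cover {g : G} (hg : g ∈ XV V Z) : ∃ x ∈ xs V Z u, x * g⁻¹ ∈ centralizer (V : Set G) := by
  obtain ⟨x, hx, hxu, hxg⟩ := h.pl.F2_cover h.hf h.hO hu huV hg
  exact ⟨x, mem_xs.2 ⟨hx, hxu⟩, hxg⟩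

theorem trans {X Y : Subgroup G} (hX : Pnt V Z X) (hY : Pnt V Z Y) : ∃ g ∈ xs V Z u, cj g X = Y := by
  obtain ⟨x, hx, -, hxu, hxX, -⟩ := h.pl.F2_swap h.hf h.hO hu huV hX.cj hX.le hY.cj hY.le
  exact ⟨x, mem_xs.2 ⟨hx, hxu⟩, hxX⟩

/-- `X_l*` is irreducible on `V` -/
theorem irr {D : Subgroup G} (hD : D ≤ V) (hDn : ∀ g ∈ xs V Z u, ∀ d ∈ D, g * d * g⁻¹ ∈ D) (hne : D ≠ ⊥) : D = V := by
  refine h.pl.irr h.hf hD (fun g hg d hd => ?_) hne
  obtain ⟨x, hx, hxg⟩ := cover h hu huV hg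
  rw [← act_eq h hxg (h.pl.XV_le_N hg) (hD hd)]
  exact hDn x hx d hd

theorem V_le_of {T : Subgroup G} (hT : ∀ g ∈ xs V Z u, ∀ d ∈ T, g * d * g⁻¹ ∈ T) {v : G} (hv : v ∈ V) (hv1 : v ≠ 1)
    (hvT : v ∈ T) : V ≤ T := by
  have h1 : V ⊓ T = V := by
    refine irr h hu huV inf_le_left (fun g hg d hd => ⟨?_, hT g hg d hd.2⟩) fun e => hv1 ?_
    · exact conj_mem (h.pl.XV_le_N (mem_xs.1 hg).1) hd.1
    · have : v ∈ V ⊓ T := ⟨hv, hvT⟩
      rwa [e, mem_bot] at this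
  rw [← h1]
  exact inf_le_right

/-- `U_l ∩ V = 1` -/
theorem ul_inf {v : G} (hv : v ∈ V) (hvu : v ∈ ul V Z u) : v = 1 := by
  refine h.pl.cent_IV h.hf (h.pl.V_le_IV hv) fun g hg => ?_
  obtain ⟨x, hx, hxg⟩ := cover h hu huV hg
  refine comm_of_conj ?_
  rw [← act_eq h hxg (h.pl.XV_le_N hg) hv]
  exact conj_of_comm ((mem_ul.1 hvu).2 x hx)

/-- `|U_l| ≤ q` -/
theorem ul_card : Nat.card (ul V Z u) ≤ Nat.card Z := by
  obtain ⟨z, hz, hz1⟩ := h.pl.pt_ne_bot h.pl.isCj_self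
  obtain ⟨c, hc, hcV, hcu⟩ := h.pl.F2' h.hf h.hO hu huV h.pl.isCj_self h.pl.ZV hz
  have hIc : ∀ {w : G}, w ∈ IV V Z → ∀ v ∈ V, w * v = v * w := fun hw v hv => h.pl.IV_comm hw (h.pl.V_le_IV hv)
  let f : ul V Z u →* Z :=
    { toFun := fun w => ⟨c * w * c⁻¹ * (w : G)⁻¹, (mem_kx.1 hc).2 w (h.I_le_W h.self (mem_ul.1 w.2).1)⟩
      map_one' := by
        apply Subtype.ext
        show c * 1 * c⁻¹ * (1 : G)⁻¹ = 1
        group
      map_mul' := by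
        rintro ⟨a, ha⟩ ⟨b, hb⟩
        apply Subtype.ext
        show c * (a * b) * c⁻¹ * (a * b)⁻¹ = c * a * c⁻¹ * a⁻¹ * (c * b * c⁻¹ * b⁻¹)
        have h1 : c * b * c⁻¹ * b⁻¹ ∈ V := h.pl.ZV ((mem_kx.1 hc).2 b (h.I_le_W h.self (mem_ul.1 hb).1))
        calc c * (a * b) * c⁻¹ * (a * b)⁻¹ = c * a * c⁻¹ * (c * b * c⁻¹ * b⁻¹) * a⁻¹ := by group
          _ = c * a * c⁻¹ * a⁻¹ * (a * (c * b * c⁻¹ * b⁻¹)) * a⁻¹ := by group
          _ = c * a * c⁻¹ * a⁻¹ * ((c * b * c⁻¹ * b⁻¹) * a) * a⁻¹ := by rw [hIc (mem_ul.1 ha).1 _ h1]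
          _ = _ := by group }
  refine Nat.card_le_card_of_injective f ((injective_iff_map_eq_one f).2 ?_)
  rintro ⟨w, hw⟩ hfw
  have hcw : c * w = w * c := comm_of_cm (congrArg Subtype.val hfw)
  have hwI := (mem_ul.1 hw).1
  apply Subtype.ext
  show w = 1
  obtain ⟨Y, hY, hYZ⟩ := h.exists_ne h.self
  refine ul_inf h hu huV (h.mem_V_of_kx hwI hY fun k hk hkV => ?_) hw
  by_cases hku : k * u = u * k
  · exact (mem_ul.1 hw).2 k (mem_xs.2 ⟨le_XV hY.cj hY.le hk, hku⟩)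
  obtain ⟨y, hy⟩ : ∃ y, y = k * u * k⁻¹ * u⁻¹ := ⟨_, rfl⟩
  have hyY : y ∈ Y := by rw [hy]; exact (mem_kx.1 hk).2 u (h.I_le_W hY hu)
  have hy1 : y ≠ 1 := fun e => hku (comm_of_cm (hy.symm.trans e))
  have hzyV : z * y ∈ V := V.mul_mem (h.pl.ZV hz) (hY.le hyY)
  have hzy1 : z * y ≠ 1 := by
    intro e
    have e1 : z = y⁻¹ := eq_inv_of_mul_eq_one_left e
    exact hYZ (h.pl.pts_eq hY.cj h.pl.isCj_self (Y.inv_mem hyY) (e1 ▸ hz) (by rwa [← e1]))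
  obtain ⟨T, hT, hTV, hzyT⟩ := h.pl.exists_point hzyV hzy1
  have hTY : T ≠ Y := by
    rintro rfl
    have e1 : z ∈ T := (T.mul_mem_cancel_right hyY).1 hzyT
    exact hYZ (h.pl.pts_eq hY.cj h.pl.isCj_self e1 hz hz1)
  obtain ⟨d, hd, hdV, hdu⟩ := h.pl.F2' h.hf h.hO hu huV hT hTV hzyT
  -- `c k` and `d` agree on `u`
  have hcy : c * y = y * c := (mem_centralizer_iff.1 hcV y (hY.le hyY)).symm
  have hck : c * k * u * (c * k)⁻¹ = z * y * u := by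
    calc c * k * u * (c * k)⁻¹ = c * (k * u * k⁻¹ * u⁻¹) * u * c⁻¹ := by group
      _ = (c * y) * u * c⁻¹ := by rw [← hy]
      _ = y * (c * u * c⁻¹ * u⁻¹) * u := by rw [hcy]; group
      _ = (y * z) * u := by rw [hcu]
      _ = z * y * u := by rw [h.pl.Vcomm (hY.le hyY) (h.pl.ZV hz)]
  have hd' : d * u * d⁻¹ = z * y * u := by rw [← hdu]; group
  have h1 : d⁻¹ * (c * k) ∈ xs V Z u := by
    refine mem_xs.2 ⟨mul_mem (inv_mem (le_XV hT hTV hd))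
      (mul_mem (le_XV h.pl.isCj_self h.pl.ZV hc) (le_XV hY.cj hY.le hk)), comm_of_conj ?_⟩
    calc d⁻¹ * (c * k) * u * (d⁻¹ * (c * k))⁻¹ = d⁻¹ * (c * k * u * (c * k)⁻¹) * d := by group
      _ = d⁻¹ * (d * u * d⁻¹) * d := by rw [hck, hd']
      _ = u := by group
  have h2 := conj_of_comm ((mem_ul.1 hw).2 _ h1)
  have h3 : c * k * w * (c * k)⁻¹ = d * w * d⁻¹ := by
    calc c * k * w * (c * k)⁻¹ = d * (d⁻¹ * (c * k) * w * (d⁻¹ * (c * k))⁻¹) * d⁻¹ := by group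
      _ = _ := by rw [h2]
  have h4 : k * w * k⁻¹ * w⁻¹ ∈ Y := (mem_kx.1 hk).2 w (h.I_le_W hY hwI)
  have h5 : c * k * w * (c * k)⁻¹ * w⁻¹ = k * w * k⁻¹ * w⁻¹ := by
    have h6 : c * (k * w * k⁻¹ * w⁻¹) = k * w * k⁻¹ * w⁻¹ * c := (mem_centralizer_iff.1 hcV _ (hY.le h4)).symm
    have h7 : c * w * c⁻¹ = w := conj_of_comm hcw
    calc c * k * w * (c * k)⁻¹ * w⁻¹ = (c * (k * w * k⁻¹ * w⁻¹)) * (w * c⁻¹) * w⁻¹ := by group
      _ = (k * w * k⁻¹ * w⁻¹) * (c * w * c⁻¹) * w⁻¹ := by rw [h6]; group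
      _ = k * w * k⁻¹ * w⁻¹ := by rw [h7]; group
  have h6 : k * w * k⁻¹ * w⁻¹ ∈ T := by
    rw [← h5, h3]
    exact (mem_kx.1 hd).2 w (IV_le hT hTV hwI)
  have h7 : k * w * k⁻¹ * w⁻¹ ∈ T ⊓ Y := ⟨h6, h4⟩
  rw [h.pl.pts_inf hT hY.cj hTY, mem_bot] at h7
  exact comm_of_cm h7

/-- a point collinear with `Z` which meets `U_l` contains `u` -/
theorem mem_pt (hD : dd V Z Z ≤ IV V Z) {N p : Subgroup G} (hN : IsCj V N) (hZN : Z ≤ N) (hp : IsCj Z p)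
    (hpN : p ≤ N) {c : G} (hc : c ∈ ul V Z u) (hc1 : c ≠ 1) (hcp : c ∈ p) : u ∈ p := by
  have hcV : c ∉ V := fun e => hc1 (ul_inf h hu huV e hc)
  have hNI : N ≤ IV V Z := line_le h hD hN hZN (hpN hcp) (fun e => hcV (h.pl.ZV e)) (mem_ul.1 hc).1
  have hpU : p ≤ ul V Z u := by
    intro w hw
    refine mem_ul.2 ⟨hNI (hpN hw), fun g hg => ?_⟩
    have hgn := h.pl.norm_of_comm hp hcp hc1 ((mem_ul.1 hc).2 g hg)
    have h1 : g * w * g⁻¹ * w⁻¹ ∈ p := mul_mem (conj_mem hgn hw) (inv_mem hw)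
    have h2 := h.pl.XV_act (mem_xs.1 hg).1 (hNI (hpN hw))
    by_contra hne
    have h3 : p ≤ V := Pla.pt_le h ⟨1, (cj_one V).symm⟩ hp h1 (fun e => hne (comm_of_cm e)) h2
    exact hcV (h3 hcp)
  have h1 : p = ul V Z u := by
    refine Subgroup.eq_of_le_of_card_ge hpU ?_
    rw [h.pl.card_pt hp]
    exact ul_card h hu huV
  rw [h1]
  exact self_mem_ul hu

/-- `W_Z ∩ Θ ≤ U_l` -/
theorem inf_ul (hD : dd V Z Z ≤ IV V Z) (hw : w1 V Z Z ≤ ee V Z Z) {J T : Subgroup G}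
    (hxJ : xs V Z u ≤ J) (hWJ : ∀ Y, Pnt V Z Y → ws V Y ≤ J) (hT : J ≤ normalizer (T : Set G))
    (hZ : ∀ z ∈ Z, z ∈ T → z = 1) {r : G} (hr : r ∈ ws V Z) (hrT : r ∈ T) : r ∈ ul V Z u := by
  have hVT : ∀ v ∈ V, v ∈ T → v = 1 := by
    intro v hv hvT
    by_contra hv1
    have h1 := V_le_of h hu huV (T := T) (fun g hg d hd => conj_mem (hT (hxJ hg)) hd) hv hv1 hvT
    obtain ⟨z, hz, hz1⟩ := h.pl.pt_ne_bot h.pl.isCj_self
    exact hz1 (hZ z hz (h1 (h.pl.ZV hz)))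
  have hcm : ∀ j ∈ J, j * r * j⁻¹ * r⁻¹ ∈ T := fun j hj => mul_mem (conj_mem (hT hj) hrT) (inv_mem hrT)
  obtain ⟨Y, hY, hYZ⟩ := h.exists_ne h.self
  have h1 : r ∈ ee V Z Z := by
    apply hw
    rw [h.w1_eq h.self hY hYZ]
    refine ⟨hr, mem_centralizer_iff.2 fun e he => ?_⟩
    refine comm_of_cm (hZ _ (h.ee_act h.self (Ne.symm hYZ) he hr) (hcm e (hWJ Y hY (ee_le he))))
  have h2 : r ∈ dd V Z Z := by
    refine h.mem_dd_of h.self hY hYZ hr fun w hwY => ?_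
    have h3 := h.ee_act' hY hYZ h1 hwY
    exact (comm_of_cm (hVT _ (hY.le h3) (hcm w (hWJ Y hY hwY)))).symm
  refine mem_ul.2 ⟨hD h2, fun g hg => ?_⟩
  exact comm_of_cm (hVT _ (h.pl.XV_act (mem_xs.1 hg).1 (hD h2)) (hcm g (hxJ hg)))

end

/-! ### the commutators -/

/-- `⟨[W_X, W_Y]⟩` -/
def cw (V Z : Subgroup G) : Subgroup G :=
  closure {d | ∃ X Y, Pnt V Z X ∧ Pnt V Z Y ∧ ∃ a ∈ ws V X, ∃ b ∈ ws V Y, d = a * b * a⁻¹ * b⁻¹}

section

variable [Finite G] {S : Sylow 2 G} {B P V Z : Subgroup G} (h : One S B P V Z)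
include h

theorem cw_le : cw V Z ≤ IV V Z := by
  refine (closure_le _).2 ?_
  rintro _ ⟨X, Y, hX, hY, a, ha, b, hb, rfl⟩
  by_cases hXY : X = Y
  · subst hXY
    have e : a * b * a⁻¹ * b⁻¹ = 1 := by rw [h.comm_W hX.cj ha hb]; group
    rw [e]; exact one_mem _
  · exact h.comm_mem hX hY hXY ha hb

theorem cw_conj {g d : G} (hg : g ∈ normalizer (V : Set G)) (hd : d ∈ cw V Z) : g * d * g⁻¹ ∈ cw V Z := by
  refine closure_induction (p := fun d _ => g * d * g⁻¹ ∈ cw V Z) ?_ ?_ ?_ ?_ hd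
  · rintro _ ⟨X, Y, hX, hY, a, ha, b, hb, rfl⟩
    refine subset_closure ⟨cj g X, cj g Y, hX.conj hg, hY.conj hg, g * a * g⁻¹, ?_, g * b * g⁻¹, ?_, by group⟩
    · rw [ws_cj]; exact conj_mem_cj ha
    · rw [ws_cj]; exact conj_mem_cj hb
  · simp
  · intro a b _ _ ha hb
    have e : g * (a * b) * g⁻¹ = (g * a * g⁻¹) * (g * b * g⁻¹) := by group
    rw [e]; exact mul_mem ha hb
  · intro a _ ha
    have e : g * a⁻¹ * g⁻¹ = (g * a * g⁻¹)⁻¹ := by group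
    rw [e]; exact inv_mem ha

/-- `V ≤ ⟨[W_X, W_Y]⟩` -/
theorem V_le_cw : V ≤ cw V Z := by
  have hne : V ⊓ cw V Z ≠ ⊥ := by
    intro e
    obtain ⟨Y, hY, hYZ⟩ := h.exists_ne h.self
    apply h.not_comm h.self hY hYZ.symm
    intro a ha
    rw [mem_centralizer_iff]
    intro b hb
    have hc : a * b * a⁻¹ * b⁻¹ ∈ cw V Z := subset_closure ⟨Z, Y, h.self, hY, a, ha, b, hb, rfl⟩
    refine (comm_of_cm (h.pl.cent_IV h.hf (cw_le h hc) fun g hg => ?_)).symm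
    have h1 := h.pl.XV_act hg (cw_le h hc)
    have h2 : g * (a * b * a⁻¹ * b⁻¹) * g⁻¹ * (a * b * a⁻¹ * b⁻¹)⁻¹ ∈ V ⊓ cw V Z :=
      ⟨h1, (cw V Z).mul_mem (cw_conj h (h.pl.XV_le_N hg) hc) ((cw V Z).inv_mem hc)⟩
    rw [e, mem_bot] at h2
    exact comm_of_cm h2
  have h1 : V ⊓ cw V Z = V := by
    refine h.pl.irr h.hf inf_le_left (fun g hg d hd => ?_) hne
    exact ⟨conj_mem (h.pl.XV_le_N hg) hd.1, cw_conj h (h.pl.XV_le_N hg) hd.2⟩
  calc V = V ⊓ cw V Z := h1.symm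
    _ ≤ cw V Z := inf_le_right

variable {u : G} (hu : u ∈ IV V Z) (huV : u ∉ V)
include hu huV

/-- Case (a) of ALPHA -/
theorem alpha_a (hG : IsCharacteristicTwoType G) (hD : dd V Z Z ≤ IV V Z) {U : Subgroup G} (hUl : U ≤ ul V Z u)
    (huU : u ∈ U) (hWQ : ∀ w ∈ ws V Z, w ∈ o2 (centralizer (U : Set G)) → w ∈ U)
    (hnp : ∀ N p, IsCj V N → Z ≤ N → IsCj Z p → p ≤ N → u ∉ p) : False := by
  classical
  set J := centralizer (U : Set G) with hJ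
  set Q := o2 J with hQdef
  have hQJ : Q ≤ J := o2_le _
  have hQp : IsPGroup 2 Q := o2_isPGroup _
  have hQn : J ≤ normalizer (Q : Set G) := le_normalizer_o2 _
  have hUc : ∀ t ∈ U, ∀ j ∈ J, j * t = t * j := fun t ht j hj => (mem_centralizer_iff.1 hj t ht).symm
  have hUI : U ≤ IV V Z := fun t ht => (mem_ul.1 (hUl ht)).1
  have hxJ : xs V Z u ≤ J := fun g hg => mem_centralizer_iff.2 fun t ht => ((mem_ul.1 (hUl ht)).2 g hg).symm
  have hWJ : ∀ X, Pnt V Z X → ws V X ≤ J := fun X hX w hw =>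
    mem_centralizer_iff.2 fun t ht => h.I_comm_W hX (hUI ht) hw
  have hVJ : V ≤ J := (h.V_le_W h.self).trans (hWJ Z h.self)
  have hu1 : u ≠ 1 := fun e => huV (e ▸ one_mem V)
  have hVU : ∀ v ∈ V, v ∈ U → v = 1 := fun v hv hvU => ul_inf h hu huV hv (hUl hvU)
  -- all points of `V`
  have hWQ' : ∀ X, Pnt V Z X → ∀ w ∈ ws V X, w ∈ Q → w ∈ U := by
    intro X hX w hw hwQ
    obtain ⟨g, hg, hgX⟩ := trans h hu huV hX h.self
    have hgJ := hxJ hg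
    have h1 : g * w * g⁻¹ ∈ ws V Z := by
      rw [← hgX, ws_cj]; exact conj_mem_cj hw
    have h2 := hWQ _ h1 (conj_mem (hQn hgJ) hwQ)
    have h3 : w = g⁻¹ * (g * w * g⁻¹) * g := by group
    have h4 := hUc _ h2 g⁻¹ (inv_mem hgJ)
    rw [h3, h4, inv_mul_cancel_right]
    exact h2
  have hVQ : ∀ v ∈ V, v ∈ Q → v = 1 := fun v hv hvQ => hVU v hv (hWQ v (h.V_le_W h.self hv) hvQ)
  -- `Q ∩ N_G(V) ≤ C_G(V)`
  have hQ0 : ∀ a ∈ Q, a ∈ normalizer (V : Set G) → a ∈ centralizer (V : Set G) := by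
    intro a haQ haN
    rw [mem_centralizer_iff]
    intro v hv
    have h1 : a * v * a⁻¹ * v⁻¹ ∈ V := mul_mem (conj_mem haN hv) (inv_mem hv)
    have h2 : a * v * a⁻¹ * v⁻¹ ∈ Q := by
      have e : a * v * a⁻¹ * v⁻¹ = a * (v * a⁻¹ * v⁻¹) := by group
      rw [e]
      exact mul_mem haQ (conj_mem (hQn (hVJ hv)) (inv_mem haQ))
    exact (comm_of_cm (hVQ _ h1 h2)).symm
  -- `[Q ∩ N_G(V), W_X] ≤ U`
  have hQ1 : ∀ a ∈ Q, a ∈ normalizer (V : Set G) → ∀ X, Pnt V Z X → ∀ w ∈ ws V X, a * w * a⁻¹ * w⁻¹ ∈ U := by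
    intro a haQ haN X hX w hw
    refine hWQ' X hX _ ?_ ?_
    · exact mul_mem (conj_mem (h.cent_norm_W hX (hQ0 a haQ haN)) hw) (inv_mem hw)
    · have e : a * w * a⁻¹ * w⁻¹ = a * (w * a⁻¹ * w⁻¹) := by group
      rw [e]
      exact mul_mem haQ (conj_mem (hQn (hWJ X hX hw)) (inv_mem haQ))
  have hU2 : IsPGroup 2 U := by
    rintro ⟨t, ht⟩
    refine ⟨1, Subtype.ext ?_⟩
    show t ^ 2 ^ 1 = 1
    rw [pow_one, pow_two]
    exact h.I_sq (hUI ht)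
  have hUne : U ≠ ⊥ := fun e => hu1 (by rw [e, mem_bot] at huU; exact huU)
  -- `Q` does not normalise `V`
  have hQV : ¬ Q ≤ normalizer (V : Set G) := by
    intro hle
    obtain ⟨z, hz, hz1⟩ := h.pl.pt_ne_bot h.pl.isCj_self
    apply hz1
    refine hVQ z (h.pl.ZV hz) ?_
    refine le_o2_of_cent hG hU2 hUne hVJ (fun v hv q hq => ?_) (h.pl.ZV hz)
    exact mem_centralizer_iff.1 (hQ0 q hq (hle hq)) v hv
  -- `F = ⟨W_X⟩`
  set F : Subgroup G := sSup {W | ∃ X, Pnt V Z X ∧ W = ws V X} with hF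
  have hWF : ∀ {X}, Pnt V Z X → ws V X ≤ F := fun {X} hX => le_sSup ⟨X, hX, rfl⟩
  have hFC : F ≤ centralizer (V : Set G) := sSup_le (by rintro _ ⟨X, hX, rfl⟩; exact h.W_le_cent hX)
  have hFJ : F ≤ J := sSup_le (by rintro _ ⟨X, hX, rfl⟩; exact hWJ X hX)
  have hFB : F ≤ B := sSup_le (by rintro _ ⟨X, hX, rfl⟩; exact h.W_le_B hX)
  have hF2 : IsPGroup 2 F := h.isP_B.to_le hFB
  set R₀ : Subgroup G := (Q ⊓ normalizer (V : Set G)) ⊔ F with hR₀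
  have hR₀N : R₀ ≤ normalizer (V : Set G) := sup_le inf_le_right (hFC.trans (centralizer_le_normalizer _))
  have hA2 : IsPGroup 2 ↥(Q ⊔ F) := hQp.to_sup_of_normal_left' hF2 (hFJ.trans hQn)
  have hR₀A : R₀ ≤ Q ⊔ F := sup_le (inf_le_left.trans le_sup_left) le_sup_right
  obtain ⟨x, hx, hxR, hxn⟩ := exists_norm_of_lt hA2 hR₀A fun hle => hQV (le_sup_left.trans (hle.trans hR₀N))
  obtain ⟨f, hf, k, hk, hxe⟩ := mem_sup_norm (hFJ.trans hQn) (show x ∈ F ⊔ Q by rwa [sup_comm])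
  have hFR : F ≤ R₀ := le_sup_right
  have hkn : k ∈ normalizer (R₀ : Set G) := by
    have e : k = f⁻¹ * x := by rw [hxe]; group
    rw [e]
    exact mul_mem (inv_mem (Subgroup.le_normalizer (hFR hf))) hxn
  have hkV : k ∉ normalizer (V : Set G) := fun hc => hxR (by
    rw [hxe]
    exact mul_mem (hFR hf) (le_sup_left (a := Q ⊓ normalizer (V : Set G)) ⟨hk, hc⟩))
  have hkJ := hQJ hk
  have hcomk : ∀ w ∈ F, k * w * k⁻¹ * w⁻¹ ∈ Q ∧ k * w * k⁻¹ * w⁻¹ ∈ normalizer (V : Set G) := by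
    intro w hw
    constructor
    · have e : k * w * k⁻¹ * w⁻¹ = k * (w * k⁻¹ * w⁻¹) := by group
      rw [e]
      exact mul_mem hk (conj_mem (hQn (hFJ hw)) (inv_mem hk))
    · exact hR₀N (mul_mem (conj_mem hkn (hFR hw)) (inv_mem (hFR hw)))
  have hcomk' : ∀ w ∈ F, k⁻¹ * w * k * w⁻¹ ∈ Q ∧ k⁻¹ * w * k * w⁻¹ ∈ normalizer (V : Set G) := by
    intro w hw
    constructor
    · have e : k⁻¹ * w * k * w⁻¹ = k⁻¹ * (w * k * w⁻¹) := by group
      rw [e]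
      exact mul_mem (inv_mem hk) (conj_mem (hQn (hFJ hw)) hk)
    · exact hR₀N (mul_mem (conj_mem' hkn (hFR hw)) (inv_mem (hFR hw)))
  -- work in `J / U`
  have hUJ : U ≤ J := fun t ht => mem_centralizer_iff.2 fun s hs => h.pl.IV_comm (hUI hs) (hUI ht)
  have hZn : (U.subgroupOf J).Normal := by
    refine ⟨fun a ha b => ?_⟩
    rw [mem_subgroupOf] at ha ⊢
    change (b : G) * a * (b : G)⁻¹ ∈ U
    rw [hUc _ ha b b.2, mul_inv_cancel_right]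
    exact ha
  let π : J →* J ⧸ U.subgroupOf J := QuotientGroup.mk' _
  have hπ : ∀ x : J, π x = 1 ↔ (x : G) ∈ U := fun x => by
    rw [QuotientGroup.mk'_apply, QuotientGroup.eq_one_iff, mem_subgroupOf]
  have hπc : ∀ a b : J, (a : G) * b * (a : G)⁻¹ * (b : G)⁻¹ ∈ U → Commute (π a) (π b) := by
    intro a b hab
    have h1 : π (a * b * a⁻¹ * b⁻¹) = 1 := by
      rw [hπ]
      exact hab
    rw [map_mul, map_mul, map_mul, map_inv, map_inv] at h1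
    change π a * π b = π b * π a
    calc π a * π b = (π a * π b * (π a)⁻¹ * (π b)⁻¹) * (π b * π a) := by group
      _ = π b * π a := by rw [h1, one_mul]
  have hcomm : ∀ X Y, Pnt V Z X → Pnt V Z Y → ∀ a ∈ ws V X, ∀ b ∈ ws V Y,
      k * (a * b * a⁻¹ * b⁻¹) * k⁻¹ * (a * b * a⁻¹ * b⁻¹)⁻¹ ∈ U := by
    intro X Y hX hY a ha b hb
    have haF : a ∈ F := hWF hX ha
    have hbF : b ∈ F := hWF hY hb
    have haJ := hFJ haF
    have hbJ := hFJ hbF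
    let K' : J := ⟨k, hkJ⟩
    let A' : J := ⟨a, haJ⟩
    let B' : J := ⟨b, hbJ⟩
    have c1 := hcomk a haF
    have c2 := hcomk b hbF
    have c3 := hcomk' a haF
    have g1 : Commute (π K' * π A' * (π K')⁻¹ * (π A')⁻¹) (π A') := by
      have := hπc (K' * A' * K'⁻¹ * A'⁻¹) A' (hQ1 _ c1.1 c1.2 X hX a ha)
      rwa [map_mul, map_mul, map_mul, map_inv, map_inv] at this
    have g2 : Commute (π K' * π A' * (π K')⁻¹ * (π A')⁻¹) (π B') := by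
      have := hπc (K' * A' * K'⁻¹ * A'⁻¹) B' (hQ1 _ c1.1 c1.2 Y hY b hb)
      rwa [map_mul, map_mul, map_mul, map_inv, map_inv] at this
    have g3 : Commute (π K' * π B' * (π K')⁻¹ * (π B')⁻¹) (π A') := by
      have := hπc (K' * B' * K'⁻¹ * B'⁻¹) A' (hQ1 _ c2.1 c2.2 X hX a ha)
      rwa [map_mul, map_mul, map_mul, map_inv, map_inv] at this
    have g4 : Commute (π K' * π B' * (π K')⁻¹ * (π B')⁻¹) (π B') := by
      have := hπc (K' * B' * K'⁻¹ * B'⁻¹) B' (hQ1 _ c2.1 c2.2 Y hY b hb)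
      rwa [map_mul, map_mul, map_mul, map_inv, map_inv] at this
    have g5 : Commute ((π K')⁻¹ * π A' * π K' * (π A')⁻¹) (π B') := by
      have := hπc (K'⁻¹ * A' * K' * A'⁻¹) B' (hQ1 _ c3.1 c3.2 Y hY b hb)
      rwa [map_mul, map_mul, map_mul, map_inv, map_inv] at this
    have g6 := three_sub g1 g2 g3 g4 g5
    have g7 : π (K' * (A' * B' * A'⁻¹ * B'⁻¹) * K'⁻¹ * (A' * B' * A'⁻¹ * B'⁻¹)⁻¹) = 1 := by
      simp only [map_mul, map_inv]
      rw [g6, mul_inv_cancel]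
    exact (hπ _).mp g7
  -- `[k, v] ∈ U` for `v ∈ V`
  have hkv : ∀ v ∈ V, k * v * k⁻¹ * v⁻¹ ∈ U := by
    let C : Subgroup G :=
      { carrier := {v | v ∈ J ∧ k * v * k⁻¹ * v⁻¹ ∈ U}
        mul_mem' := by
          rintro a b ⟨ha, ha1⟩ ⟨hb, hb1⟩
          refine ⟨mul_mem ha hb, ?_⟩
          have e : k * (a * b) * k⁻¹ * (a * b)⁻¹ = (k * a * k⁻¹ * a⁻¹) * (a * (k * b * k⁻¹ * b⁻¹) * a⁻¹) := by
            group
          rw [e, conj_of_comm (hUc _ hb1 a ha)]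
          exact mul_mem ha1 hb1
        one_mem' := ⟨one_mem _, by simp⟩
        inv_mem' := by
          rintro a ⟨ha, ha1⟩
          refine ⟨inv_mem ha, ?_⟩
          have e : k * a⁻¹ * k⁻¹ * a⁻¹⁻¹ = a⁻¹ * (k * a * k⁻¹ * a⁻¹)⁻¹ * a⁻¹⁻¹ := by group
          rw [e, conj_of_comm (hUc _ (inv_mem ha1) a⁻¹ (inv_mem ha))]
          exact inv_mem ha1 }
    have hle : cw V Z ≤ C := by
      refine (closure_le _).2 ?_
      rintro _ ⟨X, Y, hX, hY, a, ha, b, hb, rfl⟩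
      refine ⟨?_, hcomm X Y hX hY a ha b hb⟩
      have haJ := hWJ X hX ha
      have hbJ := hWJ Y hY hb
      exact mul_mem (mul_mem (mul_mem haJ hbJ) (inv_mem haJ)) (inv_mem hbJ)
    exact fun v hv => (hle (V_le_cw h hv)).2
  -- the map `v ↦ [k, v]`
  let φ : V →* U :=
    { toFun := fun v => ⟨k * v * k⁻¹ * (v : G)⁻¹, hkv v v.2⟩
      map_one' := by
        apply Subtype.ext
        show k * 1 * k⁻¹ * (1 : G)⁻¹ = 1
        group
      map_mul' := by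
        rintro ⟨a, ha⟩ ⟨b, hb⟩
        apply Subtype.ext
        show k * (a * b) * k⁻¹ * (a * b)⁻¹ = k * a * k⁻¹ * a⁻¹ * (k * b * k⁻¹ * b⁻¹)
        have e : k * (a * b) * k⁻¹ * (a * b)⁻¹ = (k * a * k⁻¹ * a⁻¹) * (a * (k * b * k⁻¹ * b⁻¹) * a⁻¹) := by group
        rw [e, conj_of_comm (hUc _ (hkv b hb) a (hVJ ha))] }
  obtain ⟨v₀, hv₀, hv₀1, hkv₀⟩ : ∃ v ∈ V, v ≠ 1 ∧ k * v = v * k := by
    have hni : ¬ Function.Injective φ := by
      intro hi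
      have h1 := Nat.card_le_card_of_injective φ hi
      have h2 : Nat.card U ≤ Nat.card Z := (Subgroup.card_le_of_le hUl).trans (ul_card h hu huV)
      have h3 := h.pl.one_lt_card
      have h4 := h.pl.card
      rw [h4] at h1
      nlinarith
    rw [injective_iff_map_eq_one] at hni
    push Not at hni
    obtain ⟨⟨v, hv⟩, hφ, hne⟩ := hni
    exact ⟨v, hv, fun e => hne (Subtype.ext e), comm_of_cm (congrArg Subtype.val hφ)⟩
  obtain ⟨X, hX, hXV, hvX⟩ := h.pl.exists_point hv₀ hv₀1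
  have hkX : cj k X = X := cj_eq_iff.2 (h.pl.norm_of_comm hX hvX hv₀1 hkv₀)
  set L' := cj k V with hL'
  have hXL : X ≤ L' := by rw [← hkX]; exact cj_le_cj.2 hXV
  have hLV : L' ≠ V := fun e => hkV (cj_eq_iff.1 e)
  have hLI : L' ≤ IV V Z := by
    intro w hw
    rw [hL', mem_cj] at hw
    have e : w = (k * (k⁻¹ * w * k) * k⁻¹ * (k⁻¹ * w * k)⁻¹) * (k⁻¹ * w * k) := by group
    rw [e]
    exact mul_mem (hUI (hkv _ hw)) (h.pl.V_le_IV hw)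
  obtain ⟨v₁, hv₁, hv₁k⟩ : ∃ v ∈ V, k * v * k⁻¹ * v⁻¹ ≠ 1 := by
    by_contra hcon
    push Not at hcon
    apply hkV
    refine centralizer_le_normalizer _ (mem_centralizer_iff.2 fun v hv => ?_)
    exact (comm_of_cm (hcon v hv)).symm
  obtain ⟨T, C', h'⟩ := h.pt ⟨hX, hXV⟩
  have hpl := h'.plg_of (L := L') ⟨k, rfl⟩ hXL hLV (by rw [IV_of hX]; exact hLI)
  have hcj : ∀ {Y : Subgroup G}, IsCj X Y ↔ IsCj Z Y := by
    intro Y
    obtain ⟨g, rfl⟩ := hX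
    exact isCj_cj
  set c := k * v₁ * k⁻¹ * v₁⁻¹ with hc
  have hcQ : c ∈ V ⊔ L' := by
    rw [hc]
    refine mul_mem ((le_sup_right : L' ≤ V ⊔ L') ?_) ((le_sup_left : V ≤ V ⊔ L') (inv_mem hv₁))
    exact conj_mem_cj hv₁
  obtain ⟨p, hp, hpQ, hcp⟩ := hpl.cov c hcQ hv₁k
  have hcU : c ∈ ul V Z u := hUl (hkv v₁ hv₁)
  have hpZ : Z ≠ p := by
    rintro rfl
    exact hv₁k (ul_inf h hu huV (h.pl.ZV hcp) hcU)
  obtain ⟨N, hN, hNQ, hZN, hpN⟩ := hpl.col Z p (hcj.2 h.pl.isCj_self) hp (h.pl.ZV.trans le_sup_left) hpQ hpZ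
  exact hnp N p hN hZN (hcj.1 hp) hpN (mem_pt h hu huV hD hN hZN (hcj.1 hp) hpN hcU hv₁k hcp)

end

end Cfsg.Agent.Omega.NO3S.OneQ.Alpha
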