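import Cfsg.Agent.Omega.NO3S.OneQ.Alpha
import Cfsg.Agent.Omega.NO3S.OneQ.Alf

/-!
# NO-3S, `OneQ`: ALPHA in the module `MF`

* `Co.ha_of_dual` : the hypothesis `HA V Z` of ALPHA from duality and `D_Z ≤ I`;
* `Co.alphaM` : **ALPHA** : `c ∈ C_G(Z)`, `0 ≠ u ∈ Ib ∩ c Ib` ==> `α(a c v₀)` fixes `c v₀`.
-/

set_option autoImplicit false
set_option linter.unusedSectionVars false

namespace Cfsg.Agent.Omega.NO3S.OneQ.Co

open Subgroup Cfsg Cfsg.Agent.Omega.NO3S.PT Cfsg.Agent.Omega.NoFF.Basic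
open scoped Pointwise

universe u

variable {G : Type u} [Group G] [Finite G] {F : Type*} [Field F] [CharP F 2] {S : Sylow 2 G} {B P V Z : Subgroup G}
  (h : Co F S B P V Z)

theorem ha_of_dual (hN : NTr V Z) (hD : dd V Z Z ≤ IV V Z)
    (dual : ∀ φ : h.MF →ₗ[F] F, (∀ m ∈ h.Eb, φ m = 0) → ∃ e ∈ ee V Z h.Yp, ∀ w : ws V Z, h.fn w e = φ (h.fm w)) :
    HA V Z where
  hD := hD
  hw := by
    intro w hw
    have hwW : w ∈ ws V Z := w1_le hw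
    by_contra hne
    have h1 : h.fm ⟨w, hwW⟩ ∉ h.Eb := fun e => hne ((h.fm_Eb_iff hN (w := ⟨w, hwW⟩)).1 e)
    obtain ⟨φ, hφ, hk⟩ := Submodule.exists_le_ker_of_notMem h1
    obtain ⟨e, he, hee⟩ := dual φ fun m hm => hk hm
    have h2 : e * w = w * e := (mem_centralizer_iff.1 ((mem_w1.1 hw).2 h.Yp h.pY h.Yp_ne) e he)
    have heK : e ∈ kx V Z := (mem_ee.1 he).2 Z h.one.self h.Yp_ne.symm
    exact hφ ((hee ⟨w, hwW⟩).symm.trans ((h.fn_eq_zero hwW heK).2 h2))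

/-- **ALPHA** -/
theorem alphaM (hG : IsCharacteristicTwoType G) (hN : NTr V Z) (ha : HA V Z) {c : G}
    (hc : c ∈ centralizer (Z : Set G)) {u u' : h.MF} (hu0 : u ≠ 0) (hu : u ∈ h.Ib) (hu' : u' ∈ h.Ib)
    (huu : h.rp ⟨c, h.C_le_hat hc⟩ u' = u) (a : F) :
    h.al (a • h.rp ⟨c, h.C_le_hat hc⟩ h.v0) (h.rp ⟨c, h.C_le_hat hc⟩ h.v0) = h.rp ⟨c, h.C_le_hat hc⟩ h.v0 := by
  by_cases ha0 : a = 0
  · rw [ha0, zero_smul, h.al_zero hN]; rfl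
  have hcN := centralizer_le_normalizer _ hc
  have hrd : rd V Z = Z := h.rd_eq hN ha.hD
  obtain ⟨x, hx, rfl⟩ := hu
  obtain ⟨y, hy, rfl⟩ := hu'
  have hyc : c * y * c⁻¹ ∈ ws V Z := h.W_conj hcN (h.one.I_le_W' hy)
  rw [h.rp_fm' (h.C_le_hat hc) (h.one.I_le_W' hy), h.fm_eq hyc (h.one.I_le_W' hx), hrd] at huu
  have hyI : c * y * c⁻¹ ∈ IV V Z := by
    have e : c * y * c⁻¹ = (c * y * c⁻¹ * x⁻¹) * x := by group
    rw [e]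
    exact mul_mem (h.one.pl.V_le_IV (h.one.pl.ZV huu)) hx
  have hyZ : c * y * c⁻¹ ∉ Z := by
    intro e
    apply hu0
    rw [h.fm_eq_zero, hrd]
    have e2 : x = (c * y * c⁻¹ * x⁻¹)⁻¹ * (c * y * c⁻¹) := by group
    show x ∈ Z
    rw [e2]
    exact mul_mem (inv_mem huu) e
  -- `v = c e(0, a) c⁻¹`
  obtain ⟨v, hv⟩ : ∃ v, v = c * h.e 0 a * c⁻¹ := ⟨_, rfl⟩
  have hvV : v ∈ PT.cj c V := by rw [hv]; exact conj_mem_cj (h.e_memV 0 a)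
  have hvW : v ∈ ws V Z := by rw [hv]; exact h.W_conj hcN (h.W_V 0 a)
  have h1 := h.alpha_cj hG ha hc hyI (conj_mem_cj hy) hyZ hvV h.sw_XV (by rw [h.cj_sw]; exact h.Yp_ne)
  have hfv : h.fm ⟨v, hvW⟩ = a • h.rp ⟨c, h.C_le_hat hc⟩ h.v0 := by
    rw [← map_smul, ← h.fm_e 0 a, h.rp_fm' (h.C_le_hat hc) (h.W_V 0 a)]
    exact congrArg h.fm (Subtype.ext hv)
  have h2 : h.al (h.fm ⟨v, hvW⟩) (h.fm ⟨v, hvW⟩) = h.fm ⟨v, hvW⟩ := by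
    rw [h.al_fm hN]
    show h.rp ⟨h.sw * v * h.sw⁻¹, _⟩ (h.fm ⟨v, hvW⟩) = _
    rw [h.rp_fm', h.fm_eq, hrd]
    have h3 := inv_mem h1
    have e : (v * (h.sw * v * h.sw⁻¹) * v⁻¹ * (h.sw * v * h.sw⁻¹)⁻¹)⁻¹ =
      h.sw * v * h.sw⁻¹ * v * (h.sw * v * h.sw⁻¹)⁻¹ * v⁻¹ := by group
    rwa [e] at h3
  rw [hfv, map_smul] at h2
  exact smul_right_injective _ ha0 h2

end Cfsg.Agent.Omega.NO3S.OneQ.Co
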