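import Cfsg.Agent.Omega.NO3S.PB.FTwo

/-!
# NO-3S, natural lines, critical distance 1 (`OneQ`): the K-free base

Points: conjugates of `Z`; lines: conjugates of `V`; `W_X = ws V X`, `K_X = kx V X` (`PointTI.lean`, `PointFTwo.lean`);
`I = IV V Z = W_X ∩ W_Y`, `XV V Z = ⟨K_X⟩` (`X`, `Y` points of `V`, `X ≠ Y`).

* `One S B P V Z` : `PB`, (F1), `Ω₁(Z(C_B(V))) ≤ V`, and `[W_Z, W_Y] ≠ 1` for some point `Y` of `V`;
* `Pnt V Z X` : `X` is a point of `V`; `One.pt` : every point of `V` is as good as `Z`;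
* `ee V Z X` = `E_X = W_X ∩ K_Y`, `dd V Z X` = `D_X = C_{W_X}(W_Y)`, `w1 V Z X = C_{W_X}(E_Y)`,
  `n0 V Z X = {w ∈ W_X | [w, W_Y] ≤ V}`; they do not depend on `Y ≠ X` (`One.ee_eq`, ..);
* `One.comm_mem` : `[W_X, W_Y] ≤ I`; `One.ee_comm` : `[E_X, E_Y] = 1`; `One.kx_ee` : `[K_Y ∩ C_G(V), W_X] ≤ E_X`;
  `One.kx_dd` : `[K_Y ∩ C_G(V), E_X] ≤ D_X`;
* `One.mem_V_of_kx` : `C_I(⟨K_X ∩ C_G(V)⟩) = V`;
* `One.w1_comm` (III.a) : `[w1 X, w1 Y] ≤ V`;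
* `One.relIndex_ee` : `|W_X : E_X| = |W_Y : E_Y|`; `One.card_cent` (III.b) : `|W_X : C_{W_X}(b)| ≤ q |W_X : E_X|` for
  `b ∈ W_Y`.
-/

set_option autoImplicit false
set_option linter.unusedSectionVars false

namespace Cfsg.Agent.Omega.NO3S.OneQ

open Subgroup Cfsg.Agent.Omega.NO3S.PT Cfsg.Agent.Omega.NoFF.Basic
open scoped Pointwise

variable {G : Type*} [Group G]

/-- `X` is a point of `V` -/
structure Pnt (V Z X : Subgroup G) : Prop where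
  cj : IsCj Z X
  le : X ≤ V

theorem pnt_iff {V Z X Y : Subgroup G} (hX : IsCj Z X) : Pnt V X Y ↔ Pnt V Z Y := by
  obtain ⟨g, rfl⟩ := hX
  constructor
  · rintro ⟨h1, h2⟩
    exact ⟨isCj_cj.1 h1, h2⟩
  · rintro ⟨h1, h2⟩
    exact ⟨isCj_cj.2 h1, h2⟩

theorem IV_of {V Z X : Subgroup G} (hX : IsCj Z X) : IV V X = IV V Z := by
  unfold IV
  congr 1
  ext W
  constructor
  · rintro ⟨Y, h1, h2, rfl⟩
    exact ⟨Y, ((pnt_iff hX).1 ⟨h1, h2⟩).cj, h2, rfl⟩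
  · rintro ⟨Y, h1, h2, rfl⟩
    exact ⟨Y, ((pnt_iff hX).2 ⟨h1, h2⟩).cj, h2, rfl⟩

theorem XV_of {V Z X : Subgroup G} (hX : IsCj Z X) : XV V X = XV V Z := by
  unfold XV
  congr 1
  ext W
  constructor
  · rintro ⟨Y, h1, h2, rfl⟩
    exact ⟨Y, ((pnt_iff hX).1 ⟨h1, h2⟩).cj, h2, rfl⟩
  · rintro ⟨Y, h1, h2, rfl⟩
    exact ⟨Y, ((pnt_iff hX).2 ⟨h1, h2⟩).cj, h2, rfl⟩

/-- `E_X = W_X ∩ ⋂ K_Y`, `Y ≠ X` a point of `V` -/
def ee (V Z X : Subgroup G) : Subgroup G := ws V X ⊓ sInf {K | ∃ Y, Pnt V Z Y ∧ Y ≠ X ∧ K = kx V Y}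

/-- `D_X = C_{W_X}(W_Y)` for all points `Y ≠ X` of `V` -/
def dd (V Z X : Subgroup G) : Subgroup G :=
  ws V X ⊓ sInf {K | ∃ Y, Pnt V Z Y ∧ Y ≠ X ∧ K = centralizer ((ws V Y : Subgroup G) : Set G)}

/-- `C_{W_X}(E_Y)` for all points `Y ≠ X` of `V` -/
def w1 (V Z X : Subgroup G) : Subgroup G :=
  ws V X ⊓ sInf {K | ∃ Y, Pnt V Z Y ∧ Y ≠ X ∧ K = centralizer ((ee V Z Y : Subgroup G) : Set G)}

/-- `{w ∈ W_X | [w, W_Y] ≤ V}` for all points `Y` of `V` -/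
def n0 (V Z X : Subgroup G) : Subgroup G where
  carrier := {w | w ∈ ws V X ∧ w ∈ centralizer (V : Set G) ∧
    ∀ Y, Pnt V Z Y → ∀ u ∈ ws V Y, w * u * w⁻¹ * u⁻¹ ∈ V}
  one_mem' := ⟨one_mem _, one_mem _, fun Y _ u _ => by
    have : (1 : G) * u * 1⁻¹ * u⁻¹ = 1 := by group
    rw [this]; exact one_mem _⟩
  mul_mem' := by
    rintro a b ⟨ha, ha1, ha2⟩ ⟨hb, hb1, hb2⟩
    refine ⟨mul_mem ha hb, mul_mem ha1 hb1, fun Y hY u hu => ?_⟩
    have e : a * b * u * (a * b)⁻¹ * u⁻¹ = a * (b * u * b⁻¹ * u⁻¹) * a⁻¹ * (a * u * a⁻¹ * u⁻¹) := by group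
    have h1 := mem_centralizer_iff.1 ha1 _ (hb2 Y hY u hu)
    rw [e, ← h1, mul_inv_cancel_right]
    exact mul_mem (hb2 Y hY u hu) (ha2 Y hY u hu)
  inv_mem' := by
    rintro a ⟨ha, ha1, ha2⟩
    refine ⟨inv_mem ha, inv_mem ha1, fun Y hY u hu => ?_⟩
    have e : a⁻¹ * u * a⁻¹⁻¹ * u⁻¹ = a⁻¹ * ((a * u * a⁻¹ * u⁻¹)⁻¹ * a) := by group
    have h1 := mem_centralizer_iff.1 ha1 _ (inv_mem (ha2 Y hY u hu))
    rw [e, h1, inv_mul_cancel_left]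
    exact inv_mem (ha2 Y hY u hu)

theorem ee_le {V Z X : Subgroup G} : ee V Z X ≤ ws V X := inf_le_left

theorem dd_le {V Z X : Subgroup G} : dd V Z X ≤ ws V X := inf_le_left

theorem w1_le {V Z X : Subgroup G} : w1 V Z X ≤ ws V X := inf_le_left

theorem n0_le {V Z X : Subgroup G} : n0 V Z X ≤ ws V X := fun _ hw => hw.1

theorem mem_ee {V Z X : Subgroup G} {w : G} :
    w ∈ ee V Z X ↔ w ∈ ws V X ∧ ∀ Y, Pnt V Z Y → Y ≠ X → w ∈ kx V Y := by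
  unfold ee
  rw [mem_inf, mem_sInf]
  refine and_congr_right fun _ => ⟨fun h Y hY hne => h _ ⟨Y, hY, hne, rfl⟩, ?_⟩
  rintro h _ ⟨Y, hY, hne, rfl⟩
  exact h Y hY hne

theorem mem_dd {V Z X : Subgroup G} {w : G} :
    w ∈ dd V Z X ↔ w ∈ ws V X ∧ ∀ Y, Pnt V Z Y → Y ≠ X → w ∈ centralizer ((ws V Y : Subgroup G) : Set G) := by
  unfold dd
  rw [mem_inf, mem_sInf]
  refine and_congr_right fun _ => ⟨fun h Y hY hne => h _ ⟨Y, hY, hne, rfl⟩, ?_⟩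
  rintro h _ ⟨Y, hY, hne, rfl⟩
  exact h Y hY hne

theorem mem_w1 {V Z X : Subgroup G} {w : G} :
    w ∈ w1 V Z X ↔ w ∈ ws V X ∧ ∀ Y, Pnt V Z Y → Y ≠ X → w ∈ centralizer ((ee V Z Y : Subgroup G) : Set G) := by
  unfold w1
  rw [mem_inf, mem_sInf]
  refine and_congr_right fun _ => ⟨fun h Y hY hne => h _ ⟨Y, hY, hne, rfl⟩, ?_⟩
  rintro h _ ⟨Y, hY, hne, rfl⟩
  exact h Y hY hne

theorem mem_n0 {V Z X : Subgroup G} {w : G} : w ∈ n0 V Z X ↔ w ∈ ws V X ∧ w ∈ centralizer (V : Set G) ∧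
    ∀ Y, Pnt V Z Y → ∀ u ∈ ws V Y, w * u * w⁻¹ * u⁻¹ ∈ V := Iff.rfl

/-- **The hypotheses** of the case `n = 1`. -/
structure One [Finite G] (S : Sylow 2 G) (B P V Z : Subgroup G) : Prop where
  pl : PB S B P V Z
  hf : ¬ kx V Z ≤ centralizer (V : Set G)
  hO : OmB B V
  nc : ∃ Y, Pnt V Z Y ∧ ¬ ws V Z ≤ centralizer ((ws V Y : Subgroup G) : Set G)

/-! ### conjugation of the subgroups -/

section conj

variable {V Z X : Subgroup G} {g : G}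

theorem Pnt.conj {Y : Subgroup G} (h : Pnt V Z Y) (hg : g ∈ normalizer (V : Set G)) : Pnt V Z (PT.cj g Y) := by
  refine ⟨h.cj.cj g, ?_⟩
  have h1 := cj_le_cj (g := g).2 h.le
  rwa [cj_eq_iff.2 hg] at h1

theorem cj_ee (hg : g ∈ normalizer (V : Set G)) : PT.cj g (ee V Z X) = ee V Z (PT.cj g X) := by
  have key : ∀ g ∈ normalizer (V : Set G), ∀ X, PT.cj g (ee V Z X) ≤ ee V Z (PT.cj g X) := by
    intro g hg X w hw
    rw [mem_cj, mem_ee] at hw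
    refine mem_ee.2 ⟨?_, fun Y hY hne => ?_⟩
    · rw [ws_cj, mem_cj]; exact hw.1
    · have h1 := hw.2 _ (hY.conj (inv_mem hg)) (fun e => hne (by
        rw [← e, cj_cj, mul_inv_cancel, cj_one]))
      rw [kx_cj, mem_cj, inv_inv] at h1
      have e : g * (g⁻¹ * w * g) * g⁻¹ = w := by group
      rwa [e] at h1
  refine le_antisymm (key g hg X) ?_
  have h1 := key g⁻¹ (inv_mem hg) (PT.cj g X)
  rw [cj_cj, inv_mul_cancel, cj_one, cj_le_iff, inv_inv] at h1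
  exact h1

theorem cj_dd (hg : g ∈ normalizer (V : Set G)) : PT.cj g (dd V Z X) = dd V Z (PT.cj g X) := by
  have key : ∀ g ∈ normalizer (V : Set G), ∀ X, PT.cj g (dd V Z X) ≤ dd V Z (PT.cj g X) := by
    intro g hg X w hw
    rw [mem_cj, mem_dd] at hw
    refine mem_dd.2 ⟨?_, fun Y hY hne => ?_⟩
    · rw [ws_cj, mem_cj]; exact hw.1
    · have h1 := hw.2 _ (hY.conj (inv_mem hg)) (fun e => hne (by
        rw [← e, cj_cj, mul_inv_cancel, cj_one]))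
      rw [ws_cj, ← cj_centralizer, mem_cj, inv_inv] at h1
      have e : g * (g⁻¹ * w * g) * g⁻¹ = w := by group
      rwa [e] at h1
  refine le_antisymm (key g hg X) ?_
  have h1 := key g⁻¹ (inv_mem hg) (PT.cj g X)
  rw [cj_cj, inv_mul_cancel, cj_one, cj_le_iff, inv_inv] at h1
  exact h1

theorem cj_w1 (hg : g ∈ normalizer (V : Set G)) : PT.cj g (w1 V Z X) = w1 V Z (PT.cj g X) := by
  have key : ∀ g ∈ normalizer (V : Set G), ∀ X, PT.cj g (w1 V Z X) ≤ w1 V Z (PT.cj g X) := by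
    intro g hg X w hw
    rw [mem_cj, mem_w1] at hw
    refine mem_w1.2 ⟨?_, fun Y hY hne => ?_⟩
    · rw [ws_cj, mem_cj]; exact hw.1
    · have h1 := hw.2 _ (hY.conj (inv_mem hg)) (fun e => hne (by
        rw [← e, cj_cj, mul_inv_cancel, cj_one]))
      rw [← cj_ee (inv_mem hg), ← cj_centralizer, mem_cj, inv_inv] at h1
      have e : g * (g⁻¹ * w * g) * g⁻¹ = w := by group
      rwa [e] at h1
  refine le_antisymm (key g hg X) ?_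
  have h1 := key g⁻¹ (inv_mem hg) (PT.cj g X)
  rw [cj_cj, inv_mul_cancel, cj_one, cj_le_iff, inv_inv] at h1
  exact h1

theorem cj_n0 (hg : g ∈ normalizer (V : Set G)) : PT.cj g (n0 V Z X) = n0 V Z (PT.cj g X) := by
  have key : ∀ g ∈ normalizer (V : Set G), ∀ X, PT.cj g (n0 V Z X) ≤ n0 V Z (PT.cj g X) := by
    intro g hg X w hw
    rw [mem_cj, mem_n0] at hw
    refine mem_n0.2 ⟨?_, ?_, fun Y hY u hu => ?_⟩
    · rw [ws_cj, mem_cj]; exact hw.1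
    · rw [← cj_eq_iff.2 hg, ← cj_centralizer, mem_cj]; exact hw.2.1
    · have hu' : g⁻¹ * u * g ∈ ws V (PT.cj g⁻¹ Y) := by
        rw [ws_cj, mem_cj, inv_inv]
        have e : g * (g⁻¹ * u * g) * g⁻¹ = u := by group
        rwa [e]
      have h1 := hw.2.2 _ (hY.conj (inv_mem hg)) _ hu'
      have h2 := (mem_normalizer_iff.1 hg _).1 h1
      have e : g * (g⁻¹ * w * g * (g⁻¹ * u * g) * (g⁻¹ * w * g)⁻¹ * (g⁻¹ * u * g)⁻¹) * g⁻¹ =
        w * u * w⁻¹ * u⁻¹ := by group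
      rwa [e] at h2
  refine le_antisymm (key g hg X) ?_
  have h1 := key g⁻¹ (inv_mem hg) (PT.cj g X)
  rw [cj_cj, inv_mul_cancel, cj_one, cj_le_iff, inv_inv] at h1
  exact h1

theorem ee_of (hX : IsCj Z X) (Y : Subgroup G) : ee V X Y = ee V Z Y := by
  ext w
  rw [mem_ee, mem_ee]
  exact and_congr_right fun _ => forall_congr' fun T => by rw [pnt_iff hX]

theorem dd_of (hX : IsCj Z X) (Y : Subgroup G) : dd V X Y = dd V Z Y := by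
  ext w
  rw [mem_dd, mem_dd]
  exact and_congr_right fun _ => forall_congr' fun T => by rw [pnt_iff hX]

theorem w1_of (hX : IsCj Z X) (Y : Subgroup G) : w1 V X Y = w1 V Z Y := by
  ext w
  rw [mem_w1, mem_w1]
  exact and_congr_right fun _ => forall_congr' fun T => by rw [pnt_iff hX, ee_of hX]

theorem n0_of (hX : IsCj Z X) (Y : Subgroup G) : n0 V X Y = n0 V Z Y := by
  ext w
  rw [mem_n0, mem_n0]
  exact and_congr_right fun _ => and_congr_right fun _ => forall_congr' fun T => by rw [pnt_iff hX]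

end conj

namespace One

variable [Finite G] {S : Sylow 2 G} {B P V Z : Subgroup G} (h : One S B P V Z)
include h

theorem self : Pnt V Z Z := ⟨h.pl.isCj_self, h.pl.ZV⟩

/-- every point of `V` is as good as `Z` -/
theorem pt {X : Subgroup G} (hX : Pnt V Z X) : ∃ (T : Sylow 2 G) (C : Subgroup G), One T C P V X := by
  obtain ⟨p, hp, rfl⟩ := h.pl.exists_pt hX.cj hX.le
  have hpV := h.pl.PN hp
  have hV : cj p V = V := cj_eq_iff.2 hpV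
  refine ⟨p • S, cj p B, h.pl.pt hp, h.pl.hf_pt h.hf hX.cj hX.le, ?_, ?_⟩
  · intro y hy hy1 hy2 hy3
    have h1 : p⁻¹ * y * p ∈ V := by
      refine h.hO _ (mem_cj.1 hy) ?_ ?_ fun s hs hs1 => ?_
      · rw [← mem_cj (g := p), cj_centralizer, hV]
        exact hy1
      · calc p⁻¹ * y * p * (p⁻¹ * y * p) = p⁻¹ * (y * y) * p := by group
          _ = 1 := by rw [hy2]; group
      · have h1 := hy3 _ (conj_mem_cj (g := p) hs) (by
          have h2 := conj_mem_cj (g := p) hs1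
          rwa [cj_centralizer, hV] at h2)
        have h2 := congrArg (fun t => p⁻¹ * t * p) h1
        simpa [mul_assoc] using h2
    rw [← mem_cj (g := p), hV] at h1
    exact h1
  · obtain ⟨Y, hY, hne⟩ := h.nc
    refine ⟨cj p Y, (pnt_iff hX.cj).2 (hY.conj hpV), fun e => hne ?_⟩
    rw [ws_cj, ws_cj, ← cj_centralizer, cj_le_cj] at e
    exact e

theorem exists_ne {X : Subgroup G} (hX : Pnt V Z X) : ∃ Y, Pnt V Z Y ∧ Y ≠ X := by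
  obtain ⟨Y, h1, h2, h3⟩ := h.pl.exists_second hX.cj hX.le
  exact ⟨Y, ⟨h1, h2⟩, h3⟩

theorem comm_W {X : Subgroup G} (hX : IsCj Z X) {a b : G} (ha : a ∈ ws V X) (hb : b ∈ ws V X) : a * b = b * a :=
  (mem_centralizer_iff.1 (h.pl.ws_comm hX ha) b hb).symm

theorem sq_W {X : Subgroup G} (hX : Pnt V Z X) {a : G} (ha : a ∈ ws V X) : a * a = 1 := by
  obtain ⟨T, C, h'⟩ := h.pt hX
  exact h'.pl.ws_sq a ha

theorem V_le_W {X : Subgroup G} (hX : Pnt V Z X) : V ≤ ws V X := h.pl.V_le_ws hX.le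

theorem W_le_cent {X : Subgroup G} (hX : Pnt V Z X) : ws V X ≤ centralizer (V : Set G) := by
  intro a ha
  rw [mem_centralizer_iff]
  exact fun v hv => h.comm_W hX.cj (h.V_le_W hX hv) ha

theorem cent_norm_W {X : Subgroup G} (hX : Pnt V Z X) :
    centralizer (V : Set G) ≤ normalizer ((ws V X : Subgroup G) : Set G) :=
  ((centralizer_le (show (X : Set G) ⊆ V from hX.le)).trans (centralizer_le_normalizer _)).trans (normalizer_le_ws V X)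

theorem cent_norm_K {X : Subgroup G} (hX : Pnt V Z X) :
    centralizer (V : Set G) ≤ normalizer ((kx V X : Subgroup G) : Set G) :=
  ((centralizer_le (show (X : Set G) ⊆ V from hX.le)).trans (centralizer_le_normalizer _)).trans (normalizer_le_kx V X)

theorem cent_fix {X : Subgroup G} (hX : Pnt V Z X) {c : G} (hc : c ∈ centralizer (V : Set G)) : cj c X = X :=
  cj_eq_iff.2 (centralizer_le_normalizer _ (centralizer_le hX.le hc))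

theorem cent_V {c v : G} (hc : c ∈ centralizer (V : Set G)) (hv : v ∈ V) : c * v = v * c :=
  (mem_centralizer_iff.1 hc v hv).symm

/-- `[W_X, W_Y] ≤ I` -/
theorem comm_mem {X Y : Subgroup G} (hX : Pnt V Z X) (hY : Pnt V Z Y) (hne : X ≠ Y) {a b : G} (ha : a ∈ ws V X)
    (hb : b ∈ ws V Y) : a * b * a⁻¹ * b⁻¹ ∈ IV V Z := by
  rw [← h.pl.IV_eq h.hf hX.cj hX.le hY.cj hY.le hne]
  have h1 := (mem_normalizer_iff.1 (h.cent_norm_W hY (h.W_le_cent hX ha)) b).1 hb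
  have h2 := (mem_normalizer_iff.1 (h.cent_norm_W hX (h.W_le_cent hY hb)) a⁻¹).1 (inv_mem ha)
  refine ⟨?_, (ws V Y).mul_mem h1 ((ws V Y).inv_mem hb)⟩
  have e : a * b * a⁻¹ * b⁻¹ = a * (b * a⁻¹ * b⁻¹) := by group
  rw [e]
  exact (ws V X).mul_mem ha h2

theorem I_le_W {X : Subgroup G} (hX : Pnt V Z X) : IV V Z ≤ ws V X := IV_le hX.cj hX.le

theorem I_le_cent : IV V Z ≤ centralizer (V : Set G) := (h.I_le_W h.self).trans (h.W_le_cent h.self)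

/-- `I` centralises `W_X` -/
theorem I_comm_W {X : Subgroup G} (hX : Pnt V Z X) {a b : G} (ha : a ∈ IV V Z) (hb : b ∈ ws V X) : a * b = b * a :=
  h.comm_W hX.cj (h.I_le_W hX ha) hb

theorem I_sq {a : G} (ha : a ∈ IV V Z) : a * a = 1 := h.pl.IV_sq ha

theorem inv_eq_W {X : Subgroup G} (hX : Pnt V Z X) {a : G} (ha : a ∈ ws V X) : a⁻¹ = a :=
  inv_eq_of_mul_eq_one_left (h.sq_W hX ha)

/-- conjugation by `K_X` in `V`: transitive on the other points -/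
theorem move {X A B : Subgroup G} (hX : Pnt V Z X) (hA : Pnt V Z A) (hB : Pnt V Z B) (hAX : A ≠ X) (hBX : B ≠ X) :
    ∃ k ∈ kx V X, cj k A = B := by
  obtain ⟨T, C, h'⟩ := h.pt hX
  obtain ⟨k, hk, -, hk2⟩ := h'.pl.K_trans h'.hf ((pnt_iff hX.cj).2 hA).cj hA.le ((pnt_iff hX.cj).2 hB).cj hB.le hAX hBX
  exact ⟨k, hk, hk2⟩

theorem K_norm {X : Subgroup G} (hX : Pnt V Z X) : kx V X ≤ normalizer (V : Set G) := h.pl.kx_norm_V' hX.le

theorem K_fix {X : Subgroup G} {k : G} (hk : k ∈ kx V X) : cj k X = X := by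
  rw [cj_eq_iff]
  refine centralizer_le_normalizer _ (kx_le_cent hk)

/-- `K_X` normalises every subgroup `X ≤ U ≤ W_X` -/
theorem K_stab {X U : Subgroup G} (h1 : X ≤ U) (h2 : U ≤ ws V X) {k : G} (hk : k ∈ kx V X) :
    cj k U = U := cj_eq_iff.2 (kx_normalizes h1 h2 hk)

/-- a property of `(X, Y)`, stable under `K_X`, does not depend on `Y ≠ X` -/
theorem ee_eq {X Y : Subgroup G} (hX : Pnt V Z X) (hY : Pnt V Z Y) (hne : Y ≠ X) : ee V Z X = ws V X ⊓ kx V Y := by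
  apply le_antisymm
  · intro w hw
    exact ⟨hw.1, (mem_ee.1 hw).2 Y hY hne⟩
  · rintro w ⟨hw, hwY⟩
    refine mem_ee.2 ⟨hw, fun T hT hTX => ?_⟩
    obtain ⟨k, hk, rfl⟩ := h.move hX hY hT hne hTX
    have h1 : X ≤ ws V X ⊓ kx V Y := by
      refine le_inf (hX.le.trans (h.V_le_W hX)) fun x hx => mem_kx.2 ⟨fun y hy => ?_, fun u hu => ?_⟩
      · exact h.pl.Vcomm (hX.le hx) (hY.le hy)
      · have : x * u * x⁻¹ * u⁻¹ = 1 := by
          rw [h.comm_W hY.cj (h.V_le_W hY (hX.le hx)) hu]; group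
        rw [this]; exact one_mem _
    have h2 := h.K_stab h1 inf_le_left hk
    have h3 : w ∈ cj k (ws V X ⊓ kx V Y) := by rw [h2]; exact ⟨hw, hwY⟩
    rw [cj_inf, ← kx_cj] at h3
    exact h3.2

theorem dd_eq {X Y : Subgroup G} (hX : Pnt V Z X) (hY : Pnt V Z Y) (hne : Y ≠ X) :
    dd V Z X = ws V X ⊓ centralizer ((ws V Y : Subgroup G) : Set G) := by
  apply le_antisymm
  · intro w hw
    exact ⟨hw.1, (mem_dd.1 hw).2 Y hY hne⟩
  · rintro w ⟨hw, hwY⟩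
    refine mem_dd.2 ⟨hw, fun T hT hTX => ?_⟩
    obtain ⟨k, hk, rfl⟩ := h.move hX hY hT hne hTX
    have h1 : X ≤ ws V X ⊓ centralizer ((ws V Y : Subgroup G) : Set G) := by
      refine le_inf (hX.le.trans (h.V_le_W hX)) fun x hx => mem_centralizer_iff.2 fun u hu => ?_
      exact (h.comm_W hY.cj (h.V_le_W hY (hX.le hx)) hu).symm
    have h2 := h.K_stab h1 inf_le_left hk
    have h3 : w ∈ cj k (ws V X ⊓ centralizer ((ws V Y : Subgroup G) : Set G)) := by rw [h2]; exact ⟨hw, hwY⟩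
    rw [cj_inf, cj_centralizer] at h3
    have h4 := h3.2
    rwa [← ws_cj] at h4

theorem w1_eq {X Y : Subgroup G} (hX : Pnt V Z X) (hY : Pnt V Z Y) (hne : Y ≠ X) :
    w1 V Z X = ws V X ⊓ centralizer ((ee V Z Y : Subgroup G) : Set G) := by
  apply le_antisymm
  · intro w hw
    exact ⟨hw.1, (mem_w1.1 hw).2 Y hY hne⟩
  · rintro w ⟨hw, hwY⟩
    refine mem_w1.2 ⟨hw, fun T hT hTX => ?_⟩
    obtain ⟨k, hk, rfl⟩ := h.move hX hY hT hne hTX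
    have h1 : X ≤ ws V X ⊓ centralizer ((ee V Z Y : Subgroup G) : Set G) := by
      refine le_inf (hX.le.trans (h.V_le_W hX)) fun x hx => mem_centralizer_iff.2 fun u hu => ?_
      exact (h.comm_W hY.cj (h.V_le_W hY (hX.le hx)) (ee_le hu)).symm
    have h2 := h.K_stab h1 inf_le_left hk
    have h3 : w ∈ cj k (ws V X ⊓ centralizer ((ee V Z Y : Subgroup G) : Set G)) := by rw [h2]; exact ⟨hw, hwY⟩
    rw [cj_inf, cj_centralizer, cj_ee (h.K_norm hX hk)] at h3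
    exact h3.2

/-- one point `Y ≠ X` is enough -/
theorem n0_eq {X Y : Subgroup G} (hX : Pnt V Z X) (hY : Pnt V Z Y) (hne : Y ≠ X) {w : G} (hw : w ∈ ws V X)
    (hwY : ∀ u ∈ ws V Y, w * u * w⁻¹ * u⁻¹ ∈ V) : w ∈ n0 V Z X := by
  refine mem_n0.2 ⟨hw, h.W_le_cent hX hw, fun T hT u hu => ?_⟩
  by_cases hTX : T = X
  · subst hTX
    have : w * u * w⁻¹ * u⁻¹ = 1 := by rw [h.comm_W hT.cj hw hu]; group
    rw [this]; exact one_mem _
  obtain ⟨k, hk, rfl⟩ := h.move hX hY hT hne hTX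
  have hkV := h.K_norm hX hk
  -- `k⁻¹ w k = x w`
  have hu' : k⁻¹ * u * k ∈ ws V Y := by rw [ws_cj, mem_cj] at hu; exact hu
  obtain ⟨x, hx, hxw⟩ : ∃ x ∈ X, k⁻¹ * w * k = x * w :=
    ⟨k⁻¹ * w * k⁻¹⁻¹ * w⁻¹, (mem_kx.1 (inv_mem hk)).2 w hw, by group⟩
  have h1 : x * w * (k⁻¹ * u * k) * (x * w)⁻¹ * (k⁻¹ * u * k)⁻¹ ∈ V := by
    have hxu : x * (w * (k⁻¹ * u * k) * w⁻¹) = (w * (k⁻¹ * u * k) * w⁻¹) * x := by
      have h2 : w * (k⁻¹ * u * k) * w⁻¹ ∈ ws V Y :=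
        (mem_normalizer_iff.1 (h.cent_norm_W hY (h.W_le_cent hX hw)) _).1 hu'
      exact h.comm_W hY.cj (h.V_le_W hY (hX.le hx)) h2
    have e : x * w * (k⁻¹ * u * k) * (x * w)⁻¹ * (k⁻¹ * u * k)⁻¹ = w * (k⁻¹ * u * k) * w⁻¹ * (k⁻¹ * u * k)⁻¹ := by
      calc x * w * (k⁻¹ * u * k) * (x * w)⁻¹ * (k⁻¹ * u * k)⁻¹
          = (x * (w * (k⁻¹ * u * k) * w⁻¹)) * x⁻¹ * (k⁻¹ * u * k)⁻¹ := by group
        _ = ((w * (k⁻¹ * u * k) * w⁻¹) * x) * x⁻¹ * (k⁻¹ * u * k)⁻¹ := by rw [hxu]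
        _ = _ := by group
    rw [e]
    exact hwY _ hu'
  rw [← hxw] at h1
  have h2 := (mem_normalizer_iff.1 hkV _).1 h1
  have e : k * (k⁻¹ * w * k * (k⁻¹ * u * k) * (k⁻¹ * w * k)⁻¹ * (k⁻¹ * u * k)⁻¹) * k⁻¹ = w * u * w⁻¹ * u⁻¹ := by
    group
  rwa [e] at h2


/-! ### commutators -/

/-- `w ∈ W_X` lies in `E_X` if `[w, W_Y] ≤ Y` for one point `Y ≠ X` -/
theorem mem_ee_of {X Y : Subgroup G} (hX : Pnt V Z X) (hY : Pnt V Z Y) (hne : Y ≠ X) {w : G} (hw : w ∈ ws V X)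
    (hwY : ∀ u ∈ ws V Y, w * u * w⁻¹ * u⁻¹ ∈ Y) : w ∈ ee V Z X := by
  rw [h.ee_eq hX hY hne]
  exact ⟨hw, mem_kx.2 ⟨fun y hy => h.cent_V (h.W_le_cent hX hw) (hY.le hy), hwY⟩⟩

theorem ee_act {X Y : Subgroup G} (hY : Pnt V Z Y) (hne : Y ≠ X) {w u : G} (hw : w ∈ ee V Z X) (hu : u ∈ ws V Y) :
    w * u * w⁻¹ * u⁻¹ ∈ Y := (mem_kx.1 ((mem_ee.1 hw).2 Y hY hne)).2 u hu

theorem ee_act' {X Y : Subgroup G} (hY : Pnt V Z Y) (hne : Y ≠ X) {w u : G} (hw : w ∈ ee V Z X) (hu : u ∈ ws V Y) :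
    u * w * u⁻¹ * w⁻¹ ∈ Y := by
  have h1 := inv_mem (h.ee_act hY hne hw hu)
  have e : (w * u * w⁻¹ * u⁻¹)⁻¹ = u * w * u⁻¹ * w⁻¹ := by group
  rwa [e] at h1

theorem dd_comm {X Y : Subgroup G} (hY : Pnt V Z Y) (hne : Y ≠ X) {w u : G} (hw : w ∈ dd V Z X) (hu : u ∈ ws V Y) :
    w * u = u * w := (mem_centralizer_iff.1 ((mem_dd.1 hw).2 Y hY hne) u hu).symm

theorem mem_dd_of {X Y : Subgroup G} (hX : Pnt V Z X) (hY : Pnt V Z Y) (hne : Y ≠ X) {w : G} (hw : w ∈ ws V X)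
    (hwY : ∀ u ∈ ws V Y, w * u = u * w) : w ∈ dd V Z X := by
  rw [h.dd_eq hX hY hne]
  exact ⟨hw, mem_centralizer_iff.2 fun u hu => (hwY u hu).symm⟩

theorem I_le_dd {X : Subgroup G} (hX : Pnt V Z X) : IV V Z ≤ dd V Z X := by
  intro w hw
  refine mem_dd.2 ⟨h.I_le_W hX hw, fun Y hY _ => mem_centralizer_iff.2 fun u hu => ?_⟩
  exact (h.I_comm_W hY hw hu).symm

theorem dd_le_ee {X : Subgroup G} (hX : Pnt V Z X) : dd V Z X ≤ ee V Z X := by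
  intro w hw
  refine mem_ee.2 ⟨hw.1, fun Y hY hne => mem_kx.2 ⟨fun y hy => ?_, fun u hu => ?_⟩⟩
  · exact h.cent_V (h.W_le_cent hX hw.1) (hY.le hy)
  · have : w * u * w⁻¹ * u⁻¹ = 1 := by rw [h.dd_comm hY hne hw hu]; group
    rw [this]; exact one_mem _

theorem X_le_dd {X : Subgroup G} (hX : Pnt V Z X) : X ≤ dd V Z X :=
  (hX.le.trans h.pl.V_le_IV).trans (h.I_le_dd hX)

theorem ee_le_n0 {X : Subgroup G} (hX : Pnt V Z X) : ee V Z X ≤ n0 V Z X := by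
  obtain ⟨Y, hY, hne⟩ := h.exists_ne hX
  exact fun w hw => h.n0_eq hX hY hne hw.1 fun u hu => hY.le (h.ee_act hY hne hw hu)

/-- `[E_X, E_Y] = 1` -/
theorem ee_comm {X Y : Subgroup G} (hX : Pnt V Z X) (hY : Pnt V Z Y) (hne : X ≠ Y) {a b : G} (ha : a ∈ ee V Z X)
    (hb : b ∈ ee V Z Y) : a * b = b * a := by
  have h1 := h.ee_act hY hne.symm ha hb.1
  have h2 := h.ee_act' hX hne hb ha.1
  have h3 : a * b * a⁻¹ * b⁻¹ ∈ X ⊓ Y := ⟨h2, h1⟩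
  rw [h.pl.pts_inf hX.cj hY.cj hne, mem_bot, mul_inv_eq_one, mul_inv_eq_iff_eq_mul] at h3
  exact h3

theorem ee_le_w1 {X : Subgroup G} (hX : Pnt V Z X) : ee V Z X ≤ w1 V Z X := by
  intro w hw
  refine mem_w1.2 ⟨hw.1, fun Y hY hne => mem_centralizer_iff.2 fun u hu => ?_⟩
  exact (h.ee_comm hX hY hne.symm hw hu).symm

/-- `[K_T ∩ C_G(V), W_X] ≤ E_X` -/
theorem kx_ee {X T : Subgroup G} (hX : Pnt V Z X) (hT : Pnt V Z T) {k w : G} (hk : k ∈ kx V T)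
    (hkV : k ∈ centralizer (V : Set G)) (hw : w ∈ ws V X) : k * w * k⁻¹ * w⁻¹ ∈ ee V Z X := by
  by_cases hTX : T = X
  · subst hTX
    exact h.dd_le_ee hX (h.X_le_dd hX ((mem_kx.1 hk).2 w hw))
  have hkw : k * w * k⁻¹ ∈ ws V X := (mem_normalizer_iff.1 (h.cent_norm_W hX hkV) w).1 hw
  refine h.mem_ee_of hX hT hTX (mul_mem hkw (inv_mem hw)) fun u hu => ?_
  -- `k u k⁻¹ = t u`
  obtain ⟨t, ht, htu⟩ : ∃ t ∈ T, k⁻¹ * u * k = t * u :=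
    ⟨k⁻¹ * u * k⁻¹⁻¹ * u⁻¹, (mem_kx.1 (inv_mem hk)).2 u hu, by group⟩
  have hc := h.comm_mem hX hT (Ne.symm hTX) hw hu
  set c := w * u * w⁻¹ * u⁻¹ with hcdef
  have hcT : c ∈ ws V T := h.I_le_W hT hc
  -- `[k w k⁻¹, u] = k [w, t u] k⁻¹ = k c k⁻¹`
  have htw : t * w = w * t := (h.cent_V (h.W_le_cent hX hw) (hT.le ht)).symm
  have h1 : w * (t * u) * w⁻¹ * (t * u)⁻¹ = c := by
    have h2 : t * c = c * t := h.comm_W hT.cj (h.V_le_W hT (hT.le ht)) hcT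
    calc w * (t * u) * w⁻¹ * (t * u)⁻¹ = (w * t) * u * w⁻¹ * u⁻¹ * t⁻¹ := by group
      _ = (t * w) * u * w⁻¹ * u⁻¹ * t⁻¹ := by rw [htw]
      _ = t * c * t⁻¹ := by rw [hcdef]; group
      _ = c := by rw [h2, mul_inv_cancel_right]
  have h2 : (k * w * k⁻¹) * u * (k * w * k⁻¹)⁻¹ * u⁻¹ = k * c * k⁻¹ := by
    rw [← h1, ← htu]; group
  have h3 : k * c * k⁻¹ * c⁻¹ ∈ T := (mem_kx.1 hk).2 c hcT
  -- `[k w k⁻¹ w⁻¹, u] = [k w k⁻¹, u]^.. [w⁻¹, u]`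
  have hwi : w⁻¹ = w := h.inv_eq_W hX hw
  have h4 : (k * w * k⁻¹ * w⁻¹) * u * (k * w * k⁻¹ * w⁻¹)⁻¹ * u⁻¹ = k * c * k⁻¹ * c⁻¹ := by
    have h5 : (k * w * k⁻¹) * (w * u * w⁻¹) * (k * w * k⁻¹)⁻¹ = (k * w * k⁻¹) * c * (k * w * k⁻¹)⁻¹ *
        ((k * w * k⁻¹) * u * (k * w * k⁻¹)⁻¹) := by rw [hcdef]; group
    have h6 : (k * w * k⁻¹) * c * (k * w * k⁻¹)⁻¹ = c := by
      rw [mul_inv_eq_iff_eq_mul]
      exact (h.I_comm_W hX hc hkw).symm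
    have h7 : (k * w * k⁻¹) * u * (k * w * k⁻¹)⁻¹ = k * c * k⁻¹ * u := by
      rw [← h2]; group
    have h8 : k * c * k⁻¹ ∈ IV V Z := by
      exact (mem_normalizer_iff.1 (normalizer_le_IV V Z (centralizer_le_normalizer _ hkV)) c).1 hc
    calc (k * w * k⁻¹ * w⁻¹) * u * (k * w * k⁻¹ * w⁻¹)⁻¹ * u⁻¹
        = (k * w * k⁻¹) * (w⁻¹ * u * w⁻¹⁻¹) * (k * w * k⁻¹)⁻¹ * u⁻¹ := by group
      _ = (k * w * k⁻¹) * (w * u * w⁻¹) * (k * w * k⁻¹)⁻¹ * u⁻¹ := by rw [hwi]; rw [hwi]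
      _ = c * (k * c * k⁻¹ * u) * u⁻¹ := by rw [h5, h6, h7]
      _ = c * (k * c * k⁻¹) := by group
      _ = (k * c * k⁻¹) * c := h.pl.IV_comm hc h8
      _ = (k * c * k⁻¹) * c⁻¹ := by rw [inv_eq_of_mul_eq_one_left (h.I_sq hc)]
  rw [h4]
  exact h3

/-- `[K_T ∩ C_G(V), E_X] ≤ D_X` for points `T ≠ X` -/
theorem kx_dd {X T : Subgroup G} (hX : Pnt V Z X) (hT : Pnt V Z T) {k w : G} (hk : k ∈ kx V T)
    (hkV : k ∈ centralizer (V : Set G)) (hw : w ∈ ee V Z X) : k * w * k⁻¹ * w⁻¹ ∈ dd V Z X := by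
  by_cases hTX : T = X
  · subst hTX
    exact h.X_le_dd hX ((mem_kx.1 hk).2 w hw.1)
  have hkw : k * w * k⁻¹ ∈ ws V X := (mem_normalizer_iff.1 (h.cent_norm_W hX hkV) w).1 hw.1
  refine h.mem_dd_of hX hT hTX (mul_mem hkw (inv_mem hw.1)) fun u hu => ?_
  obtain ⟨t, ht, htu⟩ : ∃ t ∈ T, k⁻¹ * u * k = t * u :=
    ⟨k⁻¹ * u * k⁻¹⁻¹ * u⁻¹, (mem_kx.1 (inv_mem hk)).2 u hu, by group⟩
  have hc := h.ee_act hT hTX hw hu
  set c := w * u * w⁻¹ * u⁻¹ with hcdef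
  have hcT : c ∈ ws V T := h.V_le_W hT (hT.le hc)
  have htw : t * w = w * t := (h.cent_V (h.W_le_cent hX hw.1) (hT.le ht)).symm
  have h1 : w * (t * u) * w⁻¹ * (t * u)⁻¹ = c := by
    have h2 : t * c = c * t := h.comm_W hT.cj (h.V_le_W hT (hT.le ht)) hcT
    calc w * (t * u) * w⁻¹ * (t * u)⁻¹ = (w * t) * u * w⁻¹ * u⁻¹ * t⁻¹ := by group
      _ = (t * w) * u * w⁻¹ * u⁻¹ * t⁻¹ := by rw [htw]
      _ = t * c * t⁻¹ := by rw [hcdef]; group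
      _ = c := by rw [h2, mul_inv_cancel_right]
  have hkc : k * c * k⁻¹ = c := by
    rw [mul_inv_eq_iff_eq_mul]
    exact (mem_kx.1 hk).1 c hc
  have h2 : (k * w * k⁻¹) * u * (k * w * k⁻¹)⁻¹ * u⁻¹ = c := by
    have h3 : (k * w * k⁻¹) * u * (k * w * k⁻¹)⁻¹ * u⁻¹ = k * c * k⁻¹ := by
      rw [← h1, ← htu]; group
    rw [h3, hkc]
  -- both `k w k⁻¹` and `w` conjugate `u` to `c u`
  have h3 : (k * w * k⁻¹) * u * (k * w * k⁻¹)⁻¹ = c * u := by rw [← h2]; group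
  have h4 : w * u * w⁻¹ = c * u := by rw [hcdef]; group
  have h5 : w⁻¹ * (c * u) * w = u := by rw [← h4]; group
  have h6 : (k * w * k⁻¹ * w⁻¹) * (c * u) * (k * w * k⁻¹ * w⁻¹)⁻¹ = c * u := by
    calc (k * w * k⁻¹ * w⁻¹) * (c * u) * (k * w * k⁻¹ * w⁻¹)⁻¹
        = (k * w * k⁻¹) * (w⁻¹ * (c * u) * w) * (k * w * k⁻¹)⁻¹ := by group
      _ = c * u := by rw [h5, h3]
  have h7 : (k * w * k⁻¹ * w⁻¹) * c = c * (k * w * k⁻¹ * w⁻¹) :=
    h.comm_W hX.cj (mul_mem hkw (inv_mem hw.1)) (h.V_le_W hX (hT.le hc))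
  rw [mul_inv_eq_iff_eq_mul] at h6
  have h8 : c * ((k * w * k⁻¹ * w⁻¹) * u) = c * (u * (k * w * k⁻¹ * w⁻¹)) := by
    calc c * ((k * w * k⁻¹ * w⁻¹) * u) = (c * (k * w * k⁻¹ * w⁻¹)) * u := by group
      _ = ((k * w * k⁻¹ * w⁻¹) * c) * u := by rw [h7]
      _ = (k * w * k⁻¹ * w⁻¹) * (c * u) := by group
      _ = c * u * (k * w * k⁻¹ * w⁻¹) := h6
      _ = _ := by group
  exact mul_left_cancel h8

/-- `C_I(⟨K_T ∩ C_G(V)⟩) = V` -/
theorem mem_V_of_kx {u : G} (hu : u ∈ IV V Z) {T : Subgroup G} (hT : Pnt V Z T)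
    (hc : ∀ k ∈ kx V T, k ∈ centralizer (V : Set G) → k * u = u * k) : u ∈ V := by
  by_contra huV
  obtain ⟨y, hy, hy1⟩ := h.pl.pt_ne_bot hT.cj
  obtain ⟨d, hd, hdV, hdu⟩ := h.pl.F2' h.hf h.hO hu huV hT.cj hT.le hy
  apply hy1
  rw [← hdu, hc d hd hdV]
  group

theorem n_w1 {X : Subgroup G} (hX : Pnt V Z X) {c w : G} (hc : c ∈ centralizer (V : Set G)) (hw : w ∈ w1 V Z X) :
    c * w * c⁻¹ ∈ w1 V Z X := by
  have h1 := conj_mem_cj (g := c) hw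
  rwa [cj_w1 (centralizer_le_normalizer _ hc), h.cent_fix hX hc] at h1

theorem n_ee {X : Subgroup G} (hX : Pnt V Z X) {c w : G} (hc : c ∈ centralizer (V : Set G)) (hw : w ∈ ee V Z X) :
    c * w * c⁻¹ ∈ ee V Z X := by
  have h1 := conj_mem_cj (g := c) hw
  rwa [cj_ee (centralizer_le_normalizer _ hc), h.cent_fix hX hc] at h1

theorem n_dd {X : Subgroup G} (hX : Pnt V Z X) {c w : G} (hc : c ∈ centralizer (V : Set G)) (hw : w ∈ dd V Z X) :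
    c * w * c⁻¹ ∈ dd V Z X := by
  have h1 := conj_mem_cj (g := c) hw
  rwa [cj_dd (centralizer_le_normalizer _ hc), h.cent_fix hX hc] at h1

theorem n_n0 {X : Subgroup G} (hX : Pnt V Z X) {c w : G} (hc : c ∈ centralizer (V : Set G)) (hw : w ∈ n0 V Z X) :
    c * w * c⁻¹ ∈ n0 V Z X := by
  have h1 := conj_mem_cj (g := c) hw
  rwa [cj_n0 (centralizer_le_normalizer _ hc), h.cent_fix hX hc] at h1

/-- **(III.a)** `[C_{W_X}(E_Y), C_{W_Y}(E_X)] ≤ V` -/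
theorem w1_comm {X Y : Subgroup G} (hX : Pnt V Z X) (hY : Pnt V Z Y) (hne : X ≠ Y) {a b : G} (ha : a ∈ w1 V Z X)
    (hb : b ∈ w1 V Z Y) : a * b * a⁻¹ * b⁻¹ ∈ V := by
  have hc := h.comm_mem hX hY hne ha.1 hb.1
  refine h.mem_V_of_kx hc hX fun k hk hkV => ?_
  -- `k a k⁻¹ = e a`, `k b k⁻¹ = f b`, `e ∈ E_X`, `f ∈ E_Y`
  obtain ⟨e, he, hea⟩ : ∃ e ∈ ee V Z X, k * a * k⁻¹ = e * a :=
    ⟨_, h.kx_ee hX hX hk hkV ha.1, by group⟩
  obtain ⟨f, hf, hfb⟩ : ∃ f ∈ ee V Z Y, k * b * k⁻¹ = f * b :=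
    ⟨_, h.kx_ee hY hX hk hkV hb.1, by group⟩
  have haf : a * f = f * a := (mem_centralizer_iff.1 ((mem_w1.1 ha).2 Y hY hne.symm) f hf).symm
  have hbe : b * e = e * b := (mem_centralizer_iff.1 ((mem_w1.1 hb).2 X hX hne) e he).symm
  have hef : e * f = f * e := h.ee_comm hX hY hne he hf
  have hea' : e * a = a * e := h.comm_W hX.cj he.1 ha.1
  have hfb' : f * b = b * f := h.comm_W hY.cj hf.1 hb.1
  have key : k * (a * b * a⁻¹ * b⁻¹) * k⁻¹ = a * b * a⁻¹ * b⁻¹ := by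
    have hab : Commute (e : G) b := hbe.symm
    have haf' : Commute (a : G) f := haf
    have hef' : Commute (e : G) f := hef
    have hea'' : Commute (e : G) a := hea'
    have hfb'' : Commute (f : G) b := hfb'
    calc k * (a * b * a⁻¹ * b⁻¹) * k⁻¹ = (k * a * k⁻¹) * (k * b * k⁻¹) * (k * a * k⁻¹)⁻¹ * (k * b * k⁻¹)⁻¹ := by group
      _ = (e * a) * (f * b) * (e * a)⁻¹ * (f * b)⁻¹ := by rw [hea, hfb]
      _ = e * (a * f) * b * a⁻¹ * e⁻¹ * b⁻¹ * f⁻¹ := by group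
      _ = e * (f * a) * b * a⁻¹ * e⁻¹ * b⁻¹ * f⁻¹ := by rw [haf]
      _ = (e * f) * (a * b * a⁻¹) * (e⁻¹ * b⁻¹) * f⁻¹ := by group
      _ = (f * e) * (a * b * a⁻¹) * (b⁻¹ * e⁻¹) * f⁻¹ := by rw [hef, (hab.inv_inv).eq]
      _ = f * (e * (a * b * a⁻¹ * b⁻¹) * e⁻¹) * f⁻¹ := by group
      _ = f * (a * b * a⁻¹ * b⁻¹) * f⁻¹ := by
        have h1 : Commute e (a * b * a⁻¹ * b⁻¹) := ((hea''.mul_right hab).mul_right hea''.inv_right).mul_right hab.inv_right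
        rw [h1.eq, mul_inv_cancel_right]
      _ = a * b * a⁻¹ * b⁻¹ := by
        have h1 : Commute f (a * b * a⁻¹ * b⁻¹) :=
          ((haf'.symm.mul_right hfb'').mul_right haf'.symm.inv_right).mul_right hfb''.inv_right
        rw [h1.eq, mul_inv_cancel_right]
  rwa [mul_inv_eq_iff_eq_mul] at key

/-- `W_X` and `W_Y` do not commute, `X ≠ Y` points of `V` -/
theorem not_comm {X Y : Subgroup G} (hX : Pnt V Z X) (hY : Pnt V Z Y) (hne : X ≠ Y) :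
    ¬ ws V X ≤ centralizer ((ws V Y : Subgroup G) : Set G) := by
  obtain ⟨T, C, h'⟩ := h.pt hX
  obtain ⟨Y', hY', hc⟩ := h'.nc
  have hY'' := (pnt_iff hX.cj).1 hY'
  by_cases hYX : Y' = X
  · rw [hYX] at hc
    exact absurd (h.pl.ws_comm hX.cj) hc
  obtain ⟨k, hk, rfl⟩ := h.move hX hY'' hY hYX hne.symm
  intro e
  apply hc
  have h1 : cj k X = X := h.K_fix hk
  have h2 : ws V X = cj k (ws V X) := by rw [← ws_cj, h1]
  rw [ws_cj, ← cj_centralizer, h2, cj_le_cj] at e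
  exact e

/-- `A ≠ 1` -/
theorem ee_ne {X : Subgroup G} (hX : Pnt V Z X) : ee V Z X ≠ ws V X := by
  intro e
  obtain ⟨Y, hY, hne⟩ := h.exists_ne hX
  apply h.not_comm hX hY hne.symm
  obtain ⟨k, hk, -, hkX, -⟩ := h.pl.swap h.hf hX.cj hX.le hY.cj hY.le
  have h1 : ee V Z Y = ws V Y := by
    rw [← hkX, ← cj_ee (h.pl.XV_le_N hk), e, ws_cj]
  intro a ha
  rw [mem_centralizer_iff]
  intro b hb
  exact (h.ee_comm hX hY hne.symm (by rw [e]; exact ha) (by rw [h1]; exact hb)).symm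

/-- `|W_X : E_X| = |W_Y : E_Y|` -/
theorem relIndex_ee {X Y : Subgroup G} (hX : Pnt V Z X) (hY : Pnt V Z Y) :
    (ee V Z X).relIndex (ws V X) = (ee V Z Y).relIndex (ws V Y) := by
  obtain ⟨k, hk, -, rfl, -⟩ := h.pl.swap h.hf hX.cj hX.le hY.cj hY.le
  rw [← cj_ee (h.pl.XV_le_N hk), ws_cj]
  exact (relIndex_pointwise_smul _ _ _).symm

theorem relIndex_dd {X Y : Subgroup G} (hX : Pnt V Z X) (hY : Pnt V Z Y) :
    (dd V Z X).relIndex (ee V Z X) = (dd V Z Y).relIndex (ee V Z Y) := by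
  obtain ⟨k, hk, -, rfl, -⟩ := h.pl.swap h.hf hX.cj hX.le hY.cj hY.le
  rw [← cj_ee (h.pl.XV_le_N hk), ← cj_dd (h.pl.XV_le_N hk)]
  exact (relIndex_pointwise_smul _ _ _).symm

/-- the homomorphism `e ↦ [e, b]`, `E_X → Y`, for `b ∈ W_Y` -/
def eh {X Y : Subgroup G} (hX : Pnt V Z X) (hY : Pnt V Z Y) (hne : Y ≠ X) {b : G} (hb : b ∈ ws V Y) :
    (ee V Z X) →* Y where
  toFun e := ⟨e * b * (e : G)⁻¹ * b⁻¹, h.ee_act hY hne e.2 hb⟩
  map_one' := by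
    apply Subtype.ext
    show (1 : G) * b * (1 : G)⁻¹ * b⁻¹ = 1
    group
  map_mul' s t := by
    apply Subtype.ext
    show (s : G) * t * b * ((s : G) * t)⁻¹ * b⁻¹ = (s * b * (s : G)⁻¹ * b⁻¹) * (t * b * (t : G)⁻¹ * b⁻¹)
    have h1 := h.ee_act hY hne t.2 hb
    have h2 : (s : G) * t * b * ((s : G) * t)⁻¹ * b⁻¹ =
      (s : G) * (t * b * (t : G)⁻¹ * b⁻¹) * (s : G)⁻¹ * (s * b * (s : G)⁻¹ * b⁻¹) := by group
    rw [h2, h.cent_V (h.W_le_cent hX s.2.1) (hY.le h1), mul_inv_cancel_right]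
    exact h.pl.Vcomm (hY.le h1) (hY.le (h.ee_act hY hne s.2 hb))

theorem eh_apply {X Y : Subgroup G} (hX : Pnt V Z X) (hY : Pnt V Z Y) (hne : Y ≠ X) {b : G} (hb : b ∈ ws V Y)
    (e : ee V Z X) : (h.eh hX hY hne hb e : G) = e * b * (e : G)⁻¹ * b⁻¹ := rfl

/-- `|E_X : C_{E_X}(b)| ≤ q` for `b ∈ W_Y` -/
theorem card_ee_cent {X Y : Subgroup G} (hX : Pnt V Z X) (hY : Pnt V Z Y) (hne : Y ≠ X) {b : G}
    (hb : b ∈ ws V Y) : (centralizer ({b} : Set G)).relIndex (ee V Z X) ≤ Nat.card Z := by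
  have h1 : (centralizer ({b} : Set G)).subgroupOf (ee V Z X) = (h.eh hX hY hne hb).ker := by
    ext e
    rw [mem_subgroupOf, MonoidHom.mem_ker, ← Subtype.coe_inj, eh_apply, OneMemClass.coe_one, mul_inv_eq_one,
      mul_inv_eq_iff_eq_mul, mem_centralizer_singleton_iff]
  rw [relIndex, h1, index_ker, ← h.pl.card_pt hY.cj]
  exact Subgroup.card_le_card_group _

/-- **(III.b)** `|W_X : C_{W_X}(b)| ≤ q |W_X : E_X|` for `b ∈ W_Y` -/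
theorem card_cent {X Y : Subgroup G} (hX : Pnt V Z X) (hY : Pnt V Z Y) (hne : Y ≠ X) {b : G}
    (hb : b ∈ ws V Y) :
    (centralizer ({b} : Set G)).relIndex (ws V X) ≤ Nat.card Z * (ee V Z X).relIndex (ws V X) := by
  have h1 : (centralizer ({b} : Set G)).relIndex (ws V X) ≤
      (centralizer ({b} : Set G) ⊓ ee V Z X).relIndex (ws V X) :=
    relIndex_le_of_le_left inf_le_left Subgroup.FiniteIndex.index_ne_zero
  refine h1.trans ?_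
  rw [← relIndex_mul_relIndex (centralizer ({b} : Set G) ⊓ ee V Z X) (ee V Z X) (ws V X) inf_le_right ee_le]
  refine Nat.mul_le_mul_right _ ?_
  rw [inf_relIndex_right]
  exact h.card_ee_cent hX hY hne hb

end One

end Cfsg.Agent.Omega.NO3S.OneQ
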