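import Mathlib

set_option autoImplicit false

namespace Cfsg.Agent.Omega.NO3S.OneQ.DualAbs

/-- a nonzero additive functional of a field -/
theorem exists_tt (F : Type*) [Field F] [CharP F 2] : ∃ t : F →+ ZMod 2, ∃ x, t x ≠ 0 := by
  let _ := ZMod.algebra F 2
  by_contra hcon
  push Not at hcon
  refine one_ne_zero ((Module.forall_dual_apply_eq_zero_iff (ZMod 2) (1 : F)).1 fun φ => ?_)
  exact hcon φ.toAddMonoidHom 1

theorem eq_zero_of_tt {F : Type*} [Field F] {t : F →+ ZMod 2} {x : F} (hx : t x ≠ 0) {y : F}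
    (hy : ∀ c : F, t (c * y) = 0) : y = 0 := by
  by_contra hne
  apply hx
  have := hy (x * y⁻¹)
  rwa [mul_assoc, inv_mul_cancel₀ hne, mul_one] at this

/-- **duality over `F_2` of `F`-linear functionals** -/
theorem mem_of_dual {F M : Type*} [Field F] [CharP F 2] [AddCommGroup M] [Module F M] [Finite M]
    (A : AddSubgroup (M →ₗ[F] F)) {t : F →+ ZMod 2} {x : F} (hx : t x ≠ 0) (f : M →ₗ[F] F)
    (hf : ∀ m, (∀ a ∈ A, t (a m) = 0) → f m = 0) : f ∈ A := by
  have h2 : ∀ m : M, 2 • m = 0 := fun m => by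
    rw [← Nat.cast_smul_eq_nsmul F, Nat.cast_ofNat, CharTwo.two_eq_zero, zero_smul]
  let _ : Module (ZMod 2) M := AddCommGroup.zmodModule h2
  let tr : (M →ₗ[F] F) → Module.Dual (ZMod 2) M := fun a => (t.comp a.toAddMonoidHom).toZModLinearMap 2
  have htr : ∀ a m, tr a m = t (a m) := fun _ _ => rfl
  let E : Submodule (ZMod 2) (Module.Dual (ZMod 2) M) :=
    AddSubgroup.toZModSubmodule 2
      { carrier := {φ | ∃ a ∈ A, tr a = φ}
        zero_mem' := ⟨0, zero_mem _, LinearMap.ext fun m => by rw [htr]; simp⟩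
        add_mem' := by
          rintro _ _ ⟨a, ha, rfl⟩ ⟨b, hb, rfl⟩
          exact ⟨a + b, add_mem ha hb, LinearMap.ext fun m => by
            rw [LinearMap.add_apply, htr, htr, htr, LinearMap.add_apply, map_add]⟩
        neg_mem' := by
          rintro _ ⟨a, ha, rfl⟩
          exact ⟨-a, neg_mem ha, LinearMap.ext fun m => by
            rw [LinearMap.neg_apply, htr, htr, LinearMap.neg_apply, map_neg]⟩ }
  have h3 : tr f ∈ E.dualCoannihilator.dualAnnihilator := by
    rw [Submodule.mem_dualAnnihilator]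
    intro m hm
    rw [Submodule.mem_dualCoannihilator] at hm
    rw [htr, hf m fun a ha => by rw [← htr]; exact hm _ ⟨a, ha, rfl⟩, map_zero]
  have : Module.Finite (ZMod 2) M := Module.Finite.of_finite
  rw [Subspace.dualCoannihilator_dualAnnihilator_eq] at h3
  obtain ⟨a, ha, hae⟩ := h3
  have h4 : f = a := by
    refine LinearMap.ext fun m => sub_eq_zero.1 (eq_zero_of_tt hx fun c => ?_)
    have h5 := congrArg (fun φ => φ (c • m)) hae
    simp only [htr] at h5
    rw [mul_sub, map_sub, ← smul_eq_mul, ← smul_eq_mul, ← map_smul, ← map_smul, h5, sub_self]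
  rw [h4]
  exact ha

/-- a functional vanishing on the common kernel of a subspace of functionals -/
theorem mem_of_coker {F M : Type*} [Field F] [AddCommGroup M] [Module F M] [FiniteDimensional F M]
    (W : Submodule F (Module.Dual F M)) (f : Module.Dual F M) (hf : ∀ m, (∀ a ∈ W, a m = 0) → f m = 0) : f ∈ W := by
  rw [← Subspace.dualCoannihilator_dualAnnihilator_eq (W := W), Submodule.mem_dualAnnihilator]
  intro m hm
  exact hf m ((Submodule.mem_dualCoannihilator _).1 hm)

/-- a subspace is the common kernel of its annihilator -/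
theorem mem_of_ann {F M : Type*} [Field F] [AddCommGroup M] [Module F M] 
    (N : Submodule F M) (m : M) (hm : ∀ a : M →ₗ[F] F, (∀ n ∈ N, a n = 0) → a m = 0) : m ∈ N := by
  rw [← Subspace.dualAnnihilator_dualCoannihilator_eq (W := N), Submodule.mem_dualCoannihilator]
  intro a ha
  exact hm a ((Submodule.mem_dualAnnihilator _).1 ha)

/-- extension of a functional from `N` by zero on `M₁` -/
theorem exists_ext {F M : Type*} [Field F] [AddCommGroup M] [Module F M] (M₁ N : Submodule F M)
    (h : Disjoint M₁ N) (f : M →ₗ[F] F) : ∃ g : M →ₗ[F] F, (∀ m ∈ M₁, g m = 0) ∧ ∀ n ∈ N, g n = f n := by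
  obtain ⟨N', hN, hc⟩ := h.symm.exists_isCompl
  refine ⟨f ∘ₗ N'.subtype ∘ₗ Submodule.projectionOnto N' M₁ hc, fun m hm => ?_, fun n hn => ?_⟩
  · rw [LinearMap.comp_apply, LinearMap.comp_apply, (Submodule.projectionOnto_apply_eq_zero_iff hc).2 hm, map_zero, map_zero]
  · rw [LinearMap.comp_apply, LinearMap.comp_apply]
    have := Submodule.projectionOnto_apply_left hc ⟨n, hN hn⟩
    rw [this]
    rfl

end Cfsg.Agent.Omega.NO3S.OneQ.DualAbs
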