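import Cfsg.Agent.Omega.NO3S.OneQ.Hat
import Cfsg.Agent.Omega.NO3S.OneQ.QPlus
import Cfsg.Agent.Omega.NO3S.OneQ.DualAbs

/-!
# NO-3S, `OneQ`: EXACT DUALITY (bb OMEGA #17833 (1))

* `lx_le` : `L_Z` is generated by the `C_G(Z)`-conjugates of the `W_Y`, `Y ≠ Z` a point of `V`;
* `Co.m1` = `{w ∈ W_Z | [L_Z, w] ≤ rd}`; `Co.m1_inf_I` : `m1 ∩ I ≤ Z`;
* `Co.kappa` : every `F`-linear `f : MF → F` vanishing on `m1` is `w ↦ [k, w]` for some `k ∈ K_Z`;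
* `Co.dual_E` : every `F`-linear `f : MF → F` vanishing on `n0 V Z Z` is `w ↦ [e, w]` for some `e ∈ E_Y`;
* `Co.dual_N` : in case (N) every `f` vanishing on `E_Z` is `w ↦ [e, w]`, `e ∈ E_Y`; `Co.cent_N` : `C_MF(A) = D_Z`.
-/

set_option autoImplicit false
set_option linter.unusedSectionVars false

namespace Cfsg.Agent.Omega.NO3S.OneQ

open Subgroup Cfsg.Agent.Omega.NO3S.PT Cfsg.Agent.Omega.NoFF.Basic
open scoped Pointwise

universe u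

variable {G : Type u} [Group G]

namespace Co

variable [Finite G] {F : Type*} [Field F] [CharP F 2] {S : Sylow 2 G} {B P V Z : Subgroup G} (h : Co F S B P V Z)

include h in
/-- `L_Z` is generated by the `C_G(Z)`-conjugates of the `W_Y` -/
theorem lx_le {D : Subgroup G}
    (hD : ∀ c ∈ centralizer (Z : Set G), ∀ Y, Pnt V Z Y → Y ≠ Z → ∀ u ∈ ws V Y, c * u * c⁻¹ ∈ D) : lx V Z Z ≤ D := by
  refine (closure_le _).2 ?_
  rintro a ⟨n, hn, Y, hY, hne, ha⟩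
  have hnZ : PT.cj n Z = Z := cj_eq_iff.2 hn
  have h1 : Z ≤ PT.cj n V := by
    rw [← hnZ]
    exact cj_le_cj.2 h.one.pl.ZV
  obtain ⟨c, hc, hcV⟩ := h.line_eq ⟨n, rfl⟩ h1
  have hcZ : PT.cj c Z = Z := cj_eq_iff.2 (centralizer_le_normalizer _ hc)
  have hcZ' : PT.cj c⁻¹ Z = Z := cj_eq_iff.2 (centralizer_le_normalizer _ (inv_mem hc))
  have h2 : Pnt V Z (PT.cj (c⁻¹ * n) Y) := by
    refine ⟨hY.cj.cj _, ?_⟩
    rw [← cj_cj, cj_le_iff, inv_inv, ← hcV]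
    exact cj_le_cj.2 hY.le
  have h3 : PT.cj (c⁻¹ * n) Y ≠ Z := by
    intro e
    apply hne
    have h4 : PT.cj (c⁻¹ * n) Y = PT.cj (c⁻¹ * n) Z := by rw [e, ← cj_cj, hnZ, hcZ']
    exact cj_inj.1 h4
  have h4 : c⁻¹ * a * c ∈ ws V (PT.cj (c⁻¹ * n) Y) := by
    rw [ws_cj, mem_cj]
    have e : (c⁻¹ * n)⁻¹ * (c⁻¹ * a * c) * (c⁻¹ * n) = n⁻¹ * a * n := by group
    rw [e]
    exact ha
  have h5 := hD c hc _ h2 h3 _ h4
  have e : c * (c⁻¹ * a * c) * c⁻¹ = a := by group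
  rwa [e] at h5

/-- `{w ∈ W_Z | [L_Z, w] ≤ rd}` -/
def m1 : Subgroup G where
  carrier := {w | w ∈ ws V Z ∧ ∀ g ∈ lx V Z Z, g * w * g⁻¹ * w⁻¹ ∈ rd V Z}
  one_mem' := ⟨one_mem _, fun g _ => by
    have : g * 1 * g⁻¹ * 1⁻¹ = 1 := by group
    rw [this]; exact one_mem _⟩
  mul_mem' := by
    rintro a b ⟨ha, ha'⟩ ⟨hb, hb'⟩
    refine ⟨mul_mem ha hb, fun g hg => ?_⟩
    have e : g * (a * b) * g⁻¹ * (a * b)⁻¹ = (g * a * g⁻¹ * a⁻¹) * (a * (g * b * g⁻¹ * b⁻¹) * a⁻¹) := by group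
    have h1 := rd_le (hb' g hg)
    rw [e, h.one.comm_W h.one.self.cj ha h1, mul_inv_cancel_right]
    exact mul_mem (ha' g hg) (hb' g hg)
  inv_mem' := by
    rintro a ⟨ha, ha'⟩
    refine ⟨inv_mem ha, fun g hg => ?_⟩
    rw [h.one.inv_eq_W h.one.self ha]
    exact ha' g hg

theorem mem_m1 {w : G} : w ∈ h.m1 ↔ w ∈ ws V Z ∧ ∀ g ∈ lx V Z Z, g * w * g⁻¹ * w⁻¹ ∈ rd V Z := Iff.rfl

theorem m1_le : h.m1 ≤ ws V Z := fun _ hw => hw.1

theorem rd_le_m1 : rd V Z ≤ h.m1 := by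
  intro w hw
  refine ⟨rd_le hw, fun g hg => ?_⟩
  have h1 := norm_rd V Z (centralizer_le_normalizer _ (h.one.lx_le_C h.one.self hg))
  exact mul_mem ((mem_normalizer_iff.1 h1 w).1 hw) (inv_mem hw)

theorem Z_le_m1 : Z ≤ h.m1 := h.Z_le_rd.trans h.rd_le_m1

theorem norm_m1 : normalizer (Z : Set G) ≤ normalizer ((h.m1 : Subgroup G) : Set G) := by
  refine QAbs.norm_of fun n hn w hw => ⟨h.W_conj hn hw.1, fun g hg => ?_⟩
  have h1 : n⁻¹ * g * n ∈ lx V Z Z := by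
    have := (mem_normalizer_iff.1 (norm_lx V Z Z (inv_mem hn)) g).1 hg
    rwa [inv_inv] at this
  have h2 := (mem_normalizer_iff.1 (norm_rd V Z hn) _).1 (hw.2 _ h1)
  have e : n * (n⁻¹ * g * n * w * (n⁻¹ * g * n)⁻¹ * w⁻¹) * n⁻¹ = g * (n * w * n⁻¹) * g⁻¹ * (n * w * n⁻¹)⁻¹ := by group
  rwa [e] at h2

theorem inv_m1 : h.Inv h.m1 := Inv.of_normZ h.Z_le_m1 h.norm_m1

/-- `L_Z` is not trivial on `MF` -/
theorem not_W_le_m1 : ¬ ws V Z ≤ h.m1 := by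
  intro h1
  refine h.V_not_le_rd (h.V_le_of_comm h.inv_rd h.pY h.Yp_ne fun w hw u hu => ?_)
  have h2 := (h1 hw).2 u (W_le_lx h.pY h.Yp_ne hu)
  have h3 := inv_mem h2
  have e : (u * w * u⁻¹ * w⁻¹)⁻¹ = w * u * w⁻¹ * u⁻¹ := by group
  rwa [e] at h3

theorem V_not_le_m1 : ¬ V ≤ h.m1 := fun h1 =>
  h.not_W_le_m1 (h.W_le_of_V h1 ((centralizer_le_normalizer _).trans h.norm_m1))

theorem m1_inf_I : h.m1 ⊓ IV V Z ≤ Z := h.inv_m1.sub h.V_not_le_m1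

/-- `[L_Z, w] ≤ rd` in terms of `fn` -/
theorem m1_fn {w g k : G} (hw : w ∈ h.m1) (hg : g ∈ lx V Z Z) (hk : k ∈ kx V Z) : h.fn (g * w * g⁻¹) k = h.fn w k := by
  have hgC := h.one.lx_le_C h.one.self hg
  have h1 := (h.mem_rd_iff (mul_mem (h.W_conj (centralizer_le_normalizer _ hgC) hw.1) (inv_mem hw.1))).1 (hw.2 g hg) k hk
  rw [h.fn_mul (h.W_conj (centralizer_le_normalizer _ hgC) hw.1) (inv_mem hw.1) hk, h.fn_inv hw.1] at h1
  rw [← add_left_inj (h.fn w k), h1, CharTwo.add_self_eq_zero]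

theorem fn_inv' {w k : G} (hw : w ∈ ws V Z) (hk : k ∈ kx V Z) : h.fn w k⁻¹ = h.fn w k := by
  have h1 := h.fn_mul' hw hk (inv_mem hk)
  rw [mul_inv_cancel, h.fn_one' hw] at h1
  rw [← add_left_inj (h.fn w k), CharTwo.add_self_eq_zero, add_comm]
  exact h1.symm

/-- evaluation at `k` -/
noncomputable def evl (k : kx V Z) : h.MF →ₗ[F] F := (LinearMap.proj k).comp h.MF.subtype

theorem evl_fm (k : kx V Z) (w : ws V Z) : h.evl k (h.fm w) = h.fn w k := rfl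

/-- the elements of `K_Z` which centralise `m1` -/
def k0 : Subgroup G where
  carrier := {k | k ∈ kx V Z ∧ ∀ w ∈ h.m1, h.fn w k = 0}
  one_mem' := ⟨one_mem _, fun w hw => h.fn_one' hw.1⟩
  mul_mem' := by
    rintro a b ⟨ha, ha'⟩ ⟨hb, hb'⟩
    exact ⟨mul_mem ha hb, fun w hw => by rw [h.fn_mul' hw.1 ha hb, ha' w hw, hb' w hw, add_zero]⟩
  inv_mem' := by
    rintro a ⟨ha, ha'⟩
    exact ⟨inv_mem ha, fun w hw => by rw [h.fn_inv' hw.1 ha, ha' w hw]⟩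

theorem k0_conj {n k : G} (hn : n ∈ h.hat) (hk : k ∈ h.k0) : n⁻¹ * k * n ∈ h.k0 := by
  refine ⟨h.K_conj (h.hat_norm hn) hk.1, fun w hw => ?_⟩
  have h1 := h.fn_conj' (h.chi_spec ⟨n, hn⟩) (h.hat_norm hn) hw.1 hk.1
  rw [hk.2 _ ((mem_normalizer_iff.1 (h.norm_m1 (h.hat_norm hn)) w).1 hw)] at h1
  exact (mul_eq_zero.1 h1.symm).resolve_left (Units.ne_zero _)

/-- `[K_Z, L_Z] ≤ k0` -/
theorem comm_k0 {k g : G} (hk : k ∈ kx V Z) (hg : g ∈ lx V Z Z) : k * (g * k⁻¹ * g⁻¹) ∈ h.k0 := by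
  have hgC := h.one.lx_le_C h.one.self hg
  have hk' : g * k⁻¹ * g⁻¹ ∈ kx V Z :=
    (mem_normalizer_iff.1 (normalizer_le_kx V Z (centralizer_le_normalizer _ hgC)) _).1 (inv_mem hk)
  refine ⟨mul_mem hk hk', fun w hw => ?_⟩
  have h1 := h.fn_conj (inv_mem hgC) hw.1 (inv_mem hk)
  rw [inv_inv] at h1
  rw [h.fn_mul' hw.1 hk hk', ← h1]
  have h2 := h.m1_fn hw (inv_mem hg) (inv_mem hk)
  rw [inv_inv] at h2
  rw [h2, h.fn_inv' hw.1 hk, CharTwo.add_self_eq_zero]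

section

variable (t : F →+ ZMod 2)

/-- the annihilator of `k0` -/
def d0 : Subgroup G where
  carrier := {w | w ∈ ws V Z ∧ ∀ k ∈ h.k0, t (h.fn w k) = 0}
  one_mem' := ⟨one_mem _, fun k hk => by rw [h.fn_one hk.1, map_zero]⟩
  mul_mem' := by
    rintro a b ⟨ha, ha'⟩ ⟨hb, hb'⟩
    exact ⟨mul_mem ha hb, fun k hk => by rw [h.fn_mul ha hb hk.1, map_add, ha' k hk, hb' k hk, add_zero]⟩
  inv_mem' := by
    rintro a ⟨ha, ha'⟩
    exact ⟨inv_mem ha, fun k hk => by rw [h.fn_inv ha, ha' k hk]⟩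

theorem Z_le_d0 : Z ≤ h.d0 t := fun z hz => ⟨h.one.pl.Z_le_ws hz, fun k hk => by rw [h.fn_Z hz hk.1, map_zero]⟩

theorem d0_norm : centralizer (Z : Set G) ≤ normalizer ((h.d0 t : Subgroup G) : Set G) := by
  refine QAbs.norm_of fun n hn w hw => ⟨h.W_conj (centralizer_le_normalizer _ hn) hw.1, fun k hk => ?_⟩
  rw [h.fn_conj hn hw.1 hk.1]
  exact hw.2 _ (h.k0_conj (h.C_le_hat hn) hk)

/-- the twisted torus -/
theorem V_le_d0 [Finite F] {v : G} (hv : v ∈ h.d0 t) (hvV : v ∈ V) (hvZ : v ∉ Z) : V ≤ h.d0 t := by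
  obtain ⟨a, b, rfl⟩ := (h.mem_V v).1 hvV
  have hb : b ≠ 0 := fun e => hvZ (h.e_memZ_iff.2 e)
  intro u hu
  obtain ⟨x, y, rfl⟩ := (h.mem_V u).1 hu
  refine ⟨h.W_V x y, fun k hk => ?_⟩
  by_cases hy : y = 0
  · rw [hy]
    rw [h.fn_Z (h.e_memZ x) hk.1, map_zero]
  obtain ⟨ζ, hζ⟩ : ∃ ζ : F, ζ * ζ = b * y⁻¹ := by
    obtain ⟨ζ, hζ⟩ := (frobeniusEquiv F 2).surjective (b * y⁻¹)
    exact ⟨ζ, by rw [← hζ, frobeniusEquiv_apply, frobenius_def, pow_two]⟩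
  have hζ0 : ζ ≠ 0 := by
    rintro rfl
    rw [mul_zero] at hζ
    exact mul_ne_zero hb (inv_ne_zero hy) hζ.symm
  obtain ⟨τ, hτ⟩ := h.exists_tor hζ0
  have h1 := h.fn_tor hτ hζ0 (h.W_V a b) hk.1
  rw [hτ.act, h.fn_V _ _ hk.1] at h1
  have h2 := hv.2 _ (h.k0_conj (hτ.hat hζ0) hk)
  have h3 : h.fn (h.e x y) k = h.fn (h.e a b) (τ⁻¹ * k * τ) := by
    rw [h.fn_V x y hk.1]
    apply mul_left_cancel₀ hζ0
    rw [← h1]
    have h4 : y * (ζ * ζ) = b := by rw [hζ, mul_comm, mul_assoc, inv_mul_cancel₀ hy, mul_one]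
    have h5 : ζ * y = ζ⁻¹ * b := by
      rw [← h4]
      field_simp
    rw [← mul_assoc, h5]
  rw [h3]
  exact h2

/-- **(κ is everything)** : the annihilator of `k0` is `m1` -/
theorem d0_le [Finite F] {x : F} (hx : t x ≠ 0) : h.d0 t ≤ h.m1 := by
  by_contra hcon
  have hV : V ≤ h.d0 t := by
    obtain ⟨w, hw, hwm⟩ := SetLike.not_le_iff_exists.1 hcon
    -- some `[u, w] ∉ rd`
    obtain ⟨w, hw, Y, hY, hne, u, hu, huw⟩ : ∃ w ∈ h.d0 t, ∃ Y, Pnt V Z Y ∧ Y ≠ Z ∧ ∃ u ∈ ws V Y,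
        u * w * u⁻¹ * w⁻¹ ∉ rd V Z := by
      by_contra hc
      push Not at hc
      apply hwm
      refine ⟨hw.1, fun g hg => ?_⟩
      let D : Subgroup G :=
        { carrier := {g | g ∈ centralizer (Z : Set G) ∧ ∀ w ∈ h.d0 t, g * w * g⁻¹ * w⁻¹ ∈ rd V Z}
          one_mem' := ⟨one_mem _, fun w _ => by
            have : 1 * w * (1 : G)⁻¹ * w⁻¹ = 1 := by group
            rw [this]; exact one_mem _⟩
          mul_mem' := by
            rintro a b ⟨ha, ha'⟩ ⟨hb, hb'⟩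
            refine ⟨mul_mem ha hb, fun w hw => ?_⟩
            have e : a * b * w * (a * b)⁻¹ * w⁻¹ =
                (a * (b * w * b⁻¹) * a⁻¹ * (b * w * b⁻¹)⁻¹) * (b * w * b⁻¹ * w⁻¹) := by group
            rw [e]
            exact mul_mem (ha' _ ((mem_normalizer_iff.1 (h.d0_norm t hb) w).1 hw)) (hb' w hw)
          inv_mem' := by
            rintro a ⟨ha, ha'⟩
            refine ⟨inv_mem ha, fun w hw => ?_⟩
            have h1 := ha' _ ((mem_normalizer_iff.1 (h.d0_norm t (inv_mem ha)) w).1 hw)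
            have h2 := inv_mem h1
            have e : (a * (a⁻¹ * w * a⁻¹⁻¹) * a⁻¹ * (a⁻¹ * w * a⁻¹⁻¹)⁻¹)⁻¹ = a⁻¹ * w * a⁻¹⁻¹ * w⁻¹ := by group
            rwa [e] at h2 }
      have h1 : lx V Z Z ≤ D := by
        refine h.lx_le fun c hc' Y hY hne u hu => ⟨?_, fun w hw => ?_⟩
        · exact mul_mem (mul_mem hc' (h.one.W_le_C hY hu)) (inv_mem hc')
        · have h2 := (mem_normalizer_iff.1 (h.d0_norm t (inv_mem hc')) w).1 hw
          have h3 := hc _ h2 Y hY hne u hu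
          have h4 := (mem_normalizer_iff.1 (norm_rd V Z (centralizer_le_normalizer _ hc')) _).1 h3
          have e : c * (u * (c⁻¹ * w * c⁻¹⁻¹) * u⁻¹ * (c⁻¹ * w * c⁻¹⁻¹)⁻¹) * c⁻¹ = c * u * c⁻¹ * w * (c * u * c⁻¹)⁻¹ * w⁻¹ := by
            group
          rwa [e] at h4
      exact (h1 hg).2 w hw
    have huC := h.one.W_le_C hY hu
    have h1 : u * w * u⁻¹ * w⁻¹ ∈ h.d0 t ⊓ IV V Z := by
      have h2 : u * w * u⁻¹ ∈ h.d0 t := (mem_normalizer_iff.1 (h.d0_norm t huC) w).1 hw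
      exact ⟨(h.d0 t).mul_mem h2 ((h.d0 t).inv_mem hw), h.one.comm_mem hY h.one.self hne hu hw.1⟩
    have hn : B ≤ normalizer ((h.d0 t ⊓ IV V Z : Subgroup G) : Set G) := by
      intro s hs
      rw [← cj_eq_iff, cj_inf, cj_eq_iff.2 (h.d0_norm t (h.one.B_le_C hs)),
        cj_eq_iff.2 (normalizer_le_IV V Z (h.one.B_norm_V hs))]
    obtain ⟨v, hv, hvV, hvZ⟩ := h.one.fix_sub inf_le_right hn fun e => huw (h.Z_le_rd (e h1))
    exact h.V_le_d0 t hv.1 hvV hvZ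
  have hW := h.W_le_of_V hV (h.d0_norm t)
  have h0 : ∀ w ∈ ws V Z, ∀ k ∈ h.k0, h.fn w k = 0 := by
    intro w hw k hk
    refine DualAbs.eq_zero_of_tt hx fun c => ?_
    obtain ⟨w', hw', he⟩ := h.exists_smul c hw
    rw [← he k hk.1]
    exact (hW hw').2 k hk
  apply h.not_W_le_m1
  intro w hw
  refine ⟨hw, fun g hg => ?_⟩
  have hgC := h.one.lx_le_C h.one.self hg
  have hwg : g * w * g⁻¹ ∈ ws V Z := h.W_conj (centralizer_le_normalizer _ hgC) hw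
  rw [h.mem_rd_iff (mul_mem hwg (inv_mem hw))]
  intro k hk
  have h1 := h0 w hw _ (h.comm_k0 hk (inv_mem hg))
  have hk' : g⁻¹ * k⁻¹ * g⁻¹⁻¹ ∈ kx V Z :=
    (mem_normalizer_iff.1 (normalizer_le_kx V Z (centralizer_le_normalizer _ (inv_mem hgC))) _).1 (inv_mem hk)
  rw [h.fn_mul' hw hk hk', inv_inv, ← h.fn_conj hgC hw (inv_mem hk)] at h1
  rw [h.fn_mul (h.W_conj (centralizer_le_normalizer _ hgC) hw) (inv_mem hw) hk, h.fn_inv hw]
  rw [h.fn_inv' (h.W_conj (centralizer_le_normalizer _ hgC) hw) hk] at h1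
  rw [add_comm]
  exact h1

end

/-- **EXACT DUALITY, (κ)** -/
theorem kappa [Finite F] (f : h.MF →ₗ[F] F) (hf : ∀ w (hw : w ∈ h.m1), f (h.fm ⟨w, hw.1⟩) = 0) :
    ∃ k ∈ h.k0, ∀ w : ws V Z, f (h.fm w) = h.fn w k := by
  have hfin : Finite h.MF := Finite.of_surjective h.fm h.fm_surj
  obtain ⟨t, x, hx⟩ := DualAbs.exists_tt F
  let A : AddSubgroup (h.MF →ₗ[F] F) :=
    { carrier := {a | ∃ k, ∃ hk : k ∈ h.k0, a = h.evl ⟨k, hk.1⟩}
      zero_mem' := ⟨1, one_mem _, by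
        refine LinearMap.ext fun m => ?_
        obtain ⟨w, rfl⟩ := h.fm_surj m
        rw [h.evl_fm, LinearMap.zero_apply, h.fn_one' w.2]⟩
      add_mem' := by
        rintro _ _ ⟨k, hk, rfl⟩ ⟨l, hl, rfl⟩
        refine ⟨k * l, mul_mem hk hl, LinearMap.ext fun m => ?_⟩
        obtain ⟨w, rfl⟩ := h.fm_surj m
        rw [LinearMap.add_apply, h.evl_fm, h.evl_fm, h.evl_fm, ← h.fn_mul' w.2 hk.1 hl.1]
      neg_mem' := by
        rintro _ ⟨k, hk, rfl⟩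
        refine ⟨k, hk, LinearMap.ext fun m => ?_⟩
        rw [LinearMap.neg_apply, CharTwo.neg_eq] }
  have h1 : f ∈ A := by
    refine DualAbs.mem_of_dual A hx f fun m hm => ?_
    obtain ⟨w, rfl⟩ := h.fm_surj m
    refine hf w (h.d0_le t hx ⟨w.2, fun k hk => ?_⟩)
    rw [← h.evl_fm ⟨k, hk.1⟩ w]
    exact hm _ ⟨k, hk, rfl⟩
  obtain ⟨k, hk, rfl⟩ := h1
  exact ⟨k, hk, fun w => h.evl_fm _ w⟩

/-! ### `E_Y` -/

/-- `M₁ = C_MF(L_Z)` -/
noncomputable def M1 : Submodule F h.MF :=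
  ⨅ g : lx V Z Z, LinearMap.ker (h.rp ⟨g, h.C_le_hat (h.one.lx_le_C h.one.self g.2)⟩ - 1)

theorem mem_M1 (w : ws V Z) : h.fm w ∈ h.M1 ↔ (w : G) ∈ h.m1 := by
  rw [M1, Submodule.mem_iInf]
  have key : ∀ g (hg : g ∈ lx V Z Z), h.fm w ∈ LinearMap.ker (h.rp ⟨g, h.C_le_hat (h.one.lx_le_C h.one.self hg)⟩ - 1) ↔
      g * w * g⁻¹ * (w : G)⁻¹ ∈ rd V Z := by
    intro g hg
    rw [LinearMap.mem_ker, LinearMap.sub_apply, Module.End.one_apply, sub_eq_zero]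
    have e : h.rp ⟨g, h.C_le_hat (h.one.lx_le_C h.one.self hg)⟩ (h.fm w) = _ := h.rp_fm _ w
    rw [e]
    exact h.fm_eq _ w.2
  constructor
  · intro h1
    exact ⟨w.2, fun g hg => (key g hg).1 (h1 ⟨g, hg⟩)⟩
  · intro h1 g
    exact (key g g.2).2 (h1.2 g g.2)

/-- `w ∈ n0 V Z Z` in `MF` -/
theorem mem_n0_iff {Y : Subgroup G} (hY : Pnt V Z Y) (hne : Y ≠ Z) (w : ws V Z) :
    (w : G) ∈ n0 V Z Z ↔ ∀ u (hu : u ∈ ws V Y), h.rp ⟨u, h.W_hat hY hu⟩ (h.fm w) - h.fm w ∈ h.lam := by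
  constructor
  · intro h1 u hu
    obtain ⟨u', hu', he, e⟩ := h.rp_W hY hne hu w
    rw [e, h.fm_mem_lam_I hu', he]
    have h2 := inv_mem (h1.2.2 Y hY u hu)
    have e2 : ((w : G) * u * (w : G)⁻¹ * u⁻¹)⁻¹ = u * w * u⁻¹ * (w : G)⁻¹ := by group
    rwa [e2] at h2
  · intro h1
    refine h.one.n0_eq h.one.self hY hne w.2 fun u hu => ?_
    obtain ⟨u', hu', he, e⟩ := h.rp_W hY hne hu w
    have h2 := h1 u hu
    rw [e, h.fm_mem_lam_I hu', he] at h2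
    have h3 := inv_mem h2
    have e2 : (u * w * u⁻¹ * (w : G)⁻¹)⁻¹ = (w : G) * u * (w : G)⁻¹ * u⁻¹ := by group
    rwa [e2] at h3

/-- `n0 V Z Z` is closed under scalars -/
theorem n0_smul {w w' : ws V Z} {c : F} (hw : (w : G) ∈ n0 V Z Z) (he : h.fm w' = c • h.fm w) : (w' : G) ∈ n0 V Z Z := by
  rw [h.mem_n0_iff h.pY h.Yp_ne] at hw ⊢
  intro u hu
  have h1 := Submodule.smul_mem _ c (hw u hu)
  rw [he, map_smul]
  rwa [smul_sub] at h1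

include h in
theorem ee_le_kx {Y : Subgroup G} (hne : Y ≠ Z) {e : G} (he : e ∈ ee V Z Y) : e ∈ kx V Z :=
  (mem_ee.1 he).2 Z h.one.self hne.symm

/-- **EXACT DUALITY, (E)** : every functional vanishing on `{w | [w, W_Y] ≤ V}` is `w ↦ [e, w]`, `e ∈ E_Y` -/
theorem dual_E [Finite F] {Y : Subgroup G} (hY : Pnt V Z Y) (hne : Y ≠ Z) (f : h.MF →ₗ[F] F)
    (hf : ∀ w : ws V Z, (w : G) ∈ n0 V Z Z → f (h.fm w) = 0) : ∃ e ∈ ee V Z Y, ∀ w : ws V Z, f (h.fm w) = h.fn w e := by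
  have hfin : Finite h.MF := Finite.of_surjective h.fm h.fm_surj
  let U : Set (Module.Dual F h.MF) := {a | ∃ f' : h.MF →ₗ[F] F, (∀ m ∈ h.M1 ⊔ h.lam, f' m = 0) ∧
    ∃ u, ∃ hu : u ∈ ws V Y, a = f' ∘ₗ (h.rp ⟨u, h.W_hat hY hu⟩ - 1)}
  have hU : ∀ a ∈ U, ∃ e ∈ ee V Z Y, ∀ w : ws V Z, a (h.fm w) = h.fn w e := by
    rintro _ ⟨f', hf', u, hu, rfl⟩
    obtain ⟨k, hk, hke⟩ := h.kappa f' fun w hw => hf' _ (Submodule.mem_sup_left ((h.mem_M1 _).2 hw))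
    have hkV : k ∈ centralizer (V : Set G) := by
      rw [mem_centralizer_iff]
      intro v hv
      have hvW := h.one.V_le_W' hv
      have h1 : h.fn v k = 0 := by
        rw [← hke ⟨v, hvW⟩]
        exact hf' _ (Submodule.mem_sup_right ((h.fm_mem_lam hvW).2 (mem_sup_left hv)))
      exact ((h.fn_eq_zero hvW hk.1).1 h1).symm
    have h1 := h.one.kx_ee hY h.one.self hk.1 hkV hu
    have h2 := h.one.n_ee hY (inv_mem (h.one.W_le_cent hY hu)) h1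
    have e1 : u⁻¹ * (k * u * k⁻¹ * u⁻¹) * u⁻¹⁻¹ = u⁻¹ * k * u * k⁻¹ := by group
    rw [e1] at h2
    refine ⟨_, h2, fun w => ?_⟩
    have huC := h.one.W_le_C hY hu
    have e2 : h.rp ⟨u, h.W_hat hY hu⟩ (h.fm w) = _ := h.rp_fm' (h.W_hat hY hu) w.2
    rw [LinearMap.comp_apply, LinearMap.sub_apply, Module.End.one_apply, map_sub, e2, hke, hke,
      h.fn_mul' w.2 (h.K_conj (centralizer_le_normalizer _ huC) hk.1) (inv_mem hk.1), h.fn_inv' w.2 hk.1, ← h.fn_conj huC w.2 hk.1,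
      CharTwo.sub_eq_add]
  have hW : ∀ a ∈ Submodule.span F U, ∀ c : F, ∃ e ∈ ee V Z Y, ∀ w : ws V Z, (c • a) (h.fm w) = h.fn w e := by
    intro a ha
    induction ha using Submodule.span_induction with
    | mem a ha =>
      intro c
      refine hU _ ?_
      obtain ⟨f', hf', u, hu, rfl⟩ := ha
      exact ⟨c • f', fun m hm => by rw [LinearMap.smul_apply, hf' m hm, smul_zero], u, hu, rfl⟩
    | zero =>
      intro c
      exact ⟨1, one_mem _, fun w => by rw [smul_zero, LinearMap.zero_apply, h.fn_one' w.2]⟩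
    | add a b _ _ ha hb =>
      intro c
      obtain ⟨e, he, hee⟩ := ha c
      obtain ⟨e', he', hee'⟩ := hb c
      refine ⟨e * e', mul_mem he he', fun w => ?_⟩
      rw [h.fn_mul' w.2 (h.ee_le_kx hne he) (h.ee_le_kx hne he'), smul_add, LinearMap.add_apply, hee, hee']
    | smul c' a _ ha =>
      intro c
      rw [smul_smul]
      exact ha _
  have hfW : f ∈ Submodule.span F U := by
    refine DualAbs.mem_of_coker _ f fun m hm => ?_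
    obtain ⟨w, rfl⟩ := h.fm_surj m
    refine hf w ((h.mem_n0_iff hY hne w).2 fun u hu => ?_)
    have h1 : h.rp ⟨u, h.W_hat hY hu⟩ (h.fm w) - h.fm w ∈ h.M1 ⊔ h.lam := by
      refine DualAbs.mem_of_ann _ _ fun f' hf' => ?_
      exact hm _ (Submodule.subset_span ⟨f', hf', u, hu, rfl⟩)
    obtain ⟨u', hu', he, e⟩ := h.rp_W hY hne hu w
    rw [e] at h1 ⊢
    obtain ⟨m', hm', l, hl, hml⟩ := Submodule.mem_sup.1 h1
    obtain ⟨v, hv, rfl⟩ := h.mem_lam.1 hl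
    have h2 : m' = h.fm (⟨u', h.one.I_le_W' hu'⟩ * v⁻¹) := by
      rw [h.fm_mul, h.fm_inv, ← hml, add_assoc]
      have h3 : h.fm v + h.fm v = 0 := by
        rw [← h.fm_mul]
        have e3 : v * v = 1 := Subtype.ext (h.one.sq_W h.one.self v.2)
        rw [e3, h.fm_one]
      rw [h3, add_zero]
    rw [h2, h.mem_M1] at hm'
    have h4 : u' * (v : G)⁻¹ ∈ Z :=
      h.m1_inf_I ⟨hm', (IV V Z).mul_mem hu' ((IV V Z).inv_mem (h.one.pl.V_le_IV hv))⟩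
    rw [h.fm_mem_lam_I hu']
    have e4 : u' = u' * (v : G)⁻¹ * v := by group
    rw [e4]
    exact mul_mem (h.one.pl.ZV h4) hv
  obtain ⟨e, he, hee⟩ := hW f hfW 1
  refine ⟨e, he, fun w => ?_⟩
  rw [← hee w, one_smul]

/-! ### case (N) -/

section

variable {Y : Subgroup G} (hY : Pnt V Z Y) (hne : Y ≠ Z)
  (hN : ∀ u ∈ ws V Y, (∀ w ∈ ws V Z, u * w * u⁻¹ * w⁻¹ ∈ V) → u ∈ kx V Z)
include hY hne hN

include h in
/-- case (N) : `n0 = ee` -/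
theorem n0_le_ee : n0 V Z Z ≤ ee V Z Z := by
  have h1 : n0 V Z Y ≤ ee V Z Y := by
    intro u hu
    rw [h.one.ee_eq hY h.one.self hne.symm]
    exact ⟨hu.1, hN u hu.1 fun w hw => hu.2.2 Z h.one.self w hw⟩
  obtain ⟨g, hg, -, -, hgY⟩ := h.one.pl.swap h.one.hf h.one.self.cj h.one.self.le hY.cj hY.le
  have hgN := h.one.pl.XV_le_N hg
  have e1 : n0 V Z Z = cj g (n0 V Z Y) := by rw [cj_n0 hgN, hgY]
  have e2 : ee V Z Z = cj g (ee V Z Y) := by rw [cj_ee hgN, hgY]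
  rw [e1, e2]
  exact cj_le_cj.2 h1

include h in
theorem n0_eq_ee : n0 V Z Z = ee V Z Z := le_antisymm (h.n0_le_ee hY hne hN) (h.one.ee_le_n0 h.one.self)

/-- case (N) : `E_Z` is closed under scalars -/
theorem ee_smul {w w' : ws V Z} {c : F} (hw : (w : G) ∈ ee V Z Z) (he : h.fm w' = c • h.fm w) : (w' : G) ∈ ee V Z Z := by
  rw [← h.n0_eq_ee hY hne hN] at hw ⊢
  exact h.n0_smul hw he

/-- **EXACT DUALITY, case (N)** : `E_Y → Hom_F(MF / Ē_Z, F)` is onto -/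
theorem dual_N [Finite F] (f : h.MF →ₗ[F] F) (hf : ∀ w (hw : w ∈ ee V Z Z), f (h.fm ⟨w, ee_le hw⟩) = 0) :
    ∃ e ∈ ee V Z Y, ∀ w : ws V Z, f (h.fm w) = h.fn w e :=
  h.dual_E hY hne f fun w hw => hf w (h.n0_le_ee hY hne hN hw)

/-- case (N) : `C_MF(A) = D_Z` -/
theorem cent_N (w : ws V Z) :
    (w : G) ∈ dd V Z Z ↔ ∀ u (hu : u ∈ ws V Y), h.rp ⟨u, h.W_hat hY hu⟩ (h.fm w) = h.fm w := by
  constructor
  · intro h1 u hu
    have e : h.rp ⟨u, h.W_hat hY hu⟩ (h.fm w) = _ := h.rp_fm' (h.W_hat hY hu) w.2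
    rw [e]
    congr 1
    apply Subtype.ext
    show u * w * u⁻¹ = w
    rw [← h.one.dd_comm hY hne h1 hu, mul_inv_cancel_right]
  · intro h1
    have h2 : (w : G) ∈ ee V Z Z := by
      rw [← h.n0_eq_ee hY hne hN, h.mem_n0_iff hY hne]
      intro u hu
      rw [h1 u hu, sub_self]
      exact zero_mem _
    refine h.one.mem_dd_of h.one.self hY hne w.2 fun u hu => ?_
    obtain ⟨u', hu', he, e⟩ := h.rp_W hY hne hu w
    rw [h1 u hu, sub_self] at e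
    have h3 : u' ∈ Z := h.rd_inf_I ⟨(h.fm_eq_zero _).1 e.symm, hu'⟩
    have h4 := h.one.ee_act' hY hne h2 hu
    rw [he] at h3
    have h5 : u * w * u⁻¹ * (w : G)⁻¹ ∈ Z ⊓ Y := ⟨h3, h4⟩
    rw [h.one.pl.pts_inf h.one.self.cj hY.cj hne.symm, mem_bot, mul_inv_eq_one, mul_inv_eq_iff_eq_mul] at h5
    exact h5.symm

include h in
/-- case (N) : `rd ≤ D_Z` -/
theorem rd_le_dd_N : rd V Z ≤ dd V Z Z := by
  intro w hw
  have hwW := rd_le hw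
  refine (h.cent_N hY hne hN ⟨w, hwW⟩).2 fun u hu => ?_
  rw [(h.fm_eq_zero ⟨w, hwW⟩).2 hw, map_zero]

end

end Co

end Cfsg.Agent.Omega.NO3S.OneQ
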