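import Cfsg.Agent.Omega.NO3S.OneQ.Co

/-!
# NO-3S, `OneQ`: the `F`-structure on `W_Z / Z` (bb OMEGA #17428 (C))

* `zv` : the coordinate of an element of `Z`; `fn w k` = the coordinate of `[k, w]`, `w ∈ W_Z`, `k ∈ K_Z`;
  `fn_mul`, `fn_mul'`, `fn_eq_zero`, `fn_V`, `fn_conj` (`g ∈ C_G(Z)`), `fn_conj'` (`g ∈ N_G(Z)` multiplies `Z` by `χ`);
* `exists_smul` : for `c ∈ F`, `w ∈ W_Z` there is `w' ∈ W_Z` with `fn w' k = c * fn w k` for all `k ∈ K_Z`;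
* `rd V Z = {w ∈ W_Z | [w, K_Z] = 1}`; `rd_inf_I`, `rd_comm` : `rd ∩ I = Z`, `[rd, W_Y] ≤ Z`;
* `MF : Submodule F (K_Z → F)` the image of `W_Z`; `fm : W_Z → MF`; `rep : Representation F (C_G(Z)) MF`.
-/

set_option autoImplicit false
set_option linter.unusedSectionVars false

namespace Cfsg.Agent.Omega.NO3S.OneQ

open Subgroup Cfsg.Agent.Omega.NO3S.PT Cfsg.Agent.Omega.NoFF.Basic
open scoped Pointwise

variable {G : Type*} [Group G]

/-- `{w ∈ W_Z | [w, K_Z] = 1}` -/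
def rd (V Z : Subgroup G) : Subgroup G := ws V Z ⊓ centralizer ((kx V Z : Subgroup G) : Set G)

theorem mem_rd {V Z : Subgroup G} {w : G} : w ∈ rd V Z ↔ w ∈ ws V Z ∧ ∀ k ∈ kx V Z, k * w = w * k := by
  unfold rd
  rw [mem_inf, mem_centralizer_iff]
  rfl

theorem rd_le {V Z : Subgroup G} : rd V Z ≤ ws V Z := inf_le_left

theorem norm_rd (V Z : Subgroup G) : normalizer (Z : Set G) ≤ normalizer ((rd V Z : Subgroup G) : Set G) := by
  intro g hg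
  rw [← cj_eq_iff, rd, cj_inf, cj_centralizer, cj_eq_iff.2 (normalizer_le_ws V Z hg),
    cj_eq_iff.2 (normalizer_le_kx V Z hg)]

namespace Co

variable [Finite G] {F : Type*} [Field F] [CharP F 2] {S : Sylow 2 G} {B P V Z : Subgroup G} (h : Co F S B P V Z)

/-! ### Coordinates of elements of `Z` -/

open Classical in
/-- the coordinate of an element of `Z` -/
noncomputable def zv (g : G) : F := if hg : ∃ a, h.e a 0 = g then hg.choose else 0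

theorem zv_e (a : F) : h.zv (h.e a 0) = a := by
  have hg : ∃ b, h.e b 0 = h.e a 0 := ⟨a, rfl⟩
  rw [zv, dif_pos hg]
  exact (h.e_inj hg.choose_spec).1

theorem e_zv {g : G} (hg : g ∈ Z) : h.e (h.zv g) 0 = g := by
  obtain ⟨a, rfl⟩ := (h.mem_Z g).1 hg
  rw [h.zv_e]

theorem zv_one : h.zv 1 = 0 := by
  have := h.zv_e 0
  rwa [h.e_zero] at this

theorem zv_mul {a b : G} (ha : a ∈ Z) (hb : b ∈ Z) : h.zv (a * b) = h.zv a + h.zv b := by
  obtain ⟨x, rfl⟩ := (h.mem_Z a).1 ha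
  obtain ⟨y, rfl⟩ := (h.mem_Z b).1 hb
  have h1 : h.e x 0 * h.e y 0 = h.e (x + y) 0 := by rw [← h.e_add, add_zero]
  rw [h1, h.zv_e, h.zv_e, h.zv_e]

theorem zv_eq_zero {a : G} (ha : a ∈ Z) : h.zv a = 0 ↔ a = 1 := by
  obtain ⟨x, rfl⟩ := (h.mem_Z a).1 ha
  rw [h.zv_e, h.e_eq_one]
  exact ⟨fun e => ⟨e, rfl⟩, fun e => e.1⟩

theorem zv_inj {a b : G} (ha : a ∈ Z) (hb : b ∈ Z) (hab : h.zv a = h.zv b) : a = b := by
  rw [← h.e_zv ha, ← h.e_zv hb, hab]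

/-! ### The functions `[k, w]` -/

/-- the coordinate of `[k, w]` -/
noncomputable def fn (w k : G) : F := h.zv (k * w * k⁻¹ * w⁻¹)

variable {w w' k k' g : G}

include h in
theorem kw_mem (hw : w ∈ ws V Z) (hk : k ∈ kx V Z) : k * w * k⁻¹ * w⁻¹ ∈ Z := (mem_kx.1 hk).2 w hw

theorem e_fn (hw : w ∈ ws V Z) (hk : k ∈ kx V Z) : h.e (h.fn w k) 0 = k * w * k⁻¹ * w⁻¹ := h.e_zv (h.kw_mem hw hk)

include h in
theorem Z_comm_W {z : G} (hz : z ∈ Z) (hw : w ∈ ws V Z) : w * z = z * w :=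
  h.one.comm_W h.one.self.cj hw (h.one.V_le_W h.one.self (h.one.pl.ZV hz))

theorem fn_mul (hw : w ∈ ws V Z) (hw' : w' ∈ ws V Z) (hk : k ∈ kx V Z) : h.fn (w * w') k = h.fn w k + h.fn w' k := by
  have h1 := h.kw_mem hw hk
  have h2 := h.kw_mem hw' hk
  have h3 : k * (w * w') * k⁻¹ * (w * w')⁻¹ = k * w * k⁻¹ * w⁻¹ * (k * w' * k⁻¹ * w'⁻¹) := by
    calc k * (w * w') * k⁻¹ * (w * w')⁻¹ = k * w * k⁻¹ * w⁻¹ * (w * (k * w' * k⁻¹ * w'⁻¹)) * w⁻¹ := by group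
      _ = k * w * k⁻¹ * w⁻¹ * (k * w' * k⁻¹ * w'⁻¹) := by rw [h.Z_comm_W h2 hw]; group
  rw [fn, h3, h.zv_mul h1 h2]
  rfl

theorem fn_mul' (hw : w ∈ ws V Z) (hk : k ∈ kx V Z) (hk' : k' ∈ kx V Z) : h.fn w (k * k') = h.fn w k + h.fn w k' := by
  have h1 := h.kw_mem hw hk
  have h2 := h.kw_mem hw hk'
  have h3 : k * k' * w * (k * k')⁻¹ * w⁻¹ = k * w * k⁻¹ * w⁻¹ * (k' * w * k'⁻¹ * w⁻¹) := by
    have h4 : k * (k' * w * k'⁻¹ * w⁻¹) = k' * w * k'⁻¹ * w⁻¹ * k := (mem_kx.1 hk).1 _ h2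
    have h5 : k * w * k⁻¹ * w⁻¹ * (k' * w * k'⁻¹ * w⁻¹) = k' * w * k'⁻¹ * w⁻¹ * (k * w * k⁻¹ * w⁻¹) :=
      h.one.pl.Vcomm (h.one.pl.ZV h1) (h.one.pl.ZV h2)
    rw [h5]
    calc k * k' * w * (k * k')⁻¹ * w⁻¹ = k * (k' * w * k'⁻¹ * w⁻¹) * w * k⁻¹ * w⁻¹ := by group
      _ = k' * w * k'⁻¹ * w⁻¹ * (k * w * k⁻¹ * w⁻¹) := by rw [h4]; group
  rw [fn, h3, h.zv_mul h1 h2]
  rfl

theorem fn_eq_zero (hw : w ∈ ws V Z) (hk : k ∈ kx V Z) : h.fn w k = 0 ↔ k * w = w * k := by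
  rw [fn, h.zv_eq_zero (h.kw_mem hw hk), mul_inv_eq_one, mul_inv_eq_iff_eq_mul]

theorem fn_one (hk : k ∈ kx V Z) : h.fn 1 k = 0 := (h.fn_eq_zero (one_mem _) hk).2 (by rw [mul_one, one_mul])

theorem fn_one' (hw : w ∈ ws V Z) : h.fn w 1 = 0 := (h.fn_eq_zero hw (one_mem _)).2 (by rw [mul_one, one_mul])

theorem fn_Z (hw : w ∈ Z) (hk : k ∈ kx V Z) : h.fn w k = 0 :=
  (h.fn_eq_zero (h.one.pl.Z_le_ws hw) hk).2 ((mem_kx.1 hk).1 w hw)

theorem fn_inv (hw : w ∈ ws V Z) : h.fn w⁻¹ k = h.fn w k := by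
  rw [h.one.inv_eq_W h.one.self hw]

/-- `g ∈ N_G(Z)` multiplies `Z` by `χ` -/
theorem fn_conj' {χ : F} (hg : ∀ a, g * h.e a 0 * g⁻¹ = h.e (χ * a) 0) (hgZ : g ∈ normalizer (Z : Set G))
    (hw : w ∈ ws V Z) (hk : k ∈ kx V Z) : h.fn (g * w * g⁻¹) k = χ * h.fn w (g⁻¹ * k * g) := by
  have hk' : g⁻¹ * k * g ∈ kx V Z := by
    have := (mem_normalizer_iff.1 (inv_mem (normalizer_le_kx V Z hgZ)) k).1 hk
    rwa [inv_inv] at this
  have h1 := h.e_fn hw hk'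
  have h2 : k * (g * w * g⁻¹) * k⁻¹ * (g * w * g⁻¹)⁻¹ =
      g * (g⁻¹ * k * g * w * (g⁻¹ * k * g)⁻¹ * w⁻¹) * g⁻¹ := by group
  rw [fn, h2, ← h1, hg, h.zv_e]

theorem fn_conj (hg : g ∈ centralizer (Z : Set G)) (hw : w ∈ ws V Z) (hk : k ∈ kx V Z) :
    h.fn (g * w * g⁻¹) k = h.fn w (g⁻¹ * k * g) := by
  rw [h.fn_conj' (χ := 1) (fun a => ?_) (centralizer_le_normalizer _ hg) hw hk, one_mul]
  rw [one_mul, (mem_centralizer_iff.1 hg _ (h.e_memZ a)).symm, mul_inv_cancel_right]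

theorem fn_tor {τ : G} {ζ : F} (hτ : h.Tor τ ζ) (hζ : ζ ≠ 0) (hw : w ∈ ws V Z) (hk : k ∈ kx V Z) :
    h.fn (τ * w * τ⁻¹) k = ζ * h.fn w (τ⁻¹ * k * τ) := by
  refine h.fn_conj' (fun a => ?_) (hτ.norm_Z hζ) hw hk
  rw [hτ.act, mul_zero]

/-- on `V` -/
theorem fn_V (x y : F) (hk : k ∈ kx V Z) : h.fn (h.e x y) k = y * h.fn (h.e 0 1) k := by
  obtain ⟨t, ht⟩ := h.K_tv hk
  have h1 : ∀ x y, h.fn (h.e x y) k = t * y := by
    intro x y
    rw [fn, ht, h.e_inv, ← h.e_add, CharTwo.add_self_eq_zero, add_right_comm, CharTwo.add_self_eq_zero, zero_add, h.zv_e]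
  rw [h1, h1, mul_one, mul_comm]

include h in
theorem W_V (x y : F) : h.e x y ∈ ws V Z := h.one.V_le_W h.one.self (h.e_memV x y)

/-- transitivity on `V / Z` -/
theorem exists_scal {u v : G} (hu : u ∈ V) (huZ : u ∉ Z) (hv : v ∈ V) : ∃ c : F, ∀ k ∈ kx V Z, h.fn v k = c * h.fn u k := by
  obtain ⟨x, y, rfl⟩ := (h.mem_V u).1 hu
  obtain ⟨x', y', rfl⟩ := (h.mem_V v).1 hv
  have hy : y ≠ 0 := fun e => huZ (h.e_memZ_iff.2 e)
  refine ⟨y' * y⁻¹, fun k hk => ?_⟩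
  rw [h.fn_V x' y' hk, h.fn_V x y hk, ← mul_assoc, mul_assoc y', inv_mul_cancel₀ hy, mul_one]

/-- a value of `fn` on `V` -/
theorem exists_fn {v : G} (hv : v ∈ V) (hvZ : v ∉ Z) (c : F) : ∃ k ∈ kx V Z, k ∈ B ∧ h.fn v k = c := by
  obtain ⟨k, hk, hkB, hkv⟩ := h.one.pl.K_act h.one.hf hv hvZ (h.e_memZ c)
  exact ⟨k, hk, hkB, by rw [fn, hkv, h.zv_e]⟩

/-- **(C)** `W_Z` is closed under scalars -/
theorem exists_smul (c : F) (hw : w ∈ ws V Z) : ∃ w' ∈ ws V Z, ∀ k ∈ kx V Z, h.fn w' k = c * h.fn w k := by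
  let D : Subgroup G :=
    { carrier := {w | w ∈ ws V Z ∧ ∃ w' ∈ ws V Z, ∀ k ∈ kx V Z, h.fn w' k = c * h.fn w k}
      one_mem' := ⟨one_mem _, 1, one_mem _, fun k hk => by rw [h.fn_one hk, mul_zero]⟩
      mul_mem' := by
        rintro a b ⟨ha, a', ha', hae⟩ ⟨hb, b', hb', hbe⟩
        refine ⟨mul_mem ha hb, a' * b', mul_mem ha' hb', fun k hk => ?_⟩
        rw [h.fn_mul ha' hb' hk, h.fn_mul ha hb hk, hae k hk, hbe k hk, mul_add]
      inv_mem' := by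
        rintro a ⟨ha, a', ha', hae⟩
        exact ⟨inv_mem ha, a', ha', fun k hk => by rw [h.fn_inv ha, hae k hk]⟩ }
  have hV : V ≤ D := by
    intro v hv
    obtain ⟨x, y, rfl⟩ := (h.mem_V v).1 hv
    refine ⟨h.W_V x y, h.e 0 (c * y), h.W_V _ _, fun k hk => ?_⟩
    rw [h.fn_V 0 (c * y) hk, h.fn_V x y hk, mul_assoc]
  have hC : centralizer (Z : Set G) ≤ normalizer (D : Set G) := by
    have key : ∀ g ∈ centralizer (Z : Set G), ∀ x ∈ D, g * x * g⁻¹ ∈ D := by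
      rintro g hg x ⟨hx, x', hx', hxe⟩
      have hgN := normalizer_le_ws V Z (centralizer_le_normalizer _ hg)
      refine ⟨(mem_normalizer_iff.1 hgN _).1 hx, g * x' * g⁻¹, (mem_normalizer_iff.1 hgN _).1 hx', fun k hk => ?_⟩
      have hk' : g⁻¹ * k * g ∈ kx V Z := by
        have := (mem_normalizer_iff.1 (inv_mem (normalizer_le_kx V Z (centralizer_le_normalizer _ hg))) k).1 hk
        rwa [inv_inv] at this
      rw [h.fn_conj hg hx' hk, h.fn_conj hg hx hk, hxe _ hk']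
    intro g hg
    rw [mem_normalizer_iff]
    intro x
    refine ⟨key g hg x, fun hx => ?_⟩
    have h1 := key g⁻¹ (inv_mem hg) _ hx
    have e : g⁻¹ * (g * x * g⁻¹) * g⁻¹⁻¹ = x := by group
    rwa [e] at h1
  exact (h.W_le_of_V hV hC hw).2

/-! ### `rd` -/

include h in
theorem Z_le_rd : Z ≤ rd V Z := by
  intro z hz
  rw [mem_rd]
  exact ⟨h.one.pl.Z_le_ws hz, fun k hk => (mem_kx.1 hk).1 z hz⟩

theorem inv_rd : h.Inv (rd V Z) := Inv.of_normZ h.Z_le_rd (norm_rd V Z)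

include h in
theorem V_not_le_rd : ¬ V ≤ rd V Z := by
  intro h1
  obtain ⟨v, hv, hvZ⟩ := h.one.pl.exists_out
  obtain ⟨k, hk, -, hkv⟩ := h.exists_fn hv hvZ 1
  have h2 := (h.fn_eq_zero (h.one.V_le_W h.one.self hv) hk).2 ((mem_rd.1 (h1 hv)).2 k hk)
  rw [hkv] at h2
  exact one_ne_zero h2

include h in
theorem rd_inf_I : rd V Z ⊓ IV V Z ≤ Z := h.inv_rd.sub h.V_not_le_rd

include h in
/-- `[rd, W_Y] ≤ Z` -/
theorem rd_comm {Y : Subgroup G} (hY : Pnt V Z Y) (hYZ : Y ≠ Z) {d u : G} (hd : d ∈ rd V Z) (hu : u ∈ ws V Y) :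
    d * u * d⁻¹ * u⁻¹ ∈ Z := h.inv_rd.comm rd_le h.V_not_le_rd hd hY hYZ hu

theorem mem_rd_iff (hw : w ∈ ws V Z) : w ∈ rd V Z ↔ ∀ k ∈ kx V Z, h.fn w k = 0 := by
  rw [mem_rd]
  constructor
  · rintro ⟨-, h1⟩ k hk
    exact (h.fn_eq_zero hw hk).2 (h1 k hk)
  · intro h1
    exact ⟨hw, fun k hk => (h.fn_eq_zero hw hk).1 (h1 k hk)⟩

/-! ### The `F`-module -/

/-- the image of `W_Z` in the functions on `K_Z` -/
noncomputable def MF : Submodule F (kx V Z → F) where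
  carrier := {f | ∃ w ∈ ws V Z, ∀ k : kx V Z, f k = h.fn w k}
  zero_mem' := ⟨1, one_mem _, fun k => (h.fn_one k.2).symm⟩
  add_mem' := by
    rintro f f' ⟨w, hw, hf⟩ ⟨w', hw', hf'⟩
    exact ⟨w * w', mul_mem hw hw', fun k => by rw [h.fn_mul hw hw' k.2, Pi.add_apply, hf, hf']⟩
  smul_mem' := by
    rintro c f ⟨w, hw, hf⟩
    obtain ⟨w', hw', he⟩ := h.exists_smul c hw
    exact ⟨w', hw', fun k => by rw [he k k.2, Pi.smul_apply, hf, smul_eq_mul]⟩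

/-- the element of `MF` given by `w ∈ W_Z` -/
noncomputable def fm (w : ws V Z) : h.MF := ⟨fun k => h.fn w k, w, w.2, fun _ => rfl⟩

theorem fm_apply (w : ws V Z) (k : kx V Z) : (h.fm w : kx V Z → F) k = h.fn w k := rfl

theorem fm_surj (m : h.MF) : ∃ w, h.fm w = m := by
  obtain ⟨f, w, hw, hf⟩ := m
  exact ⟨⟨w, hw⟩, Subtype.ext (funext fun k => (hf k).symm)⟩

theorem fm_mul (w w' : ws V Z) : h.fm (w * w') = h.fm w + h.fm w' :=
  Subtype.ext (funext fun k => h.fn_mul w.2 w'.2 k.2)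

theorem fm_one : h.fm 1 = 0 := Subtype.ext (funext fun k => h.fn_one k.2)

theorem fm_eq_zero (w : ws V Z) : h.fm w = 0 ↔ (w : G) ∈ rd V Z := by
  rw [h.mem_rd_iff w.2]
  constructor
  · intro h1 k hk
    exact congrFun (congrArg Subtype.val h1) ⟨k, hk⟩
  · intro h1
    exact Subtype.ext (funext fun k => h1 k k.2)

include h in
theorem W_conj (hg : g ∈ normalizer (Z : Set G)) (hw : w ∈ ws V Z) : g * w * g⁻¹ ∈ ws V Z :=
  (mem_normalizer_iff.1 (normalizer_le_ws V Z hg) _).1 hw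

include h in
theorem K_conj (hg : g ∈ normalizer (Z : Set G)) (hk : k ∈ kx V Z) : g⁻¹ * k * g ∈ kx V Z := by
  have := (mem_normalizer_iff.1 (inv_mem (normalizer_le_kx V Z hg)) k).1 hk
  rwa [inv_inv] at this

/-- `g ∈ C_G(Z)` acts on `MF` by `(g f)(k) = f(g⁻¹ k g)` -/
noncomputable def rep : Representation F (centralizer (Z : Set G)) h.MF where
  toFun g :=
    { toFun := fun m => ⟨fun k => (m : kx V Z → F) ⟨(g : G)⁻¹ * k * g, h.K_conj (centralizer_le_normalizer _ g.2) k.2⟩, by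
        obtain ⟨f, w, hw, hf⟩ := m
        refine ⟨g * w * (g : G)⁻¹, h.W_conj (centralizer_le_normalizer _ g.2) hw, fun k => ?_⟩
        rw [h.fn_conj g.2 hw k.2]
        exact hf _⟩
      map_add' := fun _ _ => rfl
      map_smul' := fun _ _ => rfl }
  map_one' := by
    refine LinearMap.ext fun m => Subtype.ext (funext fun k => ?_)
    show (m : kx V Z → F) ⟨((1 : centralizer (Z : Set G)) : G)⁻¹ * k * ((1 : centralizer (Z : Set G)) : G), _⟩ =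
      (m : kx V Z → F) k
    exact congrArg (m : kx V Z → F) (Subtype.ext (by simp))
  map_mul' := by
    intro a b
    refine LinearMap.ext fun m => Subtype.ext (funext fun k => ?_)
    show (m : kx V Z → F) ⟨((a * b : centralizer (Z : Set G)) : G)⁻¹ * k * ((a * b : centralizer (Z : Set G)) : G), _⟩ =
      (m : kx V Z → F) ⟨(b : G)⁻¹ * ((a : G)⁻¹ * k * a) * b, _⟩
    exact congrArg (m : kx V Z → F) (Subtype.ext (by simp [mul_assoc]))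

theorem rep_fm (g : centralizer (Z : Set G)) (w : ws V Z) :
    h.rep g (h.fm w) = h.fm ⟨g * w * (g : G)⁻¹, h.W_conj (centralizer_le_normalizer _ g.2) w.2⟩ :=
  Subtype.ext (funext fun k => (h.fn_conj g.2 w.2 k.2).symm)

end Co

end Cfsg.Agent.Omega.NO3S.OneQ
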