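import Cfsg.Agent.Omega.NO3S.OneQ.Weight

/-!
# NO-3S, `OneQ`: the WEIGHT THEOREM for `E_Z / D_Z` (bb OMEGA #18875 (0), (1), (3), (4))

* `EL V Z = ⟨E_T⟩`, `DL V Z = ⟨D_T⟩` (`T` a point of `V`): `EL` is elementary abelian, `DL ≤ EL` commutes with all `W_T`;
* `One.quad_line` : `[EL V, E_Y', E_Y'] = 1` for every line `L` on `Z` and `Y' ∈ L - Z`;
* `One.full` : if `[v, W_Y'] ≰ L` for some `v ∈ V`, then `{[v, k] | k ∈ E_Y'} = Z`;
* `Co.secE` : `EL / DL` is a quadratic section for `X_l` unless `[W_Z, W_Y] ≤ V`;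
* `Co.weight` : **WEIGHT THEOREM** : `e ∈ E_Z`, `[W_Z, W_Y] ≰ V` ==> `e^{h(s+t)} ≡ e^{h(s)} e^{h(t)}` modulo `D_Z`;
* `Co.secD`, `Co.weightD` : the same for `D_Z / I`, if `⟨K_T ∩ C_G(V)⟩` is trivial on `DL / I`.
-/

set_option autoImplicit false
set_option linter.unusedSectionVars false

namespace Cfsg.Agent.Omega.NO3S.OneQ

open Subgroup Cfsg.Agent.Omega.NO3S.PT Cfsg.Agent.Omega.NoFF.Basic
open scoped Pointwise

universe u

variable {G : Type u} [Group G]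

/-- `⟨E_T⟩` -/
def EL (V Z : Subgroup G) : Subgroup G := sSup {K | ∃ T, Pnt V Z T ∧ K = ee V Z T}

/-- `⟨D_T⟩` -/
def DL (V Z : Subgroup G) : Subgroup G := sSup {K | ∃ T, Pnt V Z T ∧ K = dd V Z T}

theorem ee_le_EL {V Z T : Subgroup G} (hT : Pnt V Z T) : ee V Z T ≤ EL V Z := le_sSup ⟨T, hT, rfl⟩

theorem dd_le_DL {V Z T : Subgroup G} (hT : Pnt V Z T) : dd V Z T ≤ DL V Z := le_sSup ⟨T, hT, rfl⟩

theorem norm_EL (V Z : Subgroup G) : normalizer (V : Set G) ≤ normalizer ((EL V Z : Subgroup G) : Set G) := by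
  have key : ∀ g ∈ normalizer (V : Set G), PT.cj g (EL V Z) ≤ EL V Z := by
    intro g hg
    rw [cj_le_iff]
    refine sSup_le ?_
    rintro _ ⟨T, hT, rfl⟩
    rw [le_cj_iff, inv_inv, cj_ee hg]
    exact ee_le_EL (hT.conj hg)
  intro g hg
  rw [← cj_eq_iff]
  refine le_antisymm (key g hg) ?_
  rw [le_cj_iff]
  exact key _ (inv_mem hg)

theorem norm_DL (V Z : Subgroup G) : normalizer (V : Set G) ≤ normalizer ((DL V Z : Subgroup G) : Set G) := by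
  have key : ∀ g ∈ normalizer (V : Set G), PT.cj g (DL V Z) ≤ DL V Z := by
    intro g hg
    rw [cj_le_iff]
    refine sSup_le ?_
    rintro _ ⟨T, hT, rfl⟩
    rw [le_cj_iff, inv_inv, cj_dd hg]
    exact dd_le_DL (hT.conj hg)
  intro g hg
  rw [← cj_eq_iff]
  refine le_antisymm (key g hg) ?_
  rw [le_cj_iff]
  exact key _ (inv_mem hg)

/-- `{w ∈ W | [k, w] ∈ R}`, `W` abelian, `k ∈ N(W)` -/
def cR (k : G) (W R : Subgroup G) (hab : ∀ a ∈ W, ∀ b ∈ W, a * b = b * a) (hk : k ∈ normalizer (W : Set G)) :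
    Subgroup G where
  carrier := {w | w ∈ W ∧ k * w * k⁻¹ * w⁻¹ ∈ R}
  one_mem' := ⟨one_mem _, by simp⟩
  mul_mem' := by
    rintro a b ⟨ha, ha1⟩ ⟨hb, hb1⟩
    refine ⟨mul_mem ha hb, ?_⟩
    have h1 : k * b * k⁻¹ * b⁻¹ ∈ W := mul_mem ((mem_normalizer_iff.1 hk b).1 hb) (inv_mem hb)
    have e : k * (a * b) * k⁻¹ * (a * b)⁻¹ = k * a * k⁻¹ * a⁻¹ * (a * (k * b * k⁻¹ * b⁻¹) * a⁻¹) := by group
    rw [e, hab a ha _ h1, mul_inv_cancel_right]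
    exact mul_mem ha1 hb1
  inv_mem' := by
    rintro a ⟨ha, ha1⟩
    refine ⟨inv_mem ha, ?_⟩
    have h1 : k * a * k⁻¹ * a⁻¹ ∈ W := mul_mem ((mem_normalizer_iff.1 hk a).1 ha) (inv_mem ha)
    have e : k * a⁻¹ * k⁻¹ * a⁻¹⁻¹ = a⁻¹ * (k * a * k⁻¹ * a⁻¹)⁻¹ * a := by group
    rw [e, hab _ (inv_mem ha) _ (inv_mem h1), inv_mul_cancel_right]
    exact inv_mem ha1

namespace One

variable [Finite G] {S : Sylow 2 G} {B P V Z : Subgroup G} (h : One S B P V Z)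
include h

theorem EL_ab : ∀ a ∈ EL V Z, ∀ b ∈ EL V Z, a * b = b * a := by
  have key : EL V Z ≤ centralizer ((EL V Z : Subgroup G) : Set G) := by
    refine sSup_le ?_
    rintro _ ⟨T, hT, rfl⟩
    rw [le_centralizer_iff]
    refine sSup_le ?_
    rintro _ ⟨T', hT', rfl⟩
    intro a ha
    rw [mem_centralizer_iff]
    intro b hb
    by_cases e : T' = T
    · subst e
      exact h.comm_W hT.cj hb.1 ha.1
    · exact (h.ee_comm hT' hT e ha hb).symm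
  intro a ha b hb
  exact ((mem_centralizer_iff.1 (key ha)) b hb).symm

theorem EL_sq : ∀ a ∈ EL V Z, a * a = 1 := by
  let Q : Subgroup G :=
    { carrier := {a | a ∈ EL V Z ∧ a * a = 1}
      one_mem' := ⟨one_mem _, one_mul _⟩
      mul_mem' := by
        rintro a b ⟨ha, ha1⟩ ⟨hb, hb1⟩
        refine ⟨mul_mem ha hb, ?_⟩
        have e : a * b * (a * b) = a * (b * a) * b := by group
        rw [e, ← h.EL_ab a ha b hb]
        have e1 : a * (a * b) * b = a * a * (b * b) := by group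
        rw [e1, ha1, hb1, one_mul]
      inv_mem' := by
        rintro a ⟨ha, ha1⟩
        refine ⟨inv_mem ha, ?_⟩
        rw [← mul_inv_rev, ha1, inv_one] }
  have key : EL V Z ≤ Q := by
    refine sSup_le ?_
    rintro _ ⟨T, hT, rfl⟩
    exact fun a ha => ⟨ee_le_EL hT ha, h.sq_W hT ha.1⟩
  exact fun a ha => (key ha).2

theorem DL_le : DL V Z ≤ EL V Z := by
  refine sSup_le ?_
  rintro _ ⟨T, hT, rfl⟩
  exact (h.dd_le_ee hT).trans (ee_le_EL hT)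

theorem V_le_DL : V ≤ DL V Z := (h.pl.V_le_IV.trans (h.I_le_dd h.self)).trans (dd_le_DL h.self)

/-- `DL` commutes with all `W_T` -/
theorem DL_comm {T : Subgroup G} (hT : Pnt V Z T) {d w : G} (hd : d ∈ DL V Z) (hw : w ∈ ws V T) : d * w = w * d := by
  have key : DL V Z ≤ centralizer ((ws V T : Subgroup G) : Set G) := by
    refine sSup_le ?_
    rintro _ ⟨T', hT', rfl⟩
    intro a ha
    rw [mem_centralizer_iff]
    intro b hb
    by_cases e : T' = T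
    · subst e
      exact h.comm_W hT.cj hb ha.1
    · exact (h.dd_comm hT (fun e' => e e'.symm) ha hb).symm
  exact ((mem_centralizer_iff.1 (key hd)) w hw).symm

/-- `K_T ∩ C_G(V)` is trivial on `EL / DL` -/
theorem triv_E {T : Subgroup G} (hT : Pnt V Z T) {k : G} (hk : k ∈ kx V T) (hkV : k ∈ centralizer (V : Set G)) :
    ∀ w ∈ EL V Z, k * w * k⁻¹ * w⁻¹ ∈ DL V Z := by
  have hkN : k ∈ normalizer ((EL V Z : Subgroup G) : Set G) :=
    norm_EL V Z (centralizer_le_normalizer _ hkV)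
  have key : EL V Z ≤ cR k (EL V Z) (DL V Z) h.EL_ab hkN := by
    refine sSup_le ?_
    rintro _ ⟨X, hX, rfl⟩
    exact fun w hw => ⟨ee_le_EL hX hw, dd_le_DL hX (h.kx_dd hX hT hk hkV hw)⟩
  exact fun w hw => (key hw).2

/-- **(1)** -/
theorem quad_line {L Y : Subgroup G} (hL : IsCj V L) (hZL : Z ≤ L) (hY : Pnt L Z Y) (hne : Y ≠ Z) {k : G}
    (hk : k ∈ ee L Z Y) : ∀ w ∈ EL V Z, k * w * k⁻¹ * w⁻¹ ∈ EL L Z := by
  obtain ⟨T, C, Q, h'⟩ := h.flag hL h.pl.isCj_self hZL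
  have hkZ : k ∈ kx V Z := by
    have := (mem_ee.1 hk).2 Z h'.self hne.symm
    rwa [kx_line hL] at this
  have hkN : k ∈ normalizer ((EL V Z : Subgroup G) : Set G) := norm_EL V Z (h.K_norm h.self hkZ)
  have hkL : k ∈ EL L Z := ee_le_EL hY hk
  have key : EL V Z ≤ cR k (EL V Z) (EL L Z) h.EL_ab hkN := by
    refine sSup_le ?_
    rintro _ ⟨X, hX, rfl⟩
    intro w hw
    refine ⟨ee_le_EL hX hw, ?_⟩
    by_cases hXZ : X = Z
    · subst hXZ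
      exact h'.DL_le (h'.V_le_DL (hZL ((mem_kx.1 hkZ).2 w hw.1)))
    · have hwZ : w ∈ kx V Z := (mem_ee.1 hw).2 Z h.self (fun e => hXZ e.symm)
      have hwL : w ∈ normalizer ((EL L Z : Subgroup G) : Set G) := by
        refine norm_EL L Z (h'.K_norm h'.self ?_)
        rw [kx_line hL]
        exact hwZ
      have e : k * w * k⁻¹ * w⁻¹ = k * (w * k⁻¹ * w⁻¹) := by group
      rw [e]
      exact mul_mem hkL ((mem_normalizer_iff.1 hwL _).1 (inv_mem hkL))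
  exact fun w hw => (key hw).2

/-- **(3)** -/
theorem full {L Y : Subgroup G} (hL : IsCj V L) (hZL : Z ≤ L) (hY : Pnt L Z Y) (hne : Y ≠ Z) {v : G} (hv : v ∈ V)
    {w : G} (hw : w ∈ ws V Y) (hvw : v * w * v⁻¹ * w⁻¹ ∉ L) {z : G} (hz : z ∈ Z) :
    ∃ k ∈ ee L Z Y, k * v * k⁻¹ * v⁻¹ = z := by
  obtain ⟨T, C, Q, h'⟩ := h.flag hL h.pl.isCj_self hZL
  have hvW : v ∈ ws L Z := by rw [ws_line hL]; exact h.V_le_W h.self hv
  have hwW : w ∈ ws L Y := by rw [ws_line hL]; exact hw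
  have hcI := h'.comm_mem h'.self hY hne.symm hvW hwW
  obtain ⟨d, hd, hdL, hdc⟩ := h'.pl.F2' h'.hf h'.hO hcI hvw h'.self.cj h'.self.le (Z.inv_mem hz)
  -- `c = [v, w]`, `d v d⁻¹ = x v`, `d w d⁻¹ = k w`
  set c := v * w * v⁻¹ * w⁻¹ with hc
  have hx : d * v * d⁻¹ * v⁻¹ ∈ Z := (mem_kx.1 hd).2 v hvW
  have hk : d * w * d⁻¹ * w⁻¹ ∈ ee L Z Y := h'.kx_ee hY h'.self hd hdL hwW
  refine ⟨d * w * d⁻¹ * w⁻¹, hk, ?_⟩
  set x := d * v * d⁻¹ * v⁻¹ with hxd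
  set k := d * w * d⁻¹ * w⁻¹ with hkd
  have e1 : d * v * d⁻¹ = x * v := by rw [hxd]; group
  have e2 : d * w * d⁻¹ = k * w := by rw [hkd]; group
  -- `x` commutes with everything in sight
  have hkW : k ∈ ws L Y := hk.1
  have hxL : x ∈ L := hZL hx
  have hxw : ∀ u ∈ ws L Y, x * u = u * x := fun u hu => h'.comm_W hY.cj (h'.V_le_W hY hxL) hu
  have hxc : x * c = c * x := (h'.cent_V (h'.I_le_cent hcI) hxL).symm
  have hck : c * k = k * c := h'.I_comm_W hY hcI hkW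
  have hxv : x * v = v * x := h'.comm_W h'.self.cj (h'.V_le_W h'.self hxL) hvW
  have h1 : d * c * d⁻¹ = x * v * (k * w) * (x * v)⁻¹ * (k * w)⁻¹ := by
    rw [← e1, ← e2, hc]; group
  have h2 : x * v * (k * w) * (x * v)⁻¹ * (k * w)⁻¹ = v * k * v⁻¹ * k⁻¹ * c := by
    have hkw : k * w ∈ ws L Y := mul_mem hkW hwW
    have hxkw := hxw _ hkw
    have a1 : x * v * (k * w) * (x * v)⁻¹ * (k * w)⁻¹ = v * (x * (k * w) * x⁻¹) * v⁻¹ * (k * w)⁻¹ := by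
      rw [hxv]; group
    rw [a1, hxkw, mul_inv_cancel_right]
    have a2 : v * (k * w) * v⁻¹ * (k * w)⁻¹ = v * k * v⁻¹ * (v * w * v⁻¹ * w⁻¹) * k⁻¹ := by group
    rw [a2, ← hc]
    have a3 : v * k * v⁻¹ * c * k⁻¹ = v * k * v⁻¹ * (c * k⁻¹) := by group
    have a4 : c * k⁻¹ = k⁻¹ * c := by
      rw [eq_inv_mul_iff_mul_eq, ← mul_assoc, ← hck, mul_inv_cancel_right]
    rw [a3, a4]
    group
  have h3 : d * c * d⁻¹ * c⁻¹ = v * k * v⁻¹ * k⁻¹ := by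
    rw [h1, h2]; group
  have h4 : v * k * v⁻¹ * k⁻¹ = z⁻¹ := by rw [← h3]; exact hdc
  have h5 := congrArg (·⁻¹) h4
  simp only [inv_inv] at h5
  rw [← h5]
  group

end One

namespace Co

variable [Finite G] {F : Type*} [Field F] [CharP F 2] {S : Sylow 2 G} {B P V Z : Subgroup G} (h : Co F S B P V Z)
include h

/-- some line `L` on `Z` with `[V, W_Y'] ≰ L` -/
theorem exists_line (hNT : ¬ ws V Z ≤ n0 V Z Z) :
    ∃ L Y, IsCj V L ∧ Z ≤ L ∧ Pnt L Z Y ∧ Y ≠ Z ∧ ∃ u ∈ V, ∃ w ∈ ws V Y, u * w * u⁻¹ * w⁻¹ ∉ L := by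
  by_contra hcon
  push Not at hcon
  apply hNT
  obtain ⟨Y, hY, hYZ⟩ := h.one.exists_ne h.one.self
  intro w hw
  refine h.one.n0_eq h.one.self hY hYZ hw fun b hb => ?_
  have hbN : b ∈ normalizer ((ws V Z : Subgroup G) : Set G) :=
    h.one.cent_norm_W h.one.self (h.one.W_le_cent hY hb)
  have hab : ∀ a ∈ ws V Z, ∀ b ∈ ws V Z, a * b = b * a := fun a ha b hb => h.one.comm_W h.one.self.cj ha hb
  have key : ws V Z ≤ cR b (ws V Z) V hab hbN := by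
    refine ws_le fun L hL hZL => ?_
    obtain ⟨c, hc, rfl⟩ := h.line_eq hL hZL
    intro u hu
    refine ⟨le_ws hL hZL hu, ?_⟩
    rw [mem_cj] at hu
    have hcZ : PT.cj c⁻¹ Z = Z := cj_eq_iff.2 (inv_mem (centralizer_le_normalizer _ hc))
    have h1 : Z ≤ PT.cj c⁻¹ V := by
      have := cj_le_cj (g := c⁻¹).2 h.one.pl.ZV
      rwa [hcZ] at this
    have h2 : Pnt (PT.cj c⁻¹ V) Z (PT.cj c⁻¹ Y) := ⟨hY.cj.cj _, cj_le_cj.2 hY.le⟩
    have h3 : PT.cj c⁻¹ Y ≠ Z := by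
      intro e
      rw [← hcZ, cj_inj] at e
      exact hYZ e
    have h4 : c⁻¹ * b * c ∈ ws V (PT.cj c⁻¹ Y) := by
      rw [ws_cj, mem_cj, inv_inv]
      have e : c * (c⁻¹ * b * c) * c⁻¹ = b := by group
      rwa [e]
    have h5 := hcon _ _ ⟨c⁻¹, rfl⟩ h1 h2 h3 _ hu _ h4
    rw [mem_cj, inv_inv] at h5
    have h6 := inv_mem h5
    have e : (c * (c⁻¹ * u * c * (c⁻¹ * b * c) * (c⁻¹ * u * c)⁻¹ * (c⁻¹ * b * c)⁻¹) * c⁻¹)⁻¹ =
      b * u * b⁻¹ * u⁻¹ := by group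
    rwa [e] at h6
  have h1 := inv_mem (key hw).2
  have e : (b * w * b⁻¹ * w⁻¹)⁻¹ = w * b * w⁻¹ * b⁻¹ := by group
  rwa [e] at h1

/-- a line `L` on `Z` and `Y' ∈ L` such that `E_Y'` induces the whole root group on `V` -/
theorem exists_full (hNT : ¬ ws V Z ≤ n0 V Z Z) :
    ∃ L Y, IsCj V L ∧ Z ≤ L ∧ Pnt L Z Y ∧ Y ≠ Z ∧
      ∀ t : F, ∃ k ∈ ee L Z Y, k ∈ kx V Z ∧ ∀ x y, k * h.e x y * k⁻¹ = h.e (x + t * y) y := by
  obtain ⟨L, Y, hL, hZL, hY, hne, u, hu, w, hw, huw⟩ := h.exists_line hNT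
  refine ⟨L, Y, hL, hZL, hY, hne, fun t => ?_⟩
  obtain ⟨T, C, Q, h'⟩ := h.one.flag hL h.one.pl.isCj_self hZL
  obtain ⟨a, b, rfl⟩ := (h.mem_V u).1 hu
  have hb : b ≠ 0 := by
    rintro rfl
    apply huw
    have h1 : h.e a 0 ∈ L := hZL (h.e_memZ a)
    have hwW : w ∈ ws L Y := by rw [ws_line hL]; exact hw
    rw [h'.comm_W hY.cj (h'.V_le_W hY h1) hwW, mul_inv_cancel_right, mul_inv_cancel]
    exact one_mem _
  obtain ⟨k, hk, hkv⟩ := h.one.full hL hZL hY hne hu hw huw (h.e_memZ (t * b))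
  have hkZ : k ∈ kx V Z := by
    have := (mem_ee.1 hk).2 Z h'.self hne.symm
    rwa [kx_line hL] at this
  refine ⟨k, hk, hkZ, ?_⟩
  obtain ⟨s, hs⟩ := h.K_tv hkZ
  rw [hs, h.e_inv, ← h.e_add, CharTwo.add_self_eq_zero, add_right_comm, CharTwo.add_self_eq_zero, zero_add] at hkv
  obtain ⟨h1, -⟩ := h.e_inj hkv
  rw [mul_left_inj' hb] at h1
  rw [← h1]
  exact hs

/-- **`EL / DL` is a quadratic section** -/
theorem secE (hNT : ¬ ws V Z ≤ n0 V Z Z) : h.Sec (EL V Z) (DL V Z) where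
  ab := h.one.EL_ab
  sq := h.one.EL_sq
  RW := h.one.DL_le
  NW := h.one.pl.XV_le_N.trans (norm_EL V Z)
  NR := h.one.pl.XV_le_N.trans (norm_DL V Z)
  triv := fun T hT k hk hkV => h.one.triv_E hT hk hkV
  quad := by
    obtain ⟨L, Y, hL, hZL, hY, hne, hf⟩ := h.exists_full hNT
    obtain ⟨T, C, Q, h'⟩ := h.one.flag hL h.one.pl.isCj_self hZL
    intro t t'
    obtain ⟨k, hk, hkZ, hkt⟩ := hf t
    obtain ⟨k', hk', hkZ', hkt'⟩ := hf t'
    refine ⟨k, hkZ, k', hkZ', hkt, hkt', fun w hw => ?_⟩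
    rw [h'.EL_ab k' (ee_le_EL hY hk') _ (h.one.quad_line hL hZL hY hne hk w hw), mul_inv_cancel_right, mul_inv_cancel]
    exact one_mem _

/-- `DL` is quadratic modulo `I`, if `⟨K_T ∩ C_G(V)⟩` is trivial on `DL / I` -/
theorem secD (hNT : ¬ ws V Z ≤ n0 V Z Z)
    (hJ : ∀ T, Pnt V Z T → ∀ k ∈ kx V T, k ∈ centralizer (V : Set G) → ∀ w ∈ DL V Z, k * w * k⁻¹ * w⁻¹ ∈ IV V Z) :
    h.Sec (DL V Z) (IV V Z) where
  ab := fun a ha b hb => h.one.EL_ab a (h.one.DL_le ha) b (h.one.DL_le hb)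
  sq := fun a ha => h.one.EL_sq a (h.one.DL_le ha)
  RW := (h.one.I_le_dd h.one.self).trans (dd_le_DL h.one.self)
  NW := h.one.pl.XV_le_N.trans (norm_DL V Z)
  NR := h.one.pl.XV_le_N.trans (normalizer_le_IV V Z)
  triv := hJ
  quad := by
    obtain ⟨L, Y, hL, hZL, hY, hne, hf⟩ := h.exists_full hNT
    obtain ⟨T, C, Q, h'⟩ := h.one.flag hL h.one.pl.isCj_self hZL
    intro t t'
    obtain ⟨k, hk, hkZ, hkt⟩ := hf t
    obtain ⟨k', hk', hkZ', hkt'⟩ := hf t'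
    refine ⟨k, hkZ, k', hkZ', hkt, hkt', fun w hw => ?_⟩
    rw [h'.EL_ab k' (ee_le_EL hY hk') _ (h.one.quad_line hL hZL hY hne hk w (h.one.DL_le hw)), mul_inv_cancel_right,
      mul_inv_cancel]
    exact one_mem _

/-- `a e(1,0) a⁻¹ = e(x,0)` implies `Z^a = Z` -/
theorem cj_Z_of_one {a : G} (ha : a ∈ XV V Z) {x : F} (hax : a * h.e 1 0 * a⁻¹ = h.e x 0) : PT.cj a Z = Z := by
  have h1 := h.one.self.conj (h.one.pl.XV_le_N ha)
  refine h.one.pl.pts_eq h1.cj h.one.self.cj (conj_mem_cj (h.e_memZ 1)) (by rw [hax]; exact h.e_memZ x) ?_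
  intro e
  rw [mul_inv_eq_one, mul_eq_left, h.e_eq_one] at e
  exact one_ne_zero e.1

/-- **WEIGHT THEOREM** -/
theorem weight [Finite F] (hNT : ¬ ws V Z ≤ n0 V Z Z) {e : G} (he : e ∈ ee V Z Z) {a b c : G}
    (ha : a ∈ XV V Z) (hb : b ∈ XV V Z) (hc : c ∈ XV V Z) {x y : F} (hax : a * h.e 1 0 * a⁻¹ = h.e x 0)
    (hby : b * h.e 1 0 * b⁻¹ = h.e y 0) (hcz : c * h.e 1 0 * c⁻¹ = h.e (x + y) 0) :
    c * e * c⁻¹ * (a * e * a⁻¹) * (b * e * b⁻¹) ∈ dd V Z Z := by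
  have hZ := h.one.self
  have hY := h.pY
  have hconj : ∀ {g : G} {x : F}, g ∈ XV V Z → g * h.e 1 0 * g⁻¹ = h.e x 0 → g * e * g⁻¹ ∈ ee V Z Z := by
    intro g x hg hgx
    have h1 := conj_mem_cj (g := g) he
    rwa [cj_ee (h.one.pl.XV_le_N hg), h.cj_Z_of_one hg hgx] at h1
  have hr := mul_mem (mul_mem (hconj hc hcz) (hconj ha hax)) (hconj hb hby)
  obtain ⟨n, hn, hne⟩ := h.exists_n (one_ne_zero (α := F))
  have hnZ : PT.cj n Z = h.Yp := h.cj_swap fun x y => by rw [hne, one_mul, inv_one, one_mul]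
  have h1 := (h.secE hNT).add_of (ee_le_EL hZ he)
    (fun k hk => dd_le_DL hZ (h.one.X_le_dd hZ ((mem_kx.1 hk).2 e he.1))) ha hb hc hax hby hcz hn
  set r := c * e * c⁻¹ * (a * e * a⁻¹) * (b * e * b⁻¹) with hrd
  have h2 : n * r * n⁻¹ ∈ ee V Z h.Yp := by
    have h3 := conj_mem_cj (g := n) hr
    rwa [cj_ee (h.one.pl.XV_le_N hn), hnZ] at h3
  have h3 : n * r * n⁻¹ ∈ dd V Z h.Yp := by
    refine h.one.mem_dd_of hY hZ h.Yp_ne.symm h2.1 fun u hu => ?_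
    have e1 : n * r * n⁻¹ = n * r * n⁻¹ * r⁻¹ * r := by group
    rw [e1, mul_assoc, h.one.comm_W hZ.cj hr.1 hu, ← mul_assoc, h.one.DL_comm hZ h1 hu, mul_assoc]
  have h4 : r ∈ DL V Z := by
    have e1 : r = (n * r * n⁻¹ * r⁻¹)⁻¹ * (n * r * n⁻¹) := by group
    rw [e1]
    exact mul_mem (inv_mem h1) (dd_le_DL hY h3)
  exact h.one.mem_dd_of hZ hY h.Yp_ne hr.1 fun u hu => h.one.DL_comm hY h4 hu

/-- the WEIGHT THEOREM for `D_Z / I` -/
theorem weightD [Finite F] (hNT : ¬ ws V Z ≤ n0 V Z Z)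
    (hJ : ∀ T, Pnt V Z T → ∀ k ∈ kx V T, k ∈ centralizer (V : Set G) → ∀ w ∈ DL V Z, k * w * k⁻¹ * w⁻¹ ∈ IV V Z)
    {e : G} (he : e ∈ dd V Z Z) {a b c : G}
    (ha : a ∈ XV V Z) (hb : b ∈ XV V Z) (hc : c ∈ XV V Z) {x y : F} (hax : a * h.e 1 0 * a⁻¹ = h.e x 0)
    (hby : b * h.e 1 0 * b⁻¹ = h.e y 0) (hcz : c * h.e 1 0 * c⁻¹ = h.e (x + y) 0) :
    c * e * c⁻¹ * (a * e * a⁻¹) * (b * e * b⁻¹) ∈ IV V Z := by
  have hZ := h.one.self
  have hY := h.pY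
  have hconj : ∀ {g : G} {x : F}, g ∈ XV V Z → g * h.e 1 0 * g⁻¹ = h.e x 0 → g * e * g⁻¹ ∈ dd V Z Z := by
    intro g x hg hgx
    have h1 := conj_mem_cj (g := g) he
    rwa [cj_dd (h.one.pl.XV_le_N hg), h.cj_Z_of_one hg hgx] at h1
  have hr := mul_mem (mul_mem (hconj hc hcz) (hconj ha hax)) (hconj hb hby)
  obtain ⟨n, hn, hne⟩ := h.exists_n (one_ne_zero (α := F))
  have hnZ : PT.cj n Z = h.Yp := h.cj_swap fun x y => by rw [hne, one_mul, inv_one, one_mul]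
  have h1 := (h.secD hNT hJ).add_of (dd_le_DL hZ he)
    (fun k hk => h.one.pl.V_le_IV (h.one.pl.ZV ((mem_kx.1 hk).2 e he.1))) ha hb hc hax hby hcz hn
  set r := c * e * c⁻¹ * (a * e * a⁻¹) * (b * e * b⁻¹) with hrd
  have h2 : n * r * n⁻¹ ∈ dd V Z h.Yp := by
    have h3 := conj_mem_cj (g := n) hr
    rwa [cj_dd (h.one.pl.XV_le_N hn), hnZ] at h3
  rw [← h.one.pl.IV_eq h.one.hf hZ.cj hZ.le hY.cj hY.le h.Yp_ne.symm]
  have h5 : r ∈ ws V h.Yp := by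
    have e1 : r = (n * r * n⁻¹ * r⁻¹)⁻¹ * (n * r * n⁻¹) := by group
    rw [e1]
    exact (ws V h.Yp).mul_mem ((ws V h.Yp).inv_mem (h.one.I_le_W hY h1)) h2.1
  exact ⟨hr.1, h5⟩

end Co

end Cfsg.Agent.Omega.NO3S.OneQ
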