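import Cfsg.Agent.Omega.NO3S.OneQ.LemKDual
import Cfsg.Agent.Omega.NO3S.OneQ.Dual
import Cfsg.Agent.Omega.NO3S.OneQ.StarA

/-!
# NO-3S, `OneQ`: `D_X > I` implies that all S-pairs are partial; `dim MF / Ē = 1` implies `D_X = I`

* `Co.dualN` : duality `Co.Dual` in case (N); `Co.w1_le` : `C_{W_Z}(E_Y) ≤ E_Z`;
* `Co.partial_of` : `D_Z ≰ I`, `M` a line on `Z`, `V ≰ E_Z(M)`, `M ≰ E_Z(V)` imply `[M, W_Y] ≤ E_Z(M)`;
* `Co.lemK_of` : then `[v, v^g] ∈ Z` for `v ∈ M`, `g ∈ X_V`;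
* **`Co.dd_le_of_one`** : if `MF / Ē` has dimension 1 over `F`, then `D_Z ≤ I`.
-/

set_option autoImplicit false
set_option linter.unusedSectionVars false

namespace Cfsg.Agent.Omega.NO3S.OneQ.Co

open Subgroup Cfsg Cfsg.Agent.Omega.NO3S.PT Cfsg.Agent.Omega.NoFF.Basic
open scoped Pointwise

universe u

variable {G : Type u} [Group G] [Finite G] {F : Type*} [Field F] [CharP F 2] {S : Sylow 2 G} {B P V Z : Subgroup G}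
  (h : Co F S B P V Z)

/-- duality in case (N) -/
theorem dualN [Finite F] (hN : NTr V Z) : h.Dual := by
  intro φ hφ
  obtain ⟨e, he, hee⟩ := h.dual_N h.pY h.Yp_ne (hN _ h.pY h.Yp_ne) φ fun w hw =>
    hφ _ (h.fm_Eb (w := ⟨w, ee_le hw⟩) hw)
  exact ⟨e, he, fun w => (hee w).symm⟩

include h in
theorem w1_le_ee [Finite F] (hN : NTr V Z) : w1 V Z Z ≤ ee V Z Z := by
  intro w hw
  have hwW : w ∈ ws V Z := w1_le hw
  by_contra hne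
  have h1 : h.fm ⟨w, hwW⟩ ∉ h.Eb := fun e => hne ((h.fm_Eb_iff hN (w := ⟨w, hwW⟩)).1 e)
  obtain ⟨φ, hφ, hk⟩ := Submodule.exists_le_ker_of_notMem h1
  obtain ⟨e, he, hee⟩ := h.dualN hN φ fun m hm => hk hm
  have h2 : e * w = w * e := (mem_centralizer_iff.1 ((mem_w1.1 hw).2 h.Yp h.pY h.Yp_ne) e he)
  have heK : e ∈ kx V Z := (mem_ee.1 he).2 Z h.one.self h.Yp_ne.symm
  exact hφ ((hee ⟨w, hwW⟩).symm.trans ((h.fn_eq_zero hwW heK).2 h2))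

include h in
/-- `D = I` for one line on `Z` implies it for `V` -/
theorem dd_le_of_cj {c : G} (hc : c ∈ centralizer (Z : Set G)) (hd : dd (PT.cj c V) Z Z ≤ IV (PT.cj c V) Z) :
    dd V Z Z ≤ IV V Z := by
  have hcZ : PT.cj c Z = Z := cj_eq_iff.2 (centralizer_le_normalizer _ hc)
  have h1 : PT.cj c (dd V Z Z) = dd (PT.cj c V) Z Z := by rw [cj_conj_dd, hcZ]
  have h2 : PT.cj c (IV V Z) = IV (PT.cj c V) Z := by
    rw [← PB.Geom.IV_conj h.one.pl h.one.hf, hcZ]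
  rwa [← h1, ← h2, cj_le_cj] at hd

include h in
/-- **`D_Z ≰ I`: all S-pairs are partial** -/
theorem partial_of [Finite F] (hN : NTr V Z) (hD : ¬ dd V Z Z ≤ IV V Z) {M : Subgroup G} (hM : IsCj V M) (hZM : Z ≤ M)
    (hVM : ¬ V ≤ ee M Z Z) {Y : Subgroup G} (hY : Pnt V Z Y) (hYZ : Y ≠ Z) :
    ∀ w ∈ ws V Y, ∀ v ∈ M, w * v * w⁻¹ * v⁻¹ ∈ ee M Z Z := by
  have hVV : IsCj V V := ⟨1, (cj_one V).symm⟩
  have hZ := h.one.pl.isCj_self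
  have hw1 := h.w1_le_ee hN
  obtain ⟨c, hc, rfl⟩ := h.line_eq hM hZM
  obtain ⟨T, C, Q', h'⟩ := h.one.flag hM hZ hZM
  obtain ⟨Q, hQ, hQZ⟩ := h'.exists_ne h'.self
  -- a vector of `Y` outside of `E_Z(M)`
  obtain ⟨q, hq, hqE⟩ : ∃ y ∈ Y, y ∉ ee (PT.cj c V) Z Z := by
    by_contra hcon
    push Not at hcon
    apply hVM
    intro v hv
    obtain ⟨z, hz, y, hy, rfl⟩ := h.one.pl.exists_mul h.one.self.cj h.one.self.le hY.cj hY.le hYZ.symm hv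
    exact mul_mem (h.one.X_le_ee hM hZ hZM hz) (hcon y hy)
  intro w hw v hv
  obtain ⟨z, hz, y, hy, rfl⟩ := h'.pl.exists_mul h'.self.cj h'.self.le hQ.cj hQ.le hQZ.symm hv
  have hwC : w ∈ centralizer (Z : Set G) := centralizer_le h.one.pl.ZV (h.one.W_le_cent hY hw)
  have hwz : w * z * w⁻¹ = z := by rw [(mem_centralizer_iff.1 hwC z hz).symm, mul_inv_cancel_right]
  have hyW : y ∈ ws V Z := h.one.line_le_ws hM hZM (hQ.le hy)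
  have hwy : w * y * w⁻¹ ∈ ws V Z := h.W_conj (centralizer_le_normalizer _ hwC) hyW
  have hcW : w * y * w⁻¹ * y⁻¹ ∈ ws V Z := (ws V Z).mul_mem hwy ((ws V Z).inv_mem hyW)
  have e1 : w * (z * y) * w⁻¹ * (z * y)⁻¹ = w * y * w⁻¹ * y⁻¹ := by
    calc w * (z * y) * w⁻¹ * (z * y)⁻¹ = (w * z * w⁻¹) * (w * y * w⁻¹ * y⁻¹) * z⁻¹ := by group
      _ = w * y * w⁻¹ * y⁻¹ := by
        rw [hwz, h.one.comm_W hZ (h.one.pl.Z_le_ws hz) hcW, mul_inv_cancel_right]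
  rw [e1]
  by_contra hcon
  exact hD (h.dd_le_of_cj hc (h.one.n6 hM hVV hZ hZM h.one.pl.ZV hQ.cj hQ.le hQZ hY.cj hY.le hYZ hw1 hw hy hcon hq hqE))

include h in
/-- LEMMA K for `D_Z ≰ I` -/
theorem lemK_of [Finite F] (hN : NTr V Z) (hD : ¬ dd V Z Z ≤ IV V Z) {M : Subgroup G} (hM : IsCj V M) (hZM : Z ≤ M)
    (hVM : ¬ V ≤ ee M Z Z) {g v : G} (hg : g ∈ XV V Z) (hgZ : PT.cj g Z ≠ Z) (hv : v ∈ M) :
    v * (g * v * g⁻¹) * v⁻¹ * (g * v * g⁻¹)⁻¹ ∈ Z := by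
  obtain ⟨c, hc, rfl⟩ := h.line_eq hM hZM
  exact lemK_cj hN (h.dualN hN) hc hVM hg hgZ
    (h.partial_of hN hD hM hZM hVM (h.one.self.conj (h.one.pl.XV_le_N hg)) hgZ) hv

/-- LEMMA K for `D_Z ≰ I`, in `MF` -/
theorem lemKM_of [Finite F] (hN : NTr V Z) (hD : ¬ dd V Z Z ≤ IV V Z) {c : G} (hc : c ∈ centralizer (Z : Set G))
    (hVM : ¬ V ≤ ee (PT.cj c V) Z Z) (a : F) :
    h.al (a • h.rp ⟨c, h.C_le_hat hc⟩ h.v0) (h.rp ⟨c, h.C_le_hat hc⟩ h.v0) = h.rp ⟨c, h.C_le_hat hc⟩ h.v0 := by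
  by_cases ha0 : a = 0
  · rw [ha0, zero_smul, h.al_zero hN]; rfl
  have hcN := centralizer_le_normalizer _ hc
  have hcZ : PT.cj c Z = Z := cj_eq_iff.2 hcN
  have hZM : Z ≤ PT.cj c V := by
    nth_rewrite 1 [← hcZ]
    exact cj_le_cj.2 h.one.pl.ZV
  have h3 := h.lemK_of hN hD ⟨c, rfl⟩ hZM hVM h.sw_XV (by rw [h.cj_sw]; exact h.Yp_ne) (v := c * h.e 0 a * c⁻¹)
    (conj_mem_cj (h.e_memV 0 a))
  have h4 : h.al (h.fm ⟨c * h.e 0 a * c⁻¹, h.W_conj hcN (h.W_V 0 a)⟩) (h.fm ⟨c * h.e 0 a * c⁻¹, h.W_conj hcN (h.W_V 0 a)⟩) =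
      h.fm ⟨c * h.e 0 a * c⁻¹, h.W_conj hcN (h.W_V 0 a)⟩ := by
    rw [h.al_fm hN]
    show h.rp ⟨h.sw * (c * h.e 0 a * c⁻¹) * h.sw⁻¹, _⟩ _ = _
    rw [h.rp_fm', h.fm_eq]
    have h5 := inv_mem h3
    have e : ((c * h.e 0 a * c⁻¹) * (h.sw * (c * h.e 0 a * c⁻¹) * h.sw⁻¹) * (c * h.e 0 a * c⁻¹)⁻¹ *
        (h.sw * (c * h.e 0 a * c⁻¹) * h.sw⁻¹)⁻¹)⁻¹ =
      h.sw * (c * h.e 0 a * c⁻¹) * h.sw⁻¹ * (c * h.e 0 a * c⁻¹) * (h.sw * (c * h.e 0 a * c⁻¹) * h.sw⁻¹)⁻¹ *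
        (c * h.e 0 a * c⁻¹)⁻¹ := by group
    rw [e] at h5
    exact h.Z_le_rd h5
  have hcv : h.fm ⟨c * h.e 0 a * c⁻¹, h.W_conj hcN (h.W_V 0 a)⟩ = a • h.rp ⟨c, h.C_le_hat hc⟩ h.v0 := by
    rw [← map_smul, ← h.fm_e 0 a, h.rp_fm' (h.C_le_hat hc) (h.W_V 0 a)]
  rw [hcv, map_smul] at h4
  exact smul_right_injective _ ha0 h4

include h in
/-- **`dim MF / Ē = 1` implies `D_Z ≤ I`** -/
theorem dd_le_of_one [Finite F] (hN : NTr V Z) (hone : ∀ m n : h.MF, n ∉ h.Eb → ∃ a : F, m - a • n ∈ h.Eb) :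
    dd V Z Z ≤ IV V Z := by
  by_contra hD
  have hVV : IsCj V V := ⟨1, (cj_one V).symm⟩
  have hZ := h.one.pl.isCj_self
  have hw1 := h.w1_le_ee hN
  obtain ⟨M, Q, s⟩ := h.one.exists_SP hw1 hVV hZ h.one.pl.ZV h.pY.cj h.pY.le h.Yp_ne
  have hM := s.hM
  have hZM := s.hXM
  obtain ⟨c, hc, rfl⟩ := h.line_eq hM hZM
  have hcN := centralizer_le_normalizer _ hc
  have hVM : ¬ V ≤ ee (PT.cj c V) Z Z := by
    obtain ⟨y, hy, hyE⟩ := s.s2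
    exact fun e => hyE (e (h.pY.le hy))
  have hfix := h.lemKM_of hN hD hc hVM
  set m := h.rp ⟨c, h.C_le_hat hc⟩ h.v0 with hm
  -- `m ∉ Ē`
  have hmE : m ∉ h.Eb := by
    intro hmE
    obtain ⟨q, hq, hqE⟩ := s.s1
    apply hqE
    have hqM := s.hQM hq
    rw [mem_cj] at hqM
    obtain ⟨x, y, hxy⟩ := (h.mem_V _).1 hqM
    obtain rfl : q = c * h.e x y * c⁻¹ := by rw [hxy]; group
    rw [← h.fm_Eb_iff hN (w := ⟨c * h.e x y * c⁻¹, h.W_conj hcN (h.W_V x y)⟩)]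
    have hcv : h.fm ⟨c * h.e x y * c⁻¹, h.W_conj hcN (h.W_V x y)⟩ = y • m := by
      rw [hm, ← map_smul, ← h.fm_e x y, h.rp_fm' (h.C_le_hat hc) (h.W_V x y)]
    rw [hcv]
    exact Submodule.smul_mem _ _ hmE
  apply hmE
  rw [h.mem_Eb_iff hN]
  intro x
  obtain ⟨a, ha⟩ := hone x m hmE
  have h1 : h.al x = h.al (a • m) := by
    rw [h.al_congr hN, ← h.sub_eq]
    exact ha
  rw [h1, hfix a, sub_self]
  exact zero_mem _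

end Cfsg.Agent.Omega.NO3S.OneQ.Co
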