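import Cfsg.Agent.Omega.NO3S.OneQ.PlaneEnd

/-!
# NO-3S, critical distance 1: planes (bb OMEGA #17961, (5.2))

* `Plg.trans` : `N_G(Q)` is transitive on the points of a plane `Q`;
* **`One.plg_of`** : a line `L ≠ V` on `Z` with `L ≤ I` gives a plane `V L`;
* **`One.pla_of`** : if `W_T K_Z ≤ W_Y K_Z` for points `Y ∈ V`, `T ∈ L`, and `W_Z = E_Z(V) E_Z(L)`, then `Pla V Z (V L)`;
* **`One.no_fold`** : this is impossible if (N) holds.
-/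

set_option autoImplicit false
set_option linter.unusedSectionVars false

namespace Cfsg.Agent.Omega.NO3S.OneQ

open Subgroup Cfsg Cfsg.Agent.Omega.NO3S.PT Cfsg.Agent.Omega.NoFF.Basic
open Cfsg.Agent.Omega.NoFF.ThmJ (card_sup_mul)
open scoped Pointwise

variable {G : Type*} [Group G]

/-- `W_Y K_X` -/
def wk (V X Y : Subgroup G) : Subgroup G := ws V Y ⊔ kx V X

theorem cj_sup' (g : G) (A B : Subgroup G) : PT.cj g (A ⊔ B) = PT.cj g A ⊔ PT.cj g B := by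
  apply le_antisymm
  · rw [cj_le_iff]
    refine sup_le ?_ ?_
    · rw [le_cj_iff, inv_inv]; exact le_sup_left
    · rw [le_cj_iff, inv_inv]; exact le_sup_right
  · exact sup_le (cj_le_cj.2 le_sup_left) (cj_le_cj.2 le_sup_right)

theorem cj_wk (V X Y : Subgroup G) (g : G) : PT.cj g (wk V X Y) = wk V (PT.cj g X) (PT.cj g Y) := by
  unfold wk
  rw [cj_sup', ws_cj, kx_cj]

namespace One

variable [Finite G] {S : Sylow 2 G} {B P V Z : Subgroup G} (h : One S B P V Z)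
include h

/-- a line is covered by its points -/
theorem line_pt {L : Subgroup G} (hL : IsCj V L) {u : G} (hu : u ∈ L) (hu1 : u ≠ 1) :
    ∃ X, IsCj Z X ∧ X ≤ L ∧ u ∈ X := by
  obtain ⟨g, rfl⟩ := hL
  have hT : IsCj Z (PT.cj g Z) := ⟨g, rfl⟩
  obtain ⟨S', C', Q', h'⟩ := h.flag ⟨g, rfl⟩ hT (cj_le_cj.2 h.pl.ZV)
  obtain ⟨A, hA, hAL, huA⟩ := h'.pl.exists_point hu hu1
  exact ⟨A, ((pnt_iff hT).1 ⟨hA, hAL⟩).cj, hAL, huA⟩

/-- `W_Y` normalises `K_X` -/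
theorem wk_norm {L X Y : Subgroup G} (hL : IsCj V L) (hXL : X ≤ L) (hY : IsCj Z Y) (hYL : Y ≤ L) :
    ws V Y ≤ normalizer ((kx V X : Subgroup G) : Set G) := fun a ha =>
  normalizer_le_kx V X (centralizer_le_normalizer _ (centralizer_le hXL (h.ws_le_line hL hY hYL ha)))

theorem wk_le {L X Y T : Subgroup G} (hL : IsCj V L) (hX : IsCj Z X) (hXL : X ≤ L) (hY : IsCj Z Y) (hYL : Y ≤ L)
    (hYX : Y ≠ X) (hT : IsCj Z T) (hTL : T ≤ L) (hTX : T ≠ X) : wk V X Y ≤ wk V X T := by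
  obtain ⟨k, hk, rfl⟩ := h.move_line hL hX hXL hT hTL hY hYL hTX hYX
  refine sup_le ?_ le_sup_right
  rw [ws_cj]
  intro a ha
  rw [mem_cj] at ha
  have h1 : k ∈ wk V X T := mem_sup_right hk
  have h2 : k⁻¹ * a * k ∈ wk V X T := mem_sup_left ha
  have h3 := mul_mem (mul_mem h1 h2) (inv_mem h1)
  have e : k * (k⁻¹ * a * k) * k⁻¹ = a := by group
  rwa [e] at h3

theorem wk_eq {L X Y T : Subgroup G} (hL : IsCj V L) (hX : IsCj Z X) (hXL : X ≤ L) (hY : IsCj Z Y) (hYL : Y ≤ L)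
    (hYX : Y ≠ X) (hT : IsCj Z T) (hTL : T ≤ L) (hTX : T ≠ X) : wk V X Y = wk V X T :=
  le_antisymm (h.wk_le hL hX hXL hY hYL hYX hT hTL hTX) (h.wk_le hL hX hXL hT hTL hTX hY hYL hYX)

/-- `|E_X(L)|` is the same for all flags -/
theorem card_ee {L M X Y : Subgroup G} (hL : IsCj V L) (hX : IsCj Z X) (hXL : X ≤ L) (hM : IsCj V M) (hY : IsCj Z Y)
    (hYM : Y ≤ M) : Nat.card (ee L Z X) = Nat.card (ee M Z Y) := by
  obtain ⟨g, rfl, rfl⟩ := PB.Geom.exists_conj_flag h.pl hX hL hXL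
  obtain ⟨k, rfl, rfl⟩ := PB.Geom.exists_conj_flag h.pl hY hM hYM
  rw [← cj_conj_ee, ← cj_conj_ee, card_cj, card_cj]

theorem card_ws {X Y : Subgroup G} (hX : IsCj Z X) (hY : IsCj Z Y) : Nat.card (ws V X) = Nat.card (ws V Y) := by
  obtain ⟨g, rfl⟩ := hX
  obtain ⟨k, rfl⟩ := hY
  rw [ws_cj, ws_cj, card_cj, card_cj]

/-- `|W_Y K_X|` is the same for all `Y` -/
theorem card_wk {L M X Y T : Subgroup G} (hL : IsCj V L) (hM : IsCj V M) (hX : IsCj Z X) (hXL : X ≤ L) (hXM : X ≤ M)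
    (hY : IsCj Z Y) (hYL : Y ≤ L) (hYX : Y ≠ X) (hT : IsCj Z T) (hTM : T ≤ M) (hTX : T ≠ X) :
    Nat.card (wk V X Y) = Nat.card (wk V X T) := by
  have h1 := card_sup_mul (h.wk_norm hL hXL hY hYL)
  have h2 := card_sup_mul (h.wk_norm hM hXM hT hTM)
  rw [inf_comm, ← h.ee_line hL hY hYL hX hXL hYX.symm, sup_comm] at h1
  rw [inf_comm, ← h.ee_line hM hT hTM hX hXM hTX.symm, sup_comm] at h2
  rw [h.card_ee hL hY hYL hM hT hTM, h.card_ws hY hT, ← h2] at h1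
  exact Nat.eq_of_mul_eq_mul_right Nat.card_pos h1

end One

namespace Plg

variable [Finite G] {S : Sylow 2 G} {B P V Z : Subgroup G} (h : One S B P V Z)
include h

theorem kx_norm {Q : Subgroup G} (hp : Plg V Z Q) {X : Subgroup G} (hX : IsCj Z X) (hXQ : X ≤ Q) :
    kx V X ≤ normalizer (Q : Set G) := kx_normalizes hXQ (hp.leW X hX hXQ)

theorem XV_norm {Q : Subgroup G} (hp : Plg V Z Q) {L X : Subgroup G} (hL : IsCj V L) (hLQ : L ≤ Q)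
    (hX : IsCj Z X) : XV L X ≤ normalizer (Q : Set G) := by
  refine sSup_le ?_
  rintro _ ⟨Y, hY, hYL, rfl⟩
  rw [kx_line hL]
  exact hp.kx_norm h ((pnt_iff hX).1 ⟨hY, hYL⟩).cj (hYL.trans hLQ)

/-- `N_G(Q)` is transitive on the points of `Q` -/
theorem trans {Q : Subgroup G} (hp : Plg V Z Q) {X Y : Subgroup G} (hX : IsCj Z X) (hY : IsCj Z Y) (hXQ : X ≤ Q)
    (hYQ : Y ≤ Q) : ∃ g ∈ normalizer (Q : Set G), PT.cj g X = Y := by
  by_cases hne : X = Y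
  · exact ⟨1, one_mem _, by rw [cj_one, hne]⟩
  obtain ⟨L, hL, hLQ, hXL, hYL⟩ := hp.col X Y hX hY hXQ hYQ hne
  obtain ⟨S', C', Q', h'⟩ := h.flag hL hX hXL
  obtain ⟨k, hk, -, hkX, -⟩ := h'.pl.swap h'.hf h'.pl.isCj_self hXL (h.pnt_line hX hY hYL).cj hYL
  exact ⟨k, hp.XV_norm h hL hLQ hX hk, hkX⟩

end Plg

namespace One

variable [Finite G] {S : Sylow 2 G} {B P V Z : Subgroup G} (h : One S B P V Z)
include h

section

variable {L : Subgroup G} (hL : IsCj V L) (hZL : Z ≤ L) (hLV : L ≠ V) (hLI : L ≤ IV V Z)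
include hL hZL hLV hLI

theorem inf_line {u : G} (hu : u ∈ V) (huL : u ∈ L) : u ∈ Z := by
  by_cases hu1 : u = 1
  · rw [hu1]; exact one_mem _
  obtain ⟨X, hX, hXV, huX⟩ := h.line_pt ⟨1, (cj_one V).symm⟩ hu hu1
  by_contra huZ
  have hXZ : X ≠ Z := fun e => huZ (e ▸ huX)
  have hXL : X ≤ L := Pla.pt_le h hL hX huX hu1 huL
  exact hLV (h.line_eq hL ⟨1, (cj_one V).symm⟩ hX h.pl.isCj_self hXL hZL hXV h.pl.ZV hXZ)

theorem Q_le_I : V ⊔ L ≤ IV V Z := sup_le h.pl.V_le_IV hLI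

theorem leW_V {T : Subgroup G} (hT : Pnt V Z T) : V ⊔ L ≤ ws V T :=
  (h.Q_le_I hL hZL hLV hLI).trans (h.I_le_W hT)

theorem norm_of_V {T : Subgroup G} (hT : Pnt V Z T) : kx V T ≤ normalizer ((V ⊔ L : Subgroup G) : Set G) :=
  kx_normalizes (hT.le.trans le_sup_left) (h.leW_V hL hZL hLV hLI hT)

theorem leW_L {T : Subgroup G} (hT : IsCj Z T) (hTL : T ≤ L) (hTZ : T ≠ Z) : V ⊔ L ≤ ws V T := by
  refine sup_le ?_ (h.line_le_ws hL hTL)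
  obtain ⟨u, hu, hu1⟩ := h.pl.pt_ne_bot hT
  have huV : u ∉ V := fun e => hTZ (h.pl.pts_eq hT h.pl.isCj_self hu (h.inf_line hL hZL hLV hLI e (hTL hu)) hu1)
  intro v hv
  by_cases hv1 : v = 1
  · rw [hv1]; exact one_mem _
  obtain ⟨Y, hY, hYV, hvY⟩ := h.pl.exists_point hv hv1
  obtain ⟨x, hx, -, hxu, hxZ, -⟩ := h.pl.F2_swap h.hf h.hO (hLI (hTL hu)) huV h.pl.isCj_self h.pl.ZV hY hYV
  have hxT : PT.cj x T = T := by
    refine h.pl.pts_eq (hT.cj x) hT (z := u) ?_ hu hu1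
    have h1 := conj_mem_cj (g := x) hu
    rwa [hxu, mul_inv_cancel_right] at h1
  have h1 : Y ≤ PT.cj x L := by rw [← hxZ]; exact cj_le_cj.2 hZL
  have h2 : T ≤ PT.cj x L := by
    have := (cj_le_cj (g := x)).2 hTL
    rwa [hxT] at this
  exact h.line_le_ws (hL.cj x) h2 (h1 hvY)

/-- every element of `V L - V` is on a line `L^k`, `k ∈ K_Y ∩ C_G(V)` -/
theorem cover {Y : Subgroup G} (hY : Pnt V Z Y) (hYZ : Y ≠ Z) {u : G} (hu : u ∈ V ⊔ L) (huV : u ∉ V) :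
    ∃ k ∈ kx V Y, k ∈ centralizer (V : Set G) ∧ u ∈ PT.cj k L := by
  have hn : V ≤ normalizer (L : Set G) := by
    refine le_trans ?_ (centralizer_le_normalizer _)
    intro v hv
    rw [mem_centralizer_iff]
    exact fun l hl => h.pl.IV_comm (hLI hl) (h.pl.V_le_IV hv)
  obtain ⟨v, hv, l, hl, rfl⟩ := mem_sup_norm hn hu
  have hlV : l ∉ V := fun e => huV (mul_mem hv e)
  obtain ⟨z, hz, y, hy, rfl⟩ := h.pl.exists_mul h.pl.isCj_self h.pl.ZV hY.cj hY.le hYZ.symm hv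
  obtain ⟨k, hk, hkV, hkl⟩ := h.pl.F2' h.hf h.hO (hLI hl) hlV hY.cj hY.le hy
  refine ⟨k, hk, hkV, ?_⟩
  have e1 : z * y * l = k * (z * l) * k⁻¹ := by
    have h1 : k * z * k⁻¹ = z := by
      rw [← mem_centralizer_iff.1 hkV z (h.pl.ZV hz), mul_inv_cancel_right]
    calc z * y * l = z * (y * l) := by group
      _ = (k * z * k⁻¹) * (k * l * k⁻¹) := by rw [h1, ← hkl]; group
      _ = _ := by group
  rw [e1]
  exact conj_mem_cj (mul_mem (hZL hz) hl)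

theorem card_Q : Nat.card (V ⊔ L : Subgroup G) * Nat.card Z ≤ Nat.card V * Nat.card V := by
  have h1 := card_sup_mul (K := V) (H := L) (by
    refine le_trans ?_ (centralizer_le_normalizer _)
    intro l hl
    rw [mem_centralizer_iff]
    exact fun v hv => h.pl.IV_comm (h.pl.V_le_IV hv) (hLI hl))
  have h2 : Nat.card L = Nat.card V := by
    obtain ⟨g, rfl⟩ := hL
    exact card_cj g V
  rw [h2] at h1
  rw [← h1]
  exact Nat.mul_le_mul_left _ (Subgroup.card_le_of_le (le_inf h.pl.ZV hZL))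

/-- **planes** -/
theorem plg_of : Plg V Z (V ⊔ L) := by
  have hVV : IsCj V V := ⟨1, (cj_one V).symm⟩
  obtain ⟨Y, hY, hYZ⟩ := h.exists_ne h.self
  have hYZ' : Y ≠ Z := hYZ
  have hQn := h.norm_of_V hL hZL hLV hLI hY
  have hcjQ : ∀ {k : G}, k ∈ kx V Y → PT.cj k (V ⊔ L) = V ⊔ L := fun hk => cj_eq_iff.2 (hQn hk)
  -- points
  have hpt : ∀ T, IsCj Z T → T ≤ V ⊔ L → T ≤ V ∨ ∃ k ∈ kx V Y, k ∈ centralizer (V : Set G) ∧ T ≤ PT.cj k L ∧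
      ¬ T ≤ V := by
    intro T hT hTQ
    by_cases hTV : T ≤ V
    · exact Or.inl hTV
    obtain ⟨u, hu, hu1⟩ := h.pl.pt_ne_bot hT
    have huV : u ∉ V := fun e => hTV (Pla.pt_le h hVV hT hu hu1 e)
    obtain ⟨k, hk, hkV, huk⟩ := h.cover hL hZL hLV hLI hY hYZ' (hTQ hu) huV
    exact Or.inr ⟨k, hk, hkV, Pla.pt_le h (hL.cj k) hT hu hu1 huk, hTV⟩
  have hZk : ∀ {k : G}, k ∈ centralizer (V : Set G) → PT.cj k Z = Z := fun hk =>
    cj_eq_iff.2 (centralizer_le_normalizer _ (centralizer_le h.pl.ZV hk))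
  have hleW : ∀ T, IsCj Z T → T ≤ V ⊔ L → V ⊔ L ≤ ws V T := by
    intro T hT hTQ
    rcases hpt T hT hTQ with hTV | ⟨k, hk, hkV, hTk, hTV⟩
    · exact h.leW_V hL hZL hLV hLI ⟨hT, hTV⟩
    · have h1 : PT.cj k⁻¹ T ≤ L := by rw [cj_le_iff, inv_inv]; exact hTk
      have h2 : PT.cj k⁻¹ T ≠ Z := by
        intro e
        apply hTV
        have h3 : T = PT.cj k Z := by rw [← e, cj_cj, mul_inv_cancel, cj_one]
        rw [h3, hZk hkV]
        exact h.pl.ZV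
      have h3 := h.leW_L hL hZL hLV hLI (hT.cj k⁻¹) h1 h2
      have h4 := (cj_le_cj (g := k)).2 h3
      rwa [hcjQ hk, ← ws_cj, cj_cj, mul_inv_cancel, cj_one] at h4
  have hcov : ∀ u ∈ V ⊔ L, u ≠ 1 → ∃ X, IsCj Z X ∧ X ≤ V ⊔ L ∧ u ∈ X := by
    intro u hu hu1
    by_cases huV : u ∈ V
    · obtain ⟨X, hX, hXV, huX⟩ := h.pl.exists_point huV hu1
      exact ⟨X, hX, hXV.trans le_sup_left, huX⟩
    · obtain ⟨k, hk, hkV, huk⟩ := h.cover hL hZL hLV hLI hY hYZ' hu huV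
      obtain ⟨X, hX, hXV, huX⟩ := h.line_pt (hL.cj k) huk hu1
      refine ⟨X, hX, hXV.trans ?_, huX⟩
      rw [← hcjQ hk]
      exact cj_le_cj.2 le_sup_right
  -- lines on `Z`
  have hcolZ : ∀ T, IsCj Z T → T ≤ V ⊔ L → T ≠ Z → ∃ M, IsCj V M ∧ M ≤ V ⊔ L ∧ Z ≤ M ∧ T ≤ M := by
    intro T hT hTQ hTZ
    rcases hpt T hT hTQ with hTV | ⟨k, hk, hkV, hTk, hTV⟩
    · exact ⟨V, hVV, le_sup_left, h.pl.ZV, hTV⟩
    · refine ⟨PT.cj k L, hL.cj k, ?_, ?_, hTk⟩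
      · rw [← hcjQ hk]
        exact cj_le_cj.2 le_sup_right
      · rw [← hZk hkV]
        exact cj_le_cj.2 hZL
  have hcol : ∀ X T, IsCj Z X → IsCj Z T → X ≤ V ⊔ L → T ≤ V ⊔ L → X ≠ T →
      ∃ M, IsCj V M ∧ M ≤ V ⊔ L ∧ X ≤ M ∧ T ≤ M := by
    intro X T hX hT hXQ hTQ hXT
    by_cases hXZ : X = Z
    · subst hXZ
      exact hcolZ T hT hTQ hXT.symm
    obtain ⟨M, hM, hMQ, hZM, hXM⟩ := hcolZ X hX hXQ hXZ
    obtain ⟨S', C', Q', h'⟩ := h.flag hM h.pl.isCj_self hZM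
    obtain ⟨k, hk, -, hkX, hkZ⟩ := h'.pl.swap h'.hf hX hXM h'.pl.isCj_self hZM
    have hkN : k ∈ normalizer ((V ⊔ L : Subgroup G) : Set G) := by
      refine (sSup_le ?_ : XV M Z ≤ _) hk
      rintro _ ⟨T', hT', hTM', rfl⟩
      rw [kx_line hM]
      exact kx_normalizes (hTM'.trans hMQ) (hleW T' hT' (hTM'.trans hMQ))
    have hkQ := cj_eq_iff.2 hkN
    have hkT : PT.cj k T ≤ V ⊔ L := by rw [← hkQ]; exact cj_le_cj.2 hTQ
    obtain ⟨N, hN, hNQ, hZN, hTN⟩ := hcolZ _ (hT.cj k) hkT (fun e => hXT (by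
      rw [← hkX] at e
      exact (cj_inj.1 e).symm))
    have hkQ' : PT.cj k⁻¹ (V ⊔ L) = V ⊔ L := cj_eq_iff.2 (inv_mem hkN)
    refine ⟨PT.cj k⁻¹ N, hN.cj k⁻¹, ?_, ?_, ?_⟩
    · rw [← hkQ']; exact cj_le_cj.2 hNQ
    · rw [le_cj_iff, inv_inv, hkX]; exact hZN
    · rw [le_cj_iff, inv_inv]; exact hTN
  have hcardL : ∀ {M : Subgroup G}, IsCj V M → Nat.card M = Nat.card V := by
    rintro _ ⟨g, rfl⟩
    exact card_cj g V
  refine ⟨⟨V, hVV, le_sup_left⟩, hleW, hcov, hcol, ?_, ?_⟩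
  · intro M N hM hN hMQ hNQ
    have hQc : ∀ {a b : G}, a ∈ V ⊔ L → b ∈ V ⊔ L → a * b = b * a := fun ha hb =>
      h.pl.IV_comm (h.Q_le_I hL hZL hLV hLI ha) (h.Q_le_I hL hZL hLV hLI hb)
    have h1 := card_sup_mul (K := M) (H := N) (by
      refine le_trans ?_ (centralizer_le_normalizer _)
      intro l hl
      rw [mem_centralizer_iff]
      exact fun v hv => hQc (hMQ hv) (hNQ hl))
    rw [hcardL hM, hcardL hN] at h1
    have h2 := h.card_Q hL hZL hLV hLI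
    have h3 : Nat.card (M ⊔ N : Subgroup G) ≤ Nat.card (V ⊔ L : Subgroup G) := Subgroup.card_le_of_le (sup_le hMQ hNQ)
    have h4 : Nat.card (M ⊓ N : Subgroup G) ≠ 1 := by
      intro h5
      rw [h5, mul_one] at h1
      have h6 := h.pl.one_lt_card
      have h7 : 0 < Nat.card (V ⊔ L : Subgroup G) := Nat.card_pos
      rw [← h1] at h2
      nlinarith
    obtain ⟨u, hu, hu1⟩ : ∃ u ∈ M ⊓ N, u ≠ 1 := by
      by_contra hcon
      push Not at hcon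
      apply h4
      rw [(eq_bot_iff_forall _).2 hcon, card_bot]
    obtain ⟨X, hX, hXM, huX⟩ := h.line_pt hM hu.1 hu1
    exact ⟨X, hX, hXM, Pla.pt_le h hN hX huX hu1 hu.2⟩
  · intro M hM hMQ
    by_contra hcon
    push Not at hcon
    have h1 : V ⊔ L ≤ M := by
      intro u hu
      by_cases hu1 : u = 1
      · rw [hu1]; exact one_mem _
      obtain ⟨X, hX, hXQ, huX⟩ := hcov u hu hu1
      exact hcon X hX hXQ huX
    have h2 : V = M := Subgroup.eq_of_le_of_card_ge (le_sup_left.trans h1) (hcardL hM).le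
    apply hLV
    refine Subgroup.eq_of_le_of_card_ge ?_ (hcardL hL).ge
    rw [h2]
    exact le_sup_right.trans h1

end

/-- (N): `D_X(L) ≤ D_X(M)`, if `W_T K_X ≤ W_Y K_X`, `T ∈ M`, `Y ∈ L` -/
theorem dd_le_dd (hN : NN V Z) {L M X Y T : Subgroup G} (hL : IsCj V L) (hM : IsCj V M) (hX : IsCj Z X) (hXL : X ≤ L)
    (hXM : X ≤ M) (hY : IsCj Z Y) (hYL : Y ≤ L) (hYX : Y ≠ X) (hT : IsCj Z T) (hTM : T ≤ M) (hTX : T ≠ X)
    (hw : wk V X T ≤ wk V X Y) : dd L Z X ≤ dd M Z X := by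
  intro d hd
  have hdW : d ∈ ws V X := by
    have := dd_le hd
    rwa [ws_line hL] at this
  refine h.nn_dd hN hM hX hXM hT hTM hTX hdW fun u hu => ?_
  obtain ⟨u', hu', k, hk, rfl⟩ := mem_sup_norm (h.wk_norm hL hXL hY hYL) (hw (mem_sup_left hu))
  rw [h.dd_line hL hX hXL hY hYL hYX] at hd
  have h2 : d * u' = u' * d := (mem_centralizer_iff.1 hd.2 u' hu').symm
  have h3 : k * d * k⁻¹ * d⁻¹ ∈ X := (mem_kx.1 hk).2 d hdW
  have h4 : d * (u' * k) * d⁻¹ * (u' * k)⁻¹ = u' * (k * d * k⁻¹ * d⁻¹)⁻¹ * u'⁻¹ := by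
    calc d * (u' * k) * d⁻¹ * (u' * k)⁻¹ = (d * u') * k * d⁻¹ * k⁻¹ * u'⁻¹ := by group
      _ = u' * (k * d * k⁻¹ * d⁻¹)⁻¹ * u'⁻¹ := by rw [h2]; group
  rw [h4]
  have h6 : (k * d * k⁻¹ * d⁻¹)⁻¹ ∈ X := inv_mem h3
  have h7 := mem_centralizer_iff.1 (h.ws_le_line hL hY hYL hu') _ (hXL h6)
  rw [← h7, mul_inv_cancel_right]
  exact h6

/-- `E_X(L) ∩ E_X(M) ≤ D_X(L)`, if `W_Y K_X ≤ W_T K_X`, `T ∈ M`, `Y ∈ L` -/
theorem ee_inf {L M X Y T : Subgroup G} (hL : IsCj V L) (hM : IsCj V M) (hLM : L ≠ M) (hX : IsCj Z X) (hXL : X ≤ L)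
    (hXM : X ≤ M) (hY : IsCj Z Y) (hYL : Y ≤ L) (hYX : Y ≠ X) (hT : IsCj Z T) (hTM : T ≤ M) (hTX : T ≠ X)
    (hw : wk V X Y ≤ wk V X T) : ee L Z X ⊓ ee M Z X ≤ dd L Z X := by
  rintro w ⟨hwL, hwM⟩
  have hwW : w ∈ ws V X := by
    have := ee_le hwL
    rwa [ws_line hL] at this
  rw [h.dd_line hL hX hXL hY hYL hYX]
  refine ⟨hwW, mem_centralizer_iff.2 fun u hu => ?_⟩
  have h1 := h.ee_line_act hL hX hXL hY hYL hYX hwL hu
  have h2 : w * u * w⁻¹ * u⁻¹ ∈ M := by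
    obtain ⟨t, ht, k, hk, rfl⟩ := mem_sup_norm (h.wk_norm hM hXM hT hTM) (hw (mem_sup_left hu))
    have h3 := h.ee_line_act hM hX hXM hT hTM hTX hwM ht
    have h4 : w * k * w⁻¹ * k⁻¹ ∈ X := by
      have h3 := inv_mem ((mem_kx.1 hk).2 w hwW)
      have e1 : (k * w * k⁻¹ * w⁻¹)⁻¹ = w * k * w⁻¹ * k⁻¹ := by group
      rwa [e1] at h3
    have h5 : w * (t * k) * w⁻¹ * (t * k)⁻¹ = (w * t * w⁻¹ * t⁻¹) * (t * (w * k * w⁻¹ * k⁻¹) * t⁻¹) := by group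
    rw [h5, ← mem_centralizer_iff.1 (h.ws_le_line hM hT hTM ht) _ (hXM h4), mul_inv_cancel_right]
    exact M.mul_mem (hTM h3) (hXM h4)
  have h3 : w * u * w⁻¹ * u⁻¹ = 1 := by
    by_contra h4
    have h5 := Pla.pt_le h hM hY h1 h4 h2
    exact hLM (h.line_eq hL hM hX hY hXL hYL hXM h5 hYX.symm)
  rw [mul_inv_eq_one, mul_inv_eq_iff_eq_mul] at h3
  exact h3.symm

/-- **(5.2)** -/
theorem pla_of (hN : NN V Z) {L Y T : Subgroup G} (hL : IsCj V L) (hZL : Z ≤ L) (hLV : L ≠ V) (hLI : L ≤ IV V Z)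
    (hY : Pnt V Z Y) (hYZ : Y ≠ Z) (hT : IsCj Z T) (hTL : T ≤ L) (hTZ : T ≠ Z)
    (hA : ws V T ≤ ws V Y ⊔ kx V Z) (hE : ws V Z ≤ ee V Z Z ⊔ ee L Z Z) : Pla V Z (V ⊔ L) := by
  have hVV : IsCj V V := ⟨1, (cj_one V).symm⟩
  have hg := h.plg_of hL hZL hLV hLI
  set Q := V ⊔ L with hQ
  have hZQ : Z ≤ Q := h.pl.ZV.trans le_sup_left
  -- `W_R K_Z` does not depend on `R`
  have hTY : wk V Z T = wk V Z Y := by
    refine Subgroup.eq_of_le_of_card_ge (sup_le hA le_sup_right) ?_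
    exact (h.card_wk hVV hL h.pl.isCj_self h.pl.ZV hZL hY.cj hY.le hYZ hT hTL hTZ).le
  have hwk : ∀ R, IsCj Z R → R ≤ Q → R ≠ Z → wk V Z R = wk V Z Y := by
    intro R hR hRQ hRZ
    by_cases hRV : R ≤ V
    · exact h.wk_eq hVV h.pl.isCj_self h.pl.ZV hR hRV hRZ hY.cj hY.le hYZ
    obtain ⟨u, hu, hu1⟩ := h.pl.pt_ne_bot hR
    have huV : u ∉ V := fun e => hRV (Pla.pt_le h hVV hR hu hu1 e)
    obtain ⟨k, hk, hkV, huk⟩ := h.cover hL hZL hLV hLI hY hYZ (hRQ hu) huV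
    have hRk := Pla.pt_le h (hL.cj k) hR hu hu1 huk
    have hkZ : PT.cj k Z = Z := cj_eq_iff.2 (centralizer_le_normalizer _ (centralizer_le h.pl.ZV hkV))
    have hkY : PT.cj k Y = Y := cj_eq_iff.2 (centralizer_le_normalizer _ (centralizer_le hY.le hkV))
    have hZk : Z ≤ PT.cj k L := by rw [← hkZ]; exact cj_le_cj.2 hZL
    have hTk : PT.cj k T ≠ Z := fun e => hTZ (by rw [← hkZ] at e; exact cj_inj.1 e)
    rw [h.wk_eq (hL.cj k) h.pl.isCj_self hZk hR hRk hRZ (hT.cj k) (cj_le_cj.2 hTL) hTk]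
    have h1 := cj_wk V Z T k
    rw [hTY, cj_wk, hkZ, hkY] at h1
    exact h1.symm
  -- the case `X = Z`
  have himg : ∀ R R', IsCj Z R → IsCj Z R' → R ≤ Q → R' ≤ Q → R ≠ Z → R' ≠ Z →
      ∀ a ∈ ws V R, ∃ b ∈ ws V R', ∃ k ∈ kx V Z, a = b * k := by
    intro R R' hR hR' hRQ hRQ' hRZ hRZ' a ha
    obtain ⟨M, hM, hMQ, hZM, hRM⟩ := hg.col Z R' h.pl.isCj_self hR' hZQ hRQ' hRZ'.symm
    have h1 : a ∈ wk V Z R' := by
      rw [hwk R' hR' hRQ' hRZ', ← hwk R hR hRQ hRZ]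
      exact mem_sup_left ha
    exact mem_sup_norm (h.wk_norm hM hZM hR' hRM) h1
  have hcomm : ∀ {A A' : Subgroup G}, A ≤ ws V Z → A' ≤ ws V Z → A' ≤ normalizer (A : Set G) := by
    intro A A' hA hA'
    refine le_trans ?_ (centralizer_le_normalizer _)
    intro b hb
    rw [mem_centralizer_iff]
    exact fun a ha => h.comm_W h.pl.isCj_self (hA ha) (hA' hb)
  have hEW : ∀ {M : Subgroup G}, IsCj V M → ee M Z Z ≤ ws V Z := by
    intro M hM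
    have := ee_le (V := M) (Z := Z) (X := Z)
    rwa [ws_line hM] at this
  have hsec : ∀ M, IsCj V M → M ≤ Q → Z ≤ M → ∃ R, IsCj Z R ∧ R ≤ M ∧ R ≠ Z := fun M hM _ hZM =>
    Pla.exists_pt h hM h.pl.isCj_self hZM
  have hdd : ∀ M N, IsCj V M → IsCj V N → M ≤ Q → N ≤ Q → Z ≤ M → Z ≤ N → dd M Z Z ≤ dd N Z Z := by
    intro M N hM hN' hMQ hNQ hZM hZN
    obtain ⟨R, hR, hRM, hRZ⟩ := hsec M hM hMQ hZM
    obtain ⟨R', hR', hRN', hRZ'⟩ := hsec N hN' hNQ hZN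
    refine h.dd_le_dd hN hM hN' h.pl.isCj_self hZM hZN hR hRM hRZ hR' hRN' hRZ' ?_
    rw [hwk R hR (hRM.trans hMQ) hRZ, hwk R' hR' (hRN'.trans hNQ) hRZ']
  have hspl : ∀ M N, IsCj V M → IsCj V N → M ≤ Q → N ≤ Q → Z ≤ M → Z ≤ N → M ≠ N →
      ∀ a ∈ ws V Z, ∃ b ∈ ee M Z Z, ∃ c ∈ ee N Z Z, a = b * c := by
    intro M N hM hN' hMQ hNQ hZM hZN hMN a ha
    obtain ⟨R, hR, hRM, hRZ⟩ := hsec M hM hMQ hZM
    obtain ⟨R', hR', hRN', hRZ'⟩ := hsec N hN' hNQ hZN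
    have h1 : ee M Z Z ⊓ ee N Z Z ≤ dd V Z Z := by
      refine (h.ee_inf hM hN' hMN h.pl.isCj_self hZM hZN hR hRM hRZ hR' hRN' hRZ' ?_).trans
        (hdd M V hM hVV hMQ le_sup_left hZM h.pl.ZV)
      rw [hwk R hR (hRM.trans hMQ) hRZ, hwk R' hR' (hRN'.trans hNQ) hRZ']
    have h2 : dd V Z Z ≤ ee V Z Z ⊓ ee L Z Z :=
      le_inf (h.dd_le_ee_line hVV h.pl.isCj_self h.pl.ZV)
        ((hdd V L hVV hL le_sup_left le_sup_right h.pl.ZV hZL).trans (h.dd_le_ee_line hL h.pl.isCj_self hZL))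
    have h3 := card_sup_mul (K := ee M Z Z) (H := ee N Z Z) (hcomm (hEW hM) (hEW hN'))
    have h4 := card_sup_mul (K := ee V Z Z) (H := ee L Z Z) (hcomm (hEW hVV) (hEW hL))
    rw [h.card_ee hM h.pl.isCj_self hZM hVV h.pl.isCj_self h.pl.ZV,
      h.card_ee hN' h.pl.isCj_self hZN hVV h.pl.isCj_self h.pl.ZV] at h3
    rw [h.card_ee hL h.pl.isCj_self hZL hVV h.pl.isCj_self h.pl.ZV, ← h3] at h4
    have h5 : ee V Z Z ⊔ ee L Z Z = ws V Z := le_antisymm (sup_le (hEW hVV) (hEW hL)) hE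
    rw [h5] at h4
    have h6 : Nat.card (ee M Z Z ⊓ ee N Z Z : Subgroup G) ≤ Nat.card (ee V Z Z ⊓ ee L Z Z : Subgroup G) :=
      Subgroup.card_le_of_le (h1.trans h2)
    have h7 : ee M Z Z ⊔ ee N Z Z = ws V Z := by
      refine Subgroup.eq_of_le_of_card_ge (sup_le (hEW hM) (hEW hN')) ?_
      have h8 : 0 < Nat.card (ee V Z Z ⊓ ee L Z Z : Subgroup G) := Nat.card_pos
      by_contra h9
      push Not at h9
      have h10 : 0 < Nat.card (ee M Z Z ⊓ ee N Z Z : Subgroup G) := Nat.card_pos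
      nlinarith
    rw [← h7] at ha
    exact mem_sup_norm (le_trans (fun b hb => by
      rw [mem_centralizer_iff]
      exact fun c hc => h.comm_W h.pl.isCj_self (hEW hN' hc) (hEW hM hb) : ee M Z Z ≤ centralizer (ee N Z Z : Set G))
      (centralizer_le_normalizer _)) ha
  refine ⟨hg, ?_, ?_⟩
  · intro X R R' hX hR hR' hXQ hRQ hRQ' hRX hRX' a ha
    obtain ⟨g, hgQ, rfl⟩ := hg.trans h h.pl.isCj_self hX hZQ hXQ
    have hQg : PT.cj g⁻¹ Q = Q := cj_eq_iff.2 (inv_mem hgQ)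
    have hle : ∀ {A : Subgroup G}, A ≤ Q → PT.cj g⁻¹ A ≤ Q := fun {A} hA => by
      rw [← hQg]; exact cj_le_cj.2 hA
    have hne : ∀ {A : Subgroup G}, A ≠ PT.cj g Z → PT.cj g⁻¹ A ≠ Z := fun {A} hA e => hA (by
      rw [← e, cj_cj, mul_inv_cancel, cj_one])
    have hback : ∀ (a : G), g * (g⁻¹ * a * g) * g⁻¹ = a := fun a => by group
    obtain ⟨b, hb, k, hk, e⟩ := himg _ _ (hR.cj g⁻¹) (hR'.cj g⁻¹) (hle hRQ) (hle hRQ') (hne hRX) (hne hRX')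
      (g⁻¹ * a * g) (by rw [ws_cj, mem_cj, inv_inv, hback]; exact ha)
    refine ⟨g * b * g⁻¹, ?_, g * k * g⁻¹, ?_, ?_⟩
    · rwa [ws_cj, mem_cj, inv_inv] at hb
    · rw [kx_cj]; exact conj_mem_cj hk
    · rw [← hback a, e]; group
  · intro X M N hX hM hN' hMQ hNQ hXM hXN hMN a ha
    obtain ⟨g, hgQ, rfl⟩ := hg.trans h h.pl.isCj_self hX hZQ (hXM.trans hMQ)
    have hQg : PT.cj g⁻¹ Q = Q := cj_eq_iff.2 (inv_mem hgQ)
    have hle : ∀ {A : Subgroup G}, A ≤ Q → PT.cj g⁻¹ A ≤ Q := fun {A} hA => by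
      rw [← hQg]; exact cj_le_cj.2 hA
    have hback : ∀ (a : G), g * (g⁻¹ * a * g) * g⁻¹ = a := fun a => by group
    have hZ : PT.cj g⁻¹ (PT.cj g Z) = Z := by rw [cj_cj, inv_mul_cancel, cj_one]
    obtain ⟨b, hb, k, hk, e⟩ := hspl (PT.cj g⁻¹ M) (PT.cj g⁻¹ N) (hM.cj g⁻¹) (hN'.cj g⁻¹) (hle hMQ) (hle hNQ)
      (by rw [← hZ]; exact cj_le_cj.2 hXM) (by rw [← hZ]; exact cj_le_cj.2 hXN) (fun e => hMN (cj_inj.1 e))
      (g⁻¹ * a * g) (by rw [← mem_cj, ← ws_cj]; exact ha)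
    refine ⟨g * b * g⁻¹, ?_, g * k * g⁻¹, ?_, ?_⟩
    · have h1 := conj_mem_cj (g := g) hb
      rwa [cj_conj_ee, cj_cj, mul_inv_cancel, cj_one] at h1
    · have h1 := conj_mem_cj (g := g) hk
      rwa [cj_conj_ee, cj_cj, mul_inv_cancel, cj_one] at h1
    · rw [← hback a, e]; group

/-- **LEMMA PLANE** -/
theorem no_fold (hN : NN V Z) {L Y T : Subgroup G} (hL : IsCj V L) (hZL : Z ≤ L) (hLV : L ≠ V) (hLI : L ≤ IV V Z)
    (hY : Pnt V Z Y) (hYZ : Y ≠ Z) (hT : IsCj Z T) (hTL : T ≤ L) (hTZ : T ≠ Z)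
    (hA : ws V T ≤ ws V Y ⊔ kx V Z) (hE : ws V Z ≤ ee V Z Z ⊔ ee L Z Z) : False :=
  h.no_plane hN (h.pla_of hN hL hZL hLV hLI hY hYZ hT hTL hTZ hA hE)

end One

end Cfsg.Agent.Omega.NO3S.OneQ
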