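import Cfsg.Agent.Omega.NO3S.OneQ.TIq.PreTop
import Cfsg.Agent.Omega.NO3S.OneQ.PlaneOf
import Cfsg.Agent.Omega.NO3S.OneQ.Alf

/-!
# NO-3S, `OneSz` (`q ≥ 4`, `n = 1`), case (N): THEOREM P and TI for `k = 1`, group level

* `Co.PreI` : an instance of `TIq.Pre` over `MF` coming from a homomorphism `ρ : C_G(Z) →* H` with `ρ g • m = rep g m`
* `Co.PreI.A_ne` : `A_l ≠ A_{l^c}` for `c ∈ C_G(Z)`, `V^c ≠ V` (every `k`, every `D_x`)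
* `Co.PreI.ti` : TI in the case `k = 1`
-/

set_option autoImplicit false
set_option linter.unusedSectionVars false

namespace Cfsg.Agent.Omega.NO3S.OneQ

open Subgroup Cfsg.Agent.Omega.NO3S.PT Cfsg.Agent.Omega.NoFF.Basic
open scoped Pointwise

universe u

variable {G : Type u} [Group G]

namespace Co

variable [Finite G] {F : Type*} [Field F] [CharP F 2] {S : Sylow 2 G} {B P V Z : Subgroup G} (h : Co F S B P V Z)

/-- an instance of `TIq.Pre` over `MF` -/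
structure PreI {H : Type*} [Group H] [DistribMulAction H h.MF] (ρ : centralizer (Z : Set G) →* H)
    (L : Set h.MF) (A : h.MF → Subgroup H) (I : h.MF → Submodule F h.MF) (al : h.MF → h.MF → H)
    (Kt : h.MF → Subgroup H) : Prop where
  pre : TIq.Pre F L A I al Kt
  act : ∀ g m, ρ g • m = h.rep g m
  v0_mem : h.v0 ∈ L
  smul_mem : ∀ g l, l ∈ L → ρ g • l ∈ L
  orbit : ∀ l ∈ L, ∃ g, ∃ c : F, c ≠ 0 ∧ l = c • ρ g • h.v0
  A_zero : ∀ x : H, x ∈ A h.v0 ↔ ∃ a, ∃ ha : a ∈ ws V h.Yp, ρ ⟨a, h.one.W_le_C h.pY ha⟩ = x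

/-- elements of `C_G(Z)` trivial on `MF` and on `rd / Z` lie in `K_Z` -/
def Ker {H : Type*} [Group H] (ρ : centralizer (Z : Set G) →* H) (V : Subgroup G) : Prop :=
  ∀ g (hg : g ∈ centralizer (Z : Set G)), ρ ⟨g, hg⟩ = 1 → (∀ r ∈ rd V Z, g * r * g⁻¹ * r⁻¹ ∈ Z) → g ∈ kx V Z

namespace PreI

variable {h}
variable {H : Type*} [Group H] [DistribMulAction H h.MF] {ρ : centralizer (Z : Set G) →* H}
    {L : Set h.MF} {A : h.MF → Subgroup H} {I : h.MF → Submodule F h.MF} {al : h.MF → h.MF → H}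
    {Kt : h.MF → Subgroup H} (i : h.PreI ρ L A I al Kt)
include i

theorem fm_act {g w : G} (hg : g ∈ centralizer (Z : Set G)) (hw : w ∈ ws V Z) :
    ρ ⟨g, hg⟩ • h.fm ⟨w, hw⟩ = h.fm ⟨g * w * g⁻¹, h.W_conj (centralizer_le_normalizer _ hg) hw⟩ := by
  rw [i.act]
  exact h.rep_fm ⟨g, hg⟩ ⟨w, hw⟩

theorem kx_one {k : G} (hk : k ∈ kx V Z) : ρ ⟨k, kx_le_cent hk⟩ = 1 := by
  refine i.pre.faith _ fun m => ?_
  obtain ⟨⟨w, hw⟩, rfl⟩ := h.fm_surj m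
  rw [i.fm_act, h.fm_eq]
  exact h.Z_le_rd (h.kw_mem hw hk)

theorem mem_E_iff {m : h.MF} : al h.v0 m = 1 ↔ m ∈ h.Eb := by
  rw [i.pre.al_ker i.v0_mem]
  constructor
  · intro h1 a ha
    obtain ⟨c, hc⟩ := h1 _ ((i.A_zero _).2 ⟨a, ha, rfl⟩)
    rw [i.act] at hc
    have e : h.rp ⟨a, h.W_hat h.pY ha⟩ m = h.rep ⟨a, h.one.W_le_C h.pY ha⟩ m := by
      obtain ⟨w, rfl⟩ := h.fm_surj m
      rw [h.rep_fm]
      exact h.rp_fm _ _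
    rw [e, hc, add_sub_cancel_left, lam]
    exact Submodule.smul_mem _ _ (Submodule.mem_span_singleton_self _)
  · intro h1 x hx
    obtain ⟨a, ha, rfl⟩ := (i.A_zero _).1 hx
    have h2 := h1 a ha
    have e : h.rp ⟨a, h.W_hat h.pY ha⟩ m = h.rep ⟨a, h.one.W_le_C h.pY ha⟩ m := by
      obtain ⟨w, rfl⟩ := h.fm_surj m
      rw [h.rep_fm]
      exact h.rp_fm _ _
    rw [e, lam, Submodule.mem_span_singleton] at h2
    obtain ⟨c, hc⟩ := h2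
    refine ⟨c, ?_⟩
    rw [i.act, hc, add_sub_cancel]

/-- transport of `E_l` -/
theorem one_conj {l m : h.MF} {g : H} (hl : l ∈ L) (hgl : g • l ∈ L) (hm : al l m = 1) : al (g • l) (g • m) = 1 := by
  rw [i.pre.al_ker hl] at hm
  rw [i.pre.al_ker hgl]
  intro a ha
  have h1 : g⁻¹ * a * g ∈ A l := by
    have := i.pre.A_conj g⁻¹ hgl ha
    rwa [inv_smul_smul, inv_inv] at this
  obtain ⟨c, hc⟩ := hm _ h1
  refine ⟨c, ?_⟩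
  calc a • g • m = g • ((g⁻¹ * a * g) • m) := by simp only [← mul_smul]; congr 1; group
    _ = g • m + c • g • l := by rw [hc, smul_add, i.pre.lin]

theorem one_conj_iff {m : h.MF} {g : centralizer (Z : Set G)} :
    al (ρ g • h.v0) m = 1 ↔ (ρ g)⁻¹ • m ∈ h.Eb := by
  rw [← i.mem_E_iff]
  have h0 := i.smul_mem g _ i.v0_mem
  constructor
  · intro h1
    have := i.one_conj (g := (ρ g)⁻¹) h0 (by rw [inv_smul_smul]; exact i.v0_mem) h1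
    rwa [inv_smul_smul] at this
  · intro h1
    have := i.one_conj (g := ρ g) i.v0_mem h0 h1
    rwa [smul_inv_smul] at this

theorem mem_A_conj {g : G} (hg : g ∈ centralizer (Z : Set G)) {x : H} :
    x ∈ A (ρ ⟨g, hg⟩ • h.v0) ↔ ∃ a, ∃ ha : a ∈ ws V h.Yp,
      ρ ⟨g * a * g⁻¹, mul_mem (mul_mem hg (h.one.W_le_C h.pY ha)) (inv_mem hg)⟩ = x := by
  have h0 := i.smul_mem ⟨g, hg⟩ _ i.v0_mem
  have key : ∀ a (ha : a ∈ ws V h.Yp), ρ ⟨g * a * g⁻¹, mul_mem (mul_mem hg (h.one.W_le_C h.pY ha)) (inv_mem hg)⟩ =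
      ρ ⟨g, hg⟩ * ρ ⟨a, h.one.W_le_C h.pY ha⟩ * (ρ ⟨g, hg⟩)⁻¹ := by
    intro a ha
    rw [← map_inv, ← map_mul, ← map_mul]
    rfl
  constructor
  · intro hx
    have h1 : (ρ ⟨g, hg⟩)⁻¹ * x * ρ ⟨g, hg⟩ ∈ A h.v0 := by
      have := i.pre.A_conj (ρ ⟨g, hg⟩)⁻¹ h0 hx
      rwa [inv_smul_smul, inv_inv] at this
    obtain ⟨a, ha, e⟩ := (i.A_zero _).1 h1
    refine ⟨a, ha, ?_⟩
    rw [key a ha, e]; group
  · rintro ⟨a, ha, rfl⟩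
    rw [key a ha]
    exact i.pre.A_conj _ i.v0_mem ((i.A_zero _).2 ⟨a, ha, rfl⟩)

/-- `V^c ≠ V` : different points -/
theorem np {c : G} (hc : c ∈ centralizer (Z : Set G)) (hcV : PT.cj c V ≠ V) (hrd : rd V Z = Z) :
    TIq.NP F h.v0 (ρ ⟨c, hc⟩ • h.v0) := by
  intro d hd
  apply hcV
  have e1 : ρ ⟨c, hc⟩ • h.v0 = h.fm ⟨c * h.e 0 1 * c⁻¹, _⟩ := i.fm_act hc (h.W_V 0 1)
  rw [e1, ← h.fm_e 0 d, h.fm_eq, hrd] at hd
  have hcZ : PT.cj c Z = Z := cj_eq_iff.2 (centralizer_le_normalizer _ hc)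
  have hL : IsCj V (PT.cj c V) := ⟨c, rfl⟩
  have hZL : Z ≤ PT.cj c V := by
    have := (cj_le_cj (g := c)).2 h.one.pl.ZV
    rwa [hcZ] at this
  -- `u = c e(0,1) c⁻¹ ∈ V ∩ V^c`, not in `Z`
  have hu : c * h.e 0 1 * c⁻¹ ∈ V := by
    have e2 : c * h.e 0 1 * c⁻¹ = c * h.e 0 1 * c⁻¹ * (h.e 0 d)⁻¹ * h.e 0 d := by group
    rw [e2]
    exact mul_mem (h.one.pl.ZV hd) (h.e_memV _ _)
  have huL : c * h.e 0 1 * c⁻¹ ∈ PT.cj c V := conj_mem_cj (h.e_memV 0 1)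
  have huZ : c * h.e 0 1 * c⁻¹ ∉ Z := by
    intro h1
    have h2 : h.e 0 1 ∈ Z := by
      have h3 : c * h.e 0 1 * c⁻¹ ∈ PT.cj c Z := by rwa [hcZ]
      rw [mem_cj] at h3
      have e : c⁻¹ * (c * h.e 0 1 * c⁻¹) * c = h.e 0 1 := by group
      rwa [e] at h3
    rw [h.e_memZ_iff] at h2
    exact one_ne_zero h2
  have hu1 : c * h.e 0 1 * c⁻¹ ≠ 1 := fun e => huZ (e ▸ one_mem _)
  have hVV : IsCj V V := ⟨1, (cj_one V).symm⟩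
  obtain ⟨X, hX, hXV, huX⟩ := h.one.line_pt hVV hu hu1
  have hXL := Pla.pt_le h.one hL hX huX hu1 huL
  refine h.one.line_eq hL hVV h.one.self.cj hX hZL hXL h.one.pl.ZV hXV ?_
  intro e
  apply huZ
  rwa [← e] at huX

/-- `A ≠ 1` -/
theorem exists_ne (hK : Ker ρ V) : ∃ a, ∃ ha : a ∈ ws V h.Yp, ρ ⟨a, h.one.W_le_C h.pY ha⟩ ≠ 1 := by
  by_contra hcon
  push Not at hcon
  apply h.one.ee_ne h.pY
  refine le_antisymm ee_le fun a ha => ?_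
  rw [h.one.ee_eq h.pY h.one.self h.Yp_ne.symm]
  refine ⟨ha, hK a (h.one.W_le_C h.pY ha) (hcon a ha) fun r hr => ?_⟩
  have := inv_mem (h.rd_comm h.pY h.Yp_ne hr ha)
  have e : (r * a * r⁻¹ * a⁻¹)⁻¹ = a * r * a⁻¹ * r⁻¹ := by group
  rwa [e] at this

/-- elements of `W_Y`, `Y` a point of a line on `Z`, centralise `rd / Z` -/
theorem rd_conj {c : G} (hc : c ∈ centralizer (Z : Set G)) {b : G} (hb : b ∈ ws V h.Yp) {r : G} (hr : r ∈ rd V Z) :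
    c * b * c⁻¹ * r * (c * b * c⁻¹)⁻¹ * r⁻¹ ∈ Z := by
  have hcN := centralizer_le_normalizer _ hc
  have h1 : c⁻¹ * r * c ∈ rd V Z := by
    have := (mem_normalizer_iff.1 (inv_mem (norm_rd V Z hcN)) r).1 hr
    rwa [inv_inv] at this
  have h2 := inv_mem (h.rd_comm h.pY h.Yp_ne h1 hb)
  have h3 := (mem_normalizer_iff.1 hcN _).1 h2
  have e : c * (c⁻¹ * r * c * b * (c⁻¹ * r * c)⁻¹ * b⁻¹)⁻¹ * c⁻¹ = c * b * c⁻¹ * r * (c * b * c⁻¹)⁻¹ * r⁻¹ := by group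
  rwa [e] at h3

/-- **THEOREM P** : `A_l ≠ A_m`, `l ≠ m` -/
theorem A_ne (hNN : NN V Z) (hK : Ker ρ V) {c : G} (hc : c ∈ centralizer (Z : Set G))
    (hnp : TIq.NP F h.v0 (ρ ⟨c, hc⟩ • h.v0)) : A h.v0 ≠ A (ρ ⟨c, hc⟩ • h.v0) := by
  intro hA
  have hN : NTr V Z := NTr.of_nn h.one hNN
  have hcN := centralizer_le_normalizer _ hc
  have hcZ : PT.cj c Z = Z := cj_eq_iff.2 hcN
  have hL : IsCj V (PT.cj c V) := ⟨c, rfl⟩
  have hZL : Z ≤ PT.cj c V := by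
    have := (cj_le_cj (g := c)).2 h.one.pl.ZV
    rwa [hcZ] at this
  have hm := i.smul_mem ⟨c, hc⟩ _ i.v0_mem
  -- the common elements
  have key : ∀ a (ha : a ∈ ws V h.Yp) b (hb : b ∈ ws V h.Yp),
      ρ ⟨c * b * c⁻¹, mul_mem (mul_mem hc (h.one.W_le_C h.pY hb)) (inv_mem hc)⟩ = ρ ⟨a, h.one.W_le_C h.pY ha⟩ →
      a⁻¹ * (c * b * c⁻¹) ∈ kx V Z := by
    intro a ha b hb e
    have haC := h.one.W_le_C h.pY ha
    have hbC : c * b * c⁻¹ ∈ centralizer (Z : Set G) := mul_mem (mul_mem hc (h.one.W_le_C h.pY hb)) (inv_mem hc)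
    refine hK _ (mul_mem (inv_mem haC) hbC) ?_ fun r hr => ?_
    · have e1 : (⟨a⁻¹ * (c * b * c⁻¹), mul_mem (inv_mem haC) hbC⟩ : centralizer (Z : Set G)) =
        (⟨a, haC⟩ : centralizer (Z : Set G))⁻¹ * ⟨c * b * c⁻¹, hbC⟩ := rfl
      rw [e1, map_mul, map_inv, e, inv_mul_cancel]
    · have h1 := i.rd_conj hc hb hr
      have h2 := h.rd_comm h.pY h.Yp_ne hr ha
      -- `[a⁻¹ t, r] = a⁻¹ [t, r] a [a⁻¹, r]`
      have h3 : a⁻¹ * (c * b * c⁻¹ * r * (c * b * c⁻¹)⁻¹ * r⁻¹) * a ∈ Z := by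
        have := (mem_normalizer_iff.1 (inv_mem (centralizer_le_normalizer _ haC)) _).1 h1
        rwa [inv_inv] at this
      have h4 : a⁻¹ * (r * a * r⁻¹ * a⁻¹) * a ∈ Z := by
        have := (mem_normalizer_iff.1 (inv_mem (centralizer_le_normalizer _ haC)) _).1 h2
        rwa [inv_inv] at this
      have e2 : a⁻¹ * (c * b * c⁻¹) * r * (a⁻¹ * (c * b * c⁻¹))⁻¹ * r⁻¹ =
          a⁻¹ * (c * b * c⁻¹ * r * (c * b * c⁻¹)⁻¹ * r⁻¹) * a * (a⁻¹ * (r * a * r⁻¹ * a⁻¹) * a) := by group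
      rw [e2]
      exact mul_mem h3 h4
  have hLV : PT.cj c V ≠ V := by
    intro e
    have h1 : c * h.e 0 1 * c⁻¹ ∈ PT.cj c V := conj_mem_cj (h.e_memV 0 1)
    rw [e] at h1
    have e1 : ρ ⟨c, hc⟩ • h.v0 = h.fm ⟨c * h.e 0 1 * c⁻¹, _⟩ := i.fm_act hc (h.W_V 0 1)
    obtain ⟨x, y, hxy⟩ := (h.mem_V _).1 h1
    apply hnp y
    rw [e1, ← h.fm_e x y]
    congr 1
    exact Subtype.ext hxy.symm
  obtain ⟨a₀, ha₀, ha₁⟩ := i.exists_ne hK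
  have hb₀ := (i.A_zero _).2 ⟨a₀, ha₀, rfl⟩
  obtain ⟨b₀, hb₀', e₀⟩ := (i.mem_A_conj hc).1 (hA ▸ hb₀)
  have hk₀ := key a₀ ha₀ b₀ hb₀' e₀
  -- coplanar
  have hLI : PT.cj c V ≤ IV V Z := by
    have h1 : ∀ y : F, c * h.e 0 y * c⁻¹ ∈ IV V Z := by
      intro y
      by_cases hy : y = 0
      · rw [hy, h.e_zero, mul_one, mul_inv_cancel]
        exact one_mem _
      have hym := i.pre.fsm hy hm
      have hbm : ρ ⟨a₀, h.one.W_le_C h.pY ha₀⟩ ∈ A (y • ρ ⟨c, hc⟩ • h.v0) := by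
        rw [i.pre.A_sm hy hm, ← hA]
        exact hb₀
      obtain ⟨e, he, he'⟩ := i.pre.phi hym hbm ha₁
      -- `e = fm w`, `w ∈ E_Z(V^c)`
      have he1 : al (ρ ⟨c, hc⟩ • h.v0) e = 1 := by
        rw [i.pre.al_ker hm]
        rw [i.pre.al_ker hym, i.pre.A_sm hy hm] at he
        intro a ha
        obtain ⟨d, hd⟩ := he a ha
        exact ⟨d * y, by rw [hd, smul_smul]⟩
      rw [i.one_conj_iff] at he1
      obtain ⟨⟨w, hw⟩, hwe⟩ := h.fm_surj ((ρ ⟨c, hc⟩)⁻¹ • e)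
      rw [← hwe, h.fm_Eb_iff hN] at he1
      have hwe' : e = h.fm ⟨c * w * c⁻¹, h.W_conj hcN hw⟩ := by
        rw [← i.fm_act hc hw, hwe, smul_inv_smul]
      -- `u = [a₀, w^c] ∈ I`
      have hu : a₀ * (c * w * c⁻¹) * a₀⁻¹ * (c * w * c⁻¹)⁻¹ ∈ IV V Z :=
        h.one.comm_mem h.pY h.one.self h.Yp_ne ha₀ (h.W_conj hcN hw)
      have hv : c * b₀ * c⁻¹ * (c * w * c⁻¹) * (c * b₀ * c⁻¹)⁻¹ * (c * w * c⁻¹)⁻¹ ∈ PT.cj c h.Yp := by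
        have h2 := h.one.ee_act' h.pY h.Yp_ne he1 hb₀'
        have h3 := conj_mem_cj (g := c) h2
        have e2 : c * (b₀ * w * b₀⁻¹ * w⁻¹) * c⁻¹ =
          c * b₀ * c⁻¹ * (c * w * c⁻¹) * (c * b₀ * c⁻¹)⁻¹ * (c * w * c⁻¹)⁻¹ := by group
        rwa [e2] at h3
      -- `v ∈ u Z`
      obtain ⟨k, hk⟩ : ∃ k, k = a₀⁻¹ * (c * b₀ * c⁻¹) := ⟨_, rfl⟩
      rw [← hk] at hk₀
      have hb₂ : c * b₀ * c⁻¹ = a₀ * k := by rw [hk]; group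
      have hz : k * (c * w * c⁻¹) * k⁻¹ * (c * w * c⁻¹)⁻¹ ∈ Z := h.kw_mem (h.W_conj hcN hw) hk₀
      have hz' : a₀ * (k * (c * w * c⁻¹) * k⁻¹ * (c * w * c⁻¹)⁻¹) * a₀⁻¹ ∈ Z :=
        (mem_normalizer_iff.1 (centralizer_le_normalizer _ (h.one.W_le_C h.pY ha₀)) _).1 hz
      have hvu : c * b₀ * c⁻¹ * (c * w * c⁻¹) * (c * b₀ * c⁻¹)⁻¹ * (c * w * c⁻¹)⁻¹ =
          a₀ * (k * (c * w * c⁻¹) * k⁻¹ * (c * w * c⁻¹)⁻¹) * a₀⁻¹ *
            (a₀ * (c * w * c⁻¹) * a₀⁻¹ * (c * w * c⁻¹)⁻¹) := by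
        rw [hb₂]; group
      have hvI : c * b₀ * c⁻¹ * (c * w * c⁻¹) * (c * b₀ * c⁻¹)⁻¹ * (c * w * c⁻¹)⁻¹ ∈ IV V Z := by
        rw [hvu]
        exact mul_mem (h.one.pl.V_le_IV (h.one.pl.ZV hz')) hu
      -- `v = c e(0, y) c⁻¹`
      rw [mem_cj] at hv
      obtain ⟨t, ht⟩ := hv
      have hvt : c * b₀ * c⁻¹ * (c * w * c⁻¹) * (c * b₀ * c⁻¹)⁻¹ * (c * w * c⁻¹)⁻¹ = c * h.e 0 t * c⁻¹ := by
        rw [ht]; group
      have hfv : h.fm ⟨c * h.e 0 t * c⁻¹, h.W_conj hcN (h.W_V 0 t)⟩ = t • ρ ⟨c, hc⟩ • h.v0 := by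
        rw [← i.pre.lin, ← h.fm_e 0 t]
        exact (i.fm_act hc (h.W_V 0 t)).symm
      have hfv' : h.fm ⟨c * h.e 0 t * c⁻¹, h.W_conj hcN (h.W_V 0 t)⟩ = y • ρ ⟨c, hc⟩ • h.v0 := by
        have h5 := i.fm_act (h.one.W_le_C h.pY ha₀) (h.W_conj hcN hw)
        rw [← hwe', he'] at h5
        have h6 : y • ρ ⟨c, hc⟩ • h.v0 = h.fm ⟨a₀ * (c * w * c⁻¹) * a₀⁻¹ * (c * w * c⁻¹)⁻¹, h.one.I_le_W' hu⟩ := by
          have h7 : h.fm (⟨a₀ * (c * w * c⁻¹) * a₀⁻¹ * (c * w * c⁻¹)⁻¹, h.one.I_le_W' hu⟩ * ⟨c * w * c⁻¹, h.W_conj hcN hw⟩) =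
              e + y • ρ ⟨c, hc⟩ • h.v0 := by
            rw [h5]
            congr 1
            apply Subtype.ext
            show a₀ * (c * w * c⁻¹) * a₀⁻¹ * (c * w * c⁻¹)⁻¹ * (c * w * c⁻¹) = a₀ * (c * w * c⁻¹) * a₀⁻¹
            group
          rw [h.fm_mul, ← hwe', add_comm] at h7
          exact (add_left_cancel h7).symm
        rw [h6, h.fm_eq, ← hvt, hvu]
        have e3 : a₀ * (k * (c * w * c⁻¹) * k⁻¹ * (c * w * c⁻¹)⁻¹) * a₀⁻¹ *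
            (a₀ * (c * w * c⁻¹) * a₀⁻¹ * (c * w * c⁻¹)⁻¹) * (a₀ * (c * w * c⁻¹) * a₀⁻¹ * (c * w * c⁻¹)⁻¹)⁻¹ =
            a₀ * (k * (c * w * c⁻¹) * k⁻¹ * (c * w * c⁻¹)⁻¹) * a₀⁻¹ := by group
        rw [e3]
        exact h.Z_le_rd hz'
      have hty : t = y := smul_left_injective F (i.pre.ne_zero hm) (hfv.symm.trans hfv')
      rw [← hty, ← hvt]
      exact hvI
    intro v hv
    rw [mem_cj] at hv
    obtain ⟨x, y, hxy⟩ := (h.mem_V _).1 hv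
    have e1 : v = c * h.e x 0 * c⁻¹ * (c * h.e 0 y * c⁻¹) := by
      have e2 : h.e x y = h.e x 0 * h.e 0 y := by rw [← h.e_add, add_zero, zero_add]
      calc v = c * (c⁻¹ * v * c) * c⁻¹ := by group
        _ = _ := by rw [← hxy, e2]; group
    rw [e1]
    refine mul_mem ?_ (h1 y)
    exact h.one.pl.V_le_IV (h.one.pl.ZV ((mem_normalizer_iff.1 hcN _).1 (h.e_memZ x)))
  refine h.one.no_fold hNN hL hZL hLV hLI h.pY h.Yp_ne (T := PT.cj c h.Yp) ?_ (cj_le_cj.2 h.pY.le) ?_ ?_ ?_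
  · obtain ⟨g, e⟩ := h.pY.cj
    exact ⟨c * g, by rw [e, cj_cj]⟩
  · intro e
    have h1 := congrArg (PT.cj c⁻¹) e
    rw [cj_cj, inv_mul_cancel, cj_one, cj_eq_iff.2 (inv_mem hcN)] at h1
    exact h.Yp_ne h1
  · intro t ht
    rw [ws_cj, mem_cj] at ht
    have hb := (i.mem_A_conj hc).2 ⟨_, ht, rfl⟩
    rw [← hA] at hb
    obtain ⟨a, ha, e⟩ := (i.A_zero _).1 hb
    have h1 := key a ha _ ht e.symm
    have e2 : t = a * (a⁻¹ * (c * (c⁻¹ * t * c) * c⁻¹)) := by group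
    rw [e2]
    exact mul_mem (mem_sup_left ha) (mem_sup_right h1)
  · intro w hw
    have : Finite h.MF := Finite.of_surjective _ h.fm_surj
    have : FiniteDimensional F h.MF := Module.Finite.of_finite
    obtain ⟨y, z, hy, hz, e⟩ := i.pre.sum_of_eq i.v0_mem hm hnp hA (h.fm ⟨w, hw⟩)
    rw [i.mem_E_iff] at hy
    rw [i.one_conj_iff] at hz
    obtain ⟨⟨w₁, hw₁⟩, rfl⟩ := h.fm_surj y
    obtain ⟨⟨w₂, hw₂⟩, e₂⟩ := h.fm_surj ((ρ ⟨c, hc⟩)⁻¹ • z)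
    rw [← e₂, h.fm_Eb_iff hN] at hz
    rw [h.fm_Eb_iff hN] at hy
    have hz' : z = h.fm ⟨c * w₂ * c⁻¹, h.W_conj hcN hw₂⟩ := by
      rw [← i.fm_act hc hw₂, e₂, smul_inv_smul]
    rw [hz', ← h.fm_mul] at e
    have h2 := (h.fm_eq hw (mul_mem hw₁ (h.W_conj hcN hw₂))).1 e
    have h3 : c * w₂ * c⁻¹ ∈ ee (PT.cj c V) Z Z := by
      have := conj_mem_cj (g := c) hz
      rwa [cj_conj_ee, hcZ] at this
    have e3 : w = w * (w₁ * (c * w₂ * c⁻¹))⁻¹ * w₁ * (c * w₂ * c⁻¹) := by group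
    rw [e3]
    exact mul_mem (mul_mem (mem_sup_left (h.rd_le_ee hN h2)) (mem_sup_left hy)) (mem_sup_right h3)

/-- the hypothesis `k = 1` at all points -/
theorem one_all (one : ∀ x y : h.MF, x ∉ h.Eb → ∃ c : F, y + c • x ∈ h.Eb) {l : h.MF} (hl : l ∈ L) (x y : h.MF)
    (hx : al l x ≠ 1) : ∃ c : F, al l (y + c • x) = 1 := by
  obtain ⟨g, d, hd, rfl⟩ := i.orbit l hl
  have h0 := i.smul_mem g _ i.v0_mem
  have key : ∀ z, al (d • ρ g • h.v0) z = 1 ↔ al (ρ g • h.v0) z = 1 := by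
    intro z
    rw [i.pre.al_ker hl, i.pre.al_ker h0, i.pre.A_sm hd h0]
    constructor
    · intro h1 a ha
      obtain ⟨c, hc⟩ := h1 a ha
      exact ⟨c * d, by rw [hc, smul_smul]⟩
    · intro h1 a ha
      obtain ⟨c, hc⟩ := h1 a ha
      exact ⟨c * d⁻¹, by rw [hc, smul_smul, mul_assoc, inv_mul_cancel₀ hd, mul_one]⟩
  rw [ne_eq, key, i.one_conj_iff] at hx
  obtain ⟨c, hc⟩ := one _ ((ρ g)⁻¹ • y) hx
  refine ⟨c, ?_⟩
  rw [key, i.one_conj_iff, smul_add, i.pre.lin]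
  exact hc

/-- **TI for `k = 1`** -/
theorem ti (hNN : NN V Z) (hrd : rd V Z = Z) (hq : ∃ c : F, c ≠ 0 ∧ c ≠ 1)
    (one : ∀ x y : h.MF, x ∉ h.Eb → ∃ c : F, y + c • x ∈ h.Eb) :
    ∀ c ∈ centralizer (Z : Set G), PT.cj c V ≠ V → ∀ a ∈ ws V h.Yp, ∀ b ∈ ws V h.Yp,
      a⁻¹ * (c * b * c⁻¹) ∈ kx V Z → a ∈ kx V Z := by
  intro c hc hcV a ha b hb hab
  have hK : Ker ρ V := by
    intro g hg h1 _
    refine mem_kx.2 ⟨fun z hz => ((mem_centralizer_iff.1 hg) z hz).symm, fun w hw => ?_⟩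
    have h2 := i.fm_act hg hw
    rw [h1, one_smul, h.fm_eq, hrd] at h2
    have h3 := inv_mem h2
    have e : (w * (g * w * g⁻¹)⁻¹)⁻¹ = g * w * g⁻¹ * w⁻¹ := by group
    rwa [e] at h3
  have haC := h.one.W_le_C h.pY ha
  have hbC : c * b * c⁻¹ ∈ centralizer (Z : Set G) := mul_mem (mul_mem hc (h.one.W_le_C h.pY hb)) (inv_mem hc)
  by_contra hne
  have h1 : ρ ⟨a, haC⟩ ≠ 1 := fun h2 => hne (hK a haC h2 fun r hr => by
    have := inv_mem (h.rd_comm h.pY h.Yp_ne hr ha)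
    have e : (r * a * r⁻¹ * a⁻¹)⁻¹ = a * r * a⁻¹ * r⁻¹ := by group
    rwa [e] at this)
  have h2 : ρ ⟨c * b * c⁻¹, hbC⟩ = ρ ⟨a, haC⟩ := by
    have h3 := i.kx_one hab
    have e1 : (⟨a⁻¹ * (c * b * c⁻¹), kx_le_cent hab⟩ : centralizer (Z : Set G)) =
      (⟨a, haC⟩ : centralizer (Z : Set G))⁻¹ * ⟨c * b * c⁻¹, hbC⟩ := rfl
    rw [e1, map_mul, map_inv, inv_mul_eq_one] at h3
    exact h3.symm
  have h0 := i.smul_mem ⟨c, hc⟩ _ i.v0_mem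
  have h3 : ρ ⟨a, haC⟩ ∈ A (ρ ⟨c, hc⟩ • h.v0) := (i.mem_A_conj hc).2 ⟨b, hb, h2⟩
  have h4 := (i.A_zero _).2 ⟨a, ha, rfl⟩
  have hnp := i.np hc hcV hrd
  exact i.A_ne hNN hK hc hnp (i.pre.A_eq (fun hl => i.one_all one hl) hq i.v0_mem h0 hnp h4 h3 h1)

end PreI

end Co

end Cfsg.Agent.Omega.NO3S.OneQ
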