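import Cfsg.Agent.Omega.NO3S.OneQ.Inst

/-!
# NO-3S, `OneQ`: `TIw V Z` from its form at the point `Yp`

* `Co.tiw_of` : from `Y = Yp` to all points; `Co.tiw_of_rp` : from TI for the operators `rp`.
-/

set_option autoImplicit false
set_option linter.unusedSectionVars false

namespace Cfsg.Agent.Omega.NO3S.OneQ

open Subgroup Cfsg.Agent.Omega.NO3S.PT Cfsg.Agent.Omega.NoFF.Basic
open scoped Pointwise

universe u

variable {G : Type u} [Group G]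

namespace Co

variable [Finite G] {F : Type*} [Field F] [CharP F 2] {S : Sylow 2 G} {B P V Z : Subgroup G} (h : Co F S B P V Z)

include h in
/-- `k x k⁻¹ x⁻¹ ∈ K_Z` for `k ∈ K_Z`, `x ∈ C_G(Z)` -/
theorem kx_comm {k x : G} (hk : k ∈ kx V Z) (hx : x ∈ centralizer (Z : Set G)) : k * x * k⁻¹ * x⁻¹ ∈ kx V Z := by
  have h1 : x * k⁻¹ * x⁻¹ ∈ kx V Z :=
    (mem_normalizer_iff.1 (normalizer_le_kx V Z (centralizer_le_normalizer _ hx)) _).1 (inv_mem hk)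
  have e : k * x * k⁻¹ * x⁻¹ = k * (x * k⁻¹ * x⁻¹) := by group
  rw [e]; exact mul_mem hk h1

/-- from the point `Yp` to all points -/
theorem tiw_of (hti : ∀ c ∈ centralizer (Z : Set G), PT.cj c V ≠ V → ∀ a ∈ ws V h.Yp, ∀ b ∈ ws V h.Yp,
    a⁻¹ * (c * b * c⁻¹) ∈ kx V Z → a ∈ kx V Z) : TIw V Z := by
  intro Y hY hYZ c hc hcV a ha b hb hab
  obtain ⟨k, hk, hkY⟩ := h.one.move h.one.self h.pY hY h.Yp_ne hYZ
  have hkC : k ∈ centralizer (Z : Set G) := kx_le_cent hk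
  have hN : ∀ {x y : G}, x ∈ centralizer (Z : Set G) → y ∈ kx V Z → x * y * x⁻¹ ∈ kx V Z := fun hx hy =>
    (mem_normalizer_iff.1 (normalizer_le_kx V Z (centralizer_le_normalizer _ hx)) _).1 hy
  rw [← hkY, ws_cj, mem_cj] at ha hb
  obtain ⟨a', ha', rfl⟩ : ∃ a', a' ∈ ws V h.Yp ∧ a = k * a' * k⁻¹ := ⟨_, ha, by group⟩
  obtain ⟨b', hb', rfl⟩ : ∃ b', b' ∈ ws V h.Yp ∧ b = k * b' * k⁻¹ := ⟨_, hb, by group⟩
  have haC := h.one.W_le_C h.pY ha'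
  have hbC := h.one.W_le_C h.pY hb'
  have h1 := h.kx_comm hk haC
  have h2 := h.kx_comm hk hbC
  have h3 : a'⁻¹ * (c * b' * c⁻¹) ∈ kx V Z := by
    have e : a'⁻¹ * (c * b' * c⁻¹) = (a'⁻¹ * (k * a' * k⁻¹ * a'⁻¹) * a'⁻¹⁻¹) *
        ((k * a' * k⁻¹)⁻¹ * (c * (k * b' * k⁻¹) * c⁻¹)) *
        (c * b'⁻¹ * (k * b' * k⁻¹ * b'⁻¹)⁻¹ * (c * b'⁻¹)⁻¹) := by group
    rw [e]
    exact mul_mem (mul_mem (hN (inv_mem haC) h1) hab) (hN (mul_mem hc (inv_mem hbC)) (inv_mem h2))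
  have h4 := hti c hc hcV a' ha' b' hb' h3
  exact mul_mem (mul_mem hk h4) (inv_mem hk)

end Co

end Cfsg.Agent.Omega.NO3S.OneQ
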