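import Cfsg.Agent.Omega.NO3S.OneQ.SzB
import Cfsg.Agent.Omega.NO3S.OneQ.CaseN1
import Cfsg.Agent.Omega.NO3S.OneQ.TrE.InjLft

/-!
# NO-3S, `OneQ`: the assembly, only case (N) with `dim MF / Ē ≥ 2` is open

* `Co.KTwo` : `dim MF / Ē ≥ 2`; `DxTwo` : case (N), `k ≥ 2`: `D_Z ≤ I`; `TiTwo` : case (N), `k ≥ 2`, `D_Z ≤ I`: TI;
* **`coSz_of_two`** : `DxTwo → TiTwo → CoSz`.
-/

set_option autoImplicit false
set_option linter.unusedSectionVars false

namespace Cfsg.Agent.Omega.NO3S.OneQ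

open Subgroup Cfsg Cfsg.Agent.Omega.NO3S.PT Cfsg.Agent.Omega.NoFF.Basic
open Cfsg.Agent.WeakTI.FlatBorel (CritAll BenderAll)

universe u

/-- `dim MF / Ē ≥ 2` -/
def Co.KTwo {G : Type u} [Group G] [Finite G] {F : Type} [Field F] [CharP F 2] {S : Sylow 2 G} {B P V Z : Subgroup G}
    (h : Co F S B P V Z) : Prop :=
  ∃ x y : h.MF, x ∉ h.Eb ∧ ∀ c : F, y + c • x ∉ h.Eb

/-- **Case (N)**, `k ≥ 2` : `D_Z ≤ I` -/
def DxTwo : Prop :=
  ∀ (G : Type u) [Group G] [Finite G] (F : Type) [Field F] [Finite F] [CharP F 2] (S : Sylow 2 G)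
    (B P V Z : Subgroup G) (h : Co F S B P V Z), IsCharacteristicTwoType G → 4 ≤ Nat.card F → NTr V Z → h.KTwo →
      dd V Z Z ≤ IV V Z

/-- **Case (N)**, `k ≥ 2`, `D_Z ≤ I` : TI -/
def TiTwo : Prop :=
  ∀ (G : Type u) [Group G] [Finite G] (F : Type) [Field F] [Finite F] [CharP F 2] (S : Sylow 2 G)
    (B P V Z : Subgroup G) (h : Co F S B P V Z), IsCharacteristicTwoType G → 4 ≤ Nat.card F → NTr V Z → h.KTwo →
      dd V Z Z ≤ IV V Z → TIw V Z

/-- **the assembly** -/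
theorem coSz_of_two (hcrit : CritAll.{u}) (hbend : BenderAll.{u}) (h2 : DxTwo.{u}) (h3 : TiTwo.{u}) : CoSz.{u} := by
  intro G _ _ F _ _ _ S B P V Z h hG hF
  have hN : NTr V Z := h.ntr_all (by omega)
  by_cases hk : h.KTwo
  · have hD := h2 G F S B P V Z h hG hF hN hk
    exact h.szMod hcrit hbend hG hN hD (h3 G F S B P V Z h hG hF hN hk hD) hF
  · refine h.szMod_one hcrit hbend hG hN (fun x y hx => ?_) hF
    by_contra hcon
    push Not at hcon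
    exact hk ⟨x, y, hx, hcon⟩

end Cfsg.Agent.Omega.NO3S.OneQ
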