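import Cfsg.Agent.Omega.NO3S.OneQ.Fix

/-!
# NO-3S, natural lines, critical distance 1 (`OneQ`): coordinates, the torus, submodules (bb OMEGA #17428 (A), (B))

* `Co F S B P V Z` : coordinates `e : F → F → G` of `V`, `Z = e(F, 0)`, `Yp = e(0, F)`;
* `Co.K_tv`, `Co.exists_K`, `Co.K_tv'`, `Co.exists_K'` : `K_Z`, `K_Y` induce the root groups on `V`;
* `Tor τ ζ` : `τ ∈ X_l ∩ N_G(B)` induces `diag(ζ, ζ⁻¹)` on `V`; `Co.exists_tor`;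
* `Inv D` : `D ≥ Z` is invariant under `B` and the torus; `Inv.of_norm` : under `N_G(Z) ∩ N_G(V)`;
* `Inv.sub` : `V ≤ D` or `D ∩ I ≤ Z`; `Inv.comm` : `V ≤ D` or `[D, W_Y] ≤ Z`;
* `V_le_of_comm` : `[W_Z, W_Y] ≤ D` implies `V ≤ D`; `Inv.decomp` : `M₁ ∩ M₂ ≤ Z` implies `[M₁, W_Y] ≤ Z` or `[M₂, W_Y] ≤ Z`;
* `line_eq` : the lines on `Z` are conjugate under `C_G(Z)`; `W_le_of_V`, `Inv.proper`.
-/

set_option autoImplicit false
set_option linter.unusedSectionVars false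

namespace Cfsg.Agent.Omega.NO3S.OneQ

open Subgroup Cfsg.Agent.Omega.NO3S.PT Cfsg.Agent.Omega.NoFF.Basic
open scoped Pointwise

variable {G : Type*} [Group G]

/-- coordinates on `V` with `Z = e(F, 0)` -/
structure Co (F : Type*) [Field F] [Finite G] (S : Sylow 2 G) (B P V Z : Subgroup G) where
  one : One S B P V Z
  e : F → F → G
  e_add : ∀ a b c d, e (a + c) (b + d) = e a b * e c d
  e_inj : ∀ {a b c d}, e a b = e c d → a = c ∧ b = d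
  mem_V : ∀ g, g ∈ V ↔ ∃ a b, e a b = g
  mem_Z : ∀ g, g ∈ Z ↔ ∃ a, e a 0 = g
  lift : ∀ a b c d : F, a * d + b * c = 1 →
    ∃ g ∈ P, ∀ x y, g * e x y * g⁻¹ = e (a * x + b * y) (c * x + d * y)
  tv : ∀ s ∈ B, ∃ t : F, ∀ x y, s * e x y * s⁻¹ = e (x + t * y) y

namespace Co

variable [Finite G] {F : Type*} [Field F] [CharP F 2] {S : Sylow 2 G} {B P V Z : Subgroup G} (h : Co F S B P V Z)

theorem e_zero : h.e 0 0 = 1 := by
  have := h.e_add 0 0 0 0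
  rw [add_zero] at this
  exact left_eq_mul.1 this

theorem e_inv (a b : F) : (h.e a b)⁻¹ = h.e a b := by
  rw [inv_eq_iff_mul_eq_one, ← h.e_add, CharTwo.add_self_eq_zero, CharTwo.add_self_eq_zero, h.e_zero]

theorem e_memV (a b : F) : h.e a b ∈ V := (h.mem_V _).2 ⟨a, b, rfl⟩

theorem e_memZ (a : F) : h.e a 0 ∈ Z := (h.mem_Z _).2 ⟨a, rfl⟩

theorem e_memZ_iff {a b : F} : h.e a b ∈ Z ↔ b = 0 := by
  constructor
  · intro h1
    obtain ⟨c, hc⟩ := (h.mem_Z _).1 h1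
    exact (h.e_inj hc).2.symm
  · rintro rfl
    exact h.e_memZ a

theorem e_eq_one {a b : F} : h.e a b = 1 ↔ a = 0 ∧ b = 0 := by
  constructor
  · intro h1
    rw [← h.e_zero] at h1
    exact h.e_inj h1
  · rintro ⟨rfl, rfl⟩
    exact h.e_zero

/-- `Y = e(0, F)` -/
def Yp : Subgroup G where
  carrier := {g | ∃ b, h.e 0 b = g}
  one_mem' := ⟨0, h.e_zero⟩
  mul_mem' := by
    rintro _ _ ⟨a, rfl⟩ ⟨b, rfl⟩
    exact ⟨a + b, by rw [← h.e_add, add_zero]⟩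
  inv_mem' := by
    rintro _ ⟨a, rfl⟩
    exact ⟨a, (h.e_inv 0 a).symm⟩

theorem mem_Yp {g : G} : g ∈ h.Yp ↔ ∃ b, h.e 0 b = g := Iff.rfl

theorem e_memY (b : F) : h.e 0 b ∈ h.Yp := ⟨b, rfl⟩

/-- the swap -/
theorem exists_swap : ∃ w ∈ P, ∀ x y, w * h.e x y * w⁻¹ = h.e y x := by
  obtain ⟨w, hw, hwe⟩ := h.lift 0 1 1 0 (by ring)
  refine ⟨w, hw, fun x y => ?_⟩
  rw [hwe]
  congr 1 <;> ring

theorem cj_swap {w : G} (hw : ∀ x y, w * h.e x y * w⁻¹ = h.e y x) : PT.cj w Z = h.Yp := by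
  have hw' : ∀ x y, w⁻¹ * h.e x y * w = h.e y x := by
    intro x y
    rw [← hw y x]; group
  ext g
  rw [mem_cj, h.mem_Z, h.mem_Yp]
  constructor
  · rintro ⟨a, ha⟩
    refine ⟨a, ?_⟩
    rw [← hw, ha]; group
  · rintro ⟨a, rfl⟩
    exact ⟨a, (hw' 0 a).symm⟩

theorem pY : Pnt V Z h.Yp := by
  obtain ⟨w, hw, hwe⟩ := h.exists_swap
  refine ⟨⟨w, (h.cj_swap hwe).symm⟩, ?_⟩
  rintro _ ⟨b, rfl⟩
  exact h.e_memV _ _

theorem Yp_ne : h.Yp ≠ Z := by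
  intro h1
  have h2 := h.e_memY 1
  rw [h1, h.e_memZ_iff] at h2
  exact one_ne_zero h2

theorem comm_e {g : G} (hg : g ∈ centralizer (V : Set G)) (a b : F) : g * h.e a b * g⁻¹ = h.e a b := by
  rw [(mem_centralizer_iff.1 hg _ (h.e_memV a b)).symm, mul_inv_cancel_right]

theorem mem_cent {g : G} (hg : ∀ a b, g * h.e a b * g⁻¹ = h.e a b) : g ∈ centralizer (V : Set G) := by
  rw [mem_centralizer_iff]
  intro v hv
  obtain ⟨a, b, rfl⟩ := (h.mem_V v).1 hv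
  have h1 := hg a b
  rw [mul_inv_eq_iff_eq_mul] at h1
  exact h1.symm

/-- `K_Z` acts by transvections -/
theorem K_tv {k : G} (hk : k ∈ kx V Z) : ∃ t : F, ∀ x y, k * h.e x y * k⁻¹ = h.e (x + t * y) y := by
  obtain ⟨l, hl, hlS, hlk⟩ := h.one.pl.kx_two hk
  obtain ⟨t, ht⟩ := h.tv l hlS
  refine ⟨t, fun x y => ?_⟩
  have h1 : k * l⁻¹ ∈ centralizer (V : Set G) := by
    have := inv_mem hlk
    rwa [mul_inv_rev, inv_inv] at this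
  have e : k * h.e x y * k⁻¹ = k * l⁻¹ * (l * h.e x y * l⁻¹) * (k * l⁻¹)⁻¹ := by group
  rw [e, ht, h.comm_e h1]

theorem exists_K (t : F) : ∃ k ∈ kx V Z, k ∈ B ∧ ∀ x y, k * h.e x y * k⁻¹ = h.e (x + t * y) y := by
  have h1 : h.e 0 1 ∉ Z := by
    rw [h.e_memZ_iff]
    exact one_ne_zero
  obtain ⟨k, hk, hkS, hkv⟩ := h.one.pl.K_act h.one.hf (h.e_memV 0 1) h1 (h.e_memZ t)
  refine ⟨k, hk, hkS, ?_⟩
  obtain ⟨s, hs⟩ := h.K_tv hk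
  rw [hs, h.e_inv, ← h.e_add, CharTwo.add_self_eq_zero, zero_add, mul_one, add_zero] at hkv
  obtain ⟨rfl, -⟩ := h.e_inj hkv
  exact hs

theorem K_tv' {k : G} (hk : k ∈ kx V h.Yp) : ∃ t : F, ∀ x y, k * h.e x y * k⁻¹ = h.e x (y + t * x) := by
  obtain ⟨w, hw, hwe⟩ := h.exists_swap
  have hwe' : ∀ x y, w⁻¹ * h.e x y * w = h.e y x := by
    intro x y
    rw [← hwe y x]; group
  have h1 : w⁻¹ * k * w ∈ kx V Z := by
    rw [← mem_cj, ← kx_cj, h.cj_swap hwe]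
    exact hk
  obtain ⟨t, ht⟩ := h.K_tv h1
  refine ⟨t, fun x y => ?_⟩
  have e : k * h.e x y * k⁻¹ = w * (w⁻¹ * k * w * (w⁻¹ * h.e x y * w) * (w⁻¹ * k * w)⁻¹) * w⁻¹ := by group
  rw [e, hwe', ht, hwe]

theorem exists_K' (t : F) : ∃ k ∈ kx V h.Yp, ∀ x y, k * h.e x y * k⁻¹ = h.e x (y + t * x) := by
  obtain ⟨w, hw, hwe⟩ := h.exists_swap
  have hwe' : ∀ x y, w⁻¹ * h.e x y * w = h.e y x := by
    intro x y
    rw [← hwe y x]; group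
  obtain ⟨k, hk, -, hke⟩ := h.exists_K t
  refine ⟨w * k * w⁻¹, ?_, fun x y => ?_⟩
  · rw [← h.cj_swap hwe, kx_cj]
    exact conj_mem_cj hk
  · have e : w * k * w⁻¹ * h.e x y * (w * k * w⁻¹)⁻¹ = w * (k * (w⁻¹ * h.e x y * w) * k⁻¹) * w⁻¹ := by group
    rw [e, hwe', hke, hwe]

theorem conj_mul {g k : G} {f f' : F → F → F × F} (hg : ∀ x y, g * h.e x y * g⁻¹ = h.e (f x y).1 (f x y).2)
    (hk : ∀ x y, k * h.e x y * k⁻¹ = h.e (f' x y).1 (f' x y).2) (x y : F) :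
    g * k * h.e x y * (g * k)⁻¹ = h.e (f (f' x y).1 (f' x y).2).1 (f (f' x y).1 (f' x y).2).2 := by
  have e : g * k * h.e x y * (g * k)⁻¹ = g * (k * h.e x y * k⁻¹) * g⁻¹ := by group
  rw [e, hk, hg]

/-- `n(t) ∈ X_l` induces `(x, y) ↦ (t y, t⁻¹ x)` -/
theorem exists_n {t : F} (ht : t ≠ 0) : ∃ n ∈ XV V Z, ∀ x y, n * h.e x y * n⁻¹ = h.e (t * y) (t⁻¹ * x) := by
  obtain ⟨a, ha, -, hae⟩ := h.exists_K t
  obtain ⟨b, hb, hbe⟩ := h.exists_K' t⁻¹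
  have ha' := le_XV h.one.self.cj h.one.self.le ha
  have hb' := le_XV h.pY.cj h.pY.le hb
  refine ⟨a * b * a, mul_mem (mul_mem ha' hb') ha', fun x y => ?_⟩
  have e : a * b * a * h.e x y * (a * b * a)⁻¹ = a * (b * (a * h.e x y * a⁻¹) * b⁻¹) * a⁻¹ := by group
  rw [e, hae, hbe, hae]
  have h1 : y + t⁻¹ * (x + t * y) = t⁻¹ * x := by
    rw [mul_add, inv_mul_cancel_left₀ ht, add_comm y, add_assoc, CharTwo.add_self_eq_zero, add_zero]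
  rw [h1, mul_inv_cancel_left₀ ht]
  congr 1
  rw [add_right_comm, CharTwo.add_self_eq_zero, zero_add]

theorem exists_diag {t : F} (ht : t ≠ 0) : ∃ g ∈ XV V Z, ∀ x y, g * h.e x y * g⁻¹ = h.e (t * x) (t⁻¹ * y) := by
  obtain ⟨a, ha, hae⟩ := h.exists_n ht
  obtain ⟨b, hb, hbe⟩ := h.exists_n (one_ne_zero (α := F))
  refine ⟨a * b, mul_mem ha hb, fun x y => ?_⟩
  have e : a * b * h.e x y * (a * b)⁻¹ = a * (b * h.e x y * b⁻¹) * a⁻¹ := by group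
  rw [e, hbe, hae, inv_one, one_mul, one_mul]

/-- `τ` is an element of the torus for `ζ` -/
structure Tor (τ : G) (ζ : F) : Prop where
  mem : τ ∈ XV V Z
  norm : τ ∈ normalizer (B : Set G)
  act : ∀ x y, τ * h.e x y * τ⁻¹ = h.e (ζ * x) (ζ⁻¹ * y)

theorem cj_Z_of {g : G} {f : F → F} (hf : Function.Surjective f) (hg : ∀ x, g * h.e x 0 * g⁻¹ = h.e (f x) 0) :
    PT.cj g Z = Z := by
  ext v
  rw [mem_cj, h.mem_Z, h.mem_Z]
  constructor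
  · rintro ⟨a, ha⟩
    refine ⟨f a, ?_⟩
    rw [← hg, ha]; group
  · rintro ⟨a, rfl⟩
    obtain ⟨b, rfl⟩ := hf a
    refine ⟨b, ?_⟩
    rw [← hg]; group

theorem exists_tor {ζ : F} (hζ : ζ ≠ 0) : ∃ τ, h.Tor τ ζ := by
  obtain ⟨t, ht, hte⟩ := h.exists_diag hζ
  have htN := h.one.pl.XV_le_N ht
  have hSN := h.one.B_norm_V
  have htZ : PT.cj t Z = Z := by
    refine h.cj_Z_of (f := fun x => ζ * x) (fun x => ⟨ζ⁻¹ * x, mul_inv_cancel_left₀ hζ x⟩) fun x => ?_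
    rw [hte, mul_zero]
  have hSn : B ≤ normalizer ((yl V Z : Subgroup G) : Set G) := hSN.trans (norm_yl V Z)
  have h1 : PT.cj t B ≤ B ⊔ yl V Z := by
    intro x hx
    rw [mem_cj] at hx
    obtain ⟨k, hk, hkS, hks⟩ := h.one.pl.K_full h.one.hf hx
    -- `s = k c`
    have hc : k⁻¹ * (t⁻¹ * x * t) ∈ centralizer (V : Set G) := by
      have h2 : k * (t⁻¹ * x * t)⁻¹ ∈ centralizer (V : Set G) := hks
      have hkN := h.one.K_norm h.one.self hk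
      have h3 : k⁻¹ * (k * (t⁻¹ * x * t)⁻¹) * k ∈ centralizer (V : Set G) := by
        have h4 : PT.cj k⁻¹ (centralizer (V : Set G)) = centralizer (V : Set G) := by
          rw [cj_centralizer, cj_eq_iff.2 (inv_mem hkN)]
        rw [← h4]
        have := conj_mem_cj (g := k⁻¹) h2
        rwa [inv_inv] at this
      have h5 := inv_mem h3
      have e : (k⁻¹ * (k * (t⁻¹ * x * t)⁻¹) * k)⁻¹ = k⁻¹ * (t⁻¹ * x * t) := by group
      rwa [e] at h5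
    have hcS : k⁻¹ * (t⁻¹ * x * t) ∈ B := mul_mem (inv_mem hkS) hx
    -- `t k t⁻¹`
    have hk1 : t * k * t⁻¹ ∈ kx V Z := by
      rw [← htZ, kx_cj]
      exact conj_mem_cj hk
    obtain ⟨l, hl, hlS, hlk⟩ := h.one.pl.kx_two hk1
    have h6 : l * (t * k * t⁻¹)⁻¹ ∈ yl V Z := mem_yl_of h.one.self (mul_mem hl (inv_mem hk1)) hlk
    have h7 : t * k * t⁻¹ ∈ B ⊔ yl V Z := by
      have e : t * k * t⁻¹ = (l * (t * k * t⁻¹)⁻¹)⁻¹ * l := by group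
      rw [e]
      exact mul_mem (mem_sup_right (inv_mem h6)) (mem_sup_left hlS)
    have h8 : t * (k⁻¹ * (t⁻¹ * x * t)) * t⁻¹ * (k⁻¹ * (t⁻¹ * x * t))⁻¹ ∈ yl V Z := h.one.comm_yl ht hc
    have e : x = t * k * t⁻¹ * (t * (k⁻¹ * (t⁻¹ * x * t)) * t⁻¹ * (k⁻¹ * (t⁻¹ * x * t))⁻¹) *
      (k⁻¹ * (t⁻¹ * x * t)) := by group
    rw [e]
    exact mul_mem (mul_mem h7 (mem_sup_right h8)) (mem_sup_left hcS)
  have hHZ : B ⊔ yl V Z ≤ centralizer (Z : Set G) :=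
    sup_le h.one.B_le_C ((yl_le_cent V Z).trans (centralizer_le (by exact_mod_cast h.one.pl.ZV)))
  obtain ⟨a, ha, hab⟩ := conj_of_max h1 (le_sup_left : B ≤ B ⊔ yl V Z) ((h.one.isP_B).map _) h.one.isP_B
    (fun T hT pT hT' => h.one.max_B' htZ (hT.trans hHZ) pT hT') (fun T hT pT hT' => h.one.max_B (hT.trans hHZ) pT hT')
  obtain ⟨s, hs, y, hy, rfl⟩ := mem_sup_norm hSn ha
  refine ⟨y * t, mul_mem (yl_le_XV V Z hy) ht, ?_, fun u v => ?_⟩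
  · rw [← cj_eq_iff]
    have h2 : PT.cj s⁻¹ (PT.cj (s * y) (PT.cj t B)) = PT.cj s⁻¹ B := by rw [hab]
    rw [cj_cj, cj_cj, cj_eq_iff.2 (le_normalizer (inv_mem hs))] at h2
    have e : s⁻¹ * (s * y) * t = y * t := by group
    rwa [e] at h2
  · have e : y * t * h.e u v * (y * t)⁻¹ = y * (t * h.e u v * t⁻¹) * y⁻¹ := by group
    rw [e, hte, h.comm_e (yl_le_cent V Z hy)]

/-! ### Submodules of `W_Z / Z` -/

/-- `D ≥ Z` is invariant under `B` and the torus -/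
structure Inv (D : Subgroup G) : Prop where
  Z_le : Z ≤ D
  B_norm : B ≤ normalizer (D : Set G)
  tor : ∀ ζ : F, ζ ≠ 0 → ∃ τ, h.Tor τ ζ ∧ τ ∈ normalizer (D : Set G)

variable {h}

theorem Tor.norm_V {τ : G} {ζ : F} (ht : h.Tor τ ζ) : τ ∈ normalizer (V : Set G) := h.one.pl.XV_le_N ht.mem

theorem Tor.norm_Z {τ : G} {ζ : F} (ht : h.Tor τ ζ) (hζ : ζ ≠ 0) : τ ∈ normalizer (Z : Set G) := by
  rw [← cj_eq_iff]
  refine h.cj_Z_of (f := fun x => ζ * x) (fun x => ⟨ζ⁻¹ * x, mul_inv_cancel_left₀ hζ x⟩) fun x => ?_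
  rw [ht.act, mul_zero]

theorem Tor.norm_Y {τ : G} {ζ : F} (ht : h.Tor τ ζ) (hζ : ζ ≠ 0) : PT.cj τ h.Yp = h.Yp := by
  ext v
  rw [mem_cj, h.mem_Yp, h.mem_Yp]
  constructor
  · rintro ⟨a, ha⟩
    refine ⟨ζ⁻¹ * a, ?_⟩
    have h1 := ht.act 0 a
    rw [mul_zero] at h1
    rw [← h1, ha]; group
  · rintro ⟨a, rfl⟩
    refine ⟨ζ * a, ?_⟩
    have h1 := ht.act 0 (ζ * a)
    rw [mul_zero, inv_mul_cancel_left₀ hζ] at h1
    rw [← h1]; group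

/-- invariance under `N_G(Z) ∩ N_G(V)` -/
theorem Inv.of_norm {D : Subgroup G} (hZ : Z ≤ D)
    (hN : normalizer (Z : Set G) ⊓ normalizer (V : Set G) ≤ normalizer (D : Set G)) : h.Inv D where
  Z_le := hZ
  B_norm := (le_inf h.one.B_norm_Z h.one.B_norm_V).trans hN
  tor := fun ζ hζ => by
    obtain ⟨τ, hτ⟩ := h.exists_tor hζ
    exact ⟨τ, hτ, hN ⟨hτ.norm_Z hζ, hτ.norm_V⟩⟩

/-- invariance under `N_G(Z)` -/
theorem Inv.of_normZ {D : Subgroup G} (hZ : Z ≤ D) (hN : normalizer (Z : Set G) ≤ normalizer (D : Set G)) : h.Inv D :=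
  Inv.of_norm hZ (inf_le_left.trans hN)

theorem Inv.V_le {D : Subgroup G} (hD : h.Inv D) {v : G} (hv : v ∈ D) (hvV : v ∈ V) (hvZ : v ∉ Z) : V ≤ D := by
  obtain ⟨a, b, rfl⟩ := (h.mem_V v).1 hvV
  have hb : b ≠ 0 := fun e => hvZ (h.e_memZ_iff.2 e)
  intro u hu
  obtain ⟨x, y, rfl⟩ := (h.mem_V u).1 hu
  by_cases hy : y = 0
  · rw [hy]
    exact hD.Z_le (h.e_memZ x)
  obtain ⟨τ, hτ, hτD⟩ := hD.tor (b * y⁻¹) (mul_ne_zero hb (inv_ne_zero hy))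
  have h1 := (mem_normalizer_iff.1 hτD _).1 hv
  have e1 : (b * y⁻¹)⁻¹ * b = y := by
    rw [mul_inv_rev, inv_inv, mul_assoc, inv_mul_cancel₀ hb, mul_one]
  rw [hτ.act, e1] at h1
  have h2 : h.e x y = h.e (x + b * y⁻¹ * a) 0 * h.e (b * y⁻¹ * a) y := by
    rw [← h.e_add, zero_add, add_assoc, CharTwo.add_self_eq_zero, add_zero]
  rw [h2]
  exact mul_mem (hD.Z_le (h.e_memZ _)) h1

theorem Inv.sub {D : Subgroup G} (hD : h.Inv D) (hVD : ¬ V ≤ D) : D ⊓ IV V Z ≤ Z := by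
  by_contra hcon
  have hn : B ≤ normalizer ((D ⊓ IV V Z : Subgroup G) : Set G) := by
    intro s hs
    rw [← cj_eq_iff, cj_inf, cj_eq_iff.2 (hD.B_norm hs), cj_eq_iff.2 (normalizer_le_IV V Z (h.one.B_norm_V hs))]
  obtain ⟨v, hv, hvV, hvZ⟩ := h.one.fix_sub inf_le_right hn hcon
  exact hVD (hD.V_le hv.1 hvV hvZ)

/-- **(B)** -/
theorem Inv.comm {D : Subgroup G} (hD : h.Inv D) (hDW : D ≤ ws V Z) (hVD : ¬ V ≤ D) {d u : G} {Y : Subgroup G}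
    (hd : d ∈ D) (hY : Pnt V Z Y) (hYZ : Y ≠ Z) (hu : u ∈ ws V Y) : d * u * d⁻¹ * u⁻¹ ∈ Z := by
  refine hD.sub hVD ⟨?_, h.one.comm_mem h.one.self hY hYZ.symm (hDW hd) hu⟩
  have h1 : u * d⁻¹ * u⁻¹ ∈ D := (mem_normalizer_iff.1 (hD.B_norm (h.one.W_le_B hY hu)) _).1 (inv_mem hd)
  have e : d * u * d⁻¹ * u⁻¹ = d * (u * d⁻¹ * u⁻¹) := by group
  rw [e]
  exact mul_mem hd h1

variable (h)

/-- `V ≤ D` if `[W_Z, W_Y] ≤ D` -/
theorem V_le_of_comm {D : Subgroup G} (hD : h.Inv D) {Y : Subgroup G} (hY : Pnt V Z Y) (hYZ : Y ≠ Z)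
    (hc : ∀ w ∈ ws V Z, ∀ u ∈ ws V Y, w * u * w⁻¹ * u⁻¹ ∈ D) : V ≤ D := by
  by_contra hVD
  have h1 : ∀ w ∈ ws V Z, ∀ u ∈ ws V Y, w * u * w⁻¹ * u⁻¹ ∈ Z := fun w hw u hu =>
    hD.sub hVD ⟨hc w hw u hu, h.one.comm_mem h.one.self hY hYZ.symm hw hu⟩
  obtain ⟨k, hk, -, hk1, hk2⟩ := h.one.pl.swap h.one.hf h.one.self.cj h.one.self.le hY.cj hY.le
  have hk1' : PT.cj k⁻¹ Y = Z := by rw [← hk1, cj_cj, inv_mul_cancel, cj_one]
  have hk2' : PT.cj k⁻¹ Z = Y := by rw [← hk2, cj_cj, inv_mul_cancel, cj_one]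
  apply h.one.not_comm h.one.self hY hYZ.symm
  intro w hw
  rw [mem_centralizer_iff]
  intro u hu
  have h2 : k⁻¹ * u * k ∈ ws V Z := by
    rw [← hk1', ws_cj, mem_cj, inv_inv]
    have e : k * (k⁻¹ * u * k) * k⁻¹ = u := by group
    rw [e]
    exact hu
  have h3 : k⁻¹ * w * k ∈ ws V Y := by
    rw [← hk2', ws_cj, mem_cj, inv_inv]
    have e : k * (k⁻¹ * w * k) * k⁻¹ = w := by group
    rw [e]
    exact hw
  have h4 := h1 _ h2 _ h3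
  have h5 : u * w * u⁻¹ * w⁻¹ ∈ Y := by
    rw [← hk1]
    have := conj_mem_cj (g := k) h4
    have e : k * (k⁻¹ * u * k * (k⁻¹ * w * k) * (k⁻¹ * u * k)⁻¹ * (k⁻¹ * w * k)⁻¹) * k⁻¹ = u * w * u⁻¹ * w⁻¹ := by
      group
    rwa [e] at this
  have h6 : u * w * u⁻¹ * w⁻¹ ∈ Z := by
    have := inv_mem (h1 w hw u hu)
    have e : (w * u * w⁻¹ * u⁻¹)⁻¹ = u * w * u⁻¹ * w⁻¹ := by group
    rwa [e] at this
  have h7 : u * w * u⁻¹ * w⁻¹ ∈ Z ⊓ Y := ⟨h6, h5⟩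
  rw [h.one.pl.pts_inf h.one.self.cj hY.cj hYZ.symm, mem_bot, mul_inv_eq_one, mul_inv_eq_iff_eq_mul] at h7
  exact h7

include h in
theorem V_not_le : ¬ V ≤ Z := by
  intro h1
  have h2 := h1 (h.e_memV 0 1)
  rw [h.e_memZ_iff] at h2
  exact one_ne_zero h2

variable {h}

/-- **(B), decompositions** -/
theorem Inv.decomp {M₁ M₂ : Subgroup G} (h1 : h.Inv M₁) (h2 : h.Inv M₂) (hW1 : M₁ ≤ ws V Z) (hW2 : M₂ ≤ ws V Z)
    (h12 : M₁ ⊓ M₂ ≤ Z) :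
    (∀ Y, Pnt V Z Y → Y ≠ Z → ∀ d ∈ M₁, ∀ u ∈ ws V Y, d * u * d⁻¹ * u⁻¹ ∈ Z) ∨
      ∀ Y, Pnt V Z Y → Y ≠ Z → ∀ d ∈ M₂, ∀ u ∈ ws V Y, d * u * d⁻¹ * u⁻¹ ∈ Z := by
  by_cases hV1 : V ≤ M₁
  · right
    have hV2 : ¬ V ≤ M₂ := fun hV2 => h.V_not_le ((le_inf hV1 hV2).trans h12)
    exact fun Y hY hYZ d hd u hu => h2.comm hW2 hV2 hd hY hYZ hu
  · left
    exact fun Y hY hYZ d hd u hu => h1.comm hW1 hV1 hd hY hYZ hu

include h in
/-- the lines on `Z` are conjugate under `C_G(Z)` -/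
theorem line_eq {L : Subgroup G} (hL : IsCj V L) (hZL : Z ≤ L) : ∃ c ∈ centralizer (Z : Set G), L = PT.cj c V := by
  obtain ⟨g, rfl⟩ := hL
  have h1 : PT.cj g⁻¹ Z ≤ V := by rwa [cj_le_iff, inv_inv]
  obtain ⟨p, hp, hpe⟩ := h.one.pl.exists_pt ⟨g⁻¹, rfl⟩ h1
  have h2 : PT.cj (g * p) Z = Z := by rw [← cj_cj, ← hpe, cj_cj, mul_inv_cancel, cj_one]
  have h3 : PT.cj (g * p) V = PT.cj g V := by rw [← cj_cj, cj_eq_iff.2 (h.one.pl.PN hp)]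
  rw [← h3]
  set n := g * p
  have h4 : PT.cj n B ≤ centralizer (Z : Set G) := by
    have := cj_le_cj (g := n) |>.2 h.one.B_le_C
    rwa [cj_centralizer, h2] at this
  obtain ⟨c, hc, hce⟩ := conj_of_max h.one.B_le_C h4 h.one.isP_B ((h.one.isP_B).map _)
    (fun T hT pT hT' => h.one.max_B hT pT hT') (fun T hT pT hT' => h.one.max_B' h2 hT pT hT')
  refine ⟨c, hc, ?_⟩
  have h5 : c⁻¹ * n ∈ normalizer (B : Set G) := by
    rw [← cj_eq_iff, ← cj_cj, ← hce, cj_cj, inv_mul_cancel, cj_one]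
  have h6 := cj_eq_iff.2 (h.one.pl.NB h5)
  rw [← cj_cj] at h6
  have h7 := congrArg (PT.cj c) h6
  rwa [cj_cj, mul_inv_cancel, cj_one] at h7

include h in
/-- `M = ⟨lam^H⟩` -/
theorem W_le_of_V {D : Subgroup G} (hVD : V ≤ D) (hD : centralizer (Z : Set G) ≤ normalizer (D : Set G)) :
    ws V Z ≤ D := by
  refine ws_le fun L hL hZL => ?_
  obtain ⟨c, hc, rfl⟩ := h.line_eq hL hZL
  rw [← cj_eq_iff.2 (hD hc)]
  exact cj_le_cj.2 hVD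

/-- a proper `C_G(Z)`-invariant and torus-invariant subgroup meets `I` in `Z` -/
theorem Inv.proper {D : Subgroup G} (hD : h.Inv D) (hC : centralizer (Z : Set G) ≤ normalizer (D : Set G))
    (hne : ¬ ws V Z ≤ D) : D ⊓ IV V Z ≤ Z := hD.sub fun hV => hne (h.W_le_of_V hV hC)

end Co

end Cfsg.Agent.Omega.NO3S.OneQ
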