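import Cfsg.Agent.Omega.NO3S.OneQ.Co
import Cfsg.Agent.Omega.NO3S.PLOf

/-!
# NO-3S, `OneQ`: the coordinates `Co` from the frame

* `exists_co_of` : `One S B P V Z`, `V` natural, `Z = F w` give `Co F S B P V Z`;
* `exists_co` : `HypJ S P`, `Uniq S P`, `V` natural, `|Z| = |F|`, (F1), critical distance 1 give `Co F S S P V Z`.
-/

set_option autoImplicit false
set_option linter.unusedSectionVars false
set_option maxHeartbeats 400000

namespace Cfsg.Agent.Omega.NO3S.OneQ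

open Subgroup Cfsg.Agent.Omega.NO3S.PT Cfsg.Agent.Omega.NatPair Cfsg.Agent.Lib.SL2Mat
open scoped Pointwise

universe u

variable {G : Type u} [Group G] [Finite G] {F : Type*} [Field F] [Finite F] [CharP F 2] {S : Sylow 2 G} {B P V Z : Subgroup G}

/-- a 2-element which centralises the line `F w` is a transvection -/
theorem tv_of {L : Type*} [Group L] {V : Subgroup L} (M : NatMod F V) {w : Fin 2 → F} (hw : w ≠ 0) {s : L}
    (hsV : s ∈ normalizer (V : Set L)) (h2 : ∃ n : ℕ, s ^ 2 ^ n = 1) (hs : ∀ c : F, s * M.e (c • w) = M.e (c • w) * s) :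
    ∃ a : F, ∀ x, M.act s x = x + (a * dt w x) • w := by
  obtain ⟨σ, hσ⟩ := M.exists_semi hsV
  have hw1 : ∀ c : F, M.act s (c • w) = c • w := fun c => (M.commute_e hsV).1 (hs c)
  have hww : M.act s w = w := by have := hw1 1; rwa [one_smul] at this
  have hσ1 : ∀ c, σ c = c := by
    intro c
    have h1 := hσ c w
    rw [hw1, hww] at h1
    exact (smul_left_injective F hw h1).symm
  have hlin : ∀ (c : F) x, M.act s (c • x) = c • M.act s x := fun c x => by rw [hσ, hσ1]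
  obtain ⟨x0, hx0⟩ := exists_dt hw
  have hx0' : dt w x0 ≠ 0 := by rw [hx0]; exact one_ne_zero
  set γ := dt w (M.act s x0) with hγ
  have key : ∀ y, dt w (M.act s y) = γ * dt w y := by
    intro y
    obtain ⟨a, b, rfl⟩ := exists_comb hx0' y
    rw [M.act_add hsV, hlin, hlin, hww, dt_add, dt_add, dt_smul, dt_smul, dt_smul, dt_self, hx0, ← hγ]
    ring
  have hpow : ∀ n : ℕ, dt w (M.act (s ^ n) x0) = γ ^ n := by
    intro n
    induction n with
    | zero => rw [pow_zero, pow_zero, M.act_one, hx0]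
    | succ n ih => rw [pow_succ', M.act_mul hsV (pow_mem hsV n), key, ih, pow_succ']
  have hγ1 : γ = 1 := by
    obtain ⟨n, hn⟩ := h2
    have h1 := hpow (2 ^ n)
    rw [hn, M.act_one, hx0] at h1
    exact eq_one_of_pow h1.symm
  have h1 : dt w (M.act s x0 - x0) = 0 := by
    have h2 : dt w (M.act s x0 - x0) = dt w (M.act s x0) - dt w x0 := by unfold dt; simp only [Pi.sub_apply]; ring
    rw [h2, ← hγ, hγ1, hx0, sub_self]
  obtain ⟨a, ha⟩ := exists_smul_of_dt hw h1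
  refine ⟨a, fun y => ?_⟩
  obtain ⟨α, β, rfl⟩ := exists_comb hx0' y
  have h2 : M.act s x0 = x0 + a • w := by rw [← ha]; abel
  rw [M.act_add hsV, hlin, hlin, hww, h2, dt_add, dt_smul, dt_smul, dt_self, hx0]
  rw [smul_add, smul_smul]
  simp only [mul_zero, mul_one, zero_add]
  rw [mul_comm β a]
  abel

/-- **the coordinates from `One`, `NatP` and the line `Z = F w`** -/
theorem exists_co_of (h : One S B P V Z) (M : NatP F V P) {w : Fin 2 → F} (hw : w ≠ 0)
    (hZl : ∀ z : G, z ∈ Z ↔ ∃ c : F, M.e (c • w) = z) : Nonempty (Co F S B P V Z) := by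
  have SP := h.pl.SP
  have PN := h.pl.PN
  have hVP : V ≤ P := (h.pl.VS).trans SP
  set N := toMod M hVP with hN
  have hVn : ∀ g : P, g ∈ normalizer ((V.subgroupOf P : Subgroup P) : Set P) := by
    intro g
    rw [mem_normalizer_iff]
    intro x
    rw [mem_subgroupOf, mem_subgroupOf]
    exact mem_normalizer_iff.1 (PN g.2) x
  have hact : ∀ (g : P) (x : Fin 2 → F), (g : G) * M.e x * (g : G)⁻¹ = M.e (N.act g x) := fun g x =>
    congrArg Subtype.val (N.e_act (hVn g) x).symm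
  have hs1 : ∀ s ∈ B, ∃ a : F, ∀ x, s * M.e x * s⁻¹ = M.e (x + (a * dt w x) • w) := by
    intro s hs
    have hsP : s ∈ P := SP (h.pl.BS hs)
    have h2 : ∃ n : ℕ, (⟨s, hsP⟩ : P) ^ 2 ^ n = 1 := by
      obtain ⟨n, hn⟩ := twoEl_of_isPGroup h.isP_B hs
      exact ⟨n, Subtype.ext hn⟩
    obtain ⟨a, ha⟩ := tv_of N hw (hVn ⟨s, hsP⟩) h2 fun c =>
      Subtype.ext (h.pl.cen _ ((hZl _).2 ⟨c, rfl⟩) s hs)
    refine ⟨a, fun x => ?_⟩
    rw [← ha]
    exact hact ⟨s, hsP⟩ x
  obtain ⟨D, hD⟩ := exists_ap_e hw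
  have hadd : ∀ a b c d : F, (![a + c, b + d] : Fin 2 → F) = ![a, b] + ![c, d] := by
    intro a b c d
    apply ext2 <;> simp
  have hD0 : ∀ a : F, ap D ![a, 0] = a • w := by
    intro a
    have h1 : (![a, 0] : Fin 2 → F) = a • ![1, 0] := by
      apply ext2 <;> simp
    rw [h1, ap_smul, hD]
  have hdtD : ∀ x y : F, dt w (ap D ![x, y]) = y := by
    intro x y
    rw [← hD, dt_ap]
    simp [dt]
  refine ⟨{ one := h
            e := fun a b => M.e (ap D ![a, b])
            e_add := ?_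
            e_inj := ?_
            mem_V := ?_
            mem_Z := ?_
            lift := ?_
            tv := ?_ }⟩
  · intro a b c d
    show M.e (ap D ![a + c, b + d]) = M.e (ap D ![a, b]) * M.e (ap D ![c, d])
    rw [hadd, ap_add, M.e_add]
  · intro a b c d h1
    have h2 := M.e_inj h1
    have h3 := congrArg (ap D⁻¹) h2
    rw [ap_inv_ap, ap_inv_ap] at h3
    exact ⟨congrFun h3 0, congrFun h3 1⟩
  · intro g
    rw [M.mem_iff]
    constructor
    · rintro ⟨x, rfl⟩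
      refine ⟨ap D⁻¹ x 0, ap D⁻¹ x 1, ?_⟩
      have h1 : (![ap D⁻¹ x 0, ap D⁻¹ x 1] : Fin 2 → F) = ap D⁻¹ x := ext2 (by simp) (by simp)
      show M.e (ap D ![ap D⁻¹ x 0, ap D⁻¹ x 1]) = M.e x
      rw [h1, ap_ap_inv]
    · rintro ⟨a, b, rfl⟩
      exact ⟨_, rfl⟩
  · intro g
    rw [hZl]
    constructor
    · rintro ⟨c, rfl⟩
      exact ⟨c, by show M.e (ap D ![c, 0]) = _; rw [hD0]⟩
    · rintro ⟨c, rfl⟩
      exact ⟨c, by rw [← hD0]⟩
  · intro a b c d habcd
    have hdet : a * d - b * c = 1 := by rw [CharTwo.sub_eq_add, habcd]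
    obtain ⟨g, hg, hge⟩ := M.lift (D * mk a b c d hdet * D⁻¹)
    refine ⟨g, hg, fun x y => ?_⟩
    show g * M.e (ap D ![x, y]) * g⁻¹ = M.e (ap D ![a * x + b * y, c * x + d * y])
    rw [hge, ap_mul, ap_mul, ap_inv_ap]
    congr 2
  · intro s hs
    obtain ⟨t, ht⟩ := hs1 s hs
    refine ⟨t, fun x y => ?_⟩
    show s * M.e (ap D ![x, y]) * s⁻¹ = M.e (ap D ![x + t * y, y])
    rw [ht, hdtD, ← hD0, ← ap_add]
    congr 2
    apply ext2 <;> simp

/-- `|Z| = |F|`: `Z` is a line -/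
theorem exists_line (h : PL S P V Z) (M : NatP F V P) (hq : Nat.card Z = Nat.card F) :
    ∃ w : Fin 2 → F, w ≠ 0 ∧ ∀ z : G, z ∈ Z ↔ ∃ c : F, M.e (c • w) = z := by
  have SP := h.SP
  have PN := h.PN
  have VS := h.VS
  have ZV := h.ZV
  have cen := h.cen
  have : Fact (Nat.Prime 2) := ⟨Nat.prime_two⟩
  have hVP : V ≤ P := VS.trans SP
  set N := toMod M hVP with hN
  have hVn : ∀ g : P, g ∈ normalizer ((V.subgroupOf P : Subgroup P) : Set P) := by
    intro g
    rw [mem_normalizer_iff]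
    intro x
    rw [mem_subgroupOf, mem_subgroupOf]
    exact mem_normalizer_iff.1 (PN g.2) x
  set T : Sylow 2 P := S.subtype SP with hT
  have hTV : (T : Subgroup P) ≤ normalizer ((V.subgroupOf P : Subgroup P) : Set P) := fun g _ => hVn g
  obtain ⟨w, hw, hTw⟩ : ∃ w : Fin 2 → F, w ≠ 0 ∧ (T : Subgroup P) ≤ normalizer ((N.line w : Subgroup P) : Set P) := by
    have hw0 : (![1, 0] : Fin 2 → F) ≠ 0 := fun h => by
      have := congrFun h 0
      simp at this
    obtain ⟨T₁, -, h1⟩ := N.exists_sylow T hTV hw0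
    obtain ⟨g, hg⟩ := MulAction.exists_smul_eq P T₁ T
    refine ⟨N.act g ![1, 0], N.act_ne_zero (hVn g) hw0, ?_⟩
    intro s hs
    rw [← hg] at hs
    have h2 : g⁻¹ * s * g ∈ (T₁ : Subgroup P) := NatPair.mem_cj.1 hs
    rw [← N.cj_line (hVn g), ← NatPair.cj_eq_iff, ← NatPair.cj_mul]
    have h3 : s * g = g * (g⁻¹ * s * g) := by group
    rw [h3, NatPair.cj_mul, NatPair.cj_eq_iff.2 (h1 h2)]
  refine ⟨w, hw, ?_⟩
  have h1 : Z.subgroupOf P ≤ N.line w := by
    intro z hz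
    rw [mem_subgroupOf] at hz
    refine N.cent_le_of_sylow T hTV hw hTw ⟨mem_centralizer_iff.2 fun s hs => ?_, mem_subgroupOf.2 (ZV hz)⟩
    exact Subtype.ext (cen z hz s (mem_subgroupOf.1 hs))
  have h2 : Nat.card (N.line w) = Nat.card (Z.subgroupOf P) := by
    rw [N.card_line hw, ← hq]
    exact Nat.card_congr (subgroupOfEquivOfLe (ZV.trans hVP)).toEquiv.symm
  have h3 : Z.subgroupOf P = N.line w := Subgroup.eq_of_le_of_card_ge h1 h2.le
  intro z
  constructor
  · intro hz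
    have h4 : (⟨z, hVP (ZV hz)⟩ : P) ∈ N.line w := by rw [← h3]; exact mem_subgroupOf.2 hz
    obtain ⟨c, hc⟩ := h4
    exact ⟨c, congrArg Subtype.val hc⟩
  · rintro ⟨c, rfl⟩
    have h4 : N.e (c • w) ∈ Z.subgroupOf P := by rw [h3]; exact ⟨c, rfl⟩
    exact mem_subgroupOf.1 h4

section frame

open Cfsg Cfsg.Agent.ZN Cfsg.Agent.Omega.MinPar Cfsg.Agent.Omega.Frame Cfsg.Agent.Omega.FrameNOFF
open Cfsg.Agent.MinSimple.VModule Cfsg.Agent.Omega.NoFF.Lines

theorem WN_eq {P : Subgroup G} (h : Hyp S P) (hU : Uniq (S : Subgroup G) P) (M : NatP F (zl (S : Subgroup G) P) P)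
    (hq : Nat.card (zc (S : Subgroup G)) = Nat.card F) :
    WN (S : Subgroup G) P = ws (zl (S : Subgroup G) P) (zc (S : Subgroup G)) := by
  obtain ⟨hp, hw⟩ := pl_of_uniq h hU M hq
  refine le_antisymm ?_ (hw.le.trans WW_le_WN)
  refine W_le fun Q hQ c hc => ?_
  rw [Set.mem_singleton_iff.1 hQ]
  refine le_ws ⟨c, rfl⟩ ?_
  have h1 : PT.cj c (zc (S : Subgroup G)) = zc (S : Subgroup G) := PT.cj_eq_iff.2 hc
  have h2 : PT.cj c (zc (S : Subgroup G)) ≤ PT.cj c (zl (S : Subgroup G) P) := PT.cj_le_cj.2 hp.ZV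
  rw [h1] at h2
  exact h2

/-- a critical pair at distance 1 gives two noncommuting points of `V` -/
theorem exists_nc {P : Subgroup G} (h : Hyp S P) (hU : Uniq (S : Subgroup G) P) (M : NatP F (zl (S : Subgroup G) P) P)
    (hq : Nat.card (zc (S : Subgroup G)) = Nat.card F) {y : G} (hc : CritN (S : Subgroup G) P 1 1 y) :
    ∃ Y, Pnt (zl (S : Subgroup G) P) (zc (S : Subgroup G)) Y ∧
      ¬ ws (zl (S : Subgroup G) P) (zc (S : Subgroup G)) ≤
        centralizer ((ws (zl (S : Subgroup G) P) Y : Subgroup G) : Set G) := by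
  obtain ⟨hp, hw⟩ := pl_of_uniq h hU M hq
  have hWN := WN_eq h hU M hq
  obtain ⟨c, p, c', hc0, hp0, hc0', rfl⟩ : ∃ c p c', c ∈ normalizer (zc (S : Subgroup G) : Set G) ∧ p ∈ P ∧
      c' ∈ normalizer (zc (S : Subgroup G) : Set G) ∧ y = c * p * c' := by
    have h1 := hc.path
    cases h1 with
    | step hg _ _ _ =>
      cases hg with
      | zero g hc1 =>
        rename_i p1 c1 P1 h2 h3 h4 c2
        rw [Set.mem_singleton_iff.1 h2] at h3
        exact ⟨c2, p1, c1, hc1, h3, h4, by group⟩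
  refine ⟨PT.cj p (zc (S : Subgroup G)), ⟨⟨p, rfl⟩, hp.pt_le hp0⟩, fun hcon => hc.ne ?_⟩
  unfold Com
  rw [map_one, one_smul]
  have h2 : ∀ n ∈ normalizer (zc (S : Subgroup G) : Set G), PT.cj n (WN (S : Subgroup G) P) =
      WN (S : Subgroup G) P := by
    intro n hn
    rw [hWN]
    exact PT.cj_eq_iff.2 (normalizer_le_ws _ _ hn)
  have h3 : MulAut.conj (c * p * c') • WN (S : Subgroup G) P = PT.cj c (PT.cj p (WN (S : Subgroup G) P)) := by
    have h4 : PT.cj (c * p * c') (WN (S : Subgroup G) P) = PT.cj c (PT.cj p (WN (S : Subgroup G) P)) := by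
      rw [← PT.cj_cj, h2 c' hc0', PT.cj_cj]
    exact h4
  show WN (S : Subgroup G) P ≤ centralizer ((MulAut.conj (c * p * c') • WN (S : Subgroup G) P : Subgroup G) : Set G)
  rw [h3, ← PT.cj_centralizer]
  have h5 := PT.cj_le_cj (g := c) |>.2 hcon
  rw [← hWN, h2 c hc0, PT.ws_cj, ← hWN] at h5
  exact h5

/-- **`Co` from the frame.** -/
theorem exists_co {P : Subgroup G} (h : HypJ S P) (hU : Uniq (S : Subgroup G) P) (M : NatP F (zl (S : Subgroup G) P) P)
    (hq : Nat.card (zc (S : Subgroup G)) = Nat.card F)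
    (hf : ¬ kx (zl (S : Subgroup G) P) (zc (S : Subgroup G)) ≤ centralizer (zl (S : Subgroup G) P : Set G)) {y : G}
    (hc : CritN (S : Subgroup G) P 1 1 y) :
    Nonempty (Co F S (S : Subgroup G) P (zl (S : Subgroup G) P) (zc (S : Subgroup G))) := by
  have h0 := h.toHypN.toHyp
  obtain ⟨hp, -⟩ := pl_of_uniq h0 hU M hq
  obtain ⟨w, hw, hZ⟩ := exists_line hp M hq
  exact exists_co_of ⟨hp.toPB (hU.ns h0.star), hf, omQ_of_hypJ h hp, exists_nc h0 hU M hq hc⟩ M hw hZ

end frame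

end Cfsg.Agent.Omega.NO3S.OneQ
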