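import Cfsg.Agent.Omega.NO3S.OneQ.FitQ
import Cfsg.Agent.Omega.NO3S.OneQ.LinF

/-!
# NO-3S, `OneQ`: `A` centralises the nilpotent normal subgroups of `H = C_G(Z) / K_Z` (bb OMEGA #17428 (E))

* `Co.dec`, `Co.flin` : the hypotheses `Dec`, `FLin` of `FitQ.lean`; `Co.fit` : (E).
-/

set_option autoImplicit false
set_option linter.unusedSectionVars false

namespace Cfsg.Agent.Omega.NO3S.OneQ.Co

open Subgroup Cfsg.Agent.Omega.NO3S.PT Cfsg.Agent.Omega.NoFF.Basic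
open scoped Pointwise

universe u

variable {G : Type u} [Group G] [Finite G] {F : Type*} [Field F] [CharP F 2] {S : Sylow 2 G} {B P V Z : Subgroup G}
  (h : Co F S B P V Z)

theorem flip_mem {w u : G} (hm : w * u * w⁻¹ * u⁻¹ ∈ Z) : u * w * u⁻¹ * w⁻¹ ∈ Z := by
  have := inv_mem hm
  have e : (w * u * w⁻¹ * u⁻¹)⁻¹ = u * w * u⁻¹ * w⁻¹ := by group
  rwa [e] at this

include h in
theorem dec : Dec V Z := by
  intro Y hY hYZ A A' hZA hA hZA' hA' hn hn' _ hinf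
  have key : ∀ A : Subgroup G, Z ≤ A →
      (∀ n ∈ normalizer (Z : Set G), n ∈ normalizer (V : Set G) → ∀ w ∈ A, n * w * n⁻¹ ∈ A) → h.Inv A := by
    intro A hZA hn
    refine Inv.of_norm hZA ?_
    rintro n ⟨h1, h2⟩
    rw [mem_normalizer_iff]
    intro x
    refine ⟨fun hx => hn n h1 h2 x hx, fun hx => ?_⟩
    have h3 := hn n⁻¹ (inv_mem h1) (inv_mem h2) _ hx
    have e : n⁻¹ * (n * x * n⁻¹) * n⁻¹⁻¹ = x := by group
    rwa [e] at h3
  rcases (key A hZA hn).decomp (key A' hZA' hn') hA hA' hinf.le with h1 | h1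
  · exact Or.inl fun w hw u hu => flip_mem (h1 Y hY hYZ w hw u hu)
  · exact Or.inr fun w hw u hu => flip_mem (h1 Y hY hYZ w hw u hu)

/-- the scalars on `Z` -/
noncomputable def mz (c : F) (g : G) : G := h.e (c * h.zv g) 0

theorem mz_e {c : F} {g : G} {a : F} (hg : g = h.e a 0) : h.mz c g = h.e (c * a) 0 := by
  rw [mz, hg, h.zv_e]

theorem flin : FLin V Z h.mz where
  mem := fun c a _ => h.e_memZ _
  mul := by
    intro c a ha b hb
    rw [mz, mz, mz, h.zv_mul ha hb, mul_add, ← h.e_add, add_zero]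
  inj := by
    intro c c' z hz hz1 he
    have h1 := (h.e_inj he).1
    exact mul_right_cancel₀ (fun e => hz1 ((h.zv_eq_zero hz).1 e)) h1
  ex := by
    intro c w hw
    obtain ⟨w', hw', he⟩ := h.exists_smul c hw
    refine ⟨w', hw', fun k hk => ?_⟩
    rw [← h.e_fn hw' hk, ← h.e_fn hw hk, he k hk, h.mz_e rfl]
  tr := by
    intro u hu huZ v hv
    obtain ⟨c, hc⟩ := h.exists_scal hu huZ hv
    refine ⟨c, fun k hk => ?_⟩
    rw [← h.e_fn (h.one.V_le_W h.one.self hv) hk, ← h.e_fn (h.one.V_le_W h.one.self hu) hk, hc k hk, h.mz_e rfl]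
  rad := by
    intro w hw hwk Y hY u hu
    have hd : w ∈ rd V Z := mem_rd.2 ⟨hw, hwk⟩
    by_cases hYZ : Y = Z
    · rw [hYZ] at hu
      rw [h.one.comm_W h.one.self.cj hu hw]
      have e : w * u * u⁻¹ * w⁻¹ = 1 := by group
      rw [e]
      exact one_mem _
    · exact flip_mem (h.rd_comm hY hYZ hd hu)

/-- `[W_Z, W_Y] Z` -/
def cw (V Z Y : Subgroup G) : Subgroup G := Z ⊔ ⁅ws V Z, ws V Y⁆

include h in
/-- `[W_Z, W_Y] Z` does not depend on `Y` -/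
theorem cw_le {Y Y' : Subgroup G} (hY : Pnt V Z Y) (hne : Y ≠ Z) (hY' : Pnt V Z Y') (hne' : Y' ≠ Z) :
    cw V Z Y' ≤ cw V Z Y := by
  refine sup_le le_sup_left ?_
  rw [commutator_le]
  intro w hw u hu
  obtain ⟨k, hk, rfl⟩ := h.one.move h.one.self hY hY' hne hne'
  rw [ws_cj, mem_cj] at hu
  rw [commutatorElement_def]
  have hwk : k⁻¹ * w * k ∈ ws V Z := by
    have := h.W_conj (inv_mem (centralizer_le_normalizer _ (kx_le_cent hk))) hw
    rwa [inv_inv] at this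
  -- `[w, u] = [k⁻¹ w k, k⁻¹ u k]^k`
  have h1 : k⁻¹ * w * k * (k⁻¹ * u * k) * (k⁻¹ * w * k)⁻¹ * (k⁻¹ * u * k)⁻¹ ∈ cw V Z Y := by
    refine le_sup_right (a := Z) (commutator_mem_commutator hwk hu)
  have h2 : k⁻¹ * w * k * (k⁻¹ * u * k) * (k⁻¹ * w * k)⁻¹ * (k⁻¹ * u * k)⁻¹ ∈ ws V Z :=
    h.one.I_le_W h.one.self (h.one.comm_mem h.one.self hY hne.symm hwk hu)
  have h3 := h.kw_mem h2 hk
  have e : w * u * w⁻¹ * u⁻¹ = k * (k⁻¹ * w * k * (k⁻¹ * u * k) * (k⁻¹ * w * k)⁻¹ * (k⁻¹ * u * k)⁻¹) * k⁻¹ *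
    (k⁻¹ * w * k * (k⁻¹ * u * k) * (k⁻¹ * w * k)⁻¹ * (k⁻¹ * u * k)⁻¹)⁻¹ *
    (k⁻¹ * w * k * (k⁻¹ * u * k) * (k⁻¹ * w * k)⁻¹ * (k⁻¹ * u * k)⁻¹) := by group
  rw [e]
  exact mul_mem (le_sup_left (a := Z) h3) h1

/-- `[W_Z, W_Y] Z` is invariant under `N_G(Z) ∩ N_G(V)` -/
theorem inv_cw {Y : Subgroup G} (hY : Pnt V Z Y) (hne : Y ≠ Z) : h.Inv (cw V Z Y) := by
  refine Inv.of_norm le_sup_left ?_
  have key : ∀ n ∈ normalizer (Z : Set G) ⊓ normalizer (V : Set G), PT.cj n (cw V Z Y) ≤ cw V Z Y := by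
    rintro n ⟨hnZ, hnV⟩
    have hY' : Pnt V Z (PT.cj n Y) := hY.conj hnV
    have hne' : PT.cj n Y ≠ Z := by
      intro e
      apply hne
      rw [← cj_inj (g := n), e, cj_eq_iff.2 hnZ]
    have h1 : PT.cj n (cw V Z Y) = cw V Z (PT.cj n Y) := by
      unfold cw
      rw [ws_cj, PT.cj, smul_sup]
      have h2 : MulAut.conj n • ⁅ws V Z, ws V Y⁆ = ⁅MulAut.conj n • ws V Z, MulAut.conj n • ws V Y⁆ :=
        map_commutator _ _ _
      rw [h2]
      have h3 : MulAut.conj n • Z = Z := cj_eq_iff.2 hnZ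
      have h4 : MulAut.conj n • ws V Z = ws V Z := cj_eq_iff.2 (normalizer_le_ws V Z hnZ)
      rw [h3, h4]
    rw [h1]
    exact h.cw_le hY hne hY' hne'
  intro n hn
  rw [← cj_eq_iff]
  refine le_antisymm (key n hn) ?_
  rw [le_cj_iff]
  exact key _ (inv_mem hn)

include h in
/-- `V ≤ [W_Z, W_Y] Z` -/
theorem V_le_cw {Y : Subgroup G} (hY : Pnt V Z Y) (hne : Y ≠ Z) : V ≤ cw V Z Y := by
  refine h.V_le_of_comm (h.inv_cw hY hne) hY hne fun w hw u hu => ?_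
  have := commutator_mem_commutator hw hu
  rw [commutatorElement_def] at this
  exact le_sup_right (a := Z) this

variable {M H : Type u} [AddCommGroup M] [Group H] [DistribMulAction H M] [Finite M] [Finite H] [FaithfulSMul H M]

include h in
/-- **(E) of #17428** -/
theorem fit (R : QRep V Z M H) (hF : 4 ≤ Nat.card F) {Y : Subgroup G} (hY : Pnt V Z Y) (hne : Y ≠ Z) {N : Subgroup H}
    (hN : N.Normal) (hnil : Group.IsNilpotent N) : R.img (ws V Y) ≤ centralizer (N : Set H) := by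
  refine h.one.fit_cen R h.dec h.flin hF hY hne (fun B' hZB hB => ?_) hN hnil
  refine (h.V_le_cw hY hne).trans (sup_le hZB ?_)
  rw [commutator_le]
  intro w hw u hu
  rw [commutatorElement_def]
  have h1 := inv_mem (hB w hw u hu)
  have e : (u * w * u⁻¹ * w⁻¹)⁻¹ = w * u * w⁻¹ * u⁻¹ := by group
  rwa [e] at h1

end Cfsg.Agent.Omega.NO3S.OneQ.Co
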