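import Cfsg.Agent.Omega.NO3S.Fit.AbsNat
import Cfsg.Agent.S1349

/-!
# NO-3S, natural lines, critical distance 1 (`OneQ`), helper279's (E) of #17428: the module part

`H` acts faithfully on the 2-group `M` (additively written), `A ≤ H` elementary abelian and quadratic, `N` normal solvable of odd
order, `lam ≤ M` the line vector group, `E ≤ M` with `[E, A] ≤ lam` and `|M : E| ≤ |A|`; `LinRel` : an `F`-structure on `M / rad`
which commutes with `H` (relational form), `A` centralises `rad`, `lam` is 1-dimensional modulo `rad`.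
If `A` is trivial on `[M, [N,A]]` or on `C_M([N,A])` (property (B) of #17428), then `A` centralises `N` (`comm_of`).
-/

set_option autoImplicit false
set_option linter.unusedSectionVars false

namespace Cfsg.Agent.Omega.NO3S.OneQ.FitQ

open Subgroup Cfsg.Agent.Omega.NO3S.Fit.Abs

/-- an involution inverting an element, from a dihedral group -/
theorem exists_inv {H : Type*} [Group H] [Finite H] {B L : Subgroup H} {n : ℕ} (hB : Nat.card B = 2)
    (hL : Odd (Nat.card L)) (hn : Odd n) (h3 : 3 ≤ n) (e : ↥(B ⊔ L) ≃* DihedralGroup n) :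
    ∃ a ∈ B, a ≠ 1 ∧ ∃ x ∈ L, x ≠ 1 ∧ a * x * a⁻¹ = x⁻¹ := by
  classical
  obtain ⟨⟨a, ha⟩, ha1⟩ : ∃ a : B, a ≠ 1 := by
    have : Nontrivial B := by
      rw [← Finite.one_lt_card_iff_nontrivial, hB]; norm_num
    exact exists_ne 1
  have ha1' : a ≠ 1 := fun h => ha1 (Subtype.ext h)
  have haa : a * a = 1 := by
    have h1 : (⟨a, ha⟩ : B) ^ 2 = 1 := by rw [← hB]; exact pow_card_eq_one'
    have h2 := congrArg Subtype.val h1
    simpa [pow_two] using h2
  have hL1 : L ≠ ⊥ := by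
    rintro rfl
    have h1 : Nat.card ↥(B ⊔ (⊥ : Subgroup H)) = 2 * n := by
      rw [Nat.card_congr e.toEquiv, DihedralGroup.nat_card]
    rw [sup_bot_eq, hB] at h1
    omega
  obtain ⟨⟨x, hx⟩, hx1'⟩ := Subgroup.ne_bot_iff_exists_ne_one.1 hL1
  have hx1 : x ≠ 1 := fun h => hx1' (Subtype.ext h)
  refine ⟨a, ha, ha1', x, hx, hx1, ?_⟩
  have hxo : Odd (orderOf x) := by
    have h1 : orderOf (⟨x, hx⟩ : L) ∣ Nat.card L := orderOf_dvd_natCard _
    rw [Subgroup.orderOf_mk] at h1
    exact hL.of_dvd_nat h1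
  let a' : ↥(B ⊔ L) := ⟨a, (le_sup_left : B ≤ B ⊔ L) ha⟩
  let x' : ↥(B ⊔ L) := ⟨x, (le_sup_right : L ≤ B ⊔ L) hx⟩
  have hx'o : Odd (orderOf (e x')) := by
    rw [MulEquiv.orderOf_eq, Subgroup.orderOf_mk]
    exact hxo
  have ha' : e a' * e a' = 1 := by
    rw [← map_mul]
    have : a' * a' = 1 := Subtype.ext haa
    rw [this, map_one]
  have ha'1 : e a' ≠ 1 := by
    intro h
    apply ha1'
    have := (map_eq_one_iff e e.injective).1 h
    exact congrArg Subtype.val this
  have hx'1 : e x' ≠ 1 := by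
    intro h
    apply hx1
    have := (map_eq_one_iff e e.injective).1 h
    exact congrArg Subtype.val this
  have key : e a' * e x' * (e a')⁻¹ = (e x')⁻¹ := by
    revert ha' ha'1 hx'o hx'1
    generalize e a' = α
    generalize e x' = ξ
    intro hξo hαα hα1 hξ1
    cases α with
    | r i =>
      exfalso
      apply hα1
      rw [DihedralGroup.r_mul_r, DihedralGroup.one_def] at hαα
      have h1 : i + i = 0 := DihedralGroup.r.inj hαα
      have h2 : i = 0 := by
        obtain ⟨k, hk⟩ := hn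
        have h3 : (n : ZMod n) = 0 := ZMod.natCast_self n
        have h4 : ((2 * k + 1 : ℕ) : ZMod n) * i = 0 := by rw [← hk, h3, zero_mul]
        push_cast at h4
        have h5 : (2 * (k : ZMod n) + 1) * i = (k : ZMod n) * (i + i) + i := by ring
        rw [h5, h1, mul_zero, zero_add] at h4
        exact h4
      rw [h2]; rfl
    | sr i =>
      cases ξ with
      | r j => simp
      | sr j =>
        exfalso
        rw [DihedralGroup.orderOf_sr] at hξo
        exact absurd hξo (by decide)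
  have h1 : a' * x' * a'⁻¹ = x'⁻¹ := by
    apply e.injective
    rw [map_mul, map_mul, map_inv, map_inv]
    exact key
  have h2 := congrArg Subtype.val h1
  simpa using h2

/-- **Thompson's dihedral lemma** in the form used here -/
theorem exists_dih {H : Type*} [Group H] [Finite H] {L A : Subgroup H} (hLs : Group.IsSolvable L)
    (hLo : Odd (Nat.card L)) (hA : Cfsg.IsElementaryAbelian 2 A) {d : ℕ} (hd : 1 ≤ d) (hAd : Nat.card A = 2 ^ d)
    (hAL : ∀ a ∈ A, ∀ l ∈ L, a * l * a⁻¹ ∈ L) (hf : ∀ a ∈ A, (∀ l ∈ L, a * l = l * a) → a = 1) :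
    ∃ a x : Fin d → H, (∀ i, a i ∈ A) ∧ (∀ i, x i ∈ L) ∧ (∀ i, x i ≠ 1) ∧
      (∀ i, a i * x i * (a i)⁻¹ = (x i)⁻¹) ∧ (∀ i j, i ≠ j → a i * x j = x j * a i) ∧
      ∀ B : Subgroup H, (∀ i, a i ∈ B) → A ≤ B := by
  classical
  have hn : A ≤ normalizer (L : Set H) := by
    intro a ha
    rw [mem_normalizer_iff]
    intro l
    refine ⟨fun hl => hAL a ha l hl, fun hl => ?_⟩
    have := hAL a⁻¹ (inv_mem ha) _ hl
    simpa [mul_assoc] using this
  have hfa : A ⊓ centralizer (L : Set H) = ⊥ := by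
    rw [eq_bot_iff]
    intro a ha
    rw [mem_bot]
    refine hf a ha.1 fun l hl => ?_
    exact (mem_centralizer_iff.1 ha.2 l hl).symm
  obtain ⟨Ai, Li, n, h1, h2, h3⟩ := Cfsg.Agent.S1349.result L A hLs hLo hA d hd hAd hn hfa
  choose hAi hAc hLi hodd hn3 he using h1
  have hLio : ∀ i, Odd (Nat.card (Li i)) := fun i => hLo.of_dvd_nat (card_dvd_of_le (hLi i))
  have h4 : ∀ i, ∃ a ∈ Ai i, a ≠ 1 ∧ ∃ x ∈ Li i, x ≠ 1 ∧ a * x * a⁻¹ = x⁻¹ := fun i =>
    exists_inv (hAc i) (hLio i) (hodd i) (hn3 i) (he i).some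
  choose a ha ha1 x hx hx1 hax using h4
  refine ⟨a, x, fun i => hAi i (ha i), fun i => hLi i (hx i), hx1, hax, ?_, ?_⟩
  · intro i j hij
    exact h3 i j hij _ ((le_sup_left : Ai i ≤ _) (ha i)) _ ((le_sup_right : Li j ≤ _) (hx j))
  · intro B hB
    rw [← h2]
    refine iSup_le fun i => ?_
    have h5 : zpowers (a i) = Ai i := by
      apply eq_of_le_of_card_ge
      · rw [zpowers_le]; exact ha i
      · rw [hAc i]
        have h6 : 1 < Nat.card (zpowers (a i)) := by
          rw [Finite.one_lt_card_iff_nontrivial]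
          refine ⟨⟨⟨a i, mem_zpowers _⟩, 1, fun h => ha1 i (congrArg Subtype.val h)⟩⟩
        exact h6
    rw [← h5, zpowers_le]
    exact hB i

section Main

variable {H M : Type*} [Group H] [AddCommGroup M] [DistribMulAction H M] [Finite H]

/-- `A` is trivial on `C_M([N,A])` and faithful on `N` -/
theorem faithful [FaithfulSMul H M] (two : ∀ m : M, m + m = 0) {A N : Subgroup H}
    (hq : ∀ a ∈ A, ∀ b ∈ A, ∀ m : M, a • (b • m - m) = b • m - m) (hNo : Odd (Nat.card N))
    (hAN : ∀ a ∈ A, ∀ f ∈ N, a * f * a⁻¹ ∈ N)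
    (hB : (∀ a ∈ A, ∀ m ∈ brs M (cmm N A), a • m = m) ∨ (∀ a ∈ A, ∀ m ∈ fxs M (cmm N A), a • m = m))
    (hne : ∃ a ∈ A, ∃ f ∈ N, a * f ≠ f * a) :
    ∀ b ∈ A, (∀ f ∈ N, b * f = f * b) → b = 1 := by
  classical
  set P := cmm N A with hP
  have hPF : P ≤ N := cmm_le hAN
  have hPodd : Odd (Nat.card P) := Odd.of_dvd_nat hNo (Subgroup.card_dvd_of_le hPF)
  have key : ∀ U : AddSubgroup M, (∀ f ∈ N, ∀ u ∈ U, f • u ∈ U) → (∀ a ∈ A, ∀ u ∈ U, a • u = u) →
      ∀ k ∈ P, ∀ u ∈ U, k • u = u := by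
    intro U hU1 hU2 k hk u hu
    have : P ≤ MulAction.stabilizer H u := by
      rw [hP, cmm, Subgroup.closure_le]
      rintro _ ⟨f, hf, a, ha, rfl⟩
      change (f * a * f⁻¹ * a⁻¹) • u = u
      have h1 : a⁻¹ • u = u := by rw [inv_smul_eq_iff, hU2 a ha u hu]
      have h2 : f⁻¹ • u ∈ U := hU1 _ (inv_mem hf) u hu
      rw [mul_smul, mul_smul, mul_smul, h1, hU2 a ha _ h2, smul_inv_smul]
    exact this hk
  have hPA : ∀ a ∈ A, ∀ k ∈ P, a * k * a⁻¹ ∈ P := fun a ha k hk =>
    conj_mem_cmm (hAN a ha) (fun b hb => mul_mem (mul_mem ha hb) (inv_mem ha)) hk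
  -- A is nontrivial on [M,P]
  have hA1 : ¬ ∀ a ∈ A, ∀ m ∈ brs M P, a • m = m := by
    intro hcon
    have h1 : ∀ k ∈ P, ∀ u ∈ brs M P, k • u = u := by
      refine key (brs M P) (fun f hf u hu => smul_mem_brs (fun k hk => conj_mem_cmm' hf hk) hu)
        (fun a ha u hu => hcon a ha u hu)
    have h2 : ∀ k ∈ P, k = 1 := by
      intro k hk
      refine FaithfulSMul.eq_of_smul_eq_smul (α := M) fun m => ?_
      have h3 : k • m - m ∈ brs M P := br_le_brs hk (sub_mem_br k m)
      have h4 : k • m - m ∈ fxs M P := mem_fxs.mpr fun g hg => h1 g hg _ h3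
      rw [one_smul]
      exact sub_eq_zero.mp (brs_inf_fxs two hPodd h3 h4)
    obtain ⟨a, ha, f, hf, hne⟩ := hne
    apply hne
    have h3 : f * a * f⁻¹ * a⁻¹ = 1 := h2 _ (Subgroup.subset_closure ⟨f, hf, a, ha, rfl⟩)
    have h4 : f * a = a * f := mul_inv_eq_iff_eq_mul.mp (mul_inv_eq_one.mp h3)
    exact h4.symm
  have hA2 : ∀ a ∈ A, ∀ m ∈ fxs M P, a • m = m := hB.resolve_left hA1
  intro b hb hbN
  refine FaithfulSMul.eq_of_smul_eq_smul (α := M) fun m => ?_
  rw [one_smul]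
  obtain ⟨d, hd, c, hc, rfl⟩ := exists_decomp_sub two hPodd m
  rw [smul_add, hA2 b hb c hc]
  congr 1
  -- `[M,b]` is centralised by `P`
  have hbP : ∀ k ∈ P, b * k * b⁻¹ ∈ P := hPA b hb
  have h1 : b • d - d ∈ brs M P := sub_mem (smul_mem_brs hbP hd) hd
  have h2 : ∀ k ∈ P, ∀ u ∈ br M b, k • u = u := by
    refine key (br M b) ?_ ?_
    · rintro f hf _ ⟨n, rfl⟩
      refine ⟨f • n, ?_⟩
      rw [← mul_smul, hbN f hf, mul_smul, smul_sub]
    · rintro a ha _ ⟨n, rfl⟩
      exact hq a ha b hb n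
  have h3 : b • d - d ∈ fxs M P := mem_fxs.mpr fun k hk => h2 k hk _ ⟨d, rfl⟩
  exact sub_eq_zero.mp (brs_inf_fxs two hPodd h1 h3)

theorem odd_of_mem {N : Subgroup H} (hNo : Odd (Nat.card N)) {x : H} (hx : x ∈ N) : Odd (orderOf x) := by
  have h1 : orderOf (⟨x, hx⟩ : N) ∣ Nat.card N := orderOf_dvd_natCard _
  rw [Subgroup.orderOf_mk] at h1
  exact hNo.of_dvd_nat h1

/-- `Mul c m m'` : `m' = c m` modulo `rad`, for an `F`-structure on `M / rad` which commutes with `H`; `A` centralises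
`rad` -/
structure LinRel (H : Type*) {M F : Type*} [Group H] [AddCommGroup M] [DistribMulAction H M] (A : Subgroup H)
    (rad : AddSubgroup M) (Mul : F → M → M → Prop) : Prop where
  inv : ∀ (x : H), ∀ m ∈ rad, x • m ∈ rad
  cen : ∀ a ∈ A, ∀ m ∈ rad, a • m = m
  ex : ∀ c m, ∃ m', Mul c m m'
  smul : ∀ c m m' (x : H), Mul c m m' → Mul c (x • m) (x • m')
  sub : ∀ c m m' n n', Mul c m m' → Mul c n n' → Mul c (m - n) (m' - n')
  zero : ∀ c m, Mul c 0 m → m ∈ rad
  inj : ∀ c c' m m', Mul c m m' → Mul c' m m' → c ≠ c' → m ∈ rad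

/-- **(E) of #17428, module part**: `A` centralises `N` -/
theorem comm_of [Finite M] [FaithfulSMul H M] (two : ∀ m : M, m + m = 0) {A N : Subgroup H}
    (hq : ∀ a ∈ A, ∀ b ∈ A, ∀ m : M, a • (b • m - m) = b • m - m)
    (hA : Cfsg.IsElementaryAbelian 2 A) (hNs : Group.IsSolvable N) (hNo : Odd (Nat.card N))
    (hAN : ∀ a ∈ A, ∀ f ∈ N, a * f * a⁻¹ ∈ N)
    (hB : (∀ a ∈ A, ∀ m ∈ brs M (cmm N A), a • m = m) ∨ (∀ a ∈ A, ∀ m ∈ fxs M (cmm N A), a • m = m))
    {lam E : AddSubgroup M} (hlam : ∀ a ∈ A, ∀ v ∈ lam, a • v = v)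
    (hE : ∀ a ∈ A, ∀ m ∈ E, a • m - m ∈ lam) (hEi : E.index ≤ Nat.card A)
    (hst : ∀ x : H, (∀ v ∈ lam, x • v = v) → ∀ a ∈ A, x * a * x⁻¹ ∈ A)
    {F : Type*} {Mul : F → M → M → Prop} {rad : AddSubgroup M} (L : LinRel H A rad Mul)
    (hlin : ∀ u ∈ lam, u ≠ 0 → ∀ v ∈ lam, ∃ c : F, Mul c u v)
    (hF : 4 ≤ Nat.card F) (hA4 : 2 < Nat.card A) :
    ∀ a ∈ A, ∀ f ∈ N, a * f = f * a := by
  classical
  by_contra hcon
  push Not at hcon
  obtain ⟨a0, ha0, f0, hf0, hne0⟩ := hcon
  have hf := faithful two hq hNo hAN hB ⟨a0, ha0, f0, hf0, hne0⟩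
  -- the rank
  have hA2 : ∀ b ∈ A, b * b = 1 := fun b hb => by rw [← pow_two]; exact hA.2 b hb
  have hAp : IsPGroup 2 A := fun g => ⟨1, Subtype.ext (by
    rw [pow_one, Subgroup.coe_pow, pow_two]; exact hA2 _ g.2)⟩
  obtain ⟨d, hAd⟩ : ∃ d : ℕ, Nat.card A = 2 ^ d := IsPGroup.iff_card.mp hAp
  have hd2 : 2 ≤ d := by
    by_contra hlt
    push Not at hlt
    interval_cases d
    · rw [hAd] at hA4; norm_num at hA4
    · rw [hAd] at hA4; norm_num at hA4
  obtain ⟨a, x, ha, hx, hx1, hinv, hcom, hgen⟩ := exists_dih hNs hNo hA (by omega) hAd hAN hf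
  have hxo : ∀ i, Odd (orderOf (x i)) := fun i => odd_of_mem hNo (hx i)
  -- `a j` is trivial on `[M, x i]`
  have htr : ∀ i j, i ≠ j → ∀ m ∈ br M (x i), a j • m = m := fun i j hij m hm =>
    triv_on_br two (hxo i) (hinv i) (fun m => hq _ (ha i) _ (ha j) m) (hcom j i (Ne.symm hij)) hm
  -- `x i` fixes no vector of `lam`
  have hfix : ∀ i, ∀ v ∈ lam, x i • v = v → v = 0 := by
    intro i v hv hxv
    by_contra hv0
    have h1 : ∀ w ∈ lam, x i • w - w ∈ rad := by
      intro w hw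
      obtain ⟨c, hc⟩ := hlin v hv hv0 w hw
      have h2 := L.sub _ _ _ _ _ (L.smul _ _ _ (x i) hc) hc
      rw [hxv, sub_self] at h2
      exact L.zero _ _ h2
    have h2 : ∀ w ∈ lam, x i • w = w := by
      intro w hw
      have h3 : a i • (x i • w) = x i • w := by
        have h4 := L.cen _ (ha i) _ (h1 w hw)
        rw [smul_sub, hlam _ (ha i) w hw] at h4
        exact sub_left_inj.mp h4
      rw [inv_smul_of_inv (hinv i) (hlam _ (ha i) w hw)] at h3
      refine fix_of_sq (hxo i) ?_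
      rw [← h3, smul_inv_smul]
    have h5 := hst (x i) h2 (a i) (ha i)
    have h6 : x i * a i * (x i)⁻¹ = x i * x i * a i := by
      have h8 : a i * (x i)⁻¹ = x i * a i := mul_inv_eq_iff_eq_mul.mp (inv_symm (hinv i))
      rw [mul_assoc, h8, mul_assoc]
    have h7 : x i * x i ∈ A := by
      have : x i * x i = x i * a i * (x i)⁻¹ * (a i)⁻¹ := by rw [h6]; group
      rw [this]
      exact mul_mem h5 (inv_mem (ha i))
    have h8 := hA2 _ h7
    have h9 : (x i) ^ 4 = 1 := by
      rw [show (4 : ℕ) = 2 + 2 from rfl, pow_add, pow_two]; exact h8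
    have h10 : orderOf (x i) ∣ 4 := orderOf_dvd_of_pow_eq_one h9
    have h11 : Nat.Coprime (orderOf (x i)) 4 := by
      have h12 : Nat.Coprime (orderOf (x i)) 2 := (Nat.coprime_two_right).mpr (hxo i)
      exact Nat.Coprime.mul_right h12 h12
    have h12 : orderOf (x i) = 1 := Nat.Coprime.eq_one_of_dvd h11 h10
    exact hx1 i (orderOf_eq_one_iff.mp h12)
  -- `a j` is trivial on `E`
  have hEa : ∀ j, ∀ m ∈ E, a j • m = m := by
    intro j m hm
    obtain ⟨i, hij⟩ : ∃ i : Fin d, i ≠ j := by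
      have : Nontrivial (Fin d) := Fin.nontrivial_iff_two_le.mpr hd2
      exact exists_ne j
    have h1 : a j • m - m ∈ lam := hE _ (ha j) m hm
    have h2 : x i • (a j • m - m) = a j • m - m := by
      obtain ⟨m1, hm1, m2, hm2, rfl⟩ := exists_decomp two (hxo i) m
      have h3 : a j • (m1 + m2) - (m1 + m2) = a j • m2 - m2 := by
        rw [smul_add, htr i j hij m1 hm1]; abel
      rw [h3, smul_sub, ← mul_smul, ← hcom j i (Ne.symm hij), mul_smul, mem_fx.mp hm2]
    exact sub_eq_zero.mp (hfix i _ h1 h2)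
  -- the commutator map
  let Θ : M →+ (Fin d → M) :=
    { toFun := fun m i => a i • m - m
      map_zero' := by funext i; simp
      map_add' := fun m n => by funext i; simp only [smul_add, Pi.add_apply]; abel }
  have hEker : E ≤ Θ.ker := by
    intro m hm
    rw [AddMonoidHom.mem_ker]
    funext i
    exact sub_eq_zero.mpr (hEa i m hm)
  have hup : Nat.card Θ.range ≤ 2 ^ d := by
    rw [← AddSubgroup.index_ker]
    have h1 : Θ.ker.index ≤ E.index := Nat.le_of_dvd (Nat.pos_of_ne_zero E.index_ne_zero_of_finite)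
      (AddSubgroup.index_dvd_of_le hEker)
    rw [← hAd]
    exact h1.trans hEi
  -- lower bound
  let Z : Fin d → Set M := fun i => {z | ∃ m ∈ br M (x i), a i • m - m = z}
  have hZ : ∀ i, Nat.card F ≤ Nat.card (Z i) := by
    intro i
    -- a nonzero value
    obtain ⟨n, hn⟩ : ∃ n : M, a i • (x i • n - n) - (x i • n - n) ∉ rad := by
      by_contra hcon
      push Not at hcon
      have h1 : ∀ m ∈ br M (x i), a i • m - m ∈ rad := by
        rintro _ ⟨n, rfl⟩
        exact hcon n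
      have h2 : ∀ m ∈ br M (x i), (x i) • (x i) • m - m ∈ rad := by
        intro m hm
        have e1 : a i • (x i • m) = (x i)⁻¹ • (a i • m) := by
          rw [← mul_smul, ← mul_smul, conj_eq_of_inv (hinv i)]
        have e2 := L.inv (x i) _ (h1 _ (smul_mem_br_self hm))
        rw [smul_sub, e1, smul_inv_smul] at e2
        have e3 := sub_mem (h1 m hm) e2
        have e4 : a i • m - m - (a i • m - x i • x i • m) = x i • x i • m - m := by abel
        rwa [e4] at e3
      have h4 : ∀ m ∈ br M (x i), x i • x i • m = m := by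
        intro m hm
        have h5 : x i • x i • m - m ∈ br M (x i) := sub_mem (smul_mem_br_self (smul_mem_br_self hm)) hm
        have h8 : x i • (x i • x i • m - m) = x i • x i • m - m := by
          have e1 := L.cen _ (ha i) _ (h2 m hm)
          have e2 := L.cen _ (ha i) _ (L.inv (x i) _ (h2 m hm))
          rw [inv_smul_of_inv (hinv i) e1] at e2
          refine fix_of_sq (hxo i) ?_
          rw [← e2, smul_inv_smul]
        exact sub_eq_zero.mp (br_inf_fx two (hxo i) h5 h8)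
      exact hx1 i (eq_one_of_fix two (hxo i) fun m hm => fix_of_sq (hxo i) (h4 m hm))
    have hval : ∀ c : F, ∃ z ∈ Z i, Mul c (a i • (x i • n - n) - (x i • n - n)) z := by
      intro c
      obtain ⟨n', hn'⟩ := L.ex c n
      refine ⟨a i • (x i • n' - n') - (x i • n' - n'), ⟨_, sub_mem_br _ _, rfl⟩, ?_⟩
      have h1 := L.sub _ _ _ _ _ (L.smul _ _ _ (x i) hn') hn'
      exact L.sub _ _ _ _ _ (L.smul _ _ _ (a i) h1) h1
    choose z hz hzw using hval
    have hinj : Function.Injective (fun c : F => (⟨z c, hz c⟩ : Z i)) := by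
      intro c c' e
      have h1 : z c = z c' := congrArg Subtype.val e
      by_contra hne
      exact hn (L.inj c c' _ _ (hzw c) (h1 ▸ hzw c') hne)
    exact Nat.card_le_card_of_injective _ hinj
  have hlow : Nat.card F ^ d ≤ Nat.card Θ.range := by
    have h1 : Nat.card F ^ d ≤ Nat.card (∀ i, Z i) := by
      rw [Nat.card_pi]
      calc Nat.card F ^ d = ∏ _i : Fin d, Nat.card F := by simp
        _ ≤ ∏ i : Fin d, Nat.card (Z i) := Finset.prod_le_prod' fun i _ => hZ i
    refine h1.trans ?_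
    have h2 : ∀ g : (∀ i, Z i), (fun i => ((g i : Z i) : M)) ∈ Θ.range := by
      intro g
      choose m hm hmz using fun i => (g i).2
      refine ⟨∑ j, m j, ?_⟩
      funext i
      change a i • (∑ j, m j) - (∑ j, m j) = ((g i : Z i) : M)
      rw [Finset.smul_sum, ← Finset.sum_sub_distrib]
      rw [Finset.sum_eq_single i]
      · exact hmz i
      · intro j _ hji
        rw [htr j i hji _ (hm j), sub_self]
      · intro h; exact absurd (Finset.mem_univ i) h
    refine Nat.card_le_card_of_injective (fun g => (⟨_, h2 g⟩ : Θ.range)) ?_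
    intro g g' e
    have h3 := congrArg Subtype.val e
    funext i
    exact Subtype.ext (congrFun h3 i)
  have h1 : 4 ^ d ≤ 2 ^ d := (Nat.pow_le_pow_left hF d).trans (hlow.trans hup)
  have h2 : 2 ^ d < 4 ^ d := Nat.pow_lt_pow_left (by norm_num) (by omega)
  omega

end Main

end Cfsg.Agent.Omega.NO3S.OneQ.FitQ
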