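import Cfsg.Agent.Omega.NO3S.OneQ.Base
import Cfsg.Agent.Omega.NO3S.OneLine.Abs

/-!
# NO-3S, natural lines, critical distance 1 (`OneQ`): `Y_l` and FIX (bb OMEGA #17428 (A), (B))

* `yl V Z = ⟨K_X ∩ C_G(V) : X a point of V⟩`; `One.comm_yl` : `[X_l, C_G(V)] ≤ Y_l`;
* `One.max_C` : `B ∩ C_G(V)` is a Sylow 2-subgroup of `C_G(V)`; `One.exists_norm` : `X_l = Y_l N_{X_l}(B ∩ C_G(V))`;
* `One.fix` (FIX) : `f ∈ I`, `[f, C_B(V)] ≤ Z` implies `f ∈ V`;
* `One.fix_sub` : a `B`-invariant subgroup `D` with `D ∩ I ≰ Z` contains an element of `V - Z`.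
-/

set_option autoImplicit false
set_option linter.unusedSectionVars false

namespace Cfsg.Agent.Omega.NO3S.OneQ

open Subgroup Cfsg.Agent.Omega.NO3S.PT Cfsg.Agent.Omega.NoFF.Basic
open scoped Pointwise

variable {G : Type*} [Group G]

/-- `Y_l` -/
def yl (V Z : Subgroup G) : Subgroup G :=
  sSup {K | ∃ Y, Pnt V Z Y ∧ K = kx V Y ⊓ centralizer (V : Set G)}

theorem le_yl {V Z Y : Subgroup G} (hY : Pnt V Z Y) : kx V Y ⊓ centralizer (V : Set G) ≤ yl V Z :=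
  le_sSup ⟨Y, hY, rfl⟩

theorem mem_yl_of {V Z Y : Subgroup G} (hY : Pnt V Z Y) {k : G} (hk : k ∈ kx V Y)
    (hkV : k ∈ centralizer (V : Set G)) : k ∈ yl V Z := le_yl hY ⟨hk, hkV⟩

theorem yl_le_cent (V Z : Subgroup G) : yl V Z ≤ centralizer (V : Set G) := by
  refine sSup_le ?_
  rintro _ ⟨Y, -, rfl⟩
  exact inf_le_right

theorem yl_le_XV (V Z : Subgroup G) : yl V Z ≤ XV V Z := by
  refine sSup_le ?_
  rintro _ ⟨Y, hY, rfl⟩
  exact inf_le_left.trans (le_XV hY.cj hY.le)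

theorem norm_yl (V Z : Subgroup G) : normalizer (V : Set G) ≤ normalizer ((yl V Z : Subgroup G) : Set G) := by
  have key : ∀ g ∈ normalizer (V : Set G), PT.cj g (yl V Z) ≤ yl V Z := by
    intro g hg
    rw [cj_le_iff]
    refine sSup_le ?_
    rintro _ ⟨Y, hY, rfl⟩
    rw [le_cj_iff, inv_inv, cj_inf, ← kx_cj, cj_centralizer, cj_eq_iff.2 hg]
    exact le_yl (hY.conj hg)
  intro g hg
  rw [← cj_eq_iff]
  refine le_antisymm (key g hg) ?_
  rw [le_cj_iff]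
  exact key _ (inv_mem hg)

theorem mem_sup_norm {A B : Subgroup G} (h : A ≤ normalizer (B : Set G)) {x : G} (hx : x ∈ A ⊔ B) :
    ∃ a ∈ A, ∃ b ∈ B, x = a * b := by
  have h1 : x ∈ ((A ⊔ B : Subgroup G) : Set G) := hx
  rw [Subgroup.coe_mul_of_left_le_normalizer_right A B h] at h1
  obtain ⟨a, ha, b, hb, rfl⟩ := Set.mem_mul.1 h1
  exact ⟨a, ha, b, hb, rfl⟩

/-- two maximal 2-subgroups of `H` are conjugate -/
theorem conj_of_max [Finite G] {H A B : Subgroup G} (hA : A ≤ H) (hB : B ≤ H) (pA : IsPGroup 2 A) (pB : IsPGroup 2 B)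
    (mA : ∀ T ≤ H, IsPGroup 2 T → A ≤ T → T ≤ A) (mB : ∀ T ≤ H, IsPGroup 2 T → B ≤ T → T ≤ B) :
    ∃ h ∈ H, PT.cj h A = B := by
  have : Fact (Nat.Prime 2) := ⟨Nat.prime_two⟩
  have key : ∀ {A : Subgroup G}, A ≤ H → IsPGroup 2 A → (∀ T ≤ H, IsPGroup 2 T → A ≤ T → T ≤ A) →
      ∃ T : Sylow 2 H, (T : Subgroup H).map H.subtype = A := by
    intro A hA pA mA
    obtain ⟨T, hT⟩ := (pA.comap_subtype (K := H)).exists_le_sylow
    refine ⟨T, le_antisymm ?_ ?_⟩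
    · refine mA _ (by rintro _ ⟨x, -, rfl⟩; exact x.2) (T.isPGroup'.map _) ?_
      intro a ha
      exact ⟨⟨a, hA ha⟩, hT ha, rfl⟩
    · intro a ha
      exact ⟨⟨a, hA ha⟩, hT ha, rfl⟩
  obtain ⟨T, rfl⟩ := key hA pA mA
  obtain ⟨U, rfl⟩ := key hB pB mB
  obtain ⟨h, hh⟩ := MulAction.exists_smul_eq H T U
  refine ⟨h, h.2, ?_⟩
  rw [← hh]
  ext x
  rw [mem_cj]
  constructor
  · rintro ⟨y, hy, hyx⟩
    refine ⟨h * y * h⁻¹, ?_, ?_⟩
    · rw [Sylow.coe_subgroup_smul]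
      exact ⟨y, hy, rfl⟩
    · have h1 : (H.subtype y : G) = (h : G)⁻¹ * x * h := hyx
      rw [map_mul, map_mul, h1]
      simp [mul_assoc]
  · rintro ⟨y, hy, rfl⟩
    rw [Sylow.coe_subgroup_smul] at hy
    obtain ⟨z, hz, rfl⟩ := hy
    refine ⟨z, hz, ?_⟩
    show (z : G) = (h : G)⁻¹ * ((h * z * h⁻¹ : H) : G) * h
    simp [mul_assoc]

namespace One

variable [Finite G] {S : Sylow 2 G} {B P V Z : Subgroup G} (h : One S B P V Z)
include h

theorem S_norm_V : (S : Subgroup G) ≤ normalizer (V : Set G) := h.pl.SP.trans h.pl.PN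

theorem B_norm_V : B ≤ normalizer (V : Set G) := h.pl.BS.trans h.S_norm_V

theorem B_le_C : B ≤ centralizer (Z : Set G) := by
  intro s hs
  rw [mem_centralizer_iff]
  exact fun z hz => (h.pl.cen z hz s hs).symm

theorem B_norm_Z : B ≤ normalizer (Z : Set G) := h.B_le_C.trans (centralizer_le_normalizer _)

/-- `B` is a Sylow 2-subgroup of `C_G(Z)` -/
theorem max_B {T : Subgroup G} (hT : T ≤ centralizer (Z : Set G)) (pT : IsPGroup 2 T) (hBT : B ≤ T) : T ≤ B := by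
  obtain ⟨n, hn, hTn⟩ := h.pl.exists_le_conjB h.pl.SN le_rfl pT (hT.trans (centralizer_le_normalizer _)) hT
  have h2 : Nat.card T ≤ Nat.card B := by
    rw [← card_cj n B]
    exact Subgroup.card_le_of_le hTn
  exact (Subgroup.eq_of_le_of_card_ge hBT h2).ge

/-- the same for conjugates -/
theorem max_B' {T : Subgroup G} {n : G} (hn : PT.cj n Z = Z) (hT : T ≤ centralizer (Z : Set G)) (pT : IsPGroup 2 T)
    (hBT : PT.cj n B ≤ T) : T ≤ PT.cj n B := by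
  rw [le_cj_iff]
  refine h.max_B ?_ (pT.map _) (by rw [le_cj_iff, inv_inv]; exact hBT)
  rw [cj_le_iff, inv_inv, cj_centralizer, hn]
  exact hT

theorem isP_B : IsPGroup 2 B := S.isPGroup'.to_le h.pl.BS

/-- `[X_l, C_G(V)] ≤ Y_l` -/
theorem comm_yl {g c : G} (hg : g ∈ XV V Z) (hc : c ∈ centralizer (V : Set G)) : g * c * g⁻¹ * c⁻¹ ∈ yl V Z := by
  let E : Subgroup G :=
    { carrier := {g | g ∈ normalizer (V : Set G) ∧ ∀ c ∈ centralizer (V : Set G), g * c * g⁻¹ * c⁻¹ ∈ yl V Z}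
      one_mem' := ⟨one_mem _, fun c _ => by
        have : (1 : G) * c * 1⁻¹ * c⁻¹ = 1 := by group
        rw [this]; exact one_mem _⟩
      mul_mem' := by
        rintro a b ⟨ha, ha'⟩ ⟨hb, hb'⟩
        refine ⟨mul_mem ha hb, fun c hc => ?_⟩
        have e : a * b * c * (a * b)⁻¹ * c⁻¹ = a * (b * c * b⁻¹ * c⁻¹) * a⁻¹ * (a * c * a⁻¹ * c⁻¹) := by group
        rw [e]
        exact mul_mem ((mem_normalizer_iff.1 (norm_yl V Z ha) _).1 (hb' c hc)) (ha' c hc)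
      inv_mem' := by
        rintro a ⟨ha, ha'⟩
        refine ⟨inv_mem ha, fun c hc => ?_⟩
        have e : a⁻¹ * c * a⁻¹⁻¹ * c⁻¹ = a⁻¹ * (a * c * a⁻¹ * c⁻¹)⁻¹ * a⁻¹⁻¹ := by group
        rw [e]
        exact (mem_normalizer_iff.1 (norm_yl V Z (inv_mem ha)) _).1 (inv_mem (ha' c hc)) }
  have key : XV V Z ≤ E := by
    refine sSup_le ?_
    rintro _ ⟨Y, hY, hYV, rfl⟩
    intro k hk
    have hY' : Pnt V Z Y := ⟨hY, hYV⟩
    have hkN := h.K_norm hY' hk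
    refine ⟨hkN, fun c hc => mem_yl_of hY' ?_ ?_⟩
    · have h1 : c * k⁻¹ * c⁻¹ ∈ kx V Y := (mem_normalizer_iff.1 (h.cent_norm_K hY' hc) _).1 (inv_mem hk)
      have e : k * c * k⁻¹ * c⁻¹ = k * (c * k⁻¹ * c⁻¹) := by group
      rw [e]
      exact mul_mem hk h1
    · have h1 : k * c * k⁻¹ ∈ centralizer (V : Set G) := by
        have h2 : PT.cj k (centralizer (V : Set G)) = centralizer (V : Set G) := by
          rw [cj_centralizer, cj_eq_iff.2 hkN]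
        rw [← h2]
        exact conj_mem_cj hc
      exact mul_mem h1 (inv_mem hc)
  exact (key hg).2 c hc

/-- `|C_G(Z) : B|` is odd -/
theorem B_index : ¬ 2 ∣ B.relIndex (centralizer (Z : Set G)) := by
  have : Fact (Nat.Prime 2) := ⟨Nat.prime_two⟩
  obtain ⟨T, hT⟩ := (h.isP_B.comap_subtype (K := centralizer (Z : Set G))).exists_le_sylow
  have h1 : (T : Subgroup (centralizer (Z : Set G))) = B.subgroupOf (centralizer (Z : Set G)) := by
    refine le_antisymm (fun x hx => ?_) hT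
    have h2 : (T : Subgroup (centralizer (Z : Set G))).map (centralizer (Z : Set G)).subtype ≤ B := by
      refine h.max_B (by rintro _ ⟨x, -, rfl⟩; exact x.2) (T.isPGroup'.map _) ?_
      intro b hb
      exact ⟨⟨b, h.B_le_C hb⟩, hT hb, rfl⟩
    exact h2 ⟨x, hx, rfl⟩
  rw [relIndex, ← h1]
  exact T.not_dvd_index

theorem S_inf : (S : Subgroup G) ⊓ centralizer (V : Set G) = B ⊓ centralizer (V : Set G) := by
  refine le_antisymm ?_ (inf_le_inf_right _ h.pl.BS)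
  rintro s ⟨hs, hsV⟩
  exact ⟨h.pl.mem_B s hs fun z hz => h.cent_V hsV (h.pl.ZV hz), hsV⟩

/-- `B ∩ C_G(V)` is a Sylow 2-subgroup of `C_G(V)` -/
theorem max_C {T : Subgroup G} (hT : T ≤ centralizer (V : Set G)) (pT : IsPGroup 2 T)
    (hCT : B ⊓ centralizer (V : Set G) ≤ T) : T ≤ B ⊓ centralizer (V : Set G) := by
  obtain ⟨n, hn, hTn⟩ := exists_le_conj h.S_norm_V pT (hT.trans (centralizer_le_normalizer _))
  have h1 : T ≤ PT.cj n (B ⊓ centralizer (V : Set G)) := by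
    rw [← h.S_inf, cj_inf, cj_centralizer, cj_eq_iff.2 hn]
    exact le_inf hTn hT
  have h2 : Nat.card T ≤ Nat.card (B ⊓ centralizer (V : Set G) : Subgroup G) := by
    rw [← card_cj n (B ⊓ centralizer (V : Set G))]
    exact Subgroup.card_le_of_le h1
  exact (Subgroup.eq_of_le_of_card_ge hCT h2).ge

theorem isP_C : IsPGroup 2 (B ⊓ centralizer (V : Set G) : Subgroup G) :=
  h.isP_B.to_le inf_le_left

/-- a 2-subgroup of `C_G(V)` normalised by `C_G(V)` lies in `B` -/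
theorem le_B_of {T : Subgroup G} (hT : T ≤ centralizer (V : Set G)) (pT : IsPGroup 2 T)
    (hTn : centralizer (V : Set G) ≤ normalizer (T : Set G)) : T ≤ B := by
  have hn : B ⊓ centralizer (V : Set G) ≤ normalizer (T : Set G) := inf_le_right.trans hTn
  have h1 := h.isP_C.to_sup_of_normal_right' pT hn
  exact (le_sup_right.trans (h.max_C (sup_le inf_le_right hT) h1 le_sup_left)).trans inf_le_left

/-- `W_X ≤ B` for every point `X` of `V` -/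
theorem W_le_B {X : Subgroup G} (hX : Pnt V Z X) : ws V X ≤ B := by
  refine h.le_B_of (h.W_le_cent hX) (fun w => ⟨1, ?_⟩) (h.cent_norm_W hX)
  rw [pow_one, pow_two]
  exact Subtype.ext (h.sq_W hX w.2)

/-- `X_l = Y_l N(B ∩ C_G(V))` -/
theorem exists_norm {g : G} (hg : g ∈ XV V Z) : ∃ n ∈ XV V Z, n * g⁻¹ ∈ yl V Z ∧
    n ∈ normalizer ((B ⊓ centralizer (V : Set G) : Subgroup G) : Set G) := by
  set C : Subgroup G := B ⊓ centralizer (V : Set G) with hC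
  have hgN : g ∈ normalizer (V : Set G) := h.pl.XV_le_N hg
  have hCc : C ≤ centralizer (V : Set G) := inf_le_right
  have hCN : C ≤ normalizer ((yl V Z : Subgroup G) : Set G) :=
    (hCc.trans (centralizer_le_normalizer _)).trans (norm_yl V Z)
  have hgc : PT.cj g (centralizer (V : Set G)) = centralizer (V : Set G) := by
    rw [cj_centralizer, cj_eq_iff.2 hgN]
  have hHc : yl V Z ⊔ C ≤ centralizer (V : Set G) := sup_le (yl_le_cent V Z) hCc
  have hg1 : PT.cj g C ≤ yl V Z ⊔ C := by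
    intro x hx
    rw [mem_cj] at hx
    have h1 := h.comm_yl hg (hCc hx)
    have e : x = (g * (g⁻¹ * x * g) * g⁻¹ * (g⁻¹ * x * g)⁻¹) * (g⁻¹ * x * g) := by group
    rw [e]
    exact mul_mem_sup h1 hx
  obtain ⟨a, ha, hab⟩ : ∃ a ∈ yl V Z ⊔ C, PT.cj a (PT.cj g C) = C := by
    refine conj_of_max hg1 le_sup_right ?_ h.isP_C ?_ ?_
    · exact (h.isP_C).map _
    · intro T hT pT hCT
      rw [le_cj_iff]
      refine h.max_C ?_ (pT.map _) (by rw [le_cj_iff, inv_inv]; exact hCT)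
      rw [cj_le_iff, inv_inv, hgc]
      exact hT.trans hHc
    · intro T hT pT hCT
      exact h.max_C (hT.trans hHc) pT hCT
  rw [sup_comm] at ha
  obtain ⟨c, hc, y, hy, rfl⟩ := mem_sup_norm hCN ha
  refine ⟨y * g, mul_mem (yl_le_XV V Z hy) hg, by rwa [mul_inv_cancel_right], ?_⟩
  rw [← cj_eq_iff]
  have h1 : PT.cj c⁻¹ (PT.cj (c * y) (PT.cj g C)) = PT.cj c⁻¹ C := by rw [hab]
  rw [cj_cj, cj_cj, cj_eq_iff.2 (le_normalizer (inv_mem hc))] at h1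
  have e : c⁻¹ * (c * y) * g = y * g := by group
  rwa [e] at h1

/-- **(FIX)** -/
theorem fix {f : G} (hf : f ∈ IV V Z) (hfS : ∀ s ∈ B, s ∈ centralizer (V : Set G) →
    s * f * s⁻¹ * f⁻¹ ∈ Z) : f ∈ V := by
  obtain ⟨Y, hY, hYZ⟩ := h.exists_ne h.self
  obtain ⟨g, hg, -, hgZ, -⟩ := h.pl.swap h.hf h.self.cj h.self.le hY.cj hY.le
  obtain ⟨n, hn, hng, hnC⟩ := h.exists_norm hg
  have hnN := h.pl.XV_le_N hn
  have hnZ : PT.cj n Z = Y := by
    have e : n = n * g⁻¹ * g := by group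
    rw [e, ← cj_cj, hgZ]
    exact h.cent_fix hY (yl_le_cent V Z hng)
  have hfV : f ∈ centralizer (V : Set G) := h.I_le_cent hf
  -- `[f, C_S(V)] ≤ Y` too
  have key : ∀ s ∈ B, s ∈ centralizer (V : Set G) → s * f * s⁻¹ * f⁻¹ ∈ Y := by
    intro s hs hsV
    have h1 : n⁻¹ * s * n ∈ B ⊓ centralizer (V : Set G) := by
      have := (mem_normalizer_iff.1 (inv_mem hnC) s).1 ⟨hs, hsV⟩
      rwa [inv_inv] at this
    have h2 := hfS _ h1.1 h1.2
    have h3 : n * (n⁻¹ * s * n * f * (n⁻¹ * s * n)⁻¹ * f⁻¹) * n⁻¹ ∈ Y := by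
      rw [← hnZ]
      exact conj_mem_cj h2
    have hv := h.pl.XV_act hn hf
    have h4 : s * (n * f * n⁻¹ * f⁻¹) = n * f * n⁻¹ * f⁻¹ * s := h.cent_V hsV hv
    have h5 := hfS s hs hsV
    have h6 : (n * f * n⁻¹ * f⁻¹) * (s * f * s⁻¹ * f⁻¹) = s * f * s⁻¹ * f⁻¹ * (n * f * n⁻¹ * f⁻¹) :=
      h.pl.Vcomm hv (h.pl.ZV h5)
    have e1 : n * (n⁻¹ * s * n * f * (n⁻¹ * s * n)⁻¹ * f⁻¹) * n⁻¹ = s * (n * f * n⁻¹ * f⁻¹) * f * s⁻¹ *
      f⁻¹ * (n * f * n⁻¹ * f⁻¹)⁻¹ := by group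
    rw [e1, h4] at h3
    have e2 : n * f * n⁻¹ * f⁻¹ * s * f * s⁻¹ * f⁻¹ * (n * f * n⁻¹ * f⁻¹)⁻¹ = s * f * s⁻¹ * f⁻¹ := by
      have e3 : n * f * n⁻¹ * f⁻¹ * s * f * s⁻¹ * f⁻¹ = (n * f * n⁻¹ * f⁻¹) * (s * f * s⁻¹ * f⁻¹) := by group
      rw [e3, h6, mul_inv_cancel_right]
    rwa [e2] at h3
  refine h.hO f (h.pl.ws_le_B (h.pl.IV_le_ws hf)) hfV (h.pl.IV_sq hf) fun s hs hsV => ?_
  have h7 : s * f * s⁻¹ * f⁻¹ ∈ Z ⊓ Y := ⟨hfS s hs hsV, key s hs hsV⟩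
  rw [h.pl.pts_inf h.self.cj hY.cj hYZ.symm, mem_bot, mul_inv_eq_one, mul_inv_eq_iff_eq_mul] at h7
  exact h7

/-- **(FIX)** for subgroups -/
theorem fix_sub {D : Subgroup G} (hD : D ≤ IV V Z) (hDS : B ≤ normalizer (D : Set G)) (hDZ : ¬ D ≤ Z) :
    ∃ v ∈ D, v ∈ V ∧ v ∉ Z := by
  obtain ⟨f, hf, hfZ, hfS⟩ := OneLine.exists_fixed h.isP_B (hD.trans (h.pl.IV_le_ws.trans h.pl.ws_le_B)) hDS hDZ
  exact ⟨f, hf, h.fix (hD hf) fun s hs _ => hfS s hs, hfZ⟩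

end One

end Cfsg.Agent.Omega.NO3S.OneQ
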