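import Cfsg.Agent.Omega.NO3S.OneQ.KOneTIG

/-!
# NO-3S, `OneSz` (`q ≥ 4`, `n = 1`), case (N): THEOREM P at all line vectors

* `Co.PreI.A_ne_all` : `A l ≠ A m` for different points `l`, `m`
* **`Co.PreI.fold`** : `A m ≤ A l` is impossible
-/

set_option autoImplicit false
set_option linter.unusedSectionVars false

namespace Cfsg.Agent.Omega.NO3S.OneQ

open Subgroup Cfsg.Agent.Omega.NO3S.PT Cfsg.Agent.Omega.NoFF.Basic
open scoped Pointwise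

universe u

variable {G : Type u} [Group G]

namespace Co

variable [Finite G] {F : Type*} [Field F] [CharP F 2] {S : Sylow 2 G} {B P V Z : Subgroup G} {h : Co F S B P V Z}

namespace PreI

variable {H : Type*} [Group H] [DistribMulAction H h.MF] {ρ : centralizer (Z : Set G) →* H}
    {L : Set h.MF} {A : h.MF → Subgroup H} {I : h.MF → Submodule F h.MF} {al : h.MF → h.MF → H}
    {Kt : h.MF → Subgroup H} (i : h.PreI ρ L A I al Kt)
include i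

theorem mem_A_smul {g : H} {l : h.MF} (hl : l ∈ L) (hgl : g • l ∈ L) {x : H} :
    x ∈ A (g • l) ↔ g⁻¹ * x * g ∈ A l := by
  constructor
  · intro hx
    have := i.pre.A_conj g⁻¹ hgl hx
    rwa [inv_smul_smul, inv_inv] at this
  · intro hx
    have := i.pre.A_conj g hl hx
    have e : g * (g⁻¹ * x * g) * g⁻¹ = x := by group
    rwa [e] at this

/-- **THEOREM P** -/
theorem A_ne_all (hNN : NN V Z) (hK : Ker ρ V) {l m : h.MF} (hl : l ∈ L) (hm : m ∈ L) (hnp : TIq.NP F l m) :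
    A l ≠ A m := by
  intro hA
  obtain ⟨g, c, hc, rfl⟩ := i.orbit l hl
  obtain ⟨k, d, hd, rfl⟩ := i.orbit m hm
  have hg := i.smul_mem g _ i.v0_mem
  have hk := i.smul_mem k _ i.v0_mem
  rw [i.pre.A_sm hc hg, i.pre.A_sm hd hk] at hA
  have e1 : ρ (g⁻¹ * k) • h.v0 = (ρ g)⁻¹ • ρ k • h.v0 := by rw [map_mul, map_inv, mul_smul]
  have hgk : ρ (g⁻¹ * k) • h.v0 ∈ L := i.smul_mem _ _ i.v0_mem
  refine i.A_ne hNN hK (g⁻¹ * k).2 (c := ((g⁻¹ * k : centralizer (Z : Set G)) : G)) ?_ ?_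
  · intro t ht
    have ht' : ρ (g⁻¹ * k) • h.v0 = t • h.v0 := ht
    rw [e1, inv_smul_eq_iff, i.pre.lin] at ht'
    apply hnp (d * t * c⁻¹)
    rw [ht', smul_smul, smul_smul, mul_assoc, inv_mul_cancel₀ hc, mul_one]
  · show A h.v0 = A (ρ (g⁻¹ * k) • h.v0)
    rw [e1]
    ext x
    rw [i.mem_A_smul hk (by rw [← e1]; exact hgk), inv_inv, ← hA, i.mem_A_smul i.v0_mem hg]
    have e2 : (ρ g)⁻¹ * (ρ g * x * (ρ g)⁻¹) * ρ g = x := by group
    rw [e2]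

/-- `|A l| = |A m|` -/
theorem A_eq_of_le [Finite H] {l m : h.MF} (hl : l ∈ L) (hm : m ∈ L) (hA : A m ≤ A l) : A l = A m := by
  refine (eq_of_le_of_card_ge hA ?_).symm
  obtain ⟨g, c, hc, rfl⟩ := i.orbit l hl
  obtain ⟨k, d, hd, rfl⟩ := i.orbit m hm
  have hg := i.smul_mem g _ i.v0_mem
  have hk := i.smul_mem k _ i.v0_mem
  rw [i.pre.A_sm hc hg, i.pre.A_sm hd hk]
  have e : ρ k • h.v0 = (ρ k * (ρ g)⁻¹) • ρ g • h.v0 := by rw [mul_smul, inv_smul_smul]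
  rw [e]
  rw [e] at hk
  refine Nat.card_le_card_of_injective
    (fun a : A (ρ g • h.v0) => (⟨ρ k * (ρ g)⁻¹ * a * (ρ k * (ρ g)⁻¹)⁻¹, i.pre.A_conj _ hg a.2⟩ :
      A ((ρ k * (ρ g)⁻¹) • ρ g • h.v0))) ?_
  intro a b hab
  exact Subtype.ext (by simpa using congrArg Subtype.val hab)

/-- **LEMMA PLANE, pure form** : the field `fold` of helper859's `SgB.ti` -/
theorem fold [Finite H] (hNN : NN V Z) (hK : Ker ρ V) {l m : h.MF} (hl : l ∈ L) (hm : m ∈ L)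
    (hnp : TIq.NP F l m) (hA : ∀ a ∈ A m, a ∈ A l) : False :=
  i.A_ne_all hNN hK hl hm hnp (i.A_eq_of_le hl hm hA)

/-- `Ker` from `rd = Z` -/
theorem ker_of_rd (hrd : rd V Z = Z) : Ker ρ V := by
  intro g hg h1 _
  refine mem_kx.2 ⟨fun z hz => ((mem_centralizer_iff.1 hg) z hz).symm, fun w hw => ?_⟩
  have h2 := i.fm_act hg hw
  rw [h1, one_smul, h.fm_eq, hrd] at h2
  have h3 := inv_mem h2
  have e : (w * (g * w * g⁻¹)⁻¹)⁻¹ = g * w * g⁻¹ * w⁻¹ := by group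
  rwa [e] at h3

end PreI

/-- `{g ∈ C_G(Z) | [W_Z, g] ≤ rd, [rd, g] ≤ Z}` -/
def kr (V Z : Subgroup G) : Subgroup G where
  carrier := {g | g ∈ centralizer (Z : Set G) ∧ (∀ w ∈ ws V Z, g * w * g⁻¹ * w⁻¹ ∈ rd V Z) ∧
    ∀ r ∈ rd V Z, g * r * g⁻¹ * r⁻¹ ∈ Z}
  one_mem' := ⟨one_mem _, fun w _ => by rw [one_mul, inv_one, mul_one, mul_inv_cancel]; exact one_mem _,
    fun r _ => by rw [one_mul, inv_one, mul_one, mul_inv_cancel]; exact one_mem _⟩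
  mul_mem' := by
    rintro a b ⟨ha, ha1, ha2⟩ ⟨hb, hb1, hb2⟩
    have haN := centralizer_le_normalizer _ ha
    refine ⟨mul_mem ha hb, fun w hw => ?_, fun r hr => ?_⟩
    · have e : a * b * w * (a * b)⁻¹ * w⁻¹ = a * (b * w * b⁻¹ * w⁻¹) * a⁻¹ * (a * w * a⁻¹ * w⁻¹) := by group
      rw [e]
      exact mul_mem ((mem_normalizer_iff.1 (norm_rd V Z haN) _).1 (hb1 w hw)) (ha1 w hw)
    · have e : a * b * r * (a * b)⁻¹ * r⁻¹ = a * (b * r * b⁻¹ * r⁻¹) * a⁻¹ * (a * r * a⁻¹ * r⁻¹) := by group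
      rw [e]
      exact mul_mem ((mem_normalizer_iff.1 haN _).1 (hb2 r hr)) (ha2 r hr)
  inv_mem' := by
    rintro a ⟨ha, ha1, ha2⟩
    have haN := centralizer_le_normalizer _ ha
    refine ⟨inv_mem ha, fun w hw => ?_, fun r hr => ?_⟩
    · have h1 := inv_mem (ha1 w hw)
      have h2 := (mem_normalizer_iff.1 (inv_mem (norm_rd V Z haN)) _).1 h1
      have e : a⁻¹ * (a * w * a⁻¹ * w⁻¹)⁻¹ * a⁻¹⁻¹ = a⁻¹ * w * a⁻¹⁻¹ * w⁻¹ := by group
      rwa [e] at h2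
    · have h1 := inv_mem (ha2 r hr)
      have h2 := (mem_normalizer_iff.1 (inv_mem haN) _).1 h1
      have e : a⁻¹ * (a * r * a⁻¹ * r⁻¹)⁻¹ * a⁻¹⁻¹ = a⁻¹ * r * a⁻¹⁻¹ * r⁻¹ := by group
      rwa [e] at h2

theorem mem_kr {V Z : Subgroup G} {g : G} : g ∈ kr V Z ↔ g ∈ centralizer (Z : Set G) ∧
    (∀ w ∈ ws V Z, g * w * g⁻¹ * w⁻¹ ∈ rd V Z) ∧ ∀ r ∈ rd V Z, g * r * g⁻¹ * r⁻¹ ∈ Z := Iff.rfl

theorem norm_kr {V Z : Subgroup G} : normalizer (Z : Set G) ≤ normalizer ((kr V Z : Subgroup G) : Set G) := by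
  have key : ∀ g ∈ normalizer (Z : Set G), ∀ x ∈ kr V Z, g * x * g⁻¹ ∈ kr V Z := by
    rintro g hg x ⟨hx, hx1, hx2⟩
    have hgW := normalizer_le_ws V Z hg
    have hgR := norm_rd V Z hg
    have hgC : g * x * g⁻¹ ∈ centralizer (Z : Set G) := by
      have h1 : PT.cj g (centralizer (Z : Set G)) = centralizer (Z : Set G) := by
        rw [cj_centralizer, cj_eq_iff.2 hg]
      rw [← h1]
      exact conj_mem_cj hx
    refine ⟨hgC, fun w hw => ?_, fun r hr => ?_⟩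
    · have h1 : g⁻¹ * w * g ∈ ws V Z := by
        have := (mem_normalizer_iff.1 (inv_mem hgW) w).1 hw
        rwa [inv_inv] at this
      have h2 := (mem_normalizer_iff.1 hgR _).1 (hx1 _ h1)
      have e : g * (x * (g⁻¹ * w * g) * x⁻¹ * (g⁻¹ * w * g)⁻¹) * g⁻¹ = g * x * g⁻¹ * w * (g * x * g⁻¹)⁻¹ * w⁻¹ := by
        group
      rwa [e] at h2
    · have h1 : g⁻¹ * r * g ∈ rd V Z := by
        have := (mem_normalizer_iff.1 (inv_mem hgR) r).1 hr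
        rwa [inv_inv] at this
      have h2 := (mem_normalizer_iff.1 hg _).1 (hx2 _ h1)
      have e : g * (x * (g⁻¹ * r * g) * x⁻¹ * (g⁻¹ * r * g)⁻¹) * g⁻¹ = g * x * g⁻¹ * r * (g * x * g⁻¹)⁻¹ * r⁻¹ := by
        group
      rwa [e] at h2
  intro g hg
  rw [mem_normalizer_iff]
  intro x
  refine ⟨key g hg x, fun hx => ?_⟩
  have h1 := key g⁻¹ (inv_mem hg) _ hx
  have e : g⁻¹ * (g * x * g⁻¹) * g⁻¹⁻¹ = x := by group
  rwa [e] at h1

end Co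

end Cfsg.Agent.Omega.NO3S.OneQ
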