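import Cfsg.Agent.Omega.NO3S.OneQ.CoOf
import Cfsg.Agent.Omega.NO3S.HypL
import Cfsg.Agent.Omega.NO3S.Fld.ToPB
import Cfsg.Agent.Omega.NO3S.PB.Syl

/-!
# NO-3S, `OneQ`: the coordinates `Co` from the `(R, B)`-frame `FrB`

* `FrB.R_crd` : `R` is the line `{x₁ = 0}` of every adapted coordinate system (`Fld.Crd`);
* `FrB.W_eq` : `W_R = ⟨V^{N_G(R)}⟩` (`Lines.W R (N_G(R)) {P}`) is `ws V R`;
* `FrB.exists_nc` : a critical pair at distance 1 gives two noncommuting points of `V`;
* **`FrB.exists_co`** : `Nonempty (Co F S B P V R)` from `FrB`, (F1) and a critical pair at distance 1.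
-/

set_option autoImplicit false
set_option linter.unusedSectionVars false

namespace Cfsg.Agent.Omega.NO3S

open Subgroup Cfsg Cfsg.Agent.ZN Cfsg.Agent.Omega.MinPar Cfsg.Agent.Omega.Frame Cfsg.Agent.Omega.FrameNOFF
open Cfsg.Agent.Omega.NoFF.Lines Cfsg.Agent.Omega.NO3S.PT Cfsg.Agent.Omega.NO3S.OneQ
open scoped Pointwise

universe u

variable {F : Type} [Field F] {G : Type u} [Group G] [Finite G] {S : Sylow 2 G} {P B R : Subgroup G}

namespace FrB

/-- `R` is the line `{x₁ = 0}` -/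
theorem R_crd [Finite F] (h : FrB F S P B R) (M : Fld.Crd F (S : Subgroup G) P (zl (S : Subgroup G) P)) : R = M.R := by
  have h1 : R ≤ M.R := by
    intro v hv
    by_contra hvR
    have h2 : M.R ≤ R := by
      intro z hz
      obtain ⟨b, hb, hbz⟩ := M.full' (h.pb.ZV hv) hvR hz
      have h3 : b * v * b⁻¹ ∈ R := (mem_normalizer_iff.1 (h.pb.SN hb.1) v).1 hv
      rw [← hbz]
      exact mul_mem h3 (inv_mem hv)
    have h3 : M.R = R := Subgroup.eq_of_le_of_card_ge h2 (by rw [h.card, M.card_R])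
    rw [h3] at hvR
    exact hvR hv
  exact Subgroup.eq_of_le_of_card_ge h1 (by rw [h.card, M.card_R])

/-- `⟨V^{N_G(R)}⟩ = ws V R` -/
theorem W_eq {V R : Subgroup G} (h : PB S B P V R) : W R (normalizer (R : Set G)) {P} = ws V R := by
  have hV := h.V_eq
  apply le_antisymm
  · refine W_le fun Q hQ c hc => ?_
    rw [Set.mem_singleton_iff.1 hQ, hV]
    refine le_ws ⟨c, rfl⟩ ?_
    have h1 : PT.cj c R ≤ PT.cj c V := PT.cj_le_cj.2 h.ZV
    rwa [PT.cj_eq_iff.2 hc] at h1
  · refine ws_le fun L hL hZL => ?_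
    obtain ⟨c, hc, rfl⟩ := h.exists_cent_line hL hZL
    have h2 := line_le (Z := R) (C := normalizer (R : Set G)) (F := {P}) (Set.mem_singleton P)
      (centralizer_le_normalizer _ hc)
    rwa [hV] at h2

/-- a critical pair at distance 1 gives two noncommuting points of `V` -/
theorem exists_nc {V R : Subgroup G} (hp : PB S B P V R) {y : G} (hc : Crit R (normalizer (R : Set G)) {P} 1 1 y) :
    ∃ Y, Pnt V R Y ∧ ¬ ws V R ≤ centralizer ((ws V Y : Subgroup G) : Set G) := by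
  have hWN := W_eq hp
  obtain ⟨c, p, c', hc0, hp0, hc0', rfl⟩ : ∃ c p c', c ∈ normalizer (R : Set G) ∧ p ∈ P ∧
      c' ∈ normalizer (R : Set G) ∧ y = c * p * c' := by
    have h1 := hc.path
    cases h1 with
    | step hg _ _ _ =>
      cases hg with
      | zero g hc1 =>
        rename_i p1 c1 P1 h2 h3 h4 c2
        rw [Set.mem_singleton_iff.1 h2] at h3
        exact ⟨c2, p1, c1, hc1, h3, h4, by group⟩
  refine ⟨PT.cj p R, ⟨⟨p, rfl⟩, hp.pt_le hp0⟩, fun hcon => hc.ne ?_⟩
  unfold Com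
  rw [map_one, one_smul]
  have h2 : ∀ n ∈ normalizer (R : Set G), PT.cj n (ws V R) = ws V R := by
    intro n hn
    exact PT.cj_eq_iff.2 (normalizer_le_ws _ _ hn)
  have h3 : MulAut.conj (c * p * c') • ws V R = PT.cj c (PT.cj p (ws V R)) := by
    have h4 : PT.cj (c * p * c') (ws V R) = PT.cj c (PT.cj p (ws V R)) := by
      rw [← PT.cj_cj, h2 c' hc0', PT.cj_cj]
    exact h4
  rw [hWN]
  show ws V R ≤ centralizer ((MulAut.conj (c * p * c') • ws V R : Subgroup G) : Set G)
  rw [h3, ← PT.cj_centralizer]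
  have h5 := PT.cj_le_cj (g := c) |>.2 hcon
  rw [h2 c hc0, PT.ws_cj] at h5
  exact h5

/-- **`Co` from the `(R, B)`-frame.** -/
theorem exists_co [Finite F] [CharP F 2] (h : FrB F S P B R) (hp : Hyp S P) (N : NatP F (zl (S : Subgroup G) P) P)
    (hf : ¬ kx (zl (S : Subgroup G) P) R ≤ centralizer (zl (S : Subgroup G) P : Set G)) {y : G}
    (hc : Crit R (normalizer (R : Set G)) {P} 1 1 y) :
    Nonempty (Co F S B P (zl (S : Subgroup G) P) R) := by
  obtain ⟨M⟩ := Fld.exists_crd hp N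
  have hR := h.R_crd M
  refine exists_co_of ⟨h.pb, hf, h.om, exists_nc h.pb hc⟩ M.toNatP (w := ![1, 0]) ?_ ?_
  · intro e
    have := congrFun e 0
    simp at this
  · intro z
    rw [hR]
    constructor
    · rintro ⟨a, rfl⟩
      exact ⟨a, by congr 1; apply NatPair.ext2 <;> simp⟩
    · rintro ⟨a, rfl⟩
      exact ⟨a, by congr 1; apply NatPair.ext2 <;> simp⟩

end FrB

end Cfsg.Agent.Omega.NO3S
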