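import Cfsg.Agent.Omega.NO3S.OneQ.POne

/-!
# NO-3S, `OneQ`: the `F`-representation of `C_G(Z) T₁` on `W_Z / rd` (bb OMEGA #17428, (R1)-(R3) of #17961)

* `Co.hat` : the elements of `N_G(Z)` which multiply `Z = F` by a scalar `Co.chi`; it contains `C_G(Z)` and the torus;
* `Co.rp : Representation F hat MF`, `rp_fm`; `rp_lam`, `rp_I` : weights of the torus on `λ`, `Ī / λ`;
* `Co.v0` spans `λ`; `Co.Rb Y = [MF, W_Y]`; `Rb_sub` : `Rb ≤ Ī`; `Rb_fix` : `C_{Rb}(B) = λ`; `rp_quad`.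
-/

set_option autoImplicit false
set_option linter.unusedSectionVars false

namespace Cfsg.Agent.Omega.NO3S.OneQ

open Subgroup Cfsg.Agent.Omega.NO3S.PT Cfsg.Agent.Omega.NoFF.Basic
open scoped Pointwise

universe u

variable {G : Type u} [Group G]

namespace Co

variable [Finite G] {F : Type*} [Field F] [CharP F 2] {S : Sylow 2 G} {B P V Z : Subgroup G} (h : Co F S B P V Z)

/-- the elements of `N_G(Z)` which multiply `Z = F` by a scalar -/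
def hat : Subgroup G where
  carrier := {g | g ∈ normalizer (Z : Set G) ∧ ∃ χ : Fˣ, ∀ a, g * h.e a 0 * g⁻¹ = h.e (χ * a) 0}
  one_mem' := ⟨one_mem _, 1, fun a => by rw [Units.val_one, one_mul, one_mul, inv_one, mul_one]⟩
  mul_mem' := by
    rintro a b ⟨ha, χ, hχ⟩ ⟨hb, ψ, hψ⟩
    refine ⟨mul_mem ha hb, χ * ψ, fun x => ?_⟩
    have e : a * b * h.e x 0 * (a * b)⁻¹ = a * (b * h.e x 0 * b⁻¹) * a⁻¹ := by group
    rw [e, hψ, hχ, Units.val_mul, mul_assoc]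
  inv_mem' := by
    rintro a ⟨ha, χ, hχ⟩
    refine ⟨inv_mem ha, χ⁻¹, fun x => ?_⟩
    have h1 := hχ (((χ⁻¹ : Fˣ) : F) * x)
    rw [← mul_assoc, Units.mul_inv, one_mul] at h1
    rw [← h1, inv_inv]
    group

theorem hat_norm {g : G} (hg : g ∈ h.hat) : g ∈ normalizer (Z : Set G) := hg.1

/-- the scalar -/
noncomputable def chi (g : h.hat) : Fˣ := g.2.2.choose

theorem chi_spec (g : h.hat) (a : F) : (g : G) * h.e a 0 * (g : G)⁻¹ = h.e (h.chi g * a) 0 := g.2.2.choose_spec a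

theorem chi_eq {g : h.hat} {χ : F} (hχ : ∀ a, (g : G) * h.e a 0 * (g : G)⁻¹ = h.e (χ * a) 0) : (h.chi g : F) = χ := by
  have h1 := hχ 1
  rw [h.chi_spec, mul_one, mul_one] at h1
  exact (h.e_inj h1).1

theorem chi_one : h.chi 1 = 1 := Units.ext (h.chi_eq fun a => by simp)

theorem chi_mul (g k : h.hat) : h.chi (g * k) = h.chi g * h.chi k :=
  Units.ext (h.chi_eq fun a => by
    have e : ((g * k : h.hat) : G) * h.e a 0 * ((g * k : h.hat) : G)⁻¹ =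
        (g : G) * ((k : G) * h.e a 0 * (k : G)⁻¹) * (g : G)⁻¹ := by rw [Subgroup.coe_mul]; group
    rw [e, h.chi_spec, h.chi_spec, Units.val_mul, mul_assoc])

theorem C_le_hat : centralizer (Z : Set G) ≤ h.hat := by
  intro g hg
  refine ⟨centralizer_le_normalizer _ hg, 1, fun a => ?_⟩
  rw [Units.val_one, one_mul, (mem_centralizer_iff.1 hg _ (h.e_memZ a)).symm, mul_inv_cancel_right]

theorem chi_C {g : G} (hg : g ∈ centralizer (Z : Set G)) : h.chi ⟨g, h.C_le_hat hg⟩ = 1 :=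
  Units.ext (h.chi_eq fun a => by
    rw [Units.val_one, one_mul, (mem_centralizer_iff.1 hg _ (h.e_memZ a)).symm, mul_inv_cancel_right])

variable {h} in
theorem Tor.hat {τ : G} {ζ : F} (hτ : h.Tor τ ζ) (hζ : ζ ≠ 0) : τ ∈ h.hat :=
  ⟨hτ.norm_Z hζ, Units.mk0 ζ hζ, fun a => by rw [hτ.act, mul_zero]; rfl⟩

variable {h} in
theorem Tor.chi {τ : G} {ζ : F} (hτ : h.Tor τ ζ) (hζ : ζ ≠ 0) : (h.chi ⟨τ, hτ.hat hζ⟩ : F) = ζ :=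
  h.chi_eq fun a => by rw [hτ.act, mul_zero]

/-- the representation of `hat` on `MF` -/
noncomputable def rp : Representation F h.hat h.MF where
  toFun g :=
    { toFun := fun m => ⟨fun k => h.chi g * (m : kx V Z → F) ⟨(g : G)⁻¹ * k * g, h.K_conj (h.hat_norm g.2) k.2⟩, by
        obtain ⟨f, w, hw, hf⟩ := m
        refine ⟨g * w * (g : G)⁻¹, h.W_conj (h.hat_norm g.2) hw, fun k => ?_⟩
        rw [h.fn_conj' (h.chi_spec g) (h.hat_norm g.2) hw k.2]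
        exact congrArg _ (hf _)⟩
      map_add' := fun a b => Subtype.ext (funext fun k => mul_add _ _ _)
      map_smul' := fun c a => Subtype.ext (funext fun k => mul_left_comm _ _ _) }
  map_one' := by
    refine LinearMap.ext fun m => Subtype.ext (funext fun k => ?_)
    show (h.chi 1 : F) * (m : kx V Z → F) ⟨((1 : h.hat) : G)⁻¹ * k * ((1 : h.hat) : G), _⟩ = (m : kx V Z → F) k
    rw [h.chi_one, Units.val_one, one_mul]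
    exact congrArg (m : kx V Z → F) (Subtype.ext (by simp))
  map_mul' := by
    intro a b
    refine LinearMap.ext fun m => Subtype.ext (funext fun k => ?_)
    show (h.chi (a * b) : F) * (m : kx V Z → F) ⟨((a * b : h.hat) : G)⁻¹ * k * ((a * b : h.hat) : G), _⟩ =
      (h.chi a : F) * ((h.chi b : F) * (m : kx V Z → F) ⟨(b : G)⁻¹ * ((a : G)⁻¹ * k * a) * b, _⟩)
    rw [h.chi_mul, Units.val_mul, mul_assoc]
    exact congrArg (fun x => (h.chi a : F) * ((h.chi b : F) * (m : kx V Z → F) x)) (Subtype.ext (by simp [mul_assoc]))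

theorem rp_fm (g : h.hat) (w : ws V Z) :
    h.rp g (h.fm w) = h.fm ⟨g * w * (g : G)⁻¹, h.W_conj (h.hat_norm g.2) w.2⟩ :=
  Subtype.ext (funext fun k => (h.fn_conj' (h.chi_spec g) (h.hat_norm g.2) w.2 k.2).symm)

theorem rp_fm' {g w : G} (hg : g ∈ h.hat) (hw : w ∈ ws V Z) :
    h.rp ⟨g, hg⟩ (h.fm ⟨w, hw⟩) = h.fm ⟨g * w * g⁻¹, h.W_conj (h.hat_norm hg) hw⟩ := h.rp_fm ⟨g, hg⟩ ⟨w, hw⟩

theorem fm_eq {w w' : G} (hw : w ∈ ws V Z) (hw' : w' ∈ ws V Z) : h.fm ⟨w, hw⟩ = h.fm ⟨w', hw'⟩ ↔ w * w'⁻¹ ∈ rd V Z := by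
  have h1 := h.fm_mul ⟨w * w'⁻¹, mul_mem hw (inv_mem hw')⟩ ⟨w', hw'⟩
  have e : (⟨w * w'⁻¹, mul_mem hw (inv_mem hw')⟩ : ws V Z) * ⟨w', hw'⟩ = ⟨w, hw⟩ := Subtype.ext (by simp)
  rw [e] at h1
  rw [h1, add_eq_right]
  exact h.fm_eq_zero _

theorem fm_inv (w : ws V Z) : h.fm w⁻¹ = h.fm w := Subtype.ext (funext fun k => h.fn_inv w.2)

/-- the kernel of `K_Z` -/
theorem rp_K {k : G} (hk : k ∈ kx V Z) (m : h.MF) : h.rp ⟨k, h.C_le_hat (kx_le_cent hk)⟩ m = m := by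
  obtain ⟨w, rfl⟩ := h.fm_surj m
  have e : h.rp ⟨k, h.C_le_hat (kx_le_cent hk)⟩ (h.fm w) = _ := h.rp_fm' (h.C_le_hat (kx_le_cent hk)) w.2
  rw [e, h.fm_eq]
  exact h.Z_le_rd (h.kw_mem w.2 hk)

/-- the line vector -/
noncomputable def v0 : h.MF := h.fm ⟨h.e 0 1, h.W_V 0 1⟩

theorem fm_e (x y : F) : h.fm ⟨h.e x y, h.W_V x y⟩ = y • h.v0 :=
  Subtype.ext (funext fun k => h.fn_V x y k.2)

theorem v0_ne : h.v0 ≠ 0 := by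
  intro h1
  have h2 : h.e 0 1 ∈ rd V Z := (h.fm_eq_zero _).1 h1
  have h3 := h.rd_inf_I ⟨h2, h.one.pl.V_le_IV (h.e_memV 0 1)⟩
  rw [h.e_memZ_iff] at h3
  exact one_ne_zero h3

/-- `λ` -/
noncomputable def lam : Submodule F h.MF := Submodule.span F {h.v0}

theorem mem_lam {m : h.MF} : m ∈ h.lam ↔ ∃ v : ws V Z, (v : G) ∈ V ∧ h.fm v = m := by
  rw [lam, Submodule.mem_span_singleton]
  constructor
  · rintro ⟨a, rfl⟩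
    exact ⟨⟨h.e 0 a, h.W_V 0 a⟩, h.e_memV 0 a, h.fm_e 0 a⟩
  · rintro ⟨v, hv, rfl⟩
    obtain ⟨x, y, hxy⟩ := (h.mem_V _).1 hv
    refine ⟨y, ?_⟩
    rw [← h.fm_e x y]
    congr 1
    exact Subtype.ext hxy

theorem fm_mem_lam {w : G} (hw : w ∈ ws V Z) : h.fm ⟨w, hw⟩ ∈ h.lam ↔ w ∈ V ⊔ rd V Z := by
  rw [h.mem_lam]
  constructor
  · rintro ⟨v, hv, e⟩
    have h1 := (h.fm_eq v.2 hw).1 e
    have e2 : w = (v * w⁻¹)⁻¹ * v := by group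
    rw [e2]
    exact mul_mem (mem_sup_right (inv_mem h1)) (mem_sup_left hv)
  · intro h1
    have hVW : V ≤ ws V Z := h.one.V_le_W'
    have hc : V ≤ normalizer ((rd V Z : Subgroup G) : Set G) :=
      (hVW.trans (h.one.pl.ws_comm h.one.self.cj)).trans
        ((centralizer_le rd_le).trans (centralizer_le_normalizer _))
    obtain ⟨v, hv, r, hr, rfl⟩ := mem_sup_norm hc h1
    refine ⟨⟨v, h.one.V_le_W' hv⟩, hv, ?_⟩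
    rw [h.fm_eq]
    have hvW := h.one.V_le_W' hv
    have hrW := rd_le hr
    have e : v * (v * r)⁻¹ = r⁻¹ := by
      rw [mul_inv_rev, ← mul_assoc]
      have := h.one.comm_W h.one.self.cj hvW (inv_mem hrW)
      rw [this, mul_inv_cancel_right]
    rw [e]
    exact inv_mem hr

/-- `λ` determines `V` in `I` -/
theorem fm_mem_lam_I {w : G} (hw : w ∈ IV V Z) : h.fm ⟨w, h.one.I_le_W' hw⟩ ∈ h.lam ↔ w ∈ V := by
  rw [h.mem_lam]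
  constructor
  · rintro ⟨v, hv, e⟩
    have h1 := (h.fm_eq v.2 _).1 e
    have h2 : (v : G) * w⁻¹ ∈ IV V Z := mul_mem (h.one.pl.V_le_IV hv) (inv_mem hw)
    have h3 := h.rd_inf_I ⟨h1, h2⟩
    have e2 : w = (v * w⁻¹)⁻¹ * v := by group
    rw [e2]
    exact mul_mem (inv_mem (h.one.pl.ZV h3)) hv
  · exact fun h1 => ⟨⟨w, h.one.I_le_W' hw⟩, h1, rfl⟩

/-- the torus on `λ` -/
theorem rp_lam {τ : G} {ζ : F} (hτ : h.Tor τ ζ) (hζ : ζ ≠ 0) : h.rp ⟨τ, hτ.hat hζ⟩ h.v0 = ζ⁻¹ • h.v0 := by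
  have e : h.rp ⟨τ, hτ.hat hζ⟩ h.v0 = _ := h.rp_fm' (hτ.hat hζ) (h.W_V 0 1)
  rw [e, ← h.fm_e 0 ζ⁻¹]
  congr 1
  apply Subtype.ext
  show τ * h.e 0 1 * τ⁻¹ = h.e 0 ζ⁻¹
  rw [hτ.act, mul_zero, mul_one]

/-- the torus on `Ī / λ` -/
theorem rp_I {τ : G} {ζ : F} (hτ : h.Tor τ ζ) (hζ : ζ ≠ 0) {u : G} (hu : u ∈ IV V Z) :
    h.rp ⟨τ, hτ.hat hζ⟩ (h.fm ⟨u, h.one.I_le_W' hu⟩) - h.fm ⟨u, h.one.I_le_W' hu⟩ ∈ h.lam := by
  have e : h.rp ⟨τ, hτ.hat hζ⟩ (h.fm ⟨u, h.one.I_le_W' hu⟩) = _ := h.rp_fm' (hτ.hat hζ) (h.one.I_le_W' hu)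
  have h1 := h.one.XV_I hτ.mem hu
  have hv := h.one.V_le_W' h1
  rw [e, h.mem_lam]
  refine ⟨⟨_, hv⟩, h1, ?_⟩
  rw [eq_sub_iff_add_eq, ← h.fm_mul]
  congr 1
  apply Subtype.ext
  show τ * u * τ⁻¹ * u⁻¹ * u = τ * u * τ⁻¹
  group

/-- `C_G(V)` fixes the line vector -/
theorem rp_cV {g : G} (hg : g ∈ centralizer (V : Set G)) :
    h.rp ⟨g, h.C_le_hat (centralizer_le h.one.pl.ZV hg)⟩ h.v0 = h.v0 := by
  have e : h.rp ⟨g, h.C_le_hat (centralizer_le h.one.pl.ZV hg)⟩ h.v0 = _ :=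
    h.rp_fm' (h.C_le_hat (centralizer_le h.one.pl.ZV hg)) (h.W_V 0 1)
  rw [e]
  show _ = h.fm ⟨h.e 0 1, h.W_V 0 1⟩
  congr 1
  exact Subtype.ext (h.comm_e hg 0 1)

/-- `B` fixes the line vector -/
theorem rp_B {s : G} (hs : s ∈ B) : h.rp ⟨s, h.C_le_hat (h.one.B_le_C hs)⟩ h.v0 = h.v0 := by
  have e : h.rp ⟨s, h.C_le_hat (h.one.B_le_C hs)⟩ h.v0 = _ := h.rp_fm' (h.C_le_hat (h.one.B_le_C hs)) (h.W_V 0 1)
  rw [e]
  show _ = h.fm ⟨h.e 0 1, h.W_V 0 1⟩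
  obtain ⟨t, ht⟩ := h.tv s hs
  rw [h.fm_eq, ht, h.e_inv, ← h.e_add, CharTwo.add_self_eq_zero]
  exact h.Z_le_rd (h.e_memZ _)

/-! ### `[MF, W_Y]` -/

/-- `W_Y ≤ hat` -/
theorem W_hat {Y : Subgroup G} (hY : Pnt V Z Y) {a : G} (ha : a ∈ ws V Y) : a ∈ h.hat := h.C_le_hat (h.one.W_le_C hY ha)

/-- `[a, w]` for `a ∈ W_Y` -/
theorem rp_W {Y : Subgroup G} (hY : Pnt V Z Y) (hne : Y ≠ Z) {a : G} (ha : a ∈ ws V Y) (w : ws V Z) :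
    ∃ u : G, ∃ hu : u ∈ IV V Z, u = a * w * a⁻¹ * (w : G)⁻¹ ∧
      h.rp ⟨a, h.W_hat hY ha⟩ (h.fm w) - h.fm w = h.fm ⟨u, h.one.I_le_W' hu⟩ := by
  have h1 : a * w * a⁻¹ * (w : G)⁻¹ ∈ IV V Z := h.one.comm_mem hY h.one.self hne ha w.2
  refine ⟨_, h1, rfl, ?_⟩
  have e : h.rp ⟨a, h.W_hat hY ha⟩ (h.fm w) = _ := h.rp_fm' (h.W_hat hY ha) w.2
  rw [e, sub_eq_iff_eq_add, ← h.fm_mul]
  congr 1
  apply Subtype.ext
  show a * w * a⁻¹ = a * w * a⁻¹ * (w : G)⁻¹ * w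
  group

/-- `W_Y` centralises `Ī` -/
theorem rp_W_I {Y : Subgroup G} (hY : Pnt V Z Y) {a : G} (ha : a ∈ ws V Y) {u : G} (hu : u ∈ IV V Z) :
    h.rp ⟨a, h.W_hat hY ha⟩ (h.fm ⟨u, h.one.I_le_W' hu⟩) = h.fm ⟨u, h.one.I_le_W' hu⟩ := by
  have e : h.rp ⟨a, h.W_hat hY ha⟩ (h.fm ⟨u, h.one.I_le_W' hu⟩) = _ := h.rp_fm' (h.W_hat hY ha) (h.one.I_le_W' hu)
  rw [e]
  congr 1
  apply Subtype.ext
  show a * u * a⁻¹ = u
  rw [← h.one.I_comm_W hY hu ha, mul_inv_cancel_right]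

/-- `A` is quadratic -/
theorem rp_quad {Y : Subgroup G} (hY : Pnt V Z Y) (hne : Y ≠ Z) {a b : G} (ha : a ∈ ws V Y) (hb : b ∈ ws V Y) (m : h.MF) :
    h.rp ⟨a, h.W_hat hY ha⟩ (h.rp ⟨b, h.W_hat hY hb⟩ m - m) = h.rp ⟨b, h.W_hat hY hb⟩ m - m := by
  obtain ⟨w, rfl⟩ := h.fm_surj m
  obtain ⟨u, hu, -, e⟩ := h.rp_W hY hne hb w
  rw [e]
  exact h.rp_W_I hY ha hu

/-- `[MF, W_Y]` -/
noncomputable def Rb {Y : Subgroup G} (hY : Pnt V Z Y) : Submodule F h.MF :=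
  ⨆ a : ws V Y, LinearMap.range (h.rp ⟨a, h.W_hat hY a.2⟩ - 1)

theorem mem_Rb {Y : Subgroup G} (hY : Pnt V Z Y) {a : G} (ha : a ∈ ws V Y) (m : h.MF) :
    h.rp ⟨a, h.W_hat hY ha⟩ m - m ∈ h.Rb hY :=
  (le_iSup (fun a : ws V Y => LinearMap.range (h.rp ⟨a, h.W_hat hY a.2⟩ - 1)) ⟨a, ha⟩) ⟨m, rfl⟩

/-- `Ī` -/
noncomputable def Ib : AddSubgroup h.MF where
  carrier := {m | ∃ u, ∃ hu : u ∈ IV V Z, h.fm ⟨u, h.one.I_le_W' hu⟩ = m}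
  zero_mem' := ⟨1, one_mem _, h.fm_one⟩
  add_mem' := by
    rintro _ _ ⟨u, hu, rfl⟩ ⟨v, hv, rfl⟩
    exact ⟨u * v, mul_mem hu hv, h.fm_mul ⟨u, h.one.I_le_W' hu⟩ ⟨v, h.one.I_le_W' hv⟩⟩
  neg_mem' := by
    rintro _ ⟨u, hu, rfl⟩
    refine ⟨u, hu, ?_⟩
    rw [eq_neg_iff_add_eq_zero, ← h.fm_mul]
    have e : (⟨u, h.one.I_le_W' hu⟩ : ws V Z) * ⟨u, h.one.I_le_W' hu⟩ = 1 := Subtype.ext (h.one.I_sq hu)
    rw [e, h.fm_one]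

theorem mem_Ib {m : h.MF} : m ∈ h.Ib ↔ ∃ u, ∃ hu : u ∈ IV V Z, h.fm ⟨u, h.one.I_le_W' hu⟩ = m := Iff.rfl

theorem lam_le_Ib {m : h.MF} (hm : m ∈ h.lam) : m ∈ h.Ib := by
  obtain ⟨v, hv, rfl⟩ := h.mem_lam.1 hm
  exact ⟨v, h.one.pl.V_le_IV hv, rfl⟩

theorem Rb_le_Ib {Y : Subgroup G} (hY : Pnt V Z Y) (hne : Y ≠ Z) {m : h.MF} (hm : m ∈ h.Rb hY) : m ∈ h.Ib := by
  refine Submodule.iSup_induction (motive := fun m => m ∈ h.Ib) _ hm ?_ (zero_mem _) fun _ _ => add_mem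
  rintro ⟨a, ha⟩ _ ⟨m, rfl⟩
  obtain ⟨w, rfl⟩ := h.fm_surj m
  obtain ⟨u, hu, -, e⟩ := h.rp_W hY hne ha w
  exact ⟨u, hu, e.symm⟩

/-- **(FIX)** on `MF` -/
theorem Ib_fix {m : h.MF} (hm : m ∈ h.Ib)
    (hf : ∀ s (hs : s ∈ B), s ∈ centralizer (V : Set G) → h.rp ⟨s, h.C_le_hat (h.one.B_le_C hs)⟩ m = m) : m ∈ h.lam := by
  obtain ⟨u, hu, rfl⟩ := hm
  rw [h.fm_mem_lam_I hu]
  refine h.one.fix hu fun s hs hsV => ?_
  have h1 := hf s hs hsV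
  have e : h.rp ⟨s, h.C_le_hat (h.one.B_le_C hs)⟩ (h.fm ⟨u, h.one.I_le_W' hu⟩) = _ :=
    h.rp_fm' (h.C_le_hat (h.one.B_le_C hs)) (h.one.I_le_W' hu)
  rw [e, h.fm_eq] at h1
  have h2 : s * u * s⁻¹ * u⁻¹ ∈ IV V Z :=
    mul_mem ((mem_normalizer_iff.1 (normalizer_le_IV V Z (h.one.B_norm_V hs)) _).1 hu) (inv_mem hu)
  exact h.rd_inf_I ⟨h1, h2⟩

/-- `λ ≤ Rb` if `A` is not trivial on `W_Z / Z` -/
theorem fm_I_eq {u v : G} (hu : u ∈ IV V Z) (hv : v ∈ IV V Z) :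
    h.fm ⟨u, h.one.I_le_W' hu⟩ = h.fm ⟨v, h.one.I_le_W' hv⟩ ↔ u * v⁻¹ ∈ Z := by
  rw [h.fm_eq]
  have h2 : u * v⁻¹ ∈ IV V Z := mul_mem hu (inv_mem hv)
  exact ⟨fun h1 => h.rd_inf_I ⟨h1, h2⟩, fun h1 => h.Z_le_rd h1⟩

end Co

end Cfsg.Agent.Omega.NO3S.OneQ
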