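import Cfsg.Agent.Omega.NO3S.OneQ.Alf
import Cfsg.Agent.Omega.NO3S.OneQ.TIq.Base
import Cfsg.Agent.Omega.NO3S.OneQ.QPlus

/-!
# NO-3S, `OneQ`, case (N), `D_x = I`: the instance of `TIq.Gen`, part 1

* `Co.HI` : the group induced by `C_G(Z)` on `MF`; `Co.ph : G → HI` (used on `C_G(Z)`); `ph_mul`, `ph_smul`, `ph_fm`;
* `Co.ah m : HI` : the element with operator `al m`; `Co.AI`, `Co.KI` : the images of `W_Y`, `Y_l`.
-/

set_option autoImplicit false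
set_option linter.unusedSectionVars false

namespace Cfsg.Agent.Omega.NO3S.OneQ

open Subgroup Cfsg.Agent.Omega.NO3S.PT Cfsg.Agent.Omega.NoFF.Basic
open scoped Pointwise

universe u

variable {G : Type u} [Group G]

namespace Co

variable [Finite G] {F : Type*} [Field F] [CharP F 2] {S : Sylow 2 G} {B P V Z : Subgroup G} (h : Co F S B P V Z)

/-- the representation of `C_G(Z)` in the units -/
noncomputable def hm : centralizer (Z : Set G) →* (Module.End F h.MF)ˣ := MonoidHom.toHomUnits h.rep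

/-- the group induced by `C_G(Z)` on `MF` -/
abbrev HI : Type _ := h.hm.range

theorem finMF : Finite h.MF := by
  have : Finite F := h.finF
  infer_instance

instance finHH : Finite h.HI := by
  have : Finite h.MF := h.finMF
  have h1 : Finite (Module.End F h.MF) := Finite.of_injective (fun f : Module.End F h.MF => (f : h.MF → h.MF)) DFunLike.coe_injective
  infer_instance

open Classical in
/-- the image of `g ∈ C_G(Z)` -/
noncomputable def ph (g : G) : h.HI := if hg : g ∈ centralizer (Z : Set G) then h.hm.rangeRestrict ⟨g, hg⟩ else 1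

theorem ph_eq {g : G} (hg : g ∈ centralizer (Z : Set G)) : h.ph g = h.hm.rangeRestrict ⟨g, hg⟩ := dif_pos hg

theorem ph_mul {a b : G} (ha : a ∈ centralizer (Z : Set G)) (hb : b ∈ centralizer (Z : Set G)) :
    h.ph (a * b) = h.ph a * h.ph b := by
  rw [h.ph_eq ha, h.ph_eq hb, h.ph_eq (mul_mem ha hb), ← map_mul]
  rfl

theorem ph_one : h.ph 1 = 1 := by
  rw [h.ph_eq (one_mem _)]
  exact map_one h.hm.rangeRestrict

theorem ph_inv {a : G} (ha : a ∈ centralizer (Z : Set G)) : h.ph a⁻¹ = (h.ph a)⁻¹ := by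
  rw [eq_inv_iff_mul_eq_one, ← h.ph_mul (inv_mem ha) ha, inv_mul_cancel, h.ph_one]

theorem ph_surj (x : h.HI) : ∃ c ∈ centralizer (Z : Set G), h.ph c = x := by
  obtain ⟨c, hc⟩ := h.hm.rangeRestrict_surjective x
  exact ⟨c, c.2, by rw [h.ph_eq c.2]; exact hc⟩

theorem hh_smul (x : h.HI) (m : h.MF) : x • m = ((x : (Module.End F h.MF)ˣ) : Module.End F h.MF) m := rfl

theorem hh_lin (x : h.HI) (c : F) (m : h.MF) : x • (c • m) = c • (x • m) := by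
  rw [h.hh_smul, h.hh_smul]
  exact map_smul _ c m

theorem faith {x y : h.HI} (hxy : ∀ m : h.MF, x • m = y • m) : x = y := by
  apply Subtype.ext
  apply Units.ext
  exact LinearMap.ext hxy

theorem ph_smul {c : G} (hc : c ∈ centralizer (Z : Set G)) (m : h.MF) : h.ph c • m = h.rp ⟨c, h.C_le_hat hc⟩ m := by
  obtain ⟨w, rfl⟩ := h.fm_surj m
  rw [h.ph_eq hc]
  have e : h.hm.rangeRestrict ⟨c, hc⟩ • h.fm w = h.rep ⟨c, hc⟩ (h.fm w) := rfl
  rw [e, h.rep_fm, h.rp_fm]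

include h in
theorem C_W {c w : G} (hc : c ∈ centralizer (Z : Set G)) (hw : w ∈ ws V Z) : c * w * c⁻¹ ∈ ws V Z :=
  h.W_conj (centralizer_le_normalizer _ hc) hw

theorem ph_fm {c : G} (hc : c ∈ centralizer (Z : Set G)) {w : G} (hw : w ∈ ws V Z) :
    h.ph c • h.fm ⟨w, hw⟩ = h.fm ⟨c * w * c⁻¹, h.C_W hc hw⟩ := by
  rw [h.ph_smul hc]
  exact h.rp_fm' (h.C_le_hat hc) hw

theorem ph_K {k : G} (hk : k ∈ kx V Z) : h.ph k = 1 := by
  refine h.faith fun m => ?_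
  rw [h.ph_smul (kx_le_cent hk), one_smul]
  exact h.rp_K hk m

theorem ph_eq_one (hrd : rd V Z = Z) {c : G} (hc : c ∈ centralizer (Z : Set G)) : h.ph c = 1 ↔ c ∈ kx V Z := by
  refine ⟨fun h1 => mem_kx.2 ⟨fun z hz => (mem_centralizer_iff.1 hc z hz).symm, fun w hw => ?_⟩, h.ph_K⟩
  have h2 := h.ph_fm hc hw
  rw [h1, one_smul, eq_comm, h.fm_eq, hrd] at h2
  exact h2

/-! ### `A`, `K~` at `V` -/

/-- the image of a subgroup of `C_G(Z)` -/
noncomputable def im (K : Subgroup G) (hK : K ≤ centralizer (Z : Set G)) : Subgroup h.HI where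
  carrier := {x | ∃ k ∈ K, h.ph k = x}
  one_mem' := ⟨1, one_mem _, h.ph_one⟩
  mul_mem' := by
    rintro _ _ ⟨a, ha, rfl⟩ ⟨b, hb, rfl⟩
    exact ⟨a * b, mul_mem ha hb, h.ph_mul (hK ha) (hK hb)⟩
  inv_mem' := by
    rintro _ ⟨a, ha, rfl⟩
    exact ⟨a⁻¹, inv_mem ha, h.ph_inv (hK ha)⟩

theorem mem_im {K : Subgroup G} {hK : K ≤ centralizer (Z : Set G)} {x : h.HI} : x ∈ h.im K hK ↔ ∃ k ∈ K, h.ph k = x := Iff.rfl

/-- `A` -/
noncomputable def AI : Subgroup h.HI := h.im (ws V h.Yp) (h.one.W_le_C h.pY)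

theorem mem_AI {x : h.HI} : x ∈ h.AI ↔ ∃ a ∈ ws V h.Yp, h.ph a = x := Iff.rfl

/-- `K~` -/
noncomputable def KI : Subgroup h.HI := h.im (yl V Z) h.yl_C

theorem mem_KI {x : h.HI} : x ∈ h.KI ↔ ∃ a ∈ yl V Z, h.ph a = x := Iff.rfl

/-- the element of `H` with operator `al m` -/
noncomputable def ah (m : h.MF) : h.HI := h.ph (h.sw * (h.fm_surj m).choose * h.sw⁻¹)

theorem ah_smul (m x : h.MF) : h.ah m • x = h.al m x :=
  h.ph_smul (h.one.W_le_C h.pY (h.sw_W (h.fm_surj m).choose.2)) x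

theorem ah_eq {m n : h.MF} : h.ah m = h.ah n ↔ h.al m = h.al n := by
  constructor
  · intro e
    refine LinearMap.ext fun x => ?_
    rw [← h.ah_smul, e, h.ah_smul]
  · intro e
    refine h.faith fun x => ?_
    rw [h.ah_smul, e, h.ah_smul]

theorem ah_eq_one (hN : NTr V Z) {m : h.MF} : h.ah m = 1 ↔ m ∈ h.Eb := by
  rw [← h.al_eq_one hN]
  constructor
  · intro e
    refine LinearMap.ext fun x => ?_
    rw [← h.ah_smul, e, one_smul]; rfl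
  · intro e
    refine h.faith fun x => ?_
    rw [h.ah_smul, e, one_smul]; rfl

theorem ah_add (hN : NTr V Z) (m n : h.MF) : h.ah (m + n) = h.ah m * h.ah n := by
  refine h.faith fun x => ?_
  rw [mul_smul, h.ah_smul, h.ah_smul, h.ah_smul, h.al_add hN]
  rfl

theorem ah_mem (m : h.MF) : h.ah m ∈ h.AI := ⟨_, h.sw_W (h.fm_surj m).choose.2, rfl⟩

theorem ah_surj (hN : NTr V Z) {x : h.HI} (hx : x ∈ h.AI) : ∃ m, h.ah m = x := by
  obtain ⟨a, ha, rfl⟩ := hx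
  obtain ⟨m, hm⟩ := h.al_surj hN ha
  refine ⟨m, h.faith fun x => ?_⟩
  rw [h.ah_smul, hm, h.ph_smul (h.one.W_le_C h.pY ha)]

theorem ah_fm (hN : NTr V Z) (w : ws V Z) : h.ah (h.fm w) = h.ph (h.sw * w * h.sw⁻¹) := by
  refine h.faith fun x => ?_
  rw [h.ah_smul, h.al_fm hN, h.ph_smul (h.one.W_le_C h.pY (h.sw_W w.2))]
  rfl

theorem AI_sq {x : h.HI} (hx : x ∈ h.AI) : x * x = 1 := by
  obtain ⟨a, ha, rfl⟩ := hx
  rw [← h.ph_mul (h.one.W_le_C h.pY ha) (h.one.W_le_C h.pY ha), h.one.sq_W h.pY ha, h.ph_one]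

theorem exists_AI (hrd : rd V Z = Z) : ∃ x ∈ h.AI, x ≠ 1 := by
  by_contra hcon
  push Not at hcon
  apply h.one.ee_ne h.pY
  refine le_antisymm ee_le fun a ha => ?_
  rw [h.one.ee_eq h.pY h.one.self h.Yp_ne.symm]
  exact ⟨ha, (h.ph_eq_one hrd (h.one.W_le_C h.pY ha)).1 (hcon _ ⟨a, ha, rfl⟩)⟩

theorem AI_sub_Ib {x : h.HI} (hx : x ∈ h.AI) (m : h.MF) : x • m - m ∈ h.Ib := by
  obtain ⟨a, ha, rfl⟩ := hx
  rw [h.ph_smul (h.one.W_le_C h.pY ha)]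
  exact h.Rb_le_Ib h.pY h.Yp_ne (h.mem_Rb h.pY ha m)

theorem AI_fix {x : h.HI} (hx : x ∈ h.AI) {m : h.MF} (hm : m ∈ h.Ib) : x • m = m := by
  obtain ⟨a, ha, rfl⟩ := hx
  rw [h.ph_smul (h.one.W_le_C h.pY ha)]
  obtain ⟨u, hu, rfl⟩ := hm
  exact h.rp_W_I h.pY ha hu

/-- `C_M(A) = Ī` if `D_Z = I` -/
theorem fix_AI (hN : NTr V Z) (hD : dd V Z Z ≤ IV V Z) {m : h.MF} (hm : ∀ x ∈ h.AI, x • m = m) : m ∈ h.Ib := by
  have hrd := h.rd_eq hN hD
  obtain ⟨w, rfl⟩ := h.fm_surj m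
  have h1 : ∀ u ∈ ws V h.Yp, u * w * u⁻¹ * (w : G)⁻¹ ∈ Z := by
    intro u hu
    have h2 := hm _ ⟨u, hu, rfl⟩
    have huC := h.one.W_le_C h.pY hu
    have h3 : h.ph u • h.fm ⟨w, w.2⟩ = _ := h.ph_fm huC w.2
    rw [show (⟨(w : G), w.2⟩ : ws V Z) = w from rfl, h2, eq_comm] at h3
    have h4 := (h.fm_eq (h.C_W huC w.2) w.2).1 h3
    rwa [hrd] at h4
  have h2 : (w : G) ∈ ee V Z Z := by
    refine hN.mem_ee h.one h.pY h.Yp_ne w.2 fun u hu => h.one.pl.ZV ?_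
    have := inv_mem (h1 u hu)
    have e : (u * w * u⁻¹ * (w : G)⁻¹)⁻¹ = w * u * (w : G)⁻¹ * u⁻¹ := by group
    rwa [e] at this
  have h3 : (w : G) ∈ dd V Z Z := by
    refine h.one.mem_dd_of h.one.self h.pY h.Yp_ne w.2 fun u hu => ?_
    have h4 : u * w * u⁻¹ * (w : G)⁻¹ ∈ Z ⊓ h.Yp := ⟨h1 u hu, h.one.ee_act' h.pY h.Yp_ne h2 hu⟩
    rw [h.one.pl.pts_inf h.one.self.cj h.pY.cj h.Yp_ne.symm, mem_bot, mul_inv_eq_one, mul_inv_eq_iff_eq_mul] at h4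
    exact h4.symm
  exact ⟨w, hD h3, rfl⟩

/-- `Ī` as a submodule -/
noncomputable def IS (hN : NTr V Z) (hD : dd V Z Z ≤ IV V Z) : Submodule F h.MF where
  carrier := {m | m ∈ h.Ib}
  zero_mem' := h.Ib.zero_mem
  add_mem' := fun ha hb => h.Ib.add_mem ha hb
  smul_mem' := by
    intro c m hm
    refine h.fix_AI hN hD fun x hx => ?_
    rw [h.hh_lin, h.AI_fix hx hm]

theorem mem_IS {hN : NTr V Z} {hD : dd V Z Z ≤ IV V Z} {m : h.MF} : m ∈ h.IS hN hD ↔ m ∈ h.Ib := Iff.rfl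

/-! ### the stabiliser of `λ` -/

/-- an element of `C_G(Z)` which fixes the point `λ` normalises `V` -/
theorem norm_of_lam (hrd : rd V Z = Z) {c : G} (hc : c ∈ centralizer (Z : Set G)) (hcl : h.ph c • h.v0 ∈ h.lam) :
    c ∈ normalizer (V : Set G) := by
  have h1 : ∀ v ∈ V, c * v * c⁻¹ ∈ V := by
    intro v hv
    obtain ⟨x, y, rfl⟩ := (h.mem_V _).1 hv
    have h2 : h.ph c • h.fm ⟨h.e x y, h.W_V x y⟩ ∈ h.lam := by
      rw [h.fm_e, h.hh_lin]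
      exact h.lam.smul_mem y hcl
    rw [h.ph_fm hc, h.fm_mem_lam, hrd, sup_eq_left.2 h.one.pl.ZV] at h2
    exact h2
  rw [← cj_eq_iff]
  refine eq_of_le_of_card_ge ?_ (by rw [card_cj])
  intro v hv
  rw [mem_cj] at hv
  have := h1 _ hv
  have e : c * (c⁻¹ * v * c) * c⁻¹ = v := by group
  rwa [e] at this

theorem N_lam {n : G} (hn : n ∈ centralizer (Z : Set G)) (hnV : n ∈ normalizer (V : Set G)) {m : h.MF}
    (hm : m ∈ h.lam) : h.ph n • m ∈ h.lam := by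
  obtain ⟨v, hv, rfl⟩ := h.mem_lam.1 hm
  have e : h.ph n • h.fm v = _ := h.ph_fm hn v.2
  rw [e, h.mem_lam]
  exact ⟨⟨_, h.C_W hn v.2⟩, (mem_normalizer_iff.1 hnV _).1 hv, rfl⟩

theorem N_Ib {n : G} (hn : n ∈ centralizer (Z : Set G)) (hnV : n ∈ normalizer (V : Set G)) {m : h.MF}
    (hm : m ∈ h.Ib) : h.ph n • m ∈ h.Ib := by
  obtain ⟨u, hu, rfl⟩ := hm
  rw [h.ph_fm hn]
  exact ⟨n * u * n⁻¹, (mem_normalizer_iff.1 (normalizer_le_IV V Z hnV) _).1 hu, rfl⟩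

theorem N_AI {n : G} (hn : n ∈ centralizer (Z : Set G)) (hnV : n ∈ normalizer (V : Set G)) {x : h.HI}
    (hx : x ∈ h.AI) : h.ph n * x * (h.ph n)⁻¹ ∈ h.AI := by
  obtain ⟨a, ha, rfl⟩ := hx
  have haC := h.one.W_le_C h.pY ha
  obtain ⟨h3, h4⟩ := h.one.conj_pnt (centralizer_le_normalizer _ hn) hnV h.pY h.Yp_ne
  obtain ⟨k, hk, hke⟩ := h.one.move h.one.self h3 h.pY h4 h.Yp_ne
  have hkC := h.one.K_le_C hk
  refine ⟨k * (n * a * n⁻¹) * k⁻¹, ?_, ?_⟩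
  · have h5 : n * a * n⁻¹ ∈ ws V (cj n h.Yp) := by
      rw [ws_cj]; exact conj_mem_cj ha
    have h6 := conj_mem_cj (g := k) h5
    rwa [← ws_cj, hke] at h6
  · have hna : n * a * n⁻¹ ∈ centralizer (Z : Set G) := mul_mem (mul_mem hn haC) (inv_mem hn)
    rw [h.ph_mul (mul_mem hkC hna) (inv_mem hkC), h.ph_mul hkC hna, h.ph_inv hkC, h.ph_K hk,
      h.ph_mul (mul_mem hn haC) (inv_mem hn), h.ph_mul hn haC, h.ph_inv hn, one_mul, inv_one, mul_one]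

theorem N_KI {n : G} (hn : n ∈ centralizer (Z : Set G)) (hnV : n ∈ normalizer (V : Set G)) {x : h.HI}
    (hx : x ∈ h.KI) : h.ph n * x * (h.ph n)⁻¹ ∈ h.KI := by
  obtain ⟨a, ha, rfl⟩ := hx
  have haC := h.yl_C ha
  refine ⟨n * a * n⁻¹, (mem_normalizer_iff.1 (norm_yl V Z hnV) _).1 ha, ?_⟩
  rw [h.ph_mul (mul_mem hn haC) (inv_mem hn), h.ph_mul hn haC, h.ph_inv hn]

/-- equivariance of `α` -/
theorem ah_equi (hN : NTr V Z) (hrd : rd V Z = Z) {x : h.HI} (hx : x • h.v0 = h.v0) (m : h.MF) :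
    h.ah (x • m) = x * h.ah m * x⁻¹ := by
  obtain ⟨d, hd, rfl⟩ := h.ph_surj x
  obtain ⟨k, hk, hkd⟩ := h.fix_v0 hrd hd (by rw [← h.ph_smul hd]; exact hx)
  have hkC := h.one.K_le_C hk
  have hcC := centralizer_le h.one.pl.ZV hkd
  have e : h.ph d = h.ph (k⁻¹ * d) := by
    rw [h.ph_mul (inv_mem hkC) hd, h.ph_inv hkC, h.ph_K hk, inv_one, one_mul]
  rw [e, eq_mul_inv_iff_mul_eq]
  refine h.faith fun y => ?_
  rw [mul_smul, mul_smul, h.ah_smul, h.ah_smul, h.ph_smul hcC, h.ph_smul hcC, h.ph_smul hcC]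
  exact congrArg (fun f : Module.End F h.MF => f y) (h.al_equi hN hkd m)

end Co

end Cfsg.Agent.Omega.NO3S.OneQ
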