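import Cfsg.Agent.Omega.NO3S.OneQ.StarA
import Cfsg.Agent.Omega.NO3S.OneQ.KOneDx

/-!
# NO-3S, `OneSz` (`q ≥ 4`, `n = 1`), case (N), `D_Z` arbitrary: a line in `V rd` is `V`

* `Co.rad_dd` : for lines `L ≠ M` on `Z` with `L rd = M rd`: `I_M ≤ D_Z(L)`;
* **`Co.rad_line`** : a line `M` on `Z` with `M ≤ V rd` is `V`;
* `Co.norm_of_smul_N` : an element of `C_G(Z)` which fixes the point `F v0` of `MF` normalises `V`;
* `Co.fix_v0_N` : an element of `C_G(Z)` which fixes `v0` lies in `K_Z C_G(V)`.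
-/

set_option autoImplicit false
set_option linter.unusedSectionVars false

namespace Cfsg.Agent.Omega.NO3S.OneQ

open Subgroup Cfsg Cfsg.Agent.Omega.NO3S.PT Cfsg.Agent.Omega.NoFF.Basic
open scoped Pointwise

universe u

theorem cj_rd {G : Type u} [Group G] (V X : Subgroup G) (g : G) : PT.cj g (rd V X) = rd V (PT.cj g X) := by
  unfold rd
  rw [ws_cj, kx_cj]
  ext w
  rw [mem_cj, mem_inf, mem_inf, mem_cj, ← cj_centralizer, mem_cj]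

namespace Co

variable {G : Type u} [Group G] [Finite G] {F : Type*} [Field F] [CharP F 2] {S : Sylow 2 G} {B P V Z : Subgroup G}
  (h : Co F S B P V Z)
include h

theorem nn_N (hN : NTr V Z) : NN V Z := fun _ hw =>
  hN.mem_ee h.one h.pY h.Yp_ne hw.1 fun u hu => hw.2.2 _ h.pY u hu

theorem rd_flag {L X : Subgroup G} (hL : IsCj V L) (hX : IsCj Z X) (hXL : X ≤ L) : rd V X ⊓ IV L Z ≤ X := by
  obtain ⟨g, rfl, rfl⟩ := PB.Geom.exists_conj_flag h.one.pl hX hL hXL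
  have h2 : IV (PT.cj g V) Z = PT.cj g (IV V Z) := by
    rw [← IV_of (V := PT.cj g V) hX, PB.Geom.IV_conj h.one.pl h.one.hf]
  rw [h2, ← cj_rd]
  intro w hw
  rw [mem_inf, mem_cj, mem_cj] at hw
  rw [mem_cj]
  exact h.rd_inf_I ⟨hw.1, hw.2⟩

theorem rd_dd_flag (hN : NTr V Z) {L X : Subgroup G} (hL : IsCj V L) (hX : IsCj Z X) (hXL : X ≤ L) :
    rd V X ≤ dd L Z X := by
  obtain ⟨g, rfl, rfl⟩ := PB.Geom.exists_conj_flag h.one.pl hX hL hXL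
  rw [← cj_rd, ← cj_conj_dd]
  exact cj_le_cj.2 (h.rd_le_dd hN)

/-- two lines on `Z` with a common element outside of `Z` -/
theorem line_eq_of_mem {L M : Subgroup G} (hL : IsCj V L) (hM : IsCj V M) (hZL : Z ≤ L) (hZM : Z ≤ M) {y : G}
    (hyL : y ∈ L) (hyM : y ∈ M) (hyZ : y ∉ Z) : L = M := by
  have hZ := h.one.self.cj
  have hy1 : y ≠ 1 := fun e => hyZ (e ▸ one_mem _)
  obtain ⟨S', C', Q, h'⟩ := h.one.flag hL hZ hZL
  obtain ⟨S2, C2, Q2, h2⟩ := h.one.flag hM hZ hZM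
  obtain ⟨T, hT, hTL, hyT⟩ := h'.pl.exists_point hyL hy1
  obtain ⟨T', hT', hTM, hyT'⟩ := h2.pl.exists_point hyM hy1
  obtain rfl := h.one.pl.pts_eq hT hT' hyT hyT' hy1
  exact h.one.line_eq hL hM hZ hT hZL hTL hZM hTM (fun e => hyZ (e ▸ hyT))

/-- a second point of a line on `Z` -/
theorem exists_pt_out {L : Subgroup G} (hL : IsCj V L) (hZL : Z ≤ L) : ∃ T, IsCj Z T ∧ T ≤ L ∧ T ≠ Z := by
  obtain ⟨S', C', Q', h'⟩ := h.one.flag hL h.one.self.cj hZL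
  obtain ⟨Y, hY, hne⟩ := h'.exists_ne h'.self
  exact ⟨Y, hY.cj, hY.le, hne⟩

section pair

variable {L M : Subgroup G} (hN : NTr V Z) (hL : IsCj V L) (hZL : Z ≤ L)
  (hLM : ∀ m ∈ M, ∃ l ∈ L, ∃ r ∈ rd V Z, m = l * r)
include hN hL hZL hLM

/-- `⟨W_T | T ≤ L⟩` centralises `M` -/
theorem rad_W {T : Subgroup G} (hT : IsCj Z T) (hTL : T ≤ L) : ws V T ≤ centralizer (M : Set G) := by
  intro w hw
  rw [mem_centralizer_iff]
  intro m hm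
  obtain ⟨l, hl, r, hr, rfl⟩ := hLM m hm
  have h1 : l * w = w * l := mem_centralizer_iff.1 (h.one.ws_le_line hL hT hTL hw) l hl
  have h2 : w * r = r * w :=
    h.one.dd_cent_line hL h.one.self.cj hZL hT hTL (h.rd_dd_flag hN hL h.one.self.cj hZL hr) hw
  calc l * r * w = l * (r * w) := mul_assoc _ _ _
    _ = l * (w * r) := by rw [h2]
    _ = l * w * r := (mul_assoc _ _ _).symm
    _ = w * l * r := by rw [h1]
    _ = w * (l * r) := mul_assoc _ _ _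

variable [Finite F] (hM : IsCj V M) (hZM : Z ≤ M)
include hM hZM

/-- `I_L ∩ I_M = Z` -/
theorem rad_inf (hML : ∀ l ∈ L, ∃ m ∈ M, ∃ r ∈ rd V Z, l = m * r) (hne : L ≠ M) : IV L Z ⊓ IV M Z ≤ Z := by
  have hZ := h.one.self.cj
  obtain ⟨S2, C2, Q2, h2⟩ := h.one.flag hM hZ hZM
  have hMI : M ≤ IV M Z := h2.pl.V_le_IV
  have hML' : L ⊓ IV M Z ≤ Z := by
    rintro y ⟨hyL, hyI⟩
    by_contra hyZ
    obtain ⟨m, hm, r, hr, e⟩ := hML y hyL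
    have hrI : r ∈ IV M Z := by
      have e1 : r = m⁻¹ * y := by rw [e]; group
      rw [e1]; exact (IV M Z).mul_mem ((IV M Z).inv_mem (hMI hm)) hyI
    have hrZ : r ∈ Z := h.rd_flag hM hZ hZM ⟨hr, hrI⟩
    have hyM : y ∈ M := by rw [e]; exact M.mul_mem hm (hZM hrZ)
    exact hne (h.line_eq_of_mem hL hM hZL hZM hyL hyM hyZ)
  rintro u ⟨huL, huM⟩
  by_contra huZ
  by_cases hu : u ∈ L
  · exact huZ (hML' ⟨hu, huM⟩)
  obtain ⟨S', C', Q, h'⟩ := h.one.flag hL hZ hZL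
  obtain ⟨T, hT, hTL, hTZ⟩ := h.exists_pt_out hL hZL
  obtain ⟨y, hy, hy1⟩ := h.one.pl.pt_ne_bot hT
  obtain ⟨d, hd, hdL, hdu⟩ := h'.pl.F2' h'.hf h'.hO huL hu hT hTL hy
  rw [kx_line hL] at hd
  have hdZ : d ∈ centralizer (Z : Set G) := centralizer_le hZL hdL
  have hdN := centralizer_le_normalizer _ hdZ
  have hdM : d ∈ normalizer (M : Set G) := by
    rw [← cj_eq_iff]
    refine eq_of_le_of_card_ge ?_ (by rw [card_cj])
    intro x hx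
    rw [mem_cj] at hx
    obtain ⟨l, hl, r, hr, e⟩ := hLM _ hx
    have h1 : d * r * d⁻¹ * r⁻¹ ∈ Z := by
      refine h.rd_flag hL hZ hZL ⟨(rd V Z).mul_mem ((mem_normalizer_iff.1 (norm_rd V Z hdN) r).1 hr)
        ((rd V Z).inv_mem hr), ?_⟩
      obtain ⟨M', Q', s⟩ := h.one.exists_SP (h.w1_le_ee hN) hL hT hTL hZ hZL (Ne.symm hTZ)
      exact s.triv h.one (h.w1_le_ee hN) hd hdL (h.rd_dd_flag hN hL hZ hZL hr)
    have h3 : d * l = l * d := (mem_centralizer_iff.1 hdL l hl).symm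
    have e2 : x = d * r * d⁻¹ * r⁻¹ * (d⁻¹ * x * d) := by
      have e3 : x = d * (l * r) * d⁻¹ := by rw [← e]; group
      have h4 : l * (d * r * d⁻¹ * r⁻¹) = d * r * d⁻¹ * r⁻¹ * l :=
        h.one.comm_W hZ (h.one.line_le_ws hL hZL hl) (h.one.pl.Z_le_ws h1)
      calc x = d * l * r * d⁻¹ := by rw [e3]; group
        _ = l * (d * r * d⁻¹ * r⁻¹) * r := by rw [h3]; group
        _ = d * r * d⁻¹ * r⁻¹ * (l * r) := by rw [h4, mul_assoc]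
        _ = d * r * d⁻¹ * r⁻¹ * (d⁻¹ * x * d) := by rw [e]
    rw [e2]
    exact M.mul_mem (hZM h1) hx
  have huI : d * u * d⁻¹ * u⁻¹ ∈ IV M Z :=
    (IV M Z).mul_mem ((mem_normalizer_iff.1 (normalizer_le_IV M Z hdM) u).1 huM) ((IV M Z).inv_mem huM)
  rw [hdu] at huI
  exact hTZ (h.one.pl.pts_eq hT hZ hy (hML' ⟨hTL hy, huI⟩) hy1)

/-- `I_M ≤ D_Z(L)` -/
theorem rad_dd (hML : ∀ l ∈ L, ∃ m ∈ M, ∃ r ∈ rd V Z, l = m * r) (hne : L ≠ M) : IV M Z ≤ dd L Z Z := by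
  have hZ := h.one.self.cj
  have hinf := h.rad_inf hN hL hZL hLM hM hZM hML hne
  obtain ⟨T, hT, hTL, hTZ⟩ := h.exists_pt_out hL hZL
  obtain ⟨Q, hQ, hQM, hQZ⟩ := h.exists_pt_out hM hZM
  have hIZ : IV M Z ≤ ws V Z := by rw [← h.one.IV_line hM hZ hZM hQ hQM hQZ.symm]; exact inf_le_left
  have hIQ : IV M Z ≤ ws V Q := by rw [← h.one.IV_line hM hZ hZM hQ hQM hQZ.symm]; exact inf_le_right
  intro u hu
  refine h.one.nn_dd (h.nn_N hN) hL hZ hZL hT hTL hTZ (hIZ hu) fun w hw => hinf ⟨?_, ?_⟩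
  · rw [← h.one.IV_line hL hZ hZL hT hTL hTZ.symm]
    have hwL := h.one.ws_le_line hL hT hTL hw
    have h1 : w ∈ normalizer ((ws V Z : Subgroup G) : Set G) :=
      normalizer_le_ws V Z (centralizer_le_normalizer _ (centralizer_le hZL hwL))
    have huL := h.rad_W hN hM hZM hML hQ hQM (hIQ hu)
    have h2 : u ∈ normalizer ((ws V T : Subgroup G) : Set G) :=
      normalizer_le_ws V T (centralizer_le_normalizer _ (centralizer_le hTL huL))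
    refine ⟨?_, (ws V T).mul_mem ((mem_normalizer_iff.1 h2 w).1 hw) ((ws V T).inv_mem hw)⟩
    have e : u * w * u⁻¹ * w⁻¹ = u * (w * u⁻¹ * w⁻¹) := by group
    rw [e]
    exact (ws V Z).mul_mem (hIZ hu) ((mem_normalizer_iff.1 h1 _).1 ((ws V Z).inv_mem (hIZ hu)))
  · have h1 : w ∈ normalizer ((IV M Z : Subgroup G) : Set G) :=
      normalizer_le_IV M Z (centralizer_le_normalizer _ (h.rad_W hN hL hZL hLM hT hTL hw))
    have e : u * w * u⁻¹ * w⁻¹ = u * (w * u⁻¹ * w⁻¹) := by group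
    rw [e]
    exact (IV M Z).mul_mem hu ((mem_normalizer_iff.1 h1 _).1 ((IV M Z).inv_mem hu))

end pair

/-- elements of `E_Q(M)` with given action on `w ∉ E_Z(M)` -/
theorem exists_val [Finite F] (hN : NTr V Z) {M Q : Subgroup G} (hM : IsCj V M) (hZM : Z ≤ M) (hQ : IsCj Z Q)
    (hQM : Q ≤ M) (hQZ : Q ≠ Z) {w k : G} (hw : w ∈ ws V Z) (hwE : w ∉ ee M Z Z) (hk : k ∈ kx V Z) :
    ∃ e ∈ ws V Q, e ∈ kx V Z ∧ e * w * e⁻¹ = k * w * k⁻¹ := by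
  obtain ⟨c, hc, rfl⟩ := h.line_eq hM hZM
  have hcN := centralizer_le_normalizer _ hc
  have hcZ : PT.cj c Z = Z := cj_eq_iff.2 hcN
  have h1 : h.fm ⟨w, hw⟩ ∉ (h.Eb).map (h.rp ⟨c, h.C_le_hat hc⟩) := fun e => hwE ((h.fm_Ec_iff hN hc hw).1 e)
  obtain ⟨φ, hφ, hφk⟩ := Submodule.exists_le_ker_of_notMem h1
  obtain ⟨e, -, he, heK, hee⟩ := dual_line (h.dualN hN) hc ((h.fn w k * (φ (h.fm ⟨w, hw⟩))⁻¹) • φ) fun m hm => by
    rw [LinearMap.smul_apply, show φ (h.rp ⟨c, h.C_le_hat hc⟩ m) = 0 from hφk ⟨m, hm, rfl⟩, smul_zero]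
  have h2 := hee ⟨w, hw⟩
  rw [LinearMap.smul_apply, smul_eq_mul, inv_mul_cancel_right₀ hφ] at h2
  -- move the point
  have hQ0 : PT.cj c h.Yp ≠ Z := fun e1 => h.Yp_ne (cj_inj.1 (e1.trans hcZ.symm))
  obtain ⟨S', C', R', h'⟩ := h.one.flag hM h.one.self.cj hZM
  obtain ⟨t, ht, htQ⟩ := h'.move h'.self ⟨h.pY.cj.cj c, cj_le_cj.2 h.pY.le⟩ ⟨hQ, hQM⟩ hQ0 hQZ
  rw [kx_line hM] at ht
  have hti : t⁻¹ ∈ kx V Z := inv_mem ht
  have hte : t * e * t⁻¹ ∈ kx V Z := (kx V Z).mul_mem ((kx V Z).mul_mem ht heK) hti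
  refine ⟨t * e * t⁻¹, ?_, hte, ?_⟩
  · have h3 := conj_mem_cj (g := t) he
    rwa [← ws_cj, htQ] at h3
  · have h3 : h.fn w (t * e * t⁻¹) = h.fn w k := by
      have h4 : h.fn w (t * t⁻¹) = 0 := by rw [mul_inv_cancel]; exact h.fn_one' hw
      rw [h.fn_mul' hw ht hti] at h4
      rw [h.fn_mul' hw ((kx V Z).mul_mem ht heK) hti, h.fn_mul' hw ht heK, h2, add_right_comm, h4, zero_add]
    have h5 := h.e_fn hw hte
    have h6 := h.e_fn hw hk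
    rw [h3, h6] at h5
    exact (mul_right_cancel h5).symm

/-- comparison of `[d, e]` and `[d, e₁]` -/
theorem rad_key [Finite F] (hN : NTr V Z) {K L Q R : Subgroup G} (s : SP V Z K L Z Q R) {d e e₁ p : G} (hd : d ∈ rd V Q)
    (he : e ∈ kx V Z) (he₁ : e₁ ∈ kx V Z) (hp : p ∈ Q) (hp1 : p ≠ 1) (hep : e₁ * p * e₁⁻¹ = e * p * e⁻¹) :
    ∃ p' ∈ PT.cj e Q, d * e₁ * d⁻¹ * e₁⁻¹ = d * e * d⁻¹ * e⁻¹ * p' := by
  set k := e⁻¹ * e₁ with hk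
  have hkK : k ∈ kx V Z := (kx V Z).mul_mem ((kx V Z).inv_mem he) he₁
  have hkp : k * p = p * k := by
    have e1 : k * p * k⁻¹ = e⁻¹ * (e₁ * p * e₁⁻¹) * e := by rw [hk]; group
    rw [hep] at e1
    have e2 : e⁻¹ * (e * p * e⁻¹) * e = p := by group
    rw [e2] at e1
    exact mul_inv_eq_iff_eq_mul.1 e1
  have hkC : k ∈ centralizer (K : Set G) :=
    h.one.lin_fix s.hL s.hX s.hXL s.hY s.hYL s.hYX.symm (kx_le_cent hkK) hp hp1 hkp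
  have hkQ : k ∈ normalizer ((rd V Q : Subgroup G) : Set G) :=
    norm_rd V Q (centralizer_le_normalizer _ (centralizer_le s.hYL hkC))
  have hdD : d ∈ dd K Z Q := h.rd_dd_flag hN s.hL s.hY s.hYL hd
  have h1 : k * d * k⁻¹ * d⁻¹ ∈ Q :=
    h.rd_flag s.hL s.hY s.hYL ⟨(rd V Q).mul_mem ((mem_normalizer_iff.1 hkQ d).1 hd) ((rd V Q).inv_mem hd),
      s.triv h.one (h.w1_le_ee hN) hkK hkC hdD⟩
  refine ⟨e * (k * d * k⁻¹ * d⁻¹)⁻¹ * e⁻¹, conj_mem_cj (Q.inv_mem h1), ?_⟩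
  have e3 : e₁ = e * k := by rw [hk]; group
  have e4 : d * (e * k) * d⁻¹ * (e * k)⁻¹ = d * e * d⁻¹ * (d * k * d⁻¹ * k⁻¹) * e⁻¹ := by group
  rw [e3, e4]
  group

theorem rad_end {K Q : Subgroup G} (hK : IsCj V K) (hZK : Z ≤ K) (hQ : IsCj Z Q) (hQK : Q ≤ K)
    {d e : G} (hd : d ∈ rd V Q) (he : e ∈ kx V Z) (heQ : PT.cj e Q ≠ Q)
    (hD : d * e * d⁻¹ * e⁻¹ ∈ ws V (PT.cj e Q)) : d ∈ Q := by
  have hK1 : PT.cj e K = K := cj_eq_iff.2 (h.one.K_norm_line hK h.one.self.cj hZK he)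
  have hQK' : PT.cj e Q ≤ K := by
    have := cj_le_cj (g := e) |>.2 hQK
    rwa [hK1] at this
  have h1 : e * d⁻¹ * e⁻¹ ∈ ws V (PT.cj e Q) := by
    rw [ws_cj]
    exact conj_mem_cj ((ws V Q).inv_mem (rd_le hd))
  have h2 : d ∈ ws V (PT.cj e Q) := by
    have e1 : d = d * e * d⁻¹ * e⁻¹ * (e * d⁻¹ * e⁻¹)⁻¹ := by group
    rw [e1]
    exact (ws V _).mul_mem hD ((ws V _).inv_mem h1)
  exact h.rd_flag hK hQ hQK ⟨hd, by rw [← h.one.IV_line hK hQ hQK (hQ.cj e) hQK' heQ.symm]; exact ⟨rd_le hd, h2⟩⟩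

/-- **a line in `V rd` is `V`** -/
theorem rad_line [Finite F] (hN : NTr V Z) {M : Subgroup G} (hM : IsCj V M) (hZM : Z ≤ M)
    (hMV : ∀ m ∈ M, ∃ v ∈ V, ∃ r ∈ rd V Z, m = v * r) (hVM : ∀ v ∈ V, ∃ m ∈ M, ∃ r ∈ rd V Z, v = m * r) : M = V := by
  by_contra hne
  have hZ := h.one.self.cj
  have hV : IsCj V V := ⟨1, (cj_one V).symm⟩
  have hZV := h.one.pl.ZV
  have hw1 := h.w1_le_ee hN
  obtain ⟨K, Q, s⟩ := h.one.exists_SP hw1 hV hZ hZV h.pY.cj h.pY.le h.Yp_ne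
  have hZK := s.hXM
  have hK := s.hM
  have hQ := s.hQ
  have hQK := s.hQM
  have hQZ := s.hQX
  obtain ⟨T, hT, hTM, hTZ⟩ := h.exists_pt_out hM hZM
  -- `e ∈ E_Y(V)` moves `Q`
  obtain ⟨e, he, heK, heQ⟩ := s.symm.exists_e h.one hw1
  have hK1 : PT.cj e K = K := cj_eq_iff.2 (h.one.K_norm_line hK hZ hZK heK)
  have hQe : PT.cj e Q ≤ K := by
    have := cj_le_cj (g := e) |>.2 hQK
    rwa [hK1] at this
  have hQeZ : PT.cj e Q ≠ Z := by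
    intro e1
    have e2 : PT.cj e Z = Z := cj_eq_iff.2 (centralizer_le_normalizer _ (kx_le_cent heK))
    exact hQZ (cj_inj.1 (e1.trans e2.symm))
  -- `d ∈ rd_Q - Q`
  obtain ⟨d, hd, hdQ⟩ : ∃ d ∈ rd V Q, d ∉ Q := by
    by_contra hcon
    push Not at hcon
    obtain ⟨g, rfl⟩ := hQ
    rw [← cj_rd] at hcon
    have hr : rd V Z ≤ Z := cj_le_cj.1 hcon
    apply hne
    refine eq_of_le_of_card_ge (fun m hm => ?_) ?_
    · obtain ⟨v, hv, r, hr', rfl⟩ := hMV m hm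
      exact V.mul_mem hv (hZV (hr hr'))
    · obtain ⟨x, rfl⟩ := hM
      rw [card_cj]
  have hdD : d ∈ dd K Z Q := h.rd_dd_flag hN hK hQ hQK hd
  set D := d * e * d⁻¹ * e⁻¹ with hDdef
  have hDV : D ∈ IV V Z := s.symm.comm h.one hw1 he heK hdD
  have hDK : D ∈ dd K Z Z := s.symm.comm' h.one hw1 he heK hdD
  have hfin : D ∉ ws V (PT.cj e Q) := fun e1 => hdQ (h.rad_end hK hZK hQ hQK hd heK heQ e1)
  -- `M ≰ E_Z(K)`
  have hTE : ∃ t ∈ T, t ∉ ee K Z Z := by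
    obtain ⟨y, hy, hyE⟩ := s.s2
    obtain ⟨m, hm, r, hr, e1⟩ := hVM y (h.pY.le hy)
    have hrE : r ∈ ee K Z Z := by
      have h1 := h.rd_dd_flag hN hK hZ hZK hr
      obtain ⟨S', C', Q', h'⟩ := h.one.flag hK hZ hZK
      exact h'.dd_le_ee h'.self h1
    have hmE : m ∉ ee K Z Z := fun e2 => hyE (by rw [e1]; exact (ee K Z Z).mul_mem e2 hrE)
    obtain ⟨z, hz, t, ht, e3⟩ := h.one.line_mul hM hZ hZM hT hTM hTZ.symm hm
    exact ⟨t, ht, fun e2 => hmE (by rw [e3]; exact (ee K Z Z).mul_mem (h.one.X_le_ee hK hZ hZK hz) e2)⟩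
  have hIM : IV V Z ≤ dd M Z Z := h.rad_dd hN hM hZM hVM hV hZV hMV hne
  by_cases hs : ∃ q ∈ Q, q ∉ ee M Z Z
  · -- `(K, M)` is an S-pair
    obtain ⟨q, hq, hqE⟩ := hs
    have hq1 : q ≠ 1 := fun e1 => hqE (e1 ▸ one_mem _)
    have s' : SP V Z K M Z Q T := ⟨hK, hM, hZ, hZK, hZM, hQ, hQK, hQZ, hT, hTM, hTZ, hTE, ⟨q, hq, hqE⟩⟩
    obtain ⟨e₁, he₁, he₁K, hee⟩ := h.exists_val hN hM hZM hT hTM hTZ (h.one.line_le_ws hK hZK (hQK hq)) hqE heK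
    obtain ⟨p', hp', hD1⟩ := h.rad_key hN s' hd heK he₁K hq hq1 hee
    rw [← hDdef] at hD1
    have hD1M : d * e₁ * d⁻¹ * e₁⁻¹ ∈ IV M Z := s'.comm h.one hw1 he₁ he₁K hdD
    have hMV' : IV M Z ≤ dd V Z Z := h.rad_dd hN hV hZV hMV hM hZM hVM (Ne.symm hne)
    have hp'D : p' ∈ dd V Z Z := by
      have e1 : p' = D⁻¹ * (d * e₁ * d⁻¹ * e₁⁻¹) := by rw [hD1]; group
      rw [e1]
      exact (dd V Z Z).mul_mem ((dd V Z Z).inv_mem (h.one.I_le_dd h.one.self hDV)) (hMV' hD1M)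
    have hp'1 : p' = 1 := by
      by_contra hp'1
      have h1 := h.one.le_ee_of hw1 hV hK hZ hZV hZK h.pY.cj h.pY.le h.Yp_ne (hQ.cj e) hQe hQeZ hp' hp'1
        (h.one.dd_le_ee h.one.self hp'D)
      obtain ⟨q', hq', hq'E⟩ := s.s1
      exact hq'E (h1 (hQK hq'))
    rw [hp'1, mul_one] at hD1
    have hDZ : D ∈ Z := h.rad_inf hN hV hZV hMV hM hZM hVM (Ne.symm hne) ⟨hDV, by rw [← hD1]; exact hD1M⟩
    refine hfin ?_
    have h2 := h.one.line_le_ws hK hQe (hZK hDZ)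
    exact h2
  · push Not at hs
    obtain ⟨t, ht, htE⟩ := hTE
    obtain ⟨y, hy, b, hb, hby⟩ := h.one.asym hw1 hK hM hZ hZK hZM hQ hQK hQZ hT hTM hTZ ht htE
    have hc : y * b * y⁻¹ * b⁻¹ ∈ T := h.one.ee_line_act hM hZ hZM hT hTM hTZ (hs y hy) hb
    have hbM := h.one.ws_le_line hM hT hTM hb
    have hbZ : PT.cj b Z = Z := by
      rw [cj_eq_iff]
      exact centralizer_le_normalizer _ (centralizer_le hZM hbM)
    have hbi : b⁻¹ = b := h.one.W_inv hT hb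
    have hyE : y ∈ ee K Z Z := by
      obtain ⟨S', C', R, h'⟩ := h.one.flag hK hZ hZK
      have h1 := (h'.pl.V_le_IV.trans (h'.I_le_dd h'.self)).trans (h'.dd_le_ee h'.self)
      exact h1 (hQK hy)
    have hMnot : ¬ M ≤ ee K Z Z := fun e1 => htE (e1 (hTM ht))
    have key : b * y * b⁻¹ ∉ ee K Z Z := by
      intro e1
      have h1 : y * b * y⁻¹ * b⁻¹ ∈ ee K Z Z := by
        have h2 : y * b * y⁻¹ * b⁻¹ = y * (b * y * b⁻¹)⁻¹ := by group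
        rw [h2]
        exact (ee K Z Z).mul_mem hyE ((ee K Z Z).inv_mem e1)
      have h3 : y * b * y⁻¹ * b⁻¹ ≠ 1 := by
        intro e1
        rw [mul_inv_eq_one, mul_inv_eq_iff_eq_mul] at e1
        exact hby e1.symm
      exact hMnot (h.one.le_ee_of hw1 hK hM hZ hZK hZM hQ hQK hQZ hT hTM hTZ hc h3 h1)
    have hyK1 : y ∉ ee (PT.cj b K) Z Z := by
      intro e1
      apply key
      have h2 : y ∈ PT.cj b (ee K Z Z) := by
        rw [cj_conj_ee, hbZ]; exact e1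
      have h3 := mem_cj.1 h2
      rwa [hbi] at h3 ⊢
    have hZK1 : Z ≤ PT.cj b K := by
      nth_rewrite 1 [← hbZ]
      exact cj_le_cj.2 hZK
    have hQ1Z : PT.cj b Q ≠ Z := fun e1 => hQZ (cj_inj.1 (e1.trans hbZ.symm))
    have s' : SP V Z K (PT.cj b K) Z Q (PT.cj b Q) :=
      ⟨hK, hK.cj b, hZ, hZK, hZK1, hQ, hQK, hQZ, hQ.cj b, cj_le_cj.2 hQK, hQ1Z, ⟨b * y * b⁻¹, conj_mem_cj hy, key⟩,
        ⟨y, hy, hyK1⟩⟩
    have hy1 : y ≠ 1 := fun e1 => hyK1 (e1 ▸ one_mem _)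
    obtain ⟨e₁, he₁, he₁K, hee⟩ := h.exists_val hN (hK.cj b) hZK1 (hQ.cj b) (cj_le_cj.2 hQK) hQ1Z
      (h.one.line_le_ws hK hZK (hQK hy)) hyK1 heK
    obtain ⟨p', hp', hD1⟩ := h.rad_key hN s' hd heK he₁K hy hy1 hee
    rw [← hDdef] at hD1
    have hD1M : d * e₁ * d⁻¹ * e₁⁻¹ ∈ IV (PT.cj b K) Z := s'.comm h.one hw1 he₁ he₁K hdD
    -- `b` centralises `D`
    have hbD : b * D = D * b := h.one.dd_cent_line hM hZ hZM hT hTM (hIM hDV) hb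
    have hD1K : b⁻¹ * (d * e₁ * d⁻¹ * e₁⁻¹) * b ∈ IV K Z := by
      have h1 : IV (PT.cj b K) Z = PT.cj b (IV K Z) := by
        obtain ⟨S', C', R, h'⟩ := h.one.flag hK hZ hZK
        rw [← PB.Geom.IV_conj h'.pl h'.hf, hbZ]
      rw [h1, mem_cj] at hD1M
      exact hD1M
    have e5 : b⁻¹ * (d * e₁ * d⁻¹ * e₁⁻¹) * b = D * (b⁻¹ * p' * b) := by
      rw [hD1]
      have e6 : b⁻¹ * (D * p') * b = b⁻¹ * D * p' * b := by group
      have e7 : b⁻¹ * D = D * b⁻¹ := by rw [hbi]; exact hbD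
      rw [e6, e7]; group
    rw [e5] at hD1K
    have hIKD : IV K Z ≤ dd K Z Z := h.one.I_le_dd_line hK hZ hZK
    have hp'D : b⁻¹ * p' * b ∈ dd K Z Z := by
      have e1 : b⁻¹ * p' * b = D⁻¹ * (D * (b⁻¹ * p' * b)) := by group
      rw [e1]
      exact (dd K Z Z).mul_mem ((dd K Z Z).inv_mem hDK) (hIKD hD1K)
    have hp'1 : b⁻¹ * p' * b = 1 := by
      by_contra hp'1
      have h1 : b⁻¹ * p' * b ∈ PT.cj b (PT.cj e Q) := by
        rw [mem_cj]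
        have e1 : b⁻¹ * (b⁻¹ * p' * b) * b = p' := by
          have e2 : b * b = 1 := by
            have := inv_mul_cancel b
            rwa [hbi] at this
          rw [hbi]
          calc b * (b * p' * b) * b = b * b * p' * (b * b) := by group
            _ = p' := by rw [e2]; group
        rw [e1]; exact hp'
      have hneZ : PT.cj b (PT.cj e Q) ≠ Z := fun e1 => hQeZ (cj_inj.1 (e1.trans hbZ.symm))
      have hddE : dd K Z Z ≤ ee K Z Z := by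
        obtain ⟨S', C', R, h'⟩ := h.one.flag hK hZ hZK
        exact h'.dd_le_ee h'.self
      have h2 := h.one.le_ee_of hw1 hK (hK.cj b) hZ hZK hZK1 hQ hQK hQZ ((hQ.cj e).cj b) (cj_le_cj.2 hQe) hneZ h1 hp'1
        (hddE hp'D)
      exact key (h2 (cj_le_cj.2 hQK (conj_mem_cj hy)))
    rw [hp'1, mul_one] at hD1K
    refine hfin ?_
    have h2 := h.one.IV_line hK hQ hQK (hQ.cj e) hQe heQ.symm
    rw [← h2] at hD1K
    exact hD1K.2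

/-- an element of `C_G(Z)` which fixes the point `F v0` normalises `V` -/
theorem norm_of_smul_N [Finite F] (hN : NTr V Z) {g : G} (hg : g ∈ centralizer (Z : Set G)) {c : F}
    (h1 : h.rp ⟨g, h.C_le_hat hg⟩ h.v0 = c • h.v0) : g ∈ normalizer (V : Set G) := by
  have hgN := centralizer_le_normalizer _ hg
  have hgZ : PT.cj g Z = Z := cj_eq_iff.2 hgN
  have hV : IsCj V V := ⟨1, (cj_one V).symm⟩
  have hc : c ≠ 0 := by
    rintro rfl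
    rw [zero_smul] at h1
    have h2 : h.rp ⟨g⁻¹, inv_mem (h.C_le_hat hg)⟩ (h.rp ⟨g, h.C_le_hat hg⟩ h.v0) = h.v0 := by
      rw [← Module.End.mul_apply, ← map_mul]
      have e : (⟨g⁻¹, inv_mem (h.C_le_hat hg)⟩ : h.hat) * ⟨g, h.C_le_hat hg⟩ = 1 := Subtype.ext (inv_mul_cancel g)
      rw [e, map_one]; rfl
    rw [h1, map_zero] at h2
    exact h.v0_ne h2.symm
  -- `g e(0,y) g⁻¹ ∈ e(0, y c) rd`
  have hact : ∀ y, g * h.e 0 y * g⁻¹ * (h.e 0 (y * c))⁻¹ ∈ rd V Z := by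
    intro y
    have e : h.rp ⟨g, h.C_le_hat hg⟩ (h.fm ⟨h.e 0 y, h.W_V 0 y⟩) = _ := h.rp_fm' (h.C_le_hat hg) (h.W_V 0 y)
    have e2 : h.rp ⟨g, h.C_le_hat hg⟩ (h.fm ⟨h.e 0 y, h.W_V 0 y⟩) = h.fm ⟨h.e 0 (y * c), h.W_V 0 (y * c)⟩ := by
      rw [h.fm_e, map_smul, h1, h.fm_e, smul_smul]
    rw [e, h.fm_eq] at e2
    exact e2
  have hZg : ∀ x, g * h.e x 0 * g⁻¹ = h.e x 0 := fun x => by
    rw [(mem_centralizer_iff.1 hg _ (h.e_memZ x)).symm, mul_inv_cancel_right]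
  have hcom : ∀ {v r : G}, v ∈ V → r ∈ rd V Z → v * r = r * v := fun hv hr =>
    h.one.comm_W h.one.self.cj (h.one.V_le_W h.one.self hv) (rd_le hr)
  have hMV : ∀ m ∈ PT.cj g V, ∃ v ∈ V, ∃ r ∈ rd V Z, m = v * r := by
    intro m hm
    rw [mem_cj] at hm
    obtain ⟨x, y, hxy⟩ := (h.mem_V _).1 hm
    refine ⟨h.e x (y * c), h.e_memV _ _, g * h.e 0 y * g⁻¹ * (h.e 0 (y * c))⁻¹, hact y, ?_⟩
    have e0 : m = g * h.e x y * g⁻¹ := by rw [hxy]; group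
    have e1 : h.e x y = h.e x 0 * h.e 0 y := by rw [← h.e_add, add_zero, zero_add]
    have e2 : h.e x (y * c) = h.e x 0 * h.e 0 (y * c) := by rw [← h.e_add, add_zero, zero_add]
    have e3 := hcom (h.e_memV 0 (y * c)) (hact y)
    calc m = g * h.e x 0 * g⁻¹ * (g * h.e 0 y * g⁻¹) := by rw [e0, e1]; group
      _ = h.e x 0 * (g * h.e 0 y * g⁻¹ * (h.e 0 (y * c))⁻¹ * h.e 0 (y * c)) := by rw [hZg]; group
      _ = h.e x 0 * (h.e 0 (y * c) * (g * h.e 0 y * g⁻¹ * (h.e 0 (y * c))⁻¹)) := by rw [e3]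
      _ = h.e x (y * c) * (g * h.e 0 y * g⁻¹ * (h.e 0 (y * c))⁻¹) := by rw [e2]; group
  have hVM : ∀ v ∈ V, ∃ m ∈ PT.cj g V, ∃ r ∈ rd V Z, v = m * r := by
    intro v hv
    obtain ⟨x, y, rfl⟩ := (h.mem_V _).1 hv
    have h2 := hact (y * c⁻¹)
    rw [inv_mul_cancel_right₀ hc] at h2
    refine ⟨g * h.e x (y * c⁻¹) * g⁻¹, conj_mem_cj (h.e_memV _ _), _, (rd V Z).inv_mem h2, ?_⟩
    have e1 : h.e x (y * c⁻¹) = h.e x 0 * h.e 0 (y * c⁻¹) := by rw [← h.e_add, add_zero, zero_add]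
    have e2 : h.e x y = h.e x 0 * h.e 0 y := by rw [← h.e_add, add_zero, zero_add]
    have e3 : g * h.e x (y * c⁻¹) * g⁻¹ = g * h.e x 0 * g⁻¹ * (g * h.e 0 (y * c⁻¹) * g⁻¹) := by rw [e1]; group
    have e4 := hcom (h.e_memV 0 y) h2
    obtain ⟨r, hr⟩ : ∃ r, r = g * h.e 0 (y * c⁻¹) * g⁻¹ * (h.e 0 y)⁻¹ := ⟨_, rfl⟩
    have e5 : g * h.e 0 (y * c⁻¹) * g⁻¹ = r * h.e 0 y := by rw [hr]; group
    rw [← hr] at e4 ⊢
    rw [e3, hZg, e2, e5]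
    calc h.e x 0 * h.e 0 y = h.e x 0 * (h.e 0 y * r) * r⁻¹ := by group
      _ = h.e x 0 * (r * h.e 0 y) * r⁻¹ := by rw [e4]
  rw [← cj_eq_iff]
  refine h.rad_line hN ⟨g, rfl⟩ ?_ hMV hVM
  nth_rewrite 1 [← hgZ]
  exact cj_le_cj.2 h.one.pl.ZV

/-- an element of `C_G(Z)` fixing the line vector lies in `K_Z C_G(V)` -/
theorem fix_v0_N [Finite F] (hN : NTr V Z) {d : G} (hd : d ∈ centralizer (Z : Set G))
    (hd0 : h.rp ⟨d, h.C_le_hat hd⟩ h.v0 = h.v0) : ∃ k ∈ kx V Z, k⁻¹ * d ∈ centralizer (V : Set G) := by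
  have hdV : d ∈ normalizer (V : Set G) := h.norm_of_smul_N hN hd (c := 1) (by rw [hd0, one_smul])
  have h1 : d * h.e 0 1 * d⁻¹ * (h.e 0 1)⁻¹ ∈ Z := by
    have e : h.rp ⟨d, h.C_le_hat hd⟩ (h.fm ⟨h.e 0 1, h.W_V 0 1⟩) = _ := h.rp_fm' (h.C_le_hat hd) (h.W_V 0 1)
    have e2 : h.rp ⟨d, h.C_le_hat hd⟩ (h.fm ⟨h.e 0 1, h.W_V 0 1⟩) = h.fm ⟨h.e 0 1, h.W_V 0 1⟩ := by
      rw [h.fm_e, map_smul, hd0]
    rw [e, h.fm_eq] at e2
    exact h.rd_inf_I ⟨e2, h.one.pl.V_le_IV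
      (V.mul_mem ((mem_normalizer_iff.1 hdV _).1 (h.e_memV 0 1)) (V.inv_mem (h.e_memV 0 1)))⟩
  obtain ⟨t, ht⟩ := (h.mem_Z _).1 h1
  obtain ⟨k, hk, -, hkt⟩ := h.exists_K t
  refine ⟨k, hk, ?_⟩
  have hkC : k ∈ centralizer (Z : Set G) := kx_le_cent hk
  have hfC : k⁻¹ * d ∈ centralizer (Z : Set G) := mul_mem (inv_mem hkC) hd
  have e1 : d * h.e 0 1 * d⁻¹ = k * h.e 0 1 * k⁻¹ := by
    rw [hkt, zero_add, mul_one]
    have e2 : d * h.e 0 1 * d⁻¹ = h.e t 0 * h.e 0 1 := by rw [ht]; group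
    rw [e2, ← h.e_add, add_zero, zero_add]
  refine h.one.lin_base (v := h.e 0 1) (fun x hx => (mem_centralizer_iff.1 hfC x hx).symm) (h.e_memV 0 1) ?_ ?_
  · rw [h.e_memZ_iff]
    exact one_ne_zero
  · calc k⁻¹ * d * h.e 0 1 = k⁻¹ * (d * h.e 0 1 * d⁻¹) * d := by group
      _ = k⁻¹ * (k * h.e 0 1 * k⁻¹) * d := by rw [e1]
      _ = h.e 0 1 * (k⁻¹ * d) := by group

end Co

end Cfsg.Agent.Omega.NO3S.OneQ
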