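import Cfsg.Agent.Omega.NO3S.OneQ.InstLoc
import Cfsg.Agent.Omega.NO3S.OneQ.Rad
import Cfsg.Agent.Omega.NO3S.OneQ.KOneTIG
import Cfsg.Agent.Omega.NO3S.OneQ.TIq.LocW

/-!
# NO-3S, `OneSz` (`q ≥ 4`, `n = 1`), case (N), every `D_x`: the instance of `Sg.Pre`, `PreI`

* `Co.IF` : `Ī` as an `F`-subspace; `Co.mem_IF`;
* **`Co.locW`** : `TIq.LocW F v0 A0 IF al0 K0`;
* **`Co.sgPre`** : `Sg.Pre`; **`Co.preIA`** : `PreI`.
-/

set_option autoImplicit false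
set_option linter.unusedSectionVars false

namespace Cfsg.Agent.Omega.NO3S.OneQ

open Subgroup Cfsg.Agent.Omega.NO3S.PT Cfsg.Agent.Omega.NoFF.Basic
open scoped Pointwise

universe u

variable {G : Type u} [Group G]

namespace Co

variable [Finite G] {F : Type*} [Field F] [CharP F 2] {S : Sylow 2 G} {B P V Z : Subgroup G} (h : Co F S B P V Z)

/-- `Ī` as an `F`-subspace -/
noncomputable def IF : Submodule F h.MF := Submodule.span F (h.Ib : Set h.MF)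

/-- `rp = rep` on `C_G(Z)` -/
theorem rp_eq_rep' {c : G} (hc : c ∈ centralizer (Z : Set G)) (m : h.MF) :
    h.rp ⟨c, h.C_le_hat hc⟩ m = h.rep ⟨c, hc⟩ m := by
  obtain ⟨w, rfl⟩ := h.fm_surj m
  rw [h.rep_fm]
  exact h.rp_fm _ _

section

variable [Finite F] (hN : NTr V Z) (hq : ∃ ζ : F, ζ ≠ 0 ∧ ζ ≠ 1)
include hN hq

theorem Ib_smul (c : F) {m : h.MF} (hm : m ∈ h.Ib) : c • m ∈ h.Ib := by
  obtain ⟨ζ, h0, h1⟩ := hq
  obtain ⟨u, hu, rfl⟩ := hm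
  obtain ⟨u', hu', he⟩ := h.I_smul (h.w1_le_ee hN) (h.nn_N hN) h0 h1 hu c
  exact ⟨u', hu', Subtype.ext (funext fun k => he k k.2)⟩

theorem mem_IF {m : h.MF} : m ∈ h.IF ↔ m ∈ h.Ib := by
  constructor
  · intro hm
    induction hm using Submodule.span_induction with
    | mem x hx => exact hx
    | zero => exact zero_mem _
    | add a b _ _ ha hb => exact add_mem ha hb
    | smul c a _ ha => exact h.Ib_smul hN hq c ha
  · exact fun hm => Submodule.subset_span hm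

omit hq in
/-- `A` is normalised by the stabiliser of the point -/
theorem sA0_w {x a : h.HH} {c : F} (hx : x • h.v0 = c • h.v0) (ha : a ∈ h.A0) : x * a * x⁻¹ ∈ h.A0 := by
  obtain ⟨g, hg, rfl⟩ := h.exists_rH x
  obtain ⟨b, hb, rfl⟩ := h.mem_A0.1 ha
  have hgN := h.norm_of_smul_N hN hg hx
  have hbC := h.one.W_le_C h.pY hb
  have hY' : Pnt V Z (PT.cj g h.Yp) := h.pY.conj hgN
  have hgZ : PT.cj g Z = Z := cj_eq_iff.2 (centralizer_le_normalizer _ hg)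
  have hne : PT.cj g h.Yp ≠ Z := fun e => h.Yp_ne (cj_inj.1 (e.trans hgZ.symm))
  obtain ⟨k, hk, hkY⟩ := h.one.move h.one.self hY' h.pY hne h.Yp_ne
  have h1 : k * (g * b * g⁻¹) * k⁻¹ ∈ ws V h.Yp := by
    have h2 := conj_mem_cj (g := g) hb
    rw [← ws_cj] at h2
    have h3 := conj_mem_cj (g := k) h2
    rwa [← ws_cj, hkY] at h3
  refine h.mem_A0.2 ⟨_, h1, ?_⟩
  have hkC := kx_le_cent hk
  have e1 := h.rH_mul (mul_mem hkC (mul_mem (mul_mem hg hbC) (inv_mem hg))) (inv_mem hkC)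
  have e2 := h.rH_mul hkC (mul_mem (mul_mem hg hbC) (inv_mem hg))
  have e3 := h.rH_mul (mul_mem hg hbC) (inv_mem hg)
  have e4 := h.rH_mul hg hbC
  have e5 : h.rH (k * (g * b * g⁻¹) * k⁻¹) (h.one.W_le_C h.pY h1) = h.rH g hg * h.rH b hbC * (h.rH g hg)⁻¹ := by
    rw [e1, e2, e3, e4, h.rH_inv hg, h.rH_inv hkC, h.rH_K hk, one_mul, inv_one, mul_one]
  exact e5.symm

omit hq in
theorem sK0_w {x t : h.HH} {c : F} (hx : x • h.v0 = c • h.v0) (ht : t ∈ h.K0) : x * t * x⁻¹ ∈ h.K0 := by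
  obtain ⟨g, hg, rfl⟩ := h.exists_rH x
  obtain ⟨b, hb, rfl⟩ := h.mem_K0.1 ht
  have hgN := h.norm_of_smul_N hN hg hx
  have h1 : g * b * g⁻¹ ∈ yl V Z := (mem_normalizer_iff.1 (norm_yl V Z hgN) _).1 hb
  refine h.mem_K0.2 ⟨_, h1, ?_⟩
  have e3 := h.rH_mul (mul_mem hg (h.yl_C hb)) (inv_mem hg)
  have e4 := h.rH_mul hg (h.yl_C hb)
  have e5 : h.rH (g * b * g⁻¹) (h.yl_C h1) = h.rH g hg * h.rH b (h.yl_C hb) * (h.rH g hg)⁻¹ := by
    rw [e3, e4, h.rH_inv hg]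
  exact e5.symm

omit hq in
theorem sIb_w {x : h.HH} {c : F} {u : h.MF} (hx : x • h.v0 = c • h.v0) (hu : u ∈ h.Ib) : x • u ∈ h.Ib := by
  obtain ⟨g, hg, rfl⟩ := h.exists_rH x
  have hgN := h.norm_of_smul_N hN hg hx
  obtain ⟨u, hu, rfl⟩ := hu
  have h1 : g * u * g⁻¹ ∈ IV V Z := (mem_normalizer_iff.1 (normalizer_le_IV V Z hgN) _).1 hu
  refine ⟨_, h1, ?_⟩
  rw [h.rH_smul]
  exact (h.rp_fm' (h.C_le_hat hg) (h.one.I_le_W' hu)).symm

omit hq in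
/-- `α` and the stabiliser of the vector -/
theorem al0_conj_w {x : h.HH} (hx : x • h.v0 = h.v0) (m : h.MF) : h.al0 (x • m) = x * h.al0 m * x⁻¹ := by
  obtain ⟨g, hg, rfl⟩ := h.exists_rH x
  obtain ⟨k, hk, hkg⟩ := h.fix_v0_N hN hg hx
  have hkC := kx_le_cent hk
  have hgk : k⁻¹ * g ∈ centralizer (Z : Set G) := mul_mem (inv_mem hkC) hg
  have e1 : h.rH g hg = h.rH (k⁻¹ * g) hgk := by
    have e2 := h.rH_mul (inv_mem hkC) hg
    rw [e2, h.rH_inv hkC, h.rH_K hk, inv_one, one_mul]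
  rw [e1, eq_mul_inv_iff_mul_eq]
  refine h.HH_ext fun n => ?_
  have h2 := h.al_equi hN hkg m
  have h3 := LinearMap.congr_fun h2 n
  rw [mul_smul, mul_smul, h.al0_smul, h.al0_smul]
  exact h3

/-- **the record `LocW`, every `D_x`** -/
theorem locW : TIq.LocW F h.v0 h.A0 h.IF h.al0 h.K0 where
  two := h.add_self
  ne0 := h.v0_ne
  gen := h.span_v0
  sA := h.sA0_w hN
  sI := by
    intro x c u hx hu
    rw [h.mem_IF hN hq] at hu ⊢
    exact h.sIb_w hN hx hu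
  sq := by
    intro a ha
    obtain ⟨m, rfl⟩ := h.al0_surj hN ha
    refine h.HH_ext fun x => ?_
    rw [mul_smul, one_smul, h.al0_smul, h.al0_smul]
    exact LinearMap.congr_fun (h.al_sq hN m) x
  ne := by
    by_contra hc
    push Not at hc
    obtain ⟨m, hm⟩ : ∃ m, m ∉ h.Eb := by
      by_contra hc'
      push Not at hc'
      apply h.one.ee_ne h.one.self
      refine le_antisymm ee_le fun w hw => ?_
      exact (h.fm_Eb_iff hN (w := ⟨w, hw⟩)).1 (hc' _)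
    exact hm ((h.al0_one hN).1 (hc _ (h.al0_mem m)))
  self := (h.mem_IF hN hq).2 (h.lam_le_Ib (Submodule.mem_span_singleton_self _))
  comm := by
    intro a ha m
    obtain ⟨n, rfl⟩ := h.al0_surj hN ha
    rw [h.al0_smul, ← h.sub_eq, h.mem_IF hN hq]
    exact h.al_sub_Ib hN n m
  fix := by
    intro x u hx hu
    obtain ⟨a, ha, rfl⟩ := h.mem_A0.1 hx
    obtain ⟨v, hv, rfl⟩ := (h.mem_IF hN hq).1 hu
    exact h.rp_W_I h.pY ha hv
  al_mem := h.al0_mem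
  al_add := by
    intro m m'
    refine h.HH_ext fun x => ?_
    rw [mul_smul, h.al0_smul, h.al0_smul, h.al0_smul, h.al_add hN]
    rfl
  al_surj := h.al0_surj hN
  al_conj := h.al0_conj_w hN
  al_ker := by
    intro m
    rw [h.al0_one hN]
    constructor
    · intro h1 x hx
      obtain ⟨a, ha, rfl⟩ := h.mem_A0.1 hx
      obtain ⟨c, hc⟩ := Submodule.mem_span_singleton.1 (h1 a ha)
      refine ⟨c, ?_⟩
      rw [hc, h.rH_smul]
      abel
    · intro h1 a ha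
      obtain ⟨c, hc⟩ := h1 _ (h.mem_A0.2 ⟨a, ha, rfl⟩)
      refine Submodule.mem_span_singleton.2 ⟨c, ?_⟩
      rw [h.rH_smul] at hc
      rw [hc]
      abel
  sy := by
    intro m m'
    obtain ⟨c, hc⟩ := Submodule.mem_span_singleton.1 (h.al_symm hN m m')
    refine ⟨c, ?_⟩
    rw [hc, h.al0_smul, h.al0_smul, h.sub_eq, h.sub_eq, h.sub_eq]
  phl := by
    intro c e x he
    have h1 := h.al_smul_Eb hN c x ((h.al0_one hN).1 he)
    rwa [h.sub_eq, h.sub_eq] at h1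
  bl := by
    intro c m x
    obtain ⟨d, hd⟩ := Submodule.mem_span_singleton.1 (h.al_smul hN c x m)
    refine ⟨d, ?_⟩
    have e1 : h.al (c • x) m + m = h.al (c • x) m - m := (h.sub_eq _ _).symm
    have e2 : h.al x m + m = h.al x m - m := (h.sub_eq _ _).symm
    rw [h.al0_smul, h.al0_smul, e1, e2]
    exact sub_eq_iff_eq_add'.1 hd.symm
  dual := by
    intro f hf
    obtain ⟨e, he, hee⟩ := h.dual_N h.pY h.Yp_ne (hN _ h.pY h.Yp_ne) f fun w hw =>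
      hf _ ((h.al0_one hN).2 (h.fm_Eb (w := ⟨w, ee_le hw⟩) hw))
    have hx : h.sw * e * h.sw⁻¹ ∈ ee V Z Z := by
      have h1 : h.sw * e * h.sw⁻¹ ∈ cj h.sw (ee V Z h.Yp) := conj_mem_cj he
      rwa [cj_ee h.sw_N, h.cj_sw'] at h1
    refine ⟨h.fm ⟨_, ee_le hx⟩, (h.al0_one hN).2 (h.fm_Eb hx), fun m => ?_⟩
    obtain ⟨w, rfl⟩ := h.fm_surj m
    rw [h.al0_smul, h.al_fm hN, ← h.sub_eq, h.ag_ee hx w, hee]
    congr 2
    group
  faith := fun x hx => h.HH_ext fun m => by rw [hx, one_smul]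
  sK := h.sK0_w hN
  A_le_Kt := by
    intro x hx
    obtain ⟨a, ha, rfl⟩ := h.mem_A0.1 hx
    exact h.mem_K0.2 ⟨a, h.W_le_yl h.pY ha, rfl⟩
  Kt_fix := by
    intro x hx
    obtain ⟨t, ht, rfl⟩ := h.mem_K0.1 hx
    exact h.rp_cV (yl_le_cent V Z ht)
  Kt_A := by
    intro x y hx hy
    obtain ⟨t, ht, rfl⟩ := h.mem_K0.1 hx
    obtain ⟨a, ha, rfl⟩ := h.mem_A0.1 hy
    refine h.HH_ext fun m => ?_
    exact LinearMap.congr_fun (h.yl_A ht ha) m
  Kt_hom := by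
    intro m hm hnp
    obtain ⟨u, hu, rfl⟩ := (h.mem_IF hN hq).1 hm
    have huV : u ∉ V := by
      intro huV
      obtain ⟨c, hc⟩ := Submodule.mem_span_singleton.1 ((h.fm_mem_lam_I hu).2 huV)
      exact hnp c hc.symm
    obtain ⟨k, hk, hku⟩ := h.exists_yl hu huV 1
    refine ⟨h.rH k (h.yl_C hk), h.mem_K0.2 ⟨k, hk, rfl⟩, ?_⟩
    have h2 : h.rH k (h.yl_C hk) • h.fm ⟨u, h.one.I_le_W' hu⟩ = _ := h.rp_fm' (h.C_le_hat (h.yl_C hk)) (h.one.I_le_W' hu)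
    rw [h2, add_comm]
    show _ = h.fm ⟨h.e 0 1, h.W_V 0 1⟩ + _
    rw [← h.fm_mul]
    congr 1
    exact Subtype.ext hku

/-- **the record `Sg.Pre`, every `D_x`** -/
theorem sgPre : Sg.Pre F (TIq.LL F h.HH h.v0) (TIq.AA F h.v0 h.A0) (TIq.II F (H := h.HH) h.v0 h.IF)
    (TIq.AL F h.v0 h.al0) := (h.locW hN hq).toSg

/-- **the record `PreI`, every `D_x`** -/
theorem preIA : h.PreI h.ru.rangeRestrict (TIq.LL F h.HH h.v0) (TIq.AA F h.v0 h.A0)
    (TIq.II F (H := h.HH) h.v0 h.IF) (TIq.AL F h.v0 h.al0) (TIq.AA F h.v0 h.K0) where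
  pre := (h.locW hN hq).toPre
  act := fun ⟨g, hg⟩ m => h.rp_eq_rep' hg m
  v0_mem := TIq.Loc.self_mem
  smul_mem := fun g l hl => TIq.Loc.smul_mem _ hl
  orbit := by
    rintro l ⟨x, c, hc, rfl⟩
    obtain ⟨g, hg, rfl⟩ := h.exists_rH x
    exact ⟨⟨g, hg⟩, c, hc, rfl⟩
  A_zero := by
    intro x
    rw [(h.locW hN hq).mem_AA (x := 1) one_ne_zero (by rw [one_smul, one_smul]), inv_one, one_mul, mul_one,
      h.mem_A0]
    exact ⟨fun ⟨a, ha, e⟩ => ⟨a, ha, e.symm⟩, fun ⟨a, ha, e⟩ => ⟨a, ha, e.symm⟩⟩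

end

end Co

end Cfsg.Agent.Omega.NO3S.OneQ
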