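import Cfsg.Agent.Omega.NO3S.OneQ.Inst
import Cfsg.Agent.Omega.NO3S.OneQ.Dual
import Cfsg.Agent.Omega.NO3S.OneQ.AlphaDual
import Cfsg.Agent.Omega.NO3S.OneQ.QPlus

/-!
# NO-3S, `OneQ`, case (N), `D_x = I`: the instance of `TIq.Gen` and `TIq.GenK`

* `Co.dual_Eb` : exact duality in the form of `TIq.Gen.dual`; `Co.hA` : the hypothesis of ALPHA;
* **`Co.gen`** `(hG) (hN : NTr V Z) (hD : dd V Z Z ≤ IV V Z) (hTI : TIw V Z) : TIq.Gen F h.LL h.At (h.It hN hD) h.alt`;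
* **`Co.genK`** : the same for `TIq.GenK`, with `K~_l = h.Kt l`.
-/

set_option autoImplicit false
set_option linter.unusedSectionVars false

namespace Cfsg.Agent.Omega.NO3S.OneQ

open Subgroup Cfsg Cfsg.Agent.Omega.NO3S.PT Cfsg.Agent.Omega.NoFF.Basic
open Cfsg.Agent.ZN (o2)
open scoped Pointwise

universe u

variable {G : Type u} [Group G]

namespace Co

variable [Finite G] {F : Type*} [Field F] [CharP F 2] {S : Sylow 2 G} {B P V Z : Subgroup G} (h : Co F S B P V Z)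
  (hN : NTr V Z) (hD : dd V Z Z ≤ IV V Z)

include hN in
theorem dual_Eb (f : h.MF →ₗ[F] F) (hf : ∀ e ∈ h.Eb, f e = 0) :
    ∃ e ∈ ee V Z h.Yp, ∀ w : ws V Z, f (h.fm w) = h.fn w e := by
  have := h.finF
  exact h.dual_N h.pY h.Yp_ne (hN _ h.pY h.Yp_ne) f fun w hw => hf _ (h.fm_Eb (w := ⟨w, ee_le hw⟩) hw)

include h hN hD in
theorem hA : HA V Z := h.ha_of_dual hN hD fun φ hφ => by
  obtain ⟨e, he, hee⟩ := h.dual_Eb hN φ hφ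
  exact ⟨e, he, fun w => (hee w).symm⟩

/-- the element of `HI` of a line -/
theorem exists_nn (l m : h.MF) : ∃ n ∈ centralizer (Z : Set G), h.ph n = (h.rcl l)⁻¹ * h.rcl m := h.ph_surj _

include hN in
theorem alt_dual {l : h.MF} (hl : l ∈ h.LL) (f : h.MF →ₗ[F] F) (hf : ∀ e, h.alt l e = 1 → f e = 0) :
    ∃ e, h.alt l e = 1 ∧ ∀ x, h.alt l x • e + e = f x • l := by
  obtain ⟨d, hd, e⟩ := h.rcl_spec hl
  obtain ⟨x, hx, hxf⟩ := h.dual_Eb hN ((d • f) ∘ₗ h.op (h.rcl l)) (fun y hy => by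
    show d • f (h.rcl l • y) = 0
    rw [hf, smul_zero]
    rw [h.alt_one, inv_smul_smul, h.ah_eq_one hN]
    exact hy)
  have hxE : h.sw * x * h.sw⁻¹ ∈ ee V Z Z := by
    have h1 := conj_mem_cj (g := h.sw) hx
    rwa [cj_ee h.sw_N, h.cj_sw'] at h1
  refine ⟨h.rcl l • h.fm ⟨h.sw * x * h.sw⁻¹, ee_le hxE⟩, ?_, fun y => ?_⟩
  · rw [h.alt_one, inv_smul_smul, h.ah_eq_one hN]
    exact h.fm_Eb hxE
  · obtain ⟨w, hw⟩ := h.fm_surj ((h.rcl l)⁻¹ • y)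
    have h1 := h.ag_ee hxE w
    have e1 : h.sw⁻¹ * (h.sw * x * h.sw⁻¹) * h.sw = x := by group
    rw [e1, ← hxf w, ← h.al_fm hN, hw] at h1
    have h2 : ((d • f) ∘ₗ h.op (h.rcl l)) ((h.rcl l)⁻¹ • y) = d * f y := by
      show d • f (h.rcl l • ((h.rcl l)⁻¹ • y)) = _
      rw [smul_inv_smul]; rfl
    rw [h2] at h1
    rw [h.alt_add_self, inv_smul_smul, h1, h.hh_lin, mul_comm d, mul_smul, ← e]

/-- the vector of a line -/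
theorem vec_of {l m : h.MF} {d' : F} (e' : m = d' • (h.rcl m • h.v0)) {n : G} (hn : n ∈ centralizer (Z : Set G))
    (hne : h.ph n = (h.rcl l)⁻¹ * h.rcl m) : (h.rcl l)⁻¹ • m = h.fm ⟨n * h.e 0 d' * n⁻¹, h.C_W hn (h.W_V 0 d')⟩ := by
  rw [← h.ph_fm hn (h.W_V 0 d'), h.fm_e, hne, mul_smul, h.hh_lin, ← e']

include hN hD in
theorem mem_I_of {m : h.MF} {w u : G} (hw : w ∈ ws V Z) (hu : u ∈ IV V Z) (hm : h.fm ⟨u, h.one.I_le_W' hu⟩ = m)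
    (hm' : h.fm ⟨w, hw⟩ = m) : w ∈ IV V Z := by
  have h2 := hm'.trans hm.symm
  rw [h.fm_eq, h.rd_eq hN hD] at h2
  have e2 : w = w * u⁻¹ * u := by group
  rw [e2]
  exact mul_mem (h.one.Z_le_I h2) hu

theorem alt_alpha (hG : IsCharacteristicTwoType G) {l m u : h.MF} (hl : l ∈ h.LL) (hm : m ∈ h.LL)
    (hlm : TIq.NP F l m) (hu : u ∈ h.It hN hD l) (hu' : u ∈ h.It hN hD m) (hu0 : u ≠ 0) : h.alt l m • m = m := by
  have hrd := h.rd_eq hN hD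
  obtain ⟨d, hd, e⟩ := h.rcl_spec hl
  obtain ⟨d', hd', e'⟩ := h.rcl_spec hm
  obtain ⟨n, hn, hne⟩ := h.exists_nn l m
  have hnV : n ∉ normalizer (V : Set G) := fun hnV => by
    obtain ⟨c, hc⟩ := h.same_of_norm hd e e' hn hnV hne
    exact hlm c hc
  rw [h.mem_It'] at hu hu'
  obtain ⟨u₀, hu₀, hue⟩ := hu
  obtain ⟨u₁, hu₁, hue'⟩ := hu'
  have hu₀Z : u₀ ∉ Z := by
    intro h1
    apply hu0
    have h2 : h.fm ⟨u₀, h.one.I_le_W' hu₀⟩ = 0 := (h.fm_eq_zero _).2 (h.Z_le_rd h1)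
    rw [h2] at hue
    rw [← smul_inv_smul (h.rcl l) u, ← hue, smul_zero]
  have hun : u₀ ∈ cj n (IV V Z) := by
    rw [mem_cj]
    have hni := inv_mem hn
    have h1 : h.ph n⁻¹ • h.fm ⟨u₀, h.one.I_le_W' hu₀⟩ = _ := h.ph_fm hni (h.one.I_le_W' hu₀)
    have h2 : h.ph n⁻¹ • h.fm ⟨u₀, h.one.I_le_W' hu₀⟩ = h.fm ⟨u₁, h.one.I_le_W' hu₁⟩ := by
      rw [hue, hue', h.ph_inv hn, hne, mul_inv_rev, inv_inv, mul_smul, smul_inv_smul]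
    rw [h1, h.fm_eq, hrd, inv_inv] at h2
    have e2 : n⁻¹ * u₀ * n = n⁻¹ * u₀ * n * u₁⁻¹ * u₁ := by group
    rw [e2]
    exact mul_mem (h.one.Z_le_I h2) hu₁
  have hv : n * h.e 0 d' * n⁻¹ ∈ cj n V := conj_mem_cj (h.e_memV 0 d')
  have hvW := h.C_W hn (h.W_V 0 d')
  have h1 := h.alpha_cj hG (h.hA hN hD) hn hu₀ hun hu₀Z hv h.sw_XV (by rw [h.cj_sw]; exact h.Yp_ne)
  have hm' : (h.rcl l)⁻¹ • m = h.fm ⟨_, hvW⟩ := h.vec_of e' hn hne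
  rw [h.alt_smul, hm', h.ah_fm hN]
  have haC := h.one.W_le_C h.pY (h.sw_W hvW)
  have h4 : h.ph (h.sw * (n * h.e 0 d' * n⁻¹) * h.sw⁻¹) • h.fm ⟨_, hvW⟩ = h.fm ⟨_, hvW⟩ := by
    rw [h.ph_fm haC hvW, h.fm_eq, hrd]
    have h2 := inv_mem h1
    obtain ⟨v, hvd⟩ : ∃ v, v = n * h.e 0 d' * n⁻¹ := ⟨_, rfl⟩
    rw [← hvd] at h2 ⊢
    have e3 : (v * (h.sw * v * h.sw⁻¹) * v⁻¹ * (h.sw * v * h.sw⁻¹)⁻¹)⁻¹ =
        h.sw * v * h.sw⁻¹ * v * (h.sw * v * h.sw⁻¹)⁻¹ * v⁻¹ := by group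
    rwa [e3] at h2
  rw [h4, ← hm', smul_inv_smul]

/-- `w ∈ I_L`, `L` coplanar with `V`: `α(w) = 1` -/
theorem cop_core (hTI : TIw V Z) {n w0 w1 : G} (hn : n ∈ centralizer (Z : Set G)) (hnV : n ∉ normalizer (V : Set G))
    (hw0 : w0 ∈ cj n h.Yp) (hw01 : w0 ≠ 1) (hw0I : w0 ∈ IV V Z) (hw0V : w0 ∉ V) (hw1 : w1 ∈ ws V Z)
    (hw1' : w1 ∈ cj n (ws V h.Yp)) : h.ph (h.sw * w1 * h.sw⁻¹) = 1 := by
  obtain ⟨x, hx, hxs⟩ := Alpha.cover h.one hw0I hw0V h.sw_XV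
  obtain ⟨hxX, hx0⟩ := Alpha.mem_xs.1 hx
  have hk : x * h.sw⁻¹ ∈ yl V Z := by
    rw [← h.XV_cent]
    exact mem_inf.2 ⟨mul_mem hxX ((XV V Z).inv_mem h.sw_XV), hxs⟩
  have haW : h.sw * w1 * h.sw⁻¹ ∈ ws V h.Yp := h.sw_W hw1
  have e1 : x * w1 * x⁻¹ = (x * h.sw⁻¹) * (h.sw * w1 * h.sw⁻¹) * (x * h.sw⁻¹)⁻¹ := by group
  have hbW : x * w1 * x⁻¹ ∈ ws V h.Yp := by
    rw [e1]
    exact (mem_normalizer_iff.1 (h.one.cent_norm_W h.pY hxs) _).1 haW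
  have h1 := h.one.yl_ee h.pY hk haW
  rw [h.one.ee_eq h.pY h.one.self h.Yp_ne.symm] at h1
  have h2 := h.ph_K h1.2
  have haC := h.one.W_le_C h.pY haW
  have hbC := h.one.W_le_C h.pY hbW
  rw [← e1, h.ph_mul hbC (inv_mem haC), h.ph_inv haC, mul_inv_eq_one] at h2
  rw [← h2]
  refine h.ph_K ?_
  have hpY : IsCj Z (cj n h.Yp) := h.pY.cj.cj n
  have hxN := normalizer_le_ws V _ (h.one.pl.norm_of_comm hpY hw0 hw01 hx0)
  have h3 : x * w1 * x⁻¹ ∈ cj n (ws V h.Yp) := by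
    have h4 : cj n (ws V h.Yp) = ws V (cj n h.Yp) := (ws_cj V h.Yp n).symm
    rw [h4] at hw1' ⊢
    exact (mem_normalizer_iff.1 hxN _).1 hw1'
  rw [mem_cj] at h3
  refine hTI _ h.pY h.Yp_ne n hn (h.cj_ne hnV) _ hbW _ h3 ?_
  have e2 : (x * w1 * x⁻¹)⁻¹ * (n * (n⁻¹ * (x * w1 * x⁻¹) * n) * n⁻¹) = 1 := by group
  rw [e2]
  exact one_mem _

theorem alt_cop (hTI : TIw V Z) {l m u : h.MF} (hl : l ∈ h.LL) (hm : m ∈ h.LL) (hml : m ∈ h.It hN hD l)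
    (hu : u ∈ h.It hN hD m) : h.alt l u = 1 := by
  have hrd := h.rd_eq hN hD
  by_cases hlm : ∃ c : F, m = c • l
  · obtain ⟨c, rfl⟩ := hlm
    have hc : c ≠ 0 := by
      rintro rfl
      rw [zero_smul] at hm
      exact h.LL_zero hm
    rw [h.It_sm hN hD hc hl] at hu
    rw [h.alt_ker hN hl]
    intro a ha
    exact ⟨0, by rw [zero_smul, add_zero]; exact h.At_fix hN hD ha hu⟩
  obtain ⟨d, hd, e⟩ := h.rcl_spec hl
  obtain ⟨d', hd', e'⟩ := h.rcl_spec hm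
  obtain ⟨n, hn, hne⟩ := h.exists_nn l m
  have hnV : n ∉ normalizer (V : Set G) := fun hnV => hlm (h.same_of_norm hd e e' hn hnV hne)
  rw [h.mem_It'] at hml hu
  obtain ⟨u₀, hu₀, hue⟩ := hml
  obtain ⟨u₁, hu₁, hue'⟩ := hu
  have hv := h.vec_of e' hn hne
  have hw0I : n * h.e 0 d' * n⁻¹ ∈ IV V Z := h.mem_I_of hN hD (h.C_W hn (h.W_V 0 d')) hu₀ hue hv.symm
  have hw0V : n * h.e 0 d' * n⁻¹ ∉ V := by
    intro h1
    have h2 : h.fm ⟨_, h.C_W hn (h.W_V 0 d')⟩ ∈ h.lam := (h.fm_mem_lam_I hw0I).2 h1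
    rw [← h.ph_fm hn (h.W_V 0 d'), h.fm_e, h.hh_lin] at h2
    have h3 : h.ph n • h.v0 ∈ h.lam := by
      have h4 := h.lam.smul_mem d'⁻¹ h2
      rwa [smul_smul, inv_mul_cancel₀ hd', one_smul] at h4
    exact hnV (h.norm_of_lam hrd hn h3)
  have hw01 : n * h.e 0 d' * n⁻¹ ≠ 1 := by
    intro h1
    apply hw0V
    rw [h1]; exact one_mem _
  have hw1 := h.C_W hn (h.one.I_le_W' hu₁)
  have h5 : (h.rcl l)⁻¹ • u = h.fm ⟨_, hw1⟩ := by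
    rw [← h.ph_fm hn (h.one.I_le_W' hu₁), hue', hne, mul_smul, smul_inv_smul]
  rw [h.alt_one, h5, h.ah_fm hN]
  exact h.cop_core hTI hn hnV (conj_mem_cj (h.e_memY d')) hw01 hw0I hw0V hw1 (conj_mem_cj (h.one.I_le_W h.pY hu₁))

/-- **the instance of `TIq.Gen`** -/
theorem gen (hG : IsCharacteristicTwoType G) (hTI : TIw V Z) : TIq.Gen F h.LL h.At (h.It hN hD) h.alt where
  two := h.add_self
  lin := h.hh_lin
  zero := h.LL_zero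
  gen := h.LL_gen
  smul := h.LL_smul
  fsm := h.LL_fsm
  A_sm := h.At_sm (h.rd_eq hN hD)
  I_sm := h.It_sm hN hD
  trans := h.LL_trans
  A_conj := h.At_conj (h.rd_eq hN hD)
  I_conj := h.It_conj hN hD
  sq _ ha := h.At_sq ha
  ne _ := h.At_ne (h.rd_eq hN hD) _
  self := h.It_self hN hD
  comm _ ha m := h.At_comm hN hD ha m
  fix _ ha hu := h.At_fix hN hD ha hu
  fixI _ hu := h.At_fixI hN hD hu
  ti := h.At_ti (h.rd_eq hN hD) hTI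
  plane := h.LL_plane hN hD
  cop := h.alt_cop hN hD hTI
  al_mem _ m := h.alt_mem _ m
  al_add _ := h.alt_add hN _
  al_surj _ ha := h.alt_surj hN ha
  al_conj hl hx := h.alt_equi hN (h.rd_eq hN hD) hl hx
  al_ker hl := h.alt_ker hN hl
  sy hl := h.alt_sy hN hl
  phl _ c e x he := h.alt_phl hN c e x he
  bl hl := h.alt_bl hN hl
  dual hl f hf := h.alt_dual hN hl f hf
  alpha hl hm hlm hu hu' hu0 := h.alt_alpha hN hD hG hl hm hlm hu hu' hu0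

/-! ### the fields of `GenK` -/

theorem KI_two (hG : IsCharacteristicTwoType G) : IsPGroup 2 h.KI := by
  have := h.finF
  rintro ⟨x, k, hk, rfl⟩
  have h1 : IsPGroup 2 (yl V Z) := (Cfsg.Agent.ZN.Block.o2_isPGroup _).to_le (h.yl_le_o2 hG)
  obtain ⟨i, hi⟩ := h1 ⟨k, hk⟩
  refine ⟨i, Subtype.ext ?_⟩
  have h2 : ∀ j : ℕ, h.ph k ^ j = h.ph (k ^ j) := by
    intro j
    induction j with
    | zero => rw [pow_zero, pow_zero, h.ph_one]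
    | succ j ih => rw [pow_succ, pow_succ, ih, h.ph_mul (pow_mem (h.yl_C hk) j) (h.yl_C hk)]
  show h.ph k ^ 2 ^ i = 1
  rw [h2]
  have h3 : k ^ 2 ^ i = 1 := congrArg Subtype.val hi
  rw [h3, h.ph_one]

theorem Kt_two (hG : IsCharacteristicTwoType G) (l : h.MF) : IsPGroup 2 (h.Kt l) := by
  refine (h.KI_two hG).comap_of_injective _ ?_
  exact (MulAut.conj (h.rcl l)⁻¹).injective

include h in
theorem W_le_kx {X : Subgroup G} (hX : Pnt V Z X) : ws V X ≤ kx V X := fun w hw =>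
  h.one.cent_W_le_K hX (mem_centralizer_iff.2 fun _ hu => h.one.comm_W hX.cj hu hw)

theorem AI_le_KI : h.AI ≤ h.KI := by
  rintro _ ⟨a, ha, rfl⟩
  exact ⟨a, mem_yl_of h.pY (h.W_le_kx h.pY ha) (h.one.W_le_cent h.pY ha), rfl⟩

theorem At_le_Kt (l : h.MF) : h.At l ≤ h.Kt l := by
  intro a ha
  rw [h.mem_At'] at ha
  rw [h.mem_Kt']
  exact h.AI_le_KI ha

theorem KI_v0 {x : h.HI} (hx : x ∈ h.KI) : x • h.v0 = h.v0 := by
  obtain ⟨k, hk, rfl⟩ := hx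
  have h1 : h.v0 = h.fm ⟨h.e 0 1, h.W_V 0 1⟩ := by rw [h.fm_e, one_smul]
  rw [h1, h.ph_fm (h.yl_C hk) (h.W_V 0 1)]
  congr 1
  apply Subtype.ext
  show k * h.e 0 1 * k⁻¹ = h.e 0 1
  rw [h.one.cent_V (yl_le_cent V Z hk) (h.e_memV 0 1), mul_inv_cancel_right]

theorem Kt_fix {l : h.MF} {t : h.HI} (hl : l ∈ h.LL) (ht : t ∈ h.Kt l) : t • l = l := by
  obtain ⟨d, hd, e⟩ := h.rcl_spec hl
  rw [h.mem_Kt'] at ht
  have h1 := h.KI_v0 ht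
  rw [h.conj_smul' (h.rcl l), h.inv_l e, h.hh_lin, h1, h.hh_lin, ← e]

theorem KI_AI {x a : h.HI} (hx : x ∈ h.KI) (ha : a ∈ h.AI) : x * a = a * x := by
  obtain ⟨k, hk, rfl⟩ := hx
  obtain ⟨a, ha, rfl⟩ := ha
  refine h.faith fun m => ?_
  have h1 := h.yl_A hk ha
  rw [mul_smul, mul_smul, h.ph_smul (h.one.W_le_C h.pY ha), h.ph_smul (h.yl_C hk), h.ph_smul (h.yl_C hk),
    h.ph_smul (h.one.W_le_C h.pY ha)]
  exact LinearMap.congr_fun h1 m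

theorem Kt_A {l : h.MF} {t a : h.HI} (ht : t ∈ h.Kt l) (ha : a ∈ h.At l) : t * a = a * t := by
  rw [h.mem_Kt'] at ht
  rw [h.mem_At'] at ha
  have h1 := h.KI_AI ht ha
  have e1 : (h.rcl l)⁻¹ * t * h.rcl l * ((h.rcl l)⁻¹ * a * h.rcl l) = (h.rcl l)⁻¹ * (t * a) * h.rcl l := by group
  have e2 : (h.rcl l)⁻¹ * a * h.rcl l * ((h.rcl l)⁻¹ * t * h.rcl l) = (h.rcl l)⁻¹ * (a * t) * h.rcl l := by group
  rw [e1, e2] at h1
  exact mul_left_cancel (mul_right_cancel h1)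

theorem KI_E {x : h.HI} {w : G} (hx : x ∈ h.KI) (hw : w ∈ ee V Z Z) :
    ∃ d, ∃ hd : d ∈ dd V Z Z, x • h.fm ⟨w, ee_le hw⟩ + h.fm ⟨w, ee_le hw⟩ = h.fm ⟨d, dd_le hd⟩ := by
  obtain ⟨k, hk, rfl⟩ := hx
  have h1 := h.one.yl_dd h.one.self hk hw
  refine ⟨_, h1, ?_⟩
  rw [h.ph_fm (h.yl_C hk) (ee_le hw), ← h.fm_mul]
  congr 1
  apply Subtype.ext
  show k * w * k⁻¹ * w = k * w * k⁻¹ * w⁻¹
  rw [h.one.inv_eq_W h.one.self (ee_le hw)]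

theorem KI_I {x : h.HI} {u : G} (hx : x ∈ h.KI) (hu : u ∈ IV V Z) :
    x • h.fm ⟨u, h.one.I_le_W' hu⟩ + h.fm ⟨u, h.one.I_le_W' hu⟩ ∈ h.lam := by
  obtain ⟨k, hk, rfl⟩ := hx
  have h1 := h.one.XV_I (yl_le_XV V Z hk) hu
  rw [h.ph_fm (h.yl_C hk) (h.one.I_le_W' hu), ← h.fm_mul]
  have h2 : k * u * k⁻¹ * u ∈ V := by
    rwa [h.one.inv_eq_W h.one.self (h.one.I_le_W' hu)] at h1
  exact (h.fm_mem_lam_I (h.one.pl.V_le_IV h2)).2 h2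

theorem Kt_E {l e : h.MF} {t : h.HI} (ht : t ∈ h.Kt l) (he : h.alt l e = 1) : t • e + e ∈ h.It hN hD l := by
  rw [h.mem_Kt'] at ht
  rw [h.alt_one, h.ah_eq_one hN] at he
  obtain ⟨w, hw⟩ := h.fm_surj ((h.rcl l)⁻¹ • e)
  rw [← hw, h.fm_Eb_iff hN] at he
  obtain ⟨d, hd, h1⟩ := h.KI_E ht he
  have h3 : h.fm ⟨(w : G), ee_le he⟩ = (h.rcl l)⁻¹ • e := hw
  rw [h3, h.conj_smul, ← smul_add] at h1
  rw [h.mem_It', h1]
  exact ⟨d, hD hd, rfl⟩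

theorem Kt_I {l u : h.MF} {t : h.HI} (hl : l ∈ h.LL) (ht : t ∈ h.Kt l) (hu : u ∈ h.It hN hD l) :
    ∃ c : F, t • u + u = c • l := by
  obtain ⟨d, hd, e⟩ := h.rcl_spec hl
  rw [h.mem_Kt'] at ht
  rw [h.mem_It'] at hu
  obtain ⟨u₀, hu₀, hue⟩ := hu
  have h1 := h.KI_I ht hu₀
  rw [hue, h.conj_smul, ← smul_add] at h1
  obtain ⟨c, hc⟩ := h.lam_smul hd e h1
  exact ⟨c, by rw [← hc, smul_inv_smul]⟩

theorem Kt_hom {l u : h.MF} (hl : l ∈ h.LL) (hu : u ∈ h.It hN hD l) (hlu : TIq.NP F l u) :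
    ∃ t ∈ h.Kt l, t • u = u + l := by
  obtain ⟨d, hd, e⟩ := h.rcl_spec hl
  rw [h.mem_It'] at hu
  have h1 : (h.rcl l)⁻¹ • u ∉ h.lam := by
    intro h1
    obtain ⟨c, hc⟩ := h.lam_smul hd e h1
    rw [smul_inv_smul] at hc
    exact hlu c hc
  obtain ⟨t, ht, hte⟩ := h.sw_of_swap hu h1 d
  refine ⟨_, h.Kt_of (l := l) ht, ?_⟩
  rw [h.conj_smul' (h.rcl l), h.conj_conj, hte, smul_add, smul_inv_smul, h.hh_lin, ← e]

/-- **the instance of `TIq.GenK`** -/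
theorem genK (hG : IsCharacteristicTwoType G) (hTI : TIw V Z) :
    TIq.GenK F h.LL h.At (h.It hN hD) h.alt h.Kt where
  toGen := h.gen hN hD hG hTI
  faith x hx := h.faith fun m => by rw [hx, one_smul]
  Kt_sm := h.Kt_sm (h.rd_eq hN hD)
  Kt_two _ := h.Kt_two hG _
  Kt_conj := h.Kt_conj (h.rd_eq hN hD)
  A_le_Kt _ := h.At_le_Kt _
  Kt_fix := h.Kt_fix
  Kt_A _ ht ha := h.Kt_A ht ha
  Kt_E _ ht he := h.Kt_E hN hD ht he
  Kt_I := h.Kt_I hN hD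
  Kt_hom := h.Kt_hom hN hD

end Co

end Cfsg.Agent.Omega.NO3S.OneQ
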