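import Cfsg.Agent.Omega.NO3S.OneQ.Alf
import Cfsg.Agent.Omega.NO3S.OneQ.Dual
import Cfsg.Agent.Omega.NO3S.OneQ.TIq.LocPre

/-!
# NO-3S, `OneSz` (`q ≥ 4`, `n = 1`), case (N), `D_x = I`: the record `TIq.LocK` at the vector `v0`

* `Co.HH` : the image of `C_G(Z)` in `GL_F(MF)`; `Co.rH c hc` : the image of `c`;
* `Co.A0` : the image of `W_Y`; `Co.I0` : `C_MF(A)` (`= Ī` if `D_x = I`); `Co.al0`; `Co.K0` : the image of `yl`;
* **`Co.locK`** : `LocK F v0 A0 I0 al0 K0`.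
-/

set_option autoImplicit false
set_option linter.unusedSectionVars false

namespace Cfsg.Agent.Omega.NO3S.OneQ

open Subgroup Cfsg.Agent.Omega.NO3S.PT Cfsg.Agent.Omega.NoFF.Basic
open Cfsg.Agent.ZN.Block (o2_isPGroup)
open scoped Pointwise

universe u

variable {G : Type u} [Group G]

namespace Co

variable [Finite G] {F : Type*} [Field F] [CharP F 2] {S : Sylow 2 G} {B P V Z : Subgroup G} (h : Co F S B P V Z)

/-! ### the group -/

/-- `C_G(Z)` on `MF` -/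
noncomputable def ru : centralizer (Z : Set G) →* (Module.End F h.MF)ˣ :=
  MonoidHom.toHomUnits (h.rp.comp (Subgroup.inclusion h.C_le_hat))

/-- the image of `C_G(Z)` -/
noncomputable abbrev HH : Subgroup (Module.End F h.MF)ˣ := h.ru.range

/-- the image of `c` -/
noncomputable def rH (c : G) (hc : c ∈ centralizer (Z : Set G)) : h.HH := ⟨h.ru ⟨c, hc⟩, ⟨_, rfl⟩⟩

theorem rH_smul {c : G} (hc : c ∈ centralizer (Z : Set G)) (m : h.MF) :
    h.rH c hc • m = h.rp ⟨c, h.C_le_hat hc⟩ m := rfl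

theorem exists_rH (x : h.HH) : ∃ c, ∃ hc : c ∈ centralizer (Z : Set G), x = h.rH c hc := by
  obtain ⟨x, ⟨c, hc⟩, rfl⟩ := x
  exact ⟨c, hc, rfl⟩

theorem rH_mul {a b : G} (ha : a ∈ centralizer (Z : Set G)) (hb : b ∈ centralizer (Z : Set G)) :
    h.rH (a * b) (mul_mem ha hb) = h.rH a ha * h.rH b hb := by
  apply Subtype.ext
  show h.ru (⟨a, ha⟩ * ⟨b, hb⟩) = h.ru ⟨a, ha⟩ * h.ru ⟨b, hb⟩
  rw [map_mul]

theorem rH_inv {a : G} (ha : a ∈ centralizer (Z : Set G)) : h.rH a⁻¹ (inv_mem ha) = (h.rH a ha)⁻¹ := by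
  apply Subtype.ext
  show h.ru (⟨a, ha⟩ : centralizer (Z : Set G))⁻¹ = (h.ru ⟨a, ha⟩)⁻¹
  rw [map_inv]

theorem rH_congr {a b : G} (ha : a ∈ centralizer (Z : Set G)) (e : a = b) : h.rH a ha = h.rH b (e ▸ ha) := by
  subst e; rfl

theorem HH_ext {x y : h.HH} (e : ∀ m : h.MF, x • m = y • m) : x = y := by
  apply Subtype.ext
  apply Units.ext
  exact LinearMap.ext e

theorem rH_one {a : G} (ha : a ∈ centralizer (Z : Set G)) (e : ∀ m, h.rp ⟨a, h.C_le_hat ha⟩ m = m) :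
    h.rH a ha = 1 := h.HH_ext fun m => by rw [rH_smul, e, one_smul]

theorem rH_K {k : G} (hk : k ∈ kx V Z) : h.rH k (kx_le_cent hk) = 1 := h.rH_one _ (h.rp_K hk)

/-! ### the data -/

/-- `A` -/
noncomputable def A0 : Subgroup h.HH := ((ws V h.Yp).subgroupOf (centralizer (Z : Set G))).map h.ru.rangeRestrict

theorem mem_A0 {x : h.HH} : x ∈ h.A0 ↔ ∃ a, ∃ ha : a ∈ ws V h.Yp, x = h.rH a (h.one.W_le_C h.pY ha) := by
  unfold A0
  rw [Subgroup.mem_map]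
  constructor
  · rintro ⟨⟨a, ha⟩, haW, rfl⟩
    exact ⟨a, haW, rfl⟩
  · rintro ⟨a, ha, rfl⟩
    exact ⟨⟨a, h.one.W_le_C h.pY ha⟩, ha, rfl⟩

/-- `K~` -/
noncomputable def K0 : Subgroup h.HH := ((yl V Z).subgroupOf (centralizer (Z : Set G))).map h.ru.rangeRestrict

theorem mem_K0 {x : h.HH} : x ∈ h.K0 ↔ ∃ a, ∃ ha : a ∈ yl V Z, x = h.rH a (h.yl_C ha) := by
  unfold K0
  rw [Subgroup.mem_map]
  constructor
  · rintro ⟨⟨a, ha⟩, haW, rfl⟩
    exact ⟨a, haW, rfl⟩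
  · rintro ⟨a, ha, rfl⟩
    exact ⟨⟨a, h.yl_C ha⟩, ha, rfl⟩

/-- `C_MF(A)` -/
noncomputable def I0 : Submodule F h.MF where
  carrier := {m | ∀ a (ha : a ∈ ws V h.Yp), h.rp ⟨a, h.W_hat h.pY ha⟩ m = m}
  zero_mem' := fun a ha => map_zero _
  add_mem' := fun {m n} hm hn a ha => by rw [map_add, hm a ha, hn a ha]
  smul_mem' := fun c m hm a ha => by rw [map_smul, hm a ha]

theorem mem_I0 {m : h.MF} : m ∈ h.I0 ↔ ∀ a (ha : a ∈ ws V h.Yp), h.rp ⟨a, h.W_hat h.pY ha⟩ m = m := Iff.rfl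

theorem fm_I0 (hN : NTr V Z) (w : ws V Z) : h.fm w ∈ h.I0 ↔ (w : G) ∈ dd V Z Z :=
  (h.cent_N h.pY h.Yp_ne (hN _ h.pY h.Yp_ne) w).symm

/-- `D_x = I` : `C_MF(A) = Ī` -/
theorem mem_I0_iff (hN : NTr V Z) (hD : dd V Z Z ≤ IV V Z) {m : h.MF} : m ∈ h.I0 ↔ m ∈ h.Ib := by
  obtain ⟨w, rfl⟩ := h.fm_surj m
  rw [h.fm_I0 hN]
  constructor
  · exact fun h1 => ⟨w, hD h1, rfl⟩
  · rintro ⟨u, hu, e⟩
    rw [← h.fm_I0 hN, ← e]
    exact fun a ha => h.rp_W_I h.pY ha hu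

/-- `α` with values in `HH` -/
noncomputable def al0 (m : h.MF) : h.HH :=
  h.rH (h.sw * (h.fm_surj m).choose * h.sw⁻¹) (h.one.W_le_C h.pY (h.sw_W (h.fm_surj m).choose.2))

theorem al0_smul (m x : h.MF) : h.al0 m • x = h.al m x := rfl

theorem al0_mem (m : h.MF) : h.al0 m ∈ h.A0 := h.mem_A0.2 ⟨_, h.sw_W (h.fm_surj m).choose.2, rfl⟩

theorem al0_surj (hN : NTr V Z) {x : h.HH} (hx : x ∈ h.A0) : ∃ m, h.al0 m = x := by
  obtain ⟨a, ha, rfl⟩ := h.mem_A0.1 hx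
  obtain ⟨m, hm⟩ := h.al_surj hN ha
  exact ⟨m, h.HH_ext fun x => by rw [al0_smul, hm]; rfl⟩

theorem al0_one (hN : NTr V Z) {m : h.MF} : h.al0 m = 1 ↔ m ∈ h.Eb := by
  rw [← h.al_eq_one hN]
  constructor
  · intro e
    refine LinearMap.ext fun x => ?_
    rw [← h.al0_smul, e, one_smul]; rfl
  · intro e
    refine h.HH_ext fun x => ?_
    rw [h.al0_smul, e, one_smul]; rfl

/-! ### the stabiliser of the point -/

/-- an element of `C_G(Z)` which fixes the point normalises `V` -/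
theorem norm_of_smul (hrd : rd V Z = Z) {g : G} (hg : g ∈ centralizer (Z : Set G)) {c : F}
    (h1 : h.rp ⟨g, h.C_le_hat hg⟩ h.v0 = c • h.v0) : g ∈ normalizer (V : Set G) := by
  rw [← cj_eq_iff]
  refine eq_of_le_of_card_ge ?_ (by rw [card_cj])
  intro v hv
  rw [mem_cj] at hv
  obtain ⟨x, y, hxy⟩ := (h.mem_V _).1 hv
  have e0 : v = g * h.e x y * g⁻¹ := by rw [hxy]; group
  have h2 : g * h.e 0 y * g⁻¹ * (h.e 0 (y * c))⁻¹ ∈ Z := by
    have e : h.rp ⟨g, h.C_le_hat hg⟩ (h.fm ⟨h.e 0 y, h.W_V 0 y⟩) = _ := h.rp_fm' (h.C_le_hat hg) (h.W_V 0 y)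
    have e2 : h.rp ⟨g, h.C_le_hat hg⟩ (h.fm ⟨h.e 0 y, h.W_V 0 y⟩) = h.fm ⟨h.e 0 (y * c), h.W_V 0 (y * c)⟩ := by
      rw [h.fm_e, map_smul, h1, h.fm_e, smul_smul]
    rw [e, h.fm_eq, hrd] at e2
    exact e2
  have h3 : g * h.e 0 y * g⁻¹ ∈ V := by
    have e : g * h.e 0 y * g⁻¹ = g * h.e 0 y * g⁻¹ * (h.e 0 (y * c))⁻¹ * h.e 0 (y * c) := by group
    rw [e]
    exact mul_mem (h.one.pl.ZV h2) (h.e_memV _ _)
  have h4 : g * h.e x 0 * g⁻¹ ∈ V := by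
    rw [(mem_centralizer_iff.1 hg _ (h.e_memZ x)).symm, mul_inv_cancel_right]
    exact h.e_memV _ _
  have e1 : h.e x y = h.e x 0 * h.e 0 y := by rw [← h.e_add, add_zero, zero_add]
  rw [e0, e1]
  have e2 : g * (h.e x 0 * h.e 0 y) * g⁻¹ = g * h.e x 0 * g⁻¹ * (g * h.e 0 y * g⁻¹) := by group
  rw [e2]
  exact mul_mem h4 h3

/-- `A` is normalised by the stabiliser of the point -/
theorem sA0 (hrd : rd V Z = Z) {x a : h.HH} {c : F} (hx : x • h.v0 = c • h.v0) (ha : a ∈ h.A0) : x * a * x⁻¹ ∈ h.A0 := by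
  obtain ⟨g, hg, rfl⟩ := h.exists_rH x
  obtain ⟨b, hb, rfl⟩ := h.mem_A0.1 ha
  have hgN := h.norm_of_smul hrd hg hx
  have hbC := h.one.W_le_C h.pY hb
  have hY' : Pnt V Z (PT.cj g h.Yp) := h.pY.conj hgN
  have hgZ : PT.cj g Z = Z := cj_eq_iff.2 (centralizer_le_normalizer _ hg)
  have hne : PT.cj g h.Yp ≠ Z := fun e => h.Yp_ne (cj_inj.1 (e.trans hgZ.symm))
  obtain ⟨k, hk, hkY⟩ := h.one.move h.one.self hY' h.pY hne h.Yp_ne
  have h1 : k * (g * b * g⁻¹) * k⁻¹ ∈ ws V h.Yp := by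
    have h2 := conj_mem_cj (g := g) hb
    rw [← ws_cj] at h2
    have h3 := conj_mem_cj (g := k) h2
    rwa [← ws_cj, hkY] at h3
  refine h.mem_A0.2 ⟨_, h1, ?_⟩
  have hkC := kx_le_cent hk
  have e1 := h.rH_mul (mul_mem hkC (mul_mem (mul_mem hg hbC) (inv_mem hg))) (inv_mem hkC)
  have e2 := h.rH_mul hkC (mul_mem (mul_mem hg hbC) (inv_mem hg))
  have e3 := h.rH_mul (mul_mem hg hbC) (inv_mem hg)
  have e4 := h.rH_mul hg hbC
  have e5 : h.rH (k * (g * b * g⁻¹) * k⁻¹) (h.one.W_le_C h.pY h1) = h.rH g hg * h.rH b hbC * (h.rH g hg)⁻¹ := by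
    rw [e1, e2, e3, e4, h.rH_inv hg, h.rH_inv hkC, h.rH_K hk, one_mul, inv_one, mul_one]
  exact e5.symm

theorem sK0 (hrd : rd V Z = Z) {x t : h.HH} {c : F} (hx : x • h.v0 = c • h.v0) (ht : t ∈ h.K0) : x * t * x⁻¹ ∈ h.K0 := by
  obtain ⟨g, hg, rfl⟩ := h.exists_rH x
  obtain ⟨b, hb, rfl⟩ := h.mem_K0.1 ht
  have hgN := h.norm_of_smul hrd hg hx
  have h1 : g * b * g⁻¹ ∈ yl V Z := (mem_normalizer_iff.1 (norm_yl V Z hgN) _).1 hb
  refine h.mem_K0.2 ⟨_, h1, ?_⟩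
  have e3 := h.rH_mul (mul_mem hg (h.yl_C hb)) (inv_mem hg)
  have e4 := h.rH_mul hg (h.yl_C hb)
  have e5 : h.rH (g * b * g⁻¹) (h.yl_C h1) = h.rH g hg * h.rH b (h.yl_C hb) * (h.rH g hg)⁻¹ := by
    rw [e3, e4, h.rH_inv hg]
  exact e5.symm

theorem sI0 (hN : NTr V Z) (hD : dd V Z Z ≤ IV V Z) (hrd : rd V Z = Z) {x : h.HH} {c : F} {u : h.MF}
    (hx : x • h.v0 = c • h.v0) (hu : u ∈ h.I0) : x • u ∈ h.I0 := by
  obtain ⟨g, hg, rfl⟩ := h.exists_rH x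
  have hgN := h.norm_of_smul hrd hg hx
  rw [h.mem_I0_iff hN hD] at hu ⊢
  obtain ⟨u, hu, rfl⟩ := hu
  have h1 : g * u * g⁻¹ ∈ IV V Z := (mem_normalizer_iff.1 (normalizer_le_IV V Z hgN) _).1 hu
  refine ⟨_, h1, ?_⟩
  rw [h.rH_smul]
  exact (h.rp_fm' (h.C_le_hat hg) (h.one.I_le_W' hu)).symm

/-- `α` and the stabiliser of the vector -/
theorem al0_conj (hN : NTr V Z) (hrd : rd V Z = Z) {x : h.HH} (hx : x • h.v0 = h.v0) (m : h.MF) :
    h.al0 (x • m) = x * h.al0 m * x⁻¹ := by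
  obtain ⟨g, hg, rfl⟩ := h.exists_rH x
  obtain ⟨k, hk, hkg⟩ := h.fix_v0 hrd hg hx
  have hkC := kx_le_cent hk
  have hgk : k⁻¹ * g ∈ centralizer (Z : Set G) := mul_mem (inv_mem hkC) hg
  have e1 : h.rH g hg = h.rH (k⁻¹ * g) hgk := by
    have e2 := h.rH_mul (inv_mem hkC) hg
    rw [e2, h.rH_inv hkC, h.rH_K hk, inv_one, one_mul]
  rw [e1, eq_mul_inv_iff_mul_eq]
  refine h.HH_ext fun n => ?_
  have h2 := h.al_equi hN hkg m
  have h3 := LinearMap.congr_fun h2 n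
  rw [mul_smul, mul_smul, h.al0_smul, h.al0_smul]
  exact h3

/-! ### the facts -/

/-- `MF` is spanned by the conjugates of `v0` -/
theorem span_v0 : Submodule.span F (Set.range fun x : h.HH => x • h.v0) = ⊤ := by
  rw [eq_top_iff]
  intro m _
  obtain ⟨w, rfl⟩ := h.fm_surj m
  let U := Submodule.span F (Set.range fun x : h.HH => x • h.v0)
  have hU : ∀ (x : h.HH) (m : h.MF), m ∈ U → x • m ∈ U := by
    intro x m hm
    induction hm using Submodule.span_induction with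
    | mem a ha =>
      obtain ⟨y, rfl⟩ := ha
      exact Submodule.subset_span ⟨x * y, mul_smul x y h.v0⟩
    | zero => rw [smul_zero]; exact zero_mem _
    | add a b _ _ ha hb => rw [smul_add]; exact add_mem ha hb
    | smul c a _ ha => rw [smul_comm]; exact U.smul_mem c ha
  let D : Subgroup G :=
    { carrier := {w | ∃ hw : w ∈ ws V Z, h.fm ⟨w, hw⟩ ∈ U}
      one_mem' := ⟨one_mem _, by
        have : h.fm ⟨1, one_mem _⟩ = 0 := h.fm_one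
        rw [this]; exact zero_mem _⟩
      mul_mem' := by
        rintro a b ⟨ha, ha'⟩ ⟨hb, hb'⟩
        refine ⟨mul_mem ha hb, ?_⟩
        have := h.fm_mul ⟨a, ha⟩ ⟨b, hb⟩
        have e : (⟨a * b, mul_mem ha hb⟩ : ws V Z) = ⟨a, ha⟩ * ⟨b, hb⟩ := rfl
        rw [e, this]
        exact add_mem ha' hb'
      inv_mem' := by
        rintro a ⟨ha, ha'⟩
        refine ⟨inv_mem ha, ?_⟩
        have := h.fm_inv ⟨a, ha⟩
        have e : (⟨a⁻¹, inv_mem ha⟩ : ws V Z) = (⟨a, ha⟩ : ws V Z)⁻¹ := rfl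
        rw [e, this]
        exact ha' }
  have hV : V ≤ D := by
    intro v hv
    obtain ⟨x, y, rfl⟩ := (h.mem_V v).1 hv
    refine ⟨h.W_V x y, ?_⟩
    rw [h.fm_e]
    refine U.smul_mem y (Submodule.subset_span ⟨1, one_smul _ _⟩)
  have hC : centralizer (Z : Set G) ≤ normalizer (D : Set G) := by
    refine QAbs.norm_of fun g hg w hw => ?_
    obtain ⟨hw, hw'⟩ := hw
    refine ⟨h.W_conj (centralizer_le_normalizer _ hg) hw, ?_⟩
    have h1 := hU (h.rH g hg) _ hw'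
    have h2 : h.rH g hg • h.fm ⟨w, hw⟩ = _ := h.rp_fm' (h.C_le_hat hg) hw
    rw [h2] at h1
    exact h1
  obtain ⟨hw, hw'⟩ := h.W_le_of_V hV hC w.2
  exact hw'

include h in
/-- `W_Y ≤ yl` -/
theorem W_le_yl {Y : Subgroup G} (hY : Pnt V Z Y) : ws V Y ≤ yl V Z := by
  intro a ha
  refine mem_yl_of hY ⟨fun x hx => ?_, fun w hw => ?_⟩ (h.one.W_le_cent hY ha)
  · exact h.one.comm_W hY.cj ha (h.one.V_le_W hY (hY.le hx))
  · rw [h.one.comm_W hY.cj ha hw, mul_inv_cancel_right, mul_inv_cancel]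
    exact one_mem _

/-- **the record `LocK`** -/
theorem locK [Finite F] (hG : IsCharacteristicTwoType G) (hN : NTr V Z) (hD : dd V Z Z ≤ IV V Z) : TIq.LocK F h.v0 h.A0 h.I0 h.al0 h.K0 where
  two := h.add_self
  ne0 := h.v0_ne
  gen := h.span_v0
  sA := h.sA0 (h.rd_eq hN hD)
  sI := h.sI0 hN hD (h.rd_eq hN hD)
  sq := by
    intro a ha
    obtain ⟨m, rfl⟩ := h.al0_surj hN ha
    refine h.HH_ext fun x => ?_
    rw [mul_smul, one_smul, h.al0_smul, h.al0_smul]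
    exact LinearMap.congr_fun (h.al_sq hN m) x
  ne := by
    by_contra hc
    push Not at hc
    obtain ⟨m, hm⟩ : ∃ m, m ∉ h.Eb := by
      by_contra hc'
      push Not at hc'
      apply h.one.ee_ne h.one.self
      refine le_antisymm ee_le fun w hw => ?_
      exact (h.fm_Eb_iff hN (w := ⟨w, hw⟩)).1 (hc' _)
    exact hm ((h.al0_one hN).1 (hc _ (h.al0_mem m)))
  self := (h.mem_I0_iff hN hD).2 (h.lam_le_Ib (Submodule.mem_span_singleton_self _))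
  comm := by
    intro a ha m
    obtain ⟨n, rfl⟩ := h.al0_surj hN ha
    rw [h.al0_smul, ← h.sub_eq, h.mem_I0_iff hN hD]
    exact h.al_sub_Ib hN n m
  fix := by
    intro x u hx hu
    obtain ⟨a, ha, rfl⟩ := h.mem_A0.1 hx
    exact hu a ha
  al_mem := h.al0_mem
  al_add := by
    intro m m'
    refine h.HH_ext fun x => ?_
    rw [mul_smul, h.al0_smul, h.al0_smul, h.al0_smul, h.al_add hN]
    rfl
  al_surj := h.al0_surj hN
  al_conj := h.al0_conj hN (h.rd_eq hN hD)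
  al_ker := by
    intro m
    rw [h.al0_one hN]
    constructor
    · intro h1 x hx
      obtain ⟨a, ha, rfl⟩ := h.mem_A0.1 hx
      obtain ⟨c, hc⟩ := Submodule.mem_span_singleton.1 (h1 a ha)
      refine ⟨c, ?_⟩
      rw [hc, h.rH_smul]
      abel
    · intro h1 a ha
      obtain ⟨c, hc⟩ := h1 _ (h.mem_A0.2 ⟨a, ha, rfl⟩)
      refine Submodule.mem_span_singleton.2 ⟨c, ?_⟩
      rw [h.rH_smul] at hc
      rw [hc]
      abel
  sy := by
    intro m m'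
    obtain ⟨c, hc⟩ := Submodule.mem_span_singleton.1 (h.al_symm hN m m')
    refine ⟨c, ?_⟩
    rw [hc, h.al0_smul, h.al0_smul, h.sub_eq, h.sub_eq, h.sub_eq]
  phl := by
    intro c e x he
    have h1 := h.al_smul_Eb hN c x ((h.al0_one hN).1 he)
    rwa [h.sub_eq, h.sub_eq] at h1
  bl := by
    intro c m x
    obtain ⟨d, hd⟩ := Submodule.mem_span_singleton.1 (h.al_smul hN c x m)
    refine ⟨d, ?_⟩
    have e1 : h.al (c • x) m + m = h.al (c • x) m - m := (h.sub_eq _ _).symm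
    have e2 : h.al x m + m = h.al x m - m := (h.sub_eq _ _).symm
    rw [h.al0_smul, h.al0_smul, e1, e2]
    exact sub_eq_iff_eq_add'.1 hd.symm
  dual := by
    intro f hf
    obtain ⟨e, he, hee⟩ := h.dual_N h.pY h.Yp_ne (hN _ h.pY h.Yp_ne) f fun w hw =>
      hf _ ((h.al0_one hN).2 (h.fm_Eb (w := ⟨w, ee_le hw⟩) hw))
    have hx : h.sw * e * h.sw⁻¹ ∈ ee V Z Z := by
      have h1 : h.sw * e * h.sw⁻¹ ∈ cj h.sw (ee V Z h.Yp) := conj_mem_cj he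
      rwa [cj_ee h.sw_N, h.cj_sw'] at h1
    refine ⟨h.fm ⟨_, ee_le hx⟩, (h.al0_one hN).2 (h.fm_Eb hx), fun m => ?_⟩
    obtain ⟨w, rfl⟩ := h.fm_surj m
    rw [h.al0_smul, h.al_fm hN, ← h.sub_eq, h.ag_ee hx w, hee]
    congr 2
    group
  faith := fun x hx => h.HH_ext fun m => by rw [hx, one_smul]
  sK := h.sK0 (h.rd_eq hN hD)
  Kt_two := by
    have h1 : IsPGroup 2 (yl V Z : Subgroup G) := (o2_isPGroup _).to_le (h.yl_le_o2 hG)
    have h2 : IsPGroup 2 ((yl V Z).subgroupOf (centralizer (Z : Set G))) :=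
      h1.comap_of_injective (centralizer (Z : Set G)).subtype (Subgroup.subtype_injective _)
    exact h2.map _
  A_le_Kt := by
    intro x hx
    obtain ⟨a, ha, rfl⟩ := h.mem_A0.1 hx
    exact h.mem_K0.2 ⟨a, h.W_le_yl h.pY ha, rfl⟩
  Kt_fix := by
    intro x hx
    obtain ⟨t, ht, rfl⟩ := h.mem_K0.1 hx
    exact h.rp_cV (yl_le_cent V Z ht)
  Kt_A := by
    intro x y hx hy
    obtain ⟨t, ht, rfl⟩ := h.mem_K0.1 hx
    obtain ⟨a, ha, rfl⟩ := h.mem_A0.1 hy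
    refine h.HH_ext fun m => ?_
    exact LinearMap.congr_fun (h.yl_A ht ha) m
  Kt_E := by
    intro x e hx he
    obtain ⟨t, ht, rfl⟩ := h.mem_K0.1 hx
    obtain ⟨w, rfl⟩ := h.fm_surj e
    have hw := (h.fm_Eb_iff hN).1 ((h.al0_one hN).1 he)
    have h1 := h.one.yl_dd h.one.self ht hw
    have hWc := h.W_conj (h.hat_norm (h.C_le_hat (h.yl_C ht))) w.2
    have e1 : h.rH t (h.yl_C ht) • h.fm w = h.fm ⟨t * w * t⁻¹, hWc⟩ := h.rp_fm' (h.C_le_hat (h.yl_C ht)) w.2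
    rw [e1, ← h.fm_mul, h.fm_I0 hN]
    have e2 : ((⟨t * w * t⁻¹, hWc⟩ * w : ws V Z) : G) = t * w * t⁻¹ * (w : G)⁻¹ := by
      rw [h.one.inv_eq_W h.one.self w.2]; rfl
    rw [e2]
    exact h1
  Kt_I := by
    intro x m hx hm
    obtain ⟨t, ht, rfl⟩ := h.mem_K0.1 hx
    obtain ⟨u, hu, rfl⟩ := (h.mem_I0_iff hN hD).1 hm
    have h1 : t * u * t⁻¹ * u⁻¹ ∈ V := h.one.XV_I (yl_le_XV V Z ht) hu
    have h2 : h.rH t (h.yl_C ht) • h.fm ⟨u, h.one.I_le_W' hu⟩ = _ := h.rp_fm' (h.C_le_hat (h.yl_C ht)) (h.one.I_le_W' hu)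
    rw [h2, ← h.fm_mul]
    obtain ⟨c, hc⟩ := Submodule.mem_span_singleton.1 (h.mem_lam.2 ⟨⟨_, h.one.V_le_W' h1⟩, h1, rfl⟩)
    refine ⟨c, ?_⟩
    rw [hc]
    congr 1
    apply Subtype.ext
    show t * u * t⁻¹ * u = t * u * t⁻¹ * u⁻¹
    rw [h.one.inv_eq_W h.one.self (h.one.I_le_W' hu)]
  Kt_hom := by
    intro m hm hnp
    obtain ⟨u, hu, rfl⟩ := (h.mem_I0_iff hN hD).1 hm
    have huV : u ∉ V := by
      intro huV
      obtain ⟨c, hc⟩ := Submodule.mem_span_singleton.1 ((h.fm_mem_lam_I hu).2 huV)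
      exact hnp c hc.symm
    obtain ⟨k, hk, hku⟩ := h.exists_yl hu huV 1
    refine ⟨h.rH k (h.yl_C hk), h.mem_K0.2 ⟨k, hk, rfl⟩, ?_⟩
    have h2 : h.rH k (h.yl_C hk) • h.fm ⟨u, h.one.I_le_W' hu⟩ = _ := h.rp_fm' (h.C_le_hat (h.yl_C hk)) (h.one.I_le_W' hu)
    rw [h2, add_comm]
    show _ = h.fm ⟨h.e 0 1, h.W_V 0 1⟩ + _
    rw [← h.fm_mul]
    congr 1
    exact Subtype.ext hku

end Co

end Cfsg.Agent.Omega.NO3S.OneQ
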