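import Cfsg.Agent.Omega.NO3S.OneQ.FoldG
import Cfsg.Agent.Omega.NO3S.OneQ.QPlus

/-!
# NO-3S, `OneSz`: `Co.Ker` from LEMMA Q+ (every `D_x`, `rd > Z` allowed)

* `Co.kr_le_kx` : `{g ∈ C_G(Z) | [W_Z, g] ≤ rd, [rd, g] ≤ Z} ≤ K_Z`
* **`Co.ker_of_Q`** : `Ker ρ V`
-/

set_option autoImplicit false
set_option linter.unusedSectionVars false

namespace Cfsg.Agent.Omega.NO3S.OneQ

open Subgroup Cfsg.Agent.Omega.NO3S.PT Cfsg.Agent.Omega.NoFF.Basic
open scoped Pointwise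

universe u

variable {G : Type u} [Group G]

namespace Co

theorem kr_pow {g w r : G} (h1 : g * w * g⁻¹ = r * w) (h2 : g * r * g⁻¹ = r) (n : ℕ) :
    g ^ n * w * (g ^ n)⁻¹ = r ^ n * w := by
  induction n with
  | zero => simp
  | succ n ih =>
    have e1 : g ^ (n + 1) * w * (g ^ (n + 1))⁻¹ = g * (g ^ n * w * (g ^ n)⁻¹) * g⁻¹ := by
      rw [pow_succ']; group
    have e2 : g * (r ^ n * w) * g⁻¹ = g * r ^ n * g⁻¹ * (g * w * g⁻¹) := by group
    have e3 : g * r ^ n * g⁻¹ = r ^ n := by rw [← conj_pow, h2]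
    rw [e1, ih, e2, e3, h1, ← mul_assoc, ← pow_succ]

theorem kr_one {g w r : G} (ho : Odd (orderOf g)) (h1 : g * w * g⁻¹ = r * w) (h2 : g * r * g⁻¹ = r)
    (h3 : r * r = 1) : r = 1 := by
  have h4 := kr_pow h1 h2 (orderOf g)
  rw [pow_orderOf_eq_one, inv_one, mul_one, one_mul] at h4
  have h5 : r ^ orderOf g = 1 := by
    have := h4.symm
    rwa [mul_eq_right] at this
  obtain ⟨k, hk⟩ := ho
  rw [hk, pow_succ, pow_mul, pow_two, h3, one_pow, one_mul] at h5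
  exact h5

variable [Finite G] {F : Type*} [Field F] [CharP F 2] {S : Sylow 2 G} {B P V Z : Subgroup G} (h : Co F S B P V Z)
include h

theorem kr_odd {g : G} (hg : g ∈ kr V Z) (ho : Odd (orderOf g)) : g ∈ centralizer ((ws V Z : Subgroup G) : Set G) := by
  have hrW : rd V Z ≤ ws V Z := rd_le
  have hZW : Z ≤ ws V Z := h.Z_le_rd.trans rd_le
  have hr : ∀ r ∈ rd V Z, g * r * g⁻¹ = r := by
    intro r hr
    have h1 := hg.2.2 r hr
    have h2 := kr_one (g := g) (w := r) (r := g * r * g⁻¹ * r⁻¹) ho (by group)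
      (by rw [← (mem_centralizer_iff.1 hg.1) _ h1, mul_inv_cancel_right]) (h.one.sq_W h.one.self (hZW h1))
    rwa [mul_inv_eq_one] at h2
  rw [mem_centralizer_iff]
  intro w hw
  have h1 := hg.2.1 w hw
  have h2 := kr_one (g := g) (w := w) (r := g * w * g⁻¹ * w⁻¹) ho (by group)
      (hr _ h1) (h.one.sq_W h.one.self (hrW h1))
  rw [mul_inv_eq_one, mul_inv_eq_iff_eq_mul] at h2
  exact h2.symm

theorem two_kr [Finite F] (hG : IsCharacteristicTwoType G) : IsPGroup 2 (kr V Z) := by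
  rintro ⟨g, hg⟩
  obtain ⟨m, hm⟩ := QAbs.exists_odd g
  have h1 := h.kr_odd (pow_mem hg (2 ^ m)) hm
  obtain ⟨k, hk⟩ := h.two_cent hG h.one.self.cj ⟨_, h1⟩
  refine ⟨m + k, Subtype.ext ?_⟩
  have h2 := congrArg Subtype.val hk
  show g ^ 2 ^ (m + k) = 1
  rw [pow_add, pow_mul]
  simpa using h2

/-- `{g ∈ C_G(Z) | [W_Z, g] ≤ rd, [rd, g] ≤ Z} ≤ K_Z` -/
theorem kr_le_kx [Finite F] (hG : IsCharacteristicTwoType G) : kr V Z ≤ kx V Z := by
  rw [h.kx_eq hG h.one.self.cj]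
  exact ZN.Block.le_o2 (h.two_kr hG) (fun g hg => hg.1) ((centralizer_le_normalizer _).trans norm_kr)

/-- LEMMA Q+ gives `Ker` for every instance -/
theorem ker_of_Q [Finite F] (hG : IsCharacteristicTwoType G) {H : Type*} [Group H] [DistribMulAction H h.MF]
    {ρ : centralizer (Z : Set G) →* H} (act : ∀ g m, ρ g • m = h.rep g m) : Ker ρ V := by
  intro g hg h1 h2
  refine h.kr_le_kx hG ⟨hg, fun w hw => ?_, h2⟩
  have h3 : ρ ⟨g, hg⟩ • h.fm ⟨w, hw⟩ = h.fm ⟨g * w * g⁻¹, h.W_conj (centralizer_le_normalizer _ hg) hw⟩ := by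
    rw [act]
    exact h.rep_fm ⟨g, hg⟩ ⟨w, hw⟩
  rw [h1, one_smul, h.fm_eq] at h3
  have h4 := inv_mem h3
  have e : (w * (g * w * g⁻¹)⁻¹)⁻¹ = g * w * g⁻¹ * w⁻¹ := by group
  rwa [e] at h4

end Co

end Cfsg.Agent.Omega.NO3S.OneQ
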