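import Cfsg.Agent.Omega.NO3S.OneQ.Star
import Cfsg.Agent.Omega.NO3S.OneQ.Tor
import Cfsg.Agent.Omega.NO3S.OneQ.PlaneOf

/-!
# NO-3S, critical distance 1: LEMMA K (bb OMEGA, helper382)

`M ≠ V` a line on `Z`, `Q ≠ Z` a point of `M`, `g ∈ X_V`, `Y = Z^g ≠ Z`.

* `Co.XV_sl` : `X_V` acts on `V` by matrices of determinant 1;
* `Co.XV_ee` : `g ∈ X_V ∩ C(X)` satisfies `[g, W_X] ≤ E_X`;
* `One.fix_I` : for `u ∈ I - V`, `g ∈ X_V` some `s ∈ Y_V` has `(s g) u = u (s g)`;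
* `One.line_le_I` : a line `M` on `Z` with an element of `I_V` outside `V` is in `I_V`;
* `One.comm_mod` : `[w ε, w' ε'] = [w, w']` modulo `V` for `ε ∈ E_Y`, `ε' ∈ E_T`;
* **`Co.lemK`** : if `e ∈ W_Q ∩ K_Z` has `(z^g)^e = z z^g` for `z ∈ Z` and `[M, W_Y] ≤ E_Z(M)`, then `[v, v^g] ∈ Z` for `v ∈ M`.
-/

set_option autoImplicit false
set_option linter.unusedSectionVars false

namespace Cfsg.Agent.Omega.NO3S.OneQ

open Subgroup Cfsg.Agent.Omega.NO3S.PT Cfsg.Agent.Omega.NoFF.Basic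
open scoped Pointwise

variable {G : Type*} [Group G]

namespace One

variable [Finite G] {S : Sylow 2 G} {B P V Z : Subgroup G} (h : One S B P V Z)
include h

/-- for `u ∈ I - V`, `g ∈ X_V` some element of `Y_V g` centralises `u` -/
theorem fix_I {u g : G} (hu : u ∈ IV V Z) (huV : u ∉ V) (hg : g ∈ XV V Z) :
    ∃ s ∈ yl V Z, (s * g) * u = u * (s * g) := by
  obtain ⟨Y, hY, hYZ⟩ := h.exists_ne h.self
  have h1 : g * u * g⁻¹ * u⁻¹ ∈ V := h.XV_I hg hu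
  obtain ⟨x, hx, y, hy, hxy⟩ := h.pl.exists_mul h.self.cj h.self.le hY.cj hY.le hYZ.symm (V.inv_mem h1)
  obtain ⟨d1, hd1, hd1V, hd1u⟩ := h.pl.F2' h.hf h.hO hu huV h.self.cj h.self.le hx
  obtain ⟨d2, hd2, hd2V, hd2u⟩ := h.pl.F2' h.hf h.hO hu huV hY.cj hY.le hy
  refine ⟨d1 * d2, mul_mem (mem_yl_of h.self hd1 hd1V) (mem_yl_of hY hd2 hd2V), ?_⟩
  have hyV := hY.le hy
  have hxV := h.self.le hx
  have e1 : d1 * u * d1⁻¹ = x * u := by rw [← hd1u]; group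
  have e2 : d2 * u * d2⁻¹ = y * u := by rw [← hd2u]; group
  have c1 : d1 * y * d1⁻¹ = y := by rw [h.cent_V hd1V hyV, mul_inv_cancel_right]
  have hxyc : x * y = y * x := h.pl.Vcomm hxV hyV
  have e3 : (d1 * d2) * u * (d1 * d2)⁻¹ = (x * y) * u := by
    calc (d1 * d2) * u * (d1 * d2)⁻¹ = d1 * (d2 * u * d2⁻¹) * d1⁻¹ := by group
      _ = (d1 * y * d1⁻¹) * (d1 * u * d1⁻¹) := by rw [e2]; group
      _ = (x * y) * u := by rw [c1, e1, ← mul_assoc, hxyc]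
  set v0 := g * u * g⁻¹ * u⁻¹ with hv0
  have e4 : g * u * g⁻¹ = v0 * u := by rw [hv0]; group
  have hdV : d1 * d2 ∈ centralizer (V : Set G) := mul_mem hd1V hd2V
  have e5 : (d1 * d2) * v0 * (d1 * d2)⁻¹ = v0 := by rw [h.cent_V hdV h1, mul_inv_cancel_right]
  have e6 : (d1 * d2 * g) * u * (d1 * d2 * g)⁻¹ = u := by
    calc (d1 * d2 * g) * u * (d1 * d2 * g)⁻¹ = (d1 * d2) * (g * u * g⁻¹) * (d1 * d2)⁻¹ := by group
      _ = ((d1 * d2) * v0 * (d1 * d2)⁻¹) * ((d1 * d2) * u * (d1 * d2)⁻¹) := by rw [e4]; group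
      _ = v0 * (v0⁻¹ * u) := by rw [e5, e3, ← hxy]
      _ = u := by group
  rw [← mul_inv_eq_iff_eq_mul]
  exact e6

/-- a line on `Z` with an element of `I_V` outside `V` is contained in `I_V` -/
theorem line_le_I {M : Subgroup G} (hM : IsCj V M) (hZM : Z ≤ M) {u : G} (hu : u ∈ IV V Z) (huV : u ∉ V)
    (huM : u ∈ M) : M ≤ IV V Z := by
  have hu1 : u ≠ 1 := fun e => huV (by rw [e]; exact one_mem _)
  obtain ⟨T, hT, hTM, huT⟩ := h.line_pt hM huM hu1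
  have hTZ : T ≠ Z := fun e => huV (h.pl.ZV (e ▸ huT))
  obtain ⟨Y, hY, hYZ⟩ := h.exists_ne h.self
  obtain ⟨k, hk, -, hkZ, -⟩ := h.pl.swap h.hf h.self.cj h.self.le hY.cj hY.le
  obtain ⟨s, hs, hsu⟩ := h.fix_I hu huV hk
  have hsV : s ∈ centralizer (V : Set G) := yl_le_cent V Z hs
  -- `s k` moves `Z` to `Y` and fixes `T`
  have h1 : PT.cj (s * k) Z = Y := by
    rw [← cj_cj, hkZ]
    exact h.cent_fix hY hsV
  have h2 : PT.cj (s * k) T = T := cj_eq_iff.2 (h.pl.norm_of_comm hT huT hu1 hsu)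
  have h3 : Y ≤ PT.cj (s * k) M := by rw [← h1]; exact cj_le_cj.2 hZM
  have h4 : T ≤ PT.cj (s * k) M := by
    have := cj_le_cj (g := s * k) |>.2 hTM
    rwa [h2] at this
  have h5 : T ≤ IV V Z := by
    rw [← h.pl.IV_eq h.hf h.self.cj h.self.le hY.cj hY.le hYZ.symm]
    exact le_inf (hTM.trans (h.line_le_ws hM hZM)) (h4.trans (h.line_le_ws (hM.cj _) h3))
  intro m hm
  obtain ⟨z, hz, t, ht, rfl⟩ := h.line_mul hM h.self.cj hZM hT hTM hTZ.symm hm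
  exact mul_mem (h.pl.V_le_IV (h.pl.ZV hz)) (h5 ht)

/-- `[w ε, w' ε'] = [w, w']` modulo `V` -/
theorem comm_mod {Y T : Subgroup G} (hY : Pnt V Z Y) (hT : Pnt V Z T) (hne : Y ≠ T) {w w' ε ε' : G}
    (hw : w ∈ ws V Y) (hw' : w' ∈ ws V T) (hε : ε ∈ ee V Z Y) (hε' : ε' ∈ ee V Z T) :
    (w * ε) * (w' * ε') * (w * ε)⁻¹ * (w' * ε')⁻¹ * (w * w' * w⁻¹ * w'⁻¹)⁻¹ ∈ V := by
  have hwC := h.W_le_cent hY hw
  have hwC' := h.W_le_cent hT hw'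
  have hεW : ε ∈ ws V Y := ee_le hε
  have hεW' : ε' ∈ ws V T := ee_le hε'
  have hεC := h.W_le_cent hY hεW
  have hεC' := h.W_le_cent hT hεW'
  -- `[ε, w'] ∈ V`, `[w, ε'] ∈ V`
  have h1 : ε * w' * ε⁻¹ * w'⁻¹ ∈ V := hT.le (h.ee_act hT hne.symm hε hw')
  have h2 : w * ε' * w⁻¹ * ε'⁻¹ ∈ V := by
    have h3 := hY.le (h.ee_act hY hne hε' hw)
    have h4 := V.inv_mem h3
    have e : (ε' * w * ε'⁻¹ * w⁻¹)⁻¹ = w * ε' * w⁻¹ * ε'⁻¹ := by group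
    rwa [e] at h4
  have h3 : ε * ε' = ε' * ε := h.ee_comm hY hT hne hε hε'
  set a := ε * w' * ε⁻¹ * w'⁻¹ with ha
  set b := w * ε' * w⁻¹ * ε'⁻¹ with hb
  have ca : ∀ {c : G}, c ∈ centralizer (V : Set G) → c * a = a * c := fun {c} hc => h.cent_V hc h1
  have cb : ∀ {c : G}, c ∈ centralizer (V : Set G) → c * b = b * c := fun {c} hc => h.cent_V hc h2
  -- `w ε w' ε' = a w w' ε ε'`, `w' ε' w ε = w' b⁻¹ w ε' ε`
  have e1 : ε * w' = a * (w' * ε) := by rw [ha]; group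
  have e2 : w * ε' = b * (ε' * w) := by rw [hb]; group
  have e3 : (w * ε) * (w' * ε') = a * (w * w' * (ε * ε')) := by
    calc (w * ε) * (w' * ε') = w * (ε * w') * ε' := by group
      _ = (w * a) * (w' * ε) * ε' := by rw [e1]; group
      _ = a * (w * w' * (ε * ε')) := by rw [ca hwC]; group
  have e2' : ε' * w = b⁻¹ * (w * ε') := by rw [e2]; group
  have cb' : w' * b⁻¹ = b⁻¹ * w' := by
    rw [eq_inv_mul_iff_mul_eq, ← mul_assoc, ← cb hwC', mul_inv_cancel_right]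
  have e4 : (w' * ε') * (w * ε) = b⁻¹ * (w' * w * (ε * ε')) := by
    calc (w' * ε') * (w * ε) = w' * (ε' * w) * ε := by group
      _ = (w' * b⁻¹) * (w * (ε' * ε)) := by rw [e2']; group
      _ = b⁻¹ * (w' * w * (ε * ε')) := by rw [cb', h3]; group
  have e5 : (w * ε) * (w' * ε') * (w * ε)⁻¹ * (w' * ε')⁻¹ = a * (w * w' * w⁻¹ * w'⁻¹) * b := by
    calc (w * ε) * (w' * ε') * (w * ε)⁻¹ * (w' * ε')⁻¹ = ((w * ε) * (w' * ε')) * ((w' * ε') * (w * ε))⁻¹ := by group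
      _ = a * (w * w' * w⁻¹ * w'⁻¹) * b := by rw [e3, e4]; group
  have hc : w * w' * w⁻¹ * w'⁻¹ ∈ centralizer (V : Set G) :=
    mul_mem (mul_mem (mul_mem hwC hwC') (inv_mem hwC)) (inv_mem hwC')
  rw [e5, mul_assoc a, cb hc, ← mul_assoc, mul_inv_cancel_right]
  exact mul_mem h1 h2

end One

namespace Co

variable [Finite G] {F : Type*} [Field F] [CharP F 2] {S : Sylow 2 G} {B P V Z : Subgroup G} (h : Co F S B P V Z)

/-- `X_V` acts on `V` by matrices of determinant 1 -/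
theorem XV_sl {g : G} (hg : g ∈ XV V Z) : ∃ a b c d : F, a * d + b * c = 1 ∧
    ∀ x y, g * h.e x y * g⁻¹ = h.e (a * x + b * y) (c * x + d * y) := by
  let D : Subgroup G :=
    { carrier := {g | ∃ a b c d : F, a * d + b * c = 1 ∧
        ∀ x y, g * h.e x y * g⁻¹ = h.e (a * x + b * y) (c * x + d * y)}
      one_mem' := ⟨1, 0, 0, 1, by ring, fun x y => by rw [one_mul, inv_one, mul_one]; congr 1 <;> ring⟩
      mul_mem' := by
        rintro g k ⟨a, b, c, d, h1, h2⟩ ⟨a', b', c', d', h1', h2'⟩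
        refine ⟨a * a' + b * c', a * b' + b * d', c * a' + d * c', c * b' + d * d', ?_, fun x y => ?_⟩
        · have h3 : (a * d + b * c) * (a' * d' + b' * c') = 1 := by rw [h1, h1', one_mul]
          have h4 : (2 : F) = 0 := CharTwo.two_eq_zero
          linear_combination h3 + (a * a' * b' * c + b * c' * d * d') * h4
        · have e : g * k * h.e x y * (g * k)⁻¹ = g * (k * h.e x y * k⁻¹) * g⁻¹ := by group
          rw [e, h2', h2]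
          congr 1 <;> ring
      inv_mem' := by
        rintro g ⟨a, b, c, d, h1, h2⟩
        refine ⟨d, b, c, a, by rw [← h1]; ring, fun x y => ?_⟩
        have h4 : (2 : F) = 0 := CharTwo.two_eq_zero
        have h3 : h.e x y = g * h.e (d * x + b * y) (c * x + a * y) * g⁻¹ := by
          rw [h2]
          congr 1
          · linear_combination (-x) * h1 + (-a * b * y) * h4
          · linear_combination (-y) * h1 + (-c * d * x) * h4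
        rw [h3]; group }
  have hK : XV V Z ≤ D := by
    refine h.XV_le.trans (sup_le ?_ ?_)
    · intro k hk
      obtain ⟨t, ht⟩ := h.K_tv hk
      exact ⟨1, t, 0, 1, by ring, fun x y => by rw [ht]; congr 1 <;> ring⟩
    · intro k hk
      obtain ⟨t, ht⟩ := h.K_tv' hk
      exact ⟨1, 0, t, 1, by ring, fun x y => by rw [ht]; congr 1 <;> ring⟩
  exact hK hg

include h in
/-- `g ∈ X_V ∩ C(Z)` satisfies `[g, W_Z] ≤ E_Z` -/
theorem XV_ee {g w : G} (hg : g ∈ XV V Z) (hgZ : ∀ z ∈ Z, g * z * g⁻¹ = z) (hw : w ∈ ws V Z) :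
    g * w * g⁻¹ * w⁻¹ ∈ ee V Z Z := by
  obtain ⟨a, b, c, d, h1, h2⟩ := h.XV_sl hg
  have h3 := h2 1 0
  rw [hgZ _ (h.e_memZ 1)] at h3
  have h4 := h.e_inj h3
  have ha : a = 1 := by have := h4.1; rw [mul_one, mul_zero, add_zero] at this; exact this.symm
  have hc : c = 0 := by have := h4.2; rw [mul_one, mul_zero, add_zero] at this; exact this.symm
  have hd : d = 1 := by rw [ha, hc, one_mul, mul_zero, add_zero] at h1; exact h1
  have h5 : (h.kp b)⁻¹ * g ∈ yl V Z := by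
    rw [← h.XV_cent]
    refine ⟨(XV V Z).mul_mem ((XV V Z).inv_mem (h.kp_XV b)) hg, h.mem_cent fun x y => ?_⟩
    have e : (h.kp b)⁻¹ * g * h.e x y * ((h.kp b)⁻¹ * g)⁻¹ = (h.kp b)⁻¹ * (g * h.e x y * g⁻¹) * h.kp b := by group
    have e2 : g * h.e x y * g⁻¹ = h.kp b * h.e x y * (h.kp b)⁻¹ := by
      rw [h2, h.kp_act, ha, hc, hd]
      congr 1 <;> ring
    rw [e, e2]; group
  set y := (h.kp b)⁻¹ * g with hy
  have e : g * w * g⁻¹ * w⁻¹ = (h.kp b * (y * w * y⁻¹) * (h.kp b)⁻¹ * (y * w * y⁻¹)⁻¹) * (y * w * y⁻¹ * w⁻¹) := by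
    rw [hy]; group
  have h6 := h.one.yl_ee h.one.self h5 hw
  have h7 : y * w * y⁻¹ ∈ ws V Z := by
    have e : y * w * y⁻¹ = (y * w * y⁻¹ * w⁻¹) * w := by group
    rw [e]
    exact mul_mem (ee_le h6) hw
  rw [e]
  refine mul_mem ?_ h6
  exact h.one.dd_le_ee h.one.self (h.one.X_le_dd h.one.self ((mem_kx.1 (h.kp_mem b)).2 _ h7))

include h in
/-- `g ∈ X_V ∩ C(X)` satisfies `[g, W_X] ≤ E_X`, `X = Z^k`, `k ∈ X_V` -/
theorem XV_ee' {k g w : G} (hk : k ∈ XV V Z) (hg : g ∈ XV V Z) (hgZ : ∀ z ∈ Z, g * (k * z * k⁻¹) * g⁻¹ = k * z * k⁻¹)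
    (hw : w ∈ ws V (PT.cj k Z)) : g * w * g⁻¹ * w⁻¹ ∈ ee V Z (PT.cj k Z) := by
  have h1 := h.XV_ee (g := k⁻¹ * g * k) (w := k⁻¹ * w * k) ((XV V Z).mul_mem ((XV V Z).mul_mem ((XV V Z).inv_mem hk) hg) hk)
    (fun z hz => by
      have h2 := hgZ z hz
      calc k⁻¹ * g * k * z * (k⁻¹ * g * k)⁻¹ = k⁻¹ * (g * (k * z * k⁻¹) * g⁻¹) * k := by group
        _ = z := by rw [h2]; group)
    (by rw [ws_cj, mem_cj] at hw; exact hw)
  rw [← cj_ee (h.one.pl.XV_le_N hk), mem_cj]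
  have e : k⁻¹ * (g * w * g⁻¹ * w⁻¹) * k = k⁻¹ * g * k * (k⁻¹ * w * k) * (k⁻¹ * g * k)⁻¹ * (k⁻¹ * w * k)⁻¹ := by group
  rw [e]
  exact h1

section lemK

variable {M Q : Subgroup G} {g e : G}

include h in
/-- the element `k ∈ X_V` with `z^k = z^g`, `(z^g)^k = z z^g` -/
theorem exists_k (hg : g ∈ XV V Z) (hgZ : PT.cj g Z ≠ Z) : ∃ k ∈ XV V Z, g⁻¹ * k ∈ kx V Z ∧
    (∀ z ∈ Z, k * (g * z * g⁻¹) * k⁻¹ = z * (g * z * g⁻¹)) := by
  obtain ⟨a, b, c, d, h1, h2⟩ := h.XV_sl hg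
  have hc : c ≠ 0 := by
    rintro rfl
    apply hgZ
    have hN := h.one.pl.XV_le_N hg
    rw [mul_zero, add_zero] at h1
    have ha : a ≠ 0 := fun e => by rw [e, zero_mul] at h1; exact zero_ne_one h1
    refine h.cj_Z_of (f := fun x => a * x) (fun y => ⟨a⁻¹ * y, mul_inv_cancel_left₀ ha y⟩) fun x => ?_
    rw [h2]
    congr 1 <;> ring
  have h4 : (2 : F) = 0 := CharTwo.two_eq_zero
  set s := (1 + a + d) * c⁻¹ with hs
  have hsc : s * c = 1 + a + d := by rw [hs, inv_mul_cancel_right₀ hc]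
  refine ⟨g * h.kp s, mul_mem hg (h.kp_XV s), by rw [inv_mul_cancel_left]; exact h.kp_mem s, fun z hz => ?_⟩
  obtain ⟨x, rfl⟩ := (h.mem_Z z).1 hz
  have e1 : g * h.kp s * (g * h.e x 0 * g⁻¹) * (g * h.kp s)⁻¹ =
      g * (h.kp s * (g * h.e x 0 * g⁻¹) * (h.kp s)⁻¹) * g⁻¹ := by group
  rw [e1, h2 x 0, h.kp_act, h2, ← h.e_add]
  congr 1
  · linear_combination (a * x) * hsc + x * h1 + (a ^ 2 * x) * h4
  · linear_combination (c * x) * hsc + (c * a * x + c * d * x) * h4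
include h in
/-- **(1)** `[w, w^e] = [v, w]` modulo `V` for `w = v^g` -/
theorem kap_mod (hg : g ∈ XV V Z) (hgZ : PT.cj g Z ≠ Z) (heX : e ∈ kx V Z)
    (hge : ∀ z ∈ Z, e * (g * z * g⁻¹) * e⁻¹ = z * (g * z * g⁻¹)) (heY : PT.cj e (PT.cj g Z) ≠ PT.cj g Z)
    {v : G} (hv : v ∈ ws V Z) :
    (g * v * g⁻¹) * (e * (g * v * g⁻¹) * e⁻¹) * (g * v * g⁻¹)⁻¹ * (e * (g * v * g⁻¹) * e⁻¹)⁻¹ *
      (v * (g * v * g⁻¹) * v⁻¹ * (g * v * g⁻¹)⁻¹)⁻¹ ∈ V := by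
  have hgN := h.one.pl.XV_le_N hg
  have heXV : e ∈ XV V Z := le_XV h.one.self.cj h.one.self.le heX
  have heN := h.one.pl.XV_le_N heXV
  have hY : Pnt V Z (PT.cj g Z) := h.one.self.conj hgN
  have hY' : Pnt V Z (PT.cj e (PT.cj g Z)) := hY.conj heN
  obtain ⟨k, hk, hgk, hkY⟩ := h.exists_k hg hgZ
  set w := g * v * g⁻¹ with hw
  have hwY : w ∈ ws V (PT.cj g Z) := by rw [ws_cj]; exact conj_mem_cj hv
  set w' := e * w * e⁻¹ with hw'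
  have hwY' : w' ∈ ws V (PT.cj e (PT.cj g Z)) := by rw [ws_cj]; exact conj_mem_cj hwY
  -- `k v k⁻¹ = y w`
  obtain ⟨y, hy, hkv⟩ : ∃ y ∈ V, k * v * k⁻¹ = y * w := by
    have h1 : (g⁻¹ * k) * v * (g⁻¹ * k)⁻¹ * v⁻¹ ∈ Z := (mem_kx.1 hgk).2 v hv
    refine ⟨g * ((g⁻¹ * k) * v * (g⁻¹ * k)⁻¹ * v⁻¹) * g⁻¹, (mem_normalizer_iff.1 hgN _).1 (h.one.pl.ZV h1), ?_⟩
    rw [hw]; group
  -- `k w k⁻¹ = ε' w'`
  obtain ⟨ε', hε', hkw⟩ : ∃ ε' ∈ ee V Z (PT.cj e (PT.cj g Z)), k * w * k⁻¹ = w' * ε' := by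
    have h1 := h.XV_ee' (k := g) (g := e⁻¹ * k) (w := w) hg ((XV V Z).mul_mem ((XV V Z).inv_mem heXV) hk)
      (fun z hz => by
        calc e⁻¹ * k * (g * z * g⁻¹) * (e⁻¹ * k)⁻¹ = e⁻¹ * (k * (g * z * g⁻¹) * k⁻¹) * e := by group
          _ = e⁻¹ * (e * (g * z * g⁻¹) * e⁻¹) * e := by rw [hkY z hz, hge z hz]
          _ = g * z * g⁻¹ := by group) hwY
    have h2 : e * (e⁻¹ * k * w * (e⁻¹ * k)⁻¹ * w⁻¹) * e⁻¹ ∈ ee V Z (PT.cj e (PT.cj g Z)) := by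
      rw [← cj_ee heN]; exact conj_mem_cj h1
    refine ⟨_, h2, ?_⟩
    have h3 : e * (e⁻¹ * k * w * (e⁻¹ * k)⁻¹ * w⁻¹) * e⁻¹ ∈ ws V (PT.cj e (PT.cj g Z)) := ee_le h2
    rw [h.one.comm_W hY'.cj hwY' h3, hw']
    group
  have h1 := h.one.comm_mod hY hY' heY.symm (ε := 1) hwY hwY' (one_mem _) hε'
  rw [mul_one] at h1
  have hwC := h.one.W_le_cent hY hwY
  have hwC' := h.one.W_le_cent hY' hwY'
  have hεC := h.one.W_le_cent hY' (ee_le hε')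
  -- `k c k⁻¹ = [y w, w' ε'] = [w, w' ε']`
  set c := v * w * v⁻¹ * w⁻¹ with hc
  have hcI : c ∈ IV V Z := h.one.comm_mem h.one.self hY (fun e => hgZ e.symm) hv hwY
  have h2 : k * c * k⁻¹ = w * (w' * ε') * w⁻¹ * (w' * ε')⁻¹ := by
    have e1 : k * c * k⁻¹ = (k * v * k⁻¹) * (k * w * k⁻¹) * (k * v * k⁻¹)⁻¹ * (k * w * k⁻¹)⁻¹ := by rw [hc]; group
    rw [e1, hkv, hkw]
    have h3 : w' * ε' ∈ centralizer (V : Set G) := mul_mem hwC' hεC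
    have h4 : w * (w' * ε') * w⁻¹ * (w' * ε')⁻¹ ∈ centralizer (V : Set G) :=
      mul_mem (mul_mem (mul_mem hwC h3) (inv_mem hwC)) (inv_mem h3)
    have h5 : y⁻¹ * (w' * ε')⁻¹ = (w' * ε')⁻¹ * y⁻¹ := (h.one.cent_V (inv_mem h3) (V.inv_mem hy)).symm
    calc y * w * (w' * ε') * (y * w)⁻¹ * (w' * ε')⁻¹
        = y * (w * (w' * ε') * w⁻¹) * (y⁻¹ * (w' * ε')⁻¹) := by group
      _ = y * (w * (w' * ε') * w⁻¹ * (w' * ε')⁻¹) * y⁻¹ := by rw [h5]; group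
      _ = _ := by rw [← h.one.cent_V h4 hy, mul_inv_cancel_right]
  have h3 : k * c * k⁻¹ * c⁻¹ ∈ V := h.one.XV_I hk hcI
  rw [h2] at h3
  have e1 : w * w' * w⁻¹ * w'⁻¹ * c⁻¹ = (w * (w' * ε') * w⁻¹ * (w' * ε')⁻¹ * (w * w' * w⁻¹ * w'⁻¹)⁻¹)⁻¹ *
      (w * (w' * ε') * w⁻¹ * (w' * ε')⁻¹ * c⁻¹) := by group
  rw [e1]
  exact V.mul_mem (V.inv_mem h1) h3

include h in
/-- **LEMMA K** -/
theorem lemK (hM : IsCj V M) (hZM : Z ≤ M) (hQ : IsCj Z Q) (hQM : Q ≤ M) (hQZ : Q ≠ Z)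
    (hg : g ∈ XV V Z) (hgZ : PT.cj g Z ≠ Z) (he : e ∈ ws V Q) (heX : e ∈ kx V Z)
    (hge : ∀ z ∈ Z, e * (g * z * g⁻¹) * e⁻¹ = z * (g * z * g⁻¹))
    (hp : ∀ w ∈ ws V (PT.cj g Z), ∀ v ∈ M, w * v * w⁻¹ * v⁻¹ ∈ ee M Z Z)
    {v : G} (hv : v ∈ M) : v * (g * v * g⁻¹) * v⁻¹ * (g * v * g⁻¹)⁻¹ ∈ Z := by
  have hVV : IsCj V V := ⟨1, (cj_one V).symm⟩
  have hZ := h.one.pl.isCj_self
  have hgN := h.one.pl.XV_le_N hg
  have hY : Pnt V Z (PT.cj g Z) := h.one.self.conj hgN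
  have hvW : v ∈ ws V Z := h.one.line_le_ws hM hZM hv
  -- `e` moves `Y`
  have heY : PT.cj e (PT.cj g Z) ≠ PT.cj g Z := by
    intro e1
    obtain ⟨z, hz, hz1⟩ := h.one.pl.pt_ne_bot hZ
    have h1 : g * z * g⁻¹ ∈ PT.cj g Z := conj_mem_cj hz
    have h2 : e * (g * z * g⁻¹) * e⁻¹ ∈ PT.cj g Z := by
      rw [← e1] ; exact conj_mem_cj h1
    rw [hge z hz] at h2
    exact hgZ (h.one.pl.pts_eq hY.cj hZ ((Subgroup.mul_mem_cancel_right _ h1).1 h2) hz hz1)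
  set w := g * v * g⁻¹ with hw
  have hwY : w ∈ ws V (PT.cj g Z) := by rw [ws_cj]; exact conj_mem_cj hvW
  -- `E_Q(M)` and `E_Z(M)` commute
  have heE : e ∈ ee M Z Q := by
    rw [h.one.ee_line hM hQ hQM hZ hZM hQZ.symm]; exact ⟨he, heX⟩
  obtain ⟨T, C, Q', h'⟩ := h.one.flag hM hZ hZM
  have hQM' : Pnt M Z Q := ⟨hQ, hQM⟩
  have hEE : ∀ x ∈ ee M Z Z, e * x = x * e := fun x hx => h'.ee_comm hQM' h'.self hQZ heE hx
  have hpv : w * v * w⁻¹ * v⁻¹ ∈ ee M Z Z := hp w hwY v hv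
  -- `V ∩ E_Z(M) ≤ Z`
  have hVE : ∀ x ∈ V, x ∈ ee M Z Z → x ∈ Z := by
    intro x hx hxE
    by_contra hxZ
    have h1 := h.one.lin_base (k := e) (fun z hz => (mem_kx.1 heX).1 z hz) hx hxZ (hEE x hxE)
    exact heY (h.one.cent_fix hY h1)
  have hIE : IV M Z ≤ ee M Z Z := (h'.I_le_dd h'.self).trans (h'.dd_le_ee h'.self)
  -- KAPPA
  have hkap := h.one.kappa hVV hM hZ h.one.pl.ZV hZM hY.cj hY.le hgZ hQ hQM hQZ hwY he heX heY (fun q hq => by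
    have h1 : w * q * w⁻¹ * q⁻¹ ∈ ee M Z Z := hp w hwY q (hQM hq)
    have h2 : e * q = q * e := h.one.comm_W hQ he (h.one.line_le_ws hM hQM (hQM hq))
    have e1 : w * q * w⁻¹ = (w * q * w⁻¹ * q⁻¹) * q := by group
    rw [e1, ← mul_assoc, hEE _ h1, mul_assoc, h2, ← mul_assoc])
  obtain ⟨huV, huM, -⟩ := hkap
  have hmod := h.kap_mod hg hgZ heX hge heY hvW
  rw [← hw] at hmod
  set u := w * (e * w * e⁻¹) * w⁻¹ * (e * w * e⁻¹)⁻¹ with hu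
  set c := v * w * v⁻¹ * w⁻¹ with hc
  -- `c ∈ E_Z(M)`
  have hcE : c ∈ ee M Z Z := by
    have e1 : c = (w * v * w⁻¹ * v⁻¹)⁻¹ := by rw [hc]; group
    rw [e1]; exact inv_mem hpv
  have hucZ : u * c⁻¹ ∈ Z := hVE _ hmod (mul_mem (hIE huM) (inv_mem hcE))
  have hcM : c ∈ IV M Z := by
    have e1 : c = (u * c⁻¹)⁻¹ * u := by group
    rw [e1]; exact mul_mem (inv_mem (h'.pl.V_le_IV (hZM hucZ))) huM
  by_contra hcZ
  have hcIV : c ∈ IV V Z := h.one.comm_mem h.one.self hY (fun e => hgZ e.symm) hvW hwY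
  have hwZ : w ∈ centralizer (Z : Set G) := centralizer_le h.one.pl.ZV (h.one.W_le_cent hY hwY)
  have hcw : w * c = c * w := (h.one.comm_W hY.cj hwY (by
    rw [← h.one.pl.IV_eq h.one.hf h.one.self.cj h.one.self.le hY.cj hY.le (fun e => hgZ e.symm)] at hcIV
    exact hcIV.2))
  have hvc : w * v * w⁻¹ = c⁻¹ * v := by rw [hc]; group
  -- the line `M' = M^w`
  set M' := PT.cj w M with hM'
  have hM'c : IsCj V M' := hM.cj w
  have hwZ' : PT.cj w Z = Z := cj_eq_iff.2 (centralizer_le_normalizer _ hwZ)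
  have hZM' : Z ≤ M' := by rw [← hwZ']; exact cj_le_cj.2 hZM
  have hv'M' : c⁻¹ * v ∈ M' := by rw [← hvc]; exact conj_mem_cj hv
  have hv'I : c⁻¹ * v ∈ IV M Z := mul_mem (inv_mem hcM) (h'.pl.V_le_IV hv)
  have hv'M : c⁻¹ * v ∉ M := by
    intro h1
    have hcM' : c ∈ M := by
      have e1 : c = v * (c⁻¹ * v)⁻¹ := by group
      rw [e1]; exact M.mul_mem hv (M.inv_mem h1)
    have hc1 : c ≠ 1 := fun e => hcZ (by rw [e]; exact one_mem _)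
    obtain ⟨R, hR, hRM, hcR⟩ := h.one.line_pt hM hcM' hc1
    have hRZ : Z ≠ R := fun e => hcZ (by rw [e]; exact hcR)
    have h2 := h.one.lin_fix hM hZ hZM hR hRM hRZ hwZ hcR hc1 hcw
    apply hc1
    rw [hc, mem_centralizer_iff.1 h2 v hv]
    group
  have hM'I : M' ≤ IV M Z := h'.line_le_I ⟨w, rfl⟩ hZM' hv'I hv'M hv'M'
  have hne : M' ≠ M := fun e1 => hv'M (e1 ▸ hv'M')
  have hpl := h'.plg_of ⟨w, rfl⟩ hZM' hne hM'I
  -- `u` is in a point `R` of the plane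
  have hcQ : c ∈ M ⊔ M' := by
    have e1 : c = v * (c⁻¹ * v)⁻¹ := by group
    rw [e1]; exact mul_mem (mem_sup_left hv) (inv_mem (mem_sup_right hv'M'))
  have huQ : u ∈ M ⊔ M' := by
    have e1 : u = (u * c⁻¹) * c := by group
    rw [e1]; exact mul_mem (mem_sup_left (hZM hucZ)) hcQ
  have huZ : u ∉ Z := by
    intro h1
    apply hcZ
    have e1 : c = (u * c⁻¹)⁻¹ * u := by group
    rw [e1]; exact Z.mul_mem (Z.inv_mem hucZ) h1
  have hu1 : u ≠ 1 := fun e1 => huZ (by rw [e1]; exact one_mem _)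
  have huVn : u ∉ V := fun h1 => huZ (hVE u h1 (hIE huM))
  obtain ⟨R, hR, hRQ, huR⟩ := hpl.cov u huQ hu1
  have hRW := hpl.leW R hR hRQ
  rw [ws_line hM] at hRW
  have hvR : v ∈ ws V R := hRW (mem_sup_left hv)
  obtain ⟨s, hs, hsu⟩ := h.one.fix_I huV huVn hg
  have hsR : PT.cj (s * g) R = R := cj_eq_iff.2 (h.one.pl.norm_of_comm hR huR hu1 hsu)
  have hxR : (s * g) * v * (s * g)⁻¹ ∈ ws V R := by
    have h1 := conj_mem_cj (g := s * g) hvR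
    rwa [← ws_cj, hsR] at h1
  have hcomm := h.one.comm_W hR hvR hxR
  set ε := s * w * s⁻¹ * w⁻¹ with hεdef
  have hε : ε ∈ ee V Z (PT.cj g Z) := h.one.yl_ee hY hs hwY
  have hx : (s * g) * v * (s * g)⁻¹ = ε * w := by rw [hεdef, hw]; group
  rw [hx] at hcomm
  have hz0 : ε * v * ε⁻¹ * v⁻¹ ∈ Z := h.one.ee_act h.one.self (fun e => hgZ e.symm) hε hvW
  set z0 := ε * v * ε⁻¹ * v⁻¹ with hz0def
  have e0 : ε * v = z0 * (v * ε) := by rw [hz0def]; group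
  have e1 : ε⁻¹ * z0 * ε = z0 := by
    rw [mul_assoc, ← h.one.cent_V (h.one.W_le_cent hY (ee_le hε)) (h.one.pl.ZV hz0), inv_mul_cancel_left]
  have e2 : v * w = z0 * (w * v) := by
    calc v * w = ε⁻¹ * (ε * v) * w := by group
      _ = (ε⁻¹ * z0) * (v * (ε * w)) := by rw [e0]; group
      _ = (ε⁻¹ * z0 * ε) * (w * v) := by rw [hcomm]; group
      _ = z0 * (w * v) := by rw [e1]
  apply hcZ
  rw [hc, e2]
  have e3 : z0 * (w * v) * v⁻¹ * w⁻¹ = z0 := by group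
  rw [e3]
  exact hz0

end lemK

end Co

end Cfsg.Agent.Omega.NO3S.OneQ
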