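import Cfsg.Agent.Omega.NO3S.OneQ.LemK
import Cfsg.Agent.Omega.NO3S.OneQ.Alf

/-!
# NO-3S, `OneQ`: LEMMA K from duality, and in the module `MF`

`dual` : every functional of `MF` which vanishes on `Ē` is induced by an element of `E_Y` (`Y = Yp`).

* `Co.dual_line` : the same for the line `V^c`, `c ∈ C_G(Z)`;
* `Co.exists_e` : the element `e` of `Co.lemK`;
* `Co.lemK_cj` : **LEMMA K** for `V^c`: `V ≰ E_Z(V^c)` and `[V^c, W_Y] ≤ E_Z(V^c)` imply `[v, v^g] ∈ Z` for `v ∈ V^c`;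
* `Co.lemKM` : the same in `MF`.
-/

set_option autoImplicit false
set_option linter.unusedSectionVars false

namespace Cfsg.Agent.Omega.NO3S.OneQ.Co

open Subgroup Cfsg Cfsg.Agent.Omega.NO3S.PT Cfsg.Agent.Omega.NoFF.Basic
open scoped Pointwise

universe u

variable {G : Type u} [Group G] [Finite G] {F : Type*} [Field F] [CharP F 2] {S : Sylow 2 G} {B P V Z : Subgroup G}
  (h : Co F S B P V Z)

/-- duality for `V` -/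
def Dual : Prop := ∀ φ : h.MF →ₗ[F] F, (∀ m ∈ h.Eb, φ m = 0) → ∃ e ∈ ee V Z h.Yp, ∀ w : ws V Z, h.fn w e = φ (h.fm w)

variable {h}

/-- duality for the line `V^c` -/
theorem dual_line (dual : h.Dual) {c : G} (hc : c ∈ centralizer (Z : Set G)) (φ : h.MF →ₗ[F] F)
    (hφ : ∀ m ∈ h.Eb, φ (h.rp ⟨c, h.C_le_hat hc⟩ m) = 0) :
    ∃ e ∈ ee (PT.cj c V) Z (PT.cj c h.Yp), e ∈ ws V (PT.cj c h.Yp) ∧ e ∈ kx V Z ∧
      ∀ w : ws V Z, h.fn w e = φ (h.fm w) := by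
  have hcN := centralizer_le_normalizer _ hc
  obtain ⟨e, he, hee⟩ := dual (φ.comp (h.rp ⟨c, h.C_le_hat hc⟩)) fun m hm => hφ m hm
  have heK : e ∈ kx V Z := (mem_ee.1 he).2 Z h.one.self h.Yp_ne.symm
  have hcK : c * e * c⁻¹ ∈ kx V Z := (mem_normalizer_iff.1 (normalizer_le_kx V Z hcN) e).1 heK
  refine ⟨c * e * c⁻¹, ?_, ?_, hcK, fun w => ?_⟩
  · rw [← cj_conj_ee]; exact conj_mem_cj he
  · rw [ws_cj]; exact conj_mem_cj (ee_le he)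
  · have hw' : c⁻¹ * w * c ∈ ws V Z := by
      have := h.W_conj (inv_mem hcN) w.2
      rwa [inv_inv] at this
    have h1 := h.fn_conj hc hw' hcK
    have e1 : c * (c⁻¹ * (w : G) * c) * c⁻¹ = w := by group
    have e2 : c⁻¹ * (c * e * c⁻¹) * c = e := by group
    rw [e1, e2] at h1
    rw [h1]
    have h2 := hee ⟨_, hw'⟩
    rw [h2, LinearMap.comp_apply, h.rp_fm' (h.C_le_hat hc) hw']
    congr 2
    exact Subtype.ext e1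

variable (h)

/-- `Ē` of the line `V^c` -/
theorem fm_Ec_iff (hN : NTr V Z) {c : G} (hc : c ∈ centralizer (Z : Set G)) {w : G} (hw : w ∈ ws V Z) :
    h.fm ⟨w, hw⟩ ∈ (h.Eb).map (h.rp ⟨c, h.C_le_hat hc⟩) ↔ w ∈ ee (PT.cj c V) Z Z := by
  have hcN := centralizer_le_normalizer _ hc
  have hcZ : PT.cj c Z = Z := cj_eq_iff.2 hcN
  have hEc : ee (PT.cj c V) Z Z = PT.cj c (ee V Z Z) := by
    rw [cj_conj_ee, hcZ]
  rw [hEc, mem_cj]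
  have hw' : c⁻¹ * w * c ∈ ws V Z := by
    have := h.W_conj (inv_mem hcN) hw
    rwa [inv_inv] at this
  constructor
  · rintro ⟨m, hm, hmv⟩
    obtain ⟨u, rfl⟩ := h.fm_surj m
    have huE : (u : G) ∈ ee V Z Z := (h.fm_Eb_iff hN).1 hm
    rw [h.rp_fm, h.fm_eq] at hmv
    have h3 : c⁻¹ * (c * u * c⁻¹ * w⁻¹) * c ∈ rd V Z := by
      have := (mem_normalizer_iff.1 (inv_mem (norm_rd V Z hcN)) _).1 hmv
      rwa [inv_inv] at this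
    have e1 : c⁻¹ * w * c = (c⁻¹ * (c * u * c⁻¹ * w⁻¹) * c)⁻¹ * u := by group
    rw [e1]
    exact mul_mem (inv_mem (h.rd_le_ee hN h3)) huE
  · intro h1
    refine ⟨h.fm ⟨_, hw'⟩, h.fm_Eb h1, ?_⟩
    rw [h.rp_fm' (h.C_le_hat hc) hw']
    congr 1
    exact Subtype.ext (by show c * (c⁻¹ * w * c) * c⁻¹ = w; group)

variable {h}

/-- the element `e` of LEMMA K -/
theorem exists_e (hN : NTr V Z) (dual : h.Dual) {c g : G} (hc : c ∈ centralizer (Z : Set G))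
    (hVc : ¬ V ≤ ee (PT.cj c V) Z Z) (hg : g ∈ XV V Z) (hgZ : PT.cj g Z ≠ Z) :
    ∃ e ∈ ws V (PT.cj c h.Yp), e ∈ kx V Z ∧ ∀ z ∈ Z, e * (g * z * g⁻¹) * e⁻¹ = z * (g * z * g⁻¹) := by
  obtain ⟨a, b, c', d, h1, h2⟩ := h.XV_sl hg
  have hc' : c' ≠ 0 := by
    rintro rfl
    apply hgZ
    rw [mul_zero, add_zero] at h1
    have ha : a ≠ 0 := fun e => by rw [e, zero_mul] at h1; exact zero_ne_one h1
    refine h.cj_Z_of (f := fun x => a * x) (fun y => ⟨a⁻¹ * y, mul_inv_cancel_left₀ ha y⟩) fun x => ?_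
    rw [h2]
    congr 1 <;> ring
  -- `v₀` is not in `Ē(V^c)`
  have hv0 : h.v0 ∉ (h.Eb).map (h.rp ⟨c, h.C_le_hat hc⟩) := by
    intro hm
    apply hVc
    intro v hv
    obtain ⟨x, y, rfl⟩ := (h.mem_V v).1 hv
    rw [← h.fm_Ec_iff hN hc (h.W_V x y), h.fm_e]
    exact Submodule.smul_mem _ _ hm
  obtain ⟨φ, hφ, hk⟩ := Submodule.exists_le_ker_of_notMem hv0
  obtain ⟨e, -, he, heK, hee⟩ := dual_line dual hc ((c' * φ h.v0)⁻¹ • φ) fun m hm => by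
    rw [LinearMap.smul_apply, show φ (h.rp ⟨c, h.C_le_hat hc⟩ m) = 0 from hk ⟨m, hm, rfl⟩, smul_zero]
  refine ⟨e, he, heK, fun z hz => ?_⟩
  obtain ⟨x, rfl⟩ := (h.mem_Z z).1 hz
  have h3 := hee ⟨h.e (a * x + b * 0) (c' * x + d * 0), h.W_V _ _⟩
  rw [h.fm_e, map_smul, LinearMap.smul_apply, smul_eq_mul, smul_eq_mul] at h3
  have h4 : (c' * x + d * 0) * ((c' * φ h.v0)⁻¹ * φ h.v0) = x := by
    field_simp
    ring
  rw [h4] at h3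
  have h5 := h.e_fn (h.W_V (a * x + b * 0) (c' * x + d * 0)) heK
  rw [h3] at h5
  rw [h2, h5]
  group

/-- **LEMMA K** for the line `V^c` -/
theorem lemK_cj (hN : NTr V Z) (dual : h.Dual) {c g v : G} (hc : c ∈ centralizer (Z : Set G))
    (hVc : ¬ V ≤ ee (PT.cj c V) Z Z) (hg : g ∈ XV V Z) (hgZ : PT.cj g Z ≠ Z)
    (hp : ∀ w ∈ ws V (PT.cj g Z), ∀ v ∈ PT.cj c V, w * v * w⁻¹ * v⁻¹ ∈ ee (PT.cj c V) Z Z)
    (hv : v ∈ PT.cj c V) : v * (g * v * g⁻¹) * v⁻¹ * (g * v * g⁻¹)⁻¹ ∈ Z := by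
  have hcZ : PT.cj c Z = Z := cj_eq_iff.2 (centralizer_le_normalizer _ hc)
  have hZM : Z ≤ PT.cj c V := by
    nth_rewrite 1 [← hcZ]
    exact cj_le_cj.2 h.one.pl.ZV
  obtain ⟨e, he, heK, hee⟩ := exists_e hN dual hc hVc hg hgZ
  refine h.lemK (Q := PT.cj c h.Yp) ⟨c, rfl⟩ hZM (h.pY.cj.cj c) (cj_le_cj.2 h.pY.le) (fun e1 => ?_) hg hgZ he heK hee hp hv
  exact h.Yp_ne (cj_inj.1 (e1.trans hcZ.symm))

variable (h)

/-- **LEMMA K** in `MF` -/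
theorem lemKM (hN : NTr V Z) (dual : h.Dual) {c : G} (hc : c ∈ centralizer (Z : Set G))
    (h1 : h.v0 ∉ (h.Eb).map (h.rp ⟨c, h.C_le_hat hc⟩))
    (h2 : ∀ a (ha : a ∈ ws V h.Yp), h.rp ⟨a, h.W_hat h.pY ha⟩ (h.rp ⟨c, h.C_le_hat hc⟩ h.v0) - h.rp ⟨c, h.C_le_hat hc⟩ h.v0 ∈
      (h.Eb).map (h.rp ⟨c, h.C_le_hat hc⟩)) (a : F) :
    h.al (a • h.rp ⟨c, h.C_le_hat hc⟩ h.v0) (h.rp ⟨c, h.C_le_hat hc⟩ h.v0) = h.rp ⟨c, h.C_le_hat hc⟩ h.v0 := by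
  by_cases ha0 : a = 0
  · rw [ha0, zero_smul, h.al_zero hN]; rfl
  have hcN := centralizer_le_normalizer _ hc
  have hVc : ¬ V ≤ ee (PT.cj c V) Z Z := by
    intro h3
    apply h1
    exact (h.fm_Ec_iff hN hc (h.W_V 0 1)).2 (h3 (h.e_memV 0 1))
  have hcv : ∀ (x y : F), h.fm ⟨c * h.e x y * c⁻¹, h.W_conj hcN (h.W_V x y)⟩ = y • h.rp ⟨c, h.C_le_hat hc⟩ h.v0 := by
    intro x y
    rw [← map_smul, ← h.fm_e x y, h.rp_fm' (h.C_le_hat hc) (h.W_V x y)]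
  have hp : ∀ w ∈ ws V (PT.cj h.sw Z), ∀ v ∈ PT.cj c V, w * v * w⁻¹ * v⁻¹ ∈ ee (PT.cj c V) Z Z := by
    intro w hw v hv
    rw [h.cj_sw] at hw
    rw [mem_cj] at hv
    obtain ⟨x, y, hxy⟩ := (h.mem_V _).1 hv
    obtain rfl : v = c * h.e x y * c⁻¹ := by rw [hxy]; group
    have hvW := h.W_conj hcN (h.W_V x y)
    have hwN : w ∈ normalizer (Z : Set G) := h.hat_norm (h.W_hat h.pY hw)
    have hwv := h.W_conj hwN hvW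
    have hmem : w * (c * h.e x y * c⁻¹) * w⁻¹ * (c * h.e x y * c⁻¹)⁻¹ ∈ ws V Z := (ws V Z).mul_mem hwv ((ws V Z).inv_mem hvW)
    rw [← h.fm_Ec_iff hN hc hmem]
    have e1 : (⟨w * (c * h.e x y * c⁻¹) * w⁻¹ * (c * h.e x y * c⁻¹)⁻¹, hmem⟩ : ws V Z) =
      ⟨w * (c * h.e x y * c⁻¹) * w⁻¹, hwv⟩ * (⟨c * h.e x y * c⁻¹, hvW⟩ : ws V Z)⁻¹ := Subtype.ext rfl
    rw [e1, h.fm_mul, h.fm_inv, ← h.rp_fm' (h.W_hat h.pY hw) hvW, hcv, map_smul, ← smul_add, ← h.sub_eq]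
    exact Submodule.smul_mem _ _ (h2 w hw)
  have h3 := lemK_cj hN dual hc hVc h.sw_XV (by rw [h.cj_sw]; exact h.Yp_ne) hp (v := c * h.e 0 a * c⁻¹)
    (conj_mem_cj (h.e_memV 0 a))
  have h4 : h.al (h.fm ⟨c * h.e 0 a * c⁻¹, h.W_conj hcN (h.W_V 0 a)⟩) (h.fm ⟨c * h.e 0 a * c⁻¹, h.W_conj hcN (h.W_V 0 a)⟩) =
      h.fm ⟨c * h.e 0 a * c⁻¹, h.W_conj hcN (h.W_V 0 a)⟩ := by
    rw [h.al_fm hN]
    show h.rp ⟨h.sw * (c * h.e 0 a * c⁻¹) * h.sw⁻¹, _⟩ _ = _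
    rw [h.rp_fm', h.fm_eq]
    have h5 := inv_mem h3
    have e : ((c * h.e 0 a * c⁻¹) * (h.sw * (c * h.e 0 a * c⁻¹) * h.sw⁻¹) * (c * h.e 0 a * c⁻¹)⁻¹ *
        (h.sw * (c * h.e 0 a * c⁻¹) * h.sw⁻¹)⁻¹)⁻¹ =
      h.sw * (c * h.e 0 a * c⁻¹) * h.sw⁻¹ * (c * h.e 0 a * c⁻¹) * (h.sw * (c * h.e 0 a * c⁻¹) * h.sw⁻¹)⁻¹ *
        (c * h.e 0 a * c⁻¹)⁻¹ := by group
    rw [e] at h5
    exact h.Z_le_rd h5
  rw [hcv, map_smul] at h4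
  exact smul_right_injective _ ha0 h4

end Cfsg.Agent.Omega.NO3S.OneQ.Co
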