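import Cfsg.Agent.Omega.NO3S.PointTI

/-!
# NO-3S, `OneQ`, LEMMA Q+ : abstract group theory

* `mul_pow_mod`, `mem_of_pow`, `mem_of_odd_mul` : powers of `a b` modulo a subgroup normalised by `a`;
* `TwoMod A D` : every element of `A` has a 2-power power in `D`; `exists_max` : the largest `E` with `D ≤ E ≤ C`,
  `E` normal in `C`, `E / D` a 2-group;
* `abs` : subgroups `B_i ≤ C` commuting pairwise, `B_i ≤ K_i`, `g² ∈ B_i` for `g ∈ K_i`, and 2-elements of `K_l` which move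
  `B_i` to `B_j` : then `B_i ≤ B_j` (`O₂(C) = 1`).
-/

set_option autoImplicit false
set_option linter.unusedSectionVars false

namespace Cfsg.Agent.Omega.NO3S.OneQ.LemQAbs

open Subgroup Cfsg.Agent.Omega.NO3S.PT Cfsg.Agent.Omega.NoFF.Basic
open scoped Pointwise

variable {G : Type*} [Group G]

theorem mul_pow_mod {N : Subgroup G} {a b : G} (hb : b ∈ N) (ha : a ∈ normalizer (N : Set G)) (n : ℕ) :
    ∃ c ∈ N, (a * b) ^ n = a ^ n * c := by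
  induction n with
  | zero => exact ⟨1, one_mem _, by simp⟩
  | succ n ih =>
    obtain ⟨c, hc, he⟩ := ih
    refine ⟨a⁻¹ * c * a * b, mul_mem ?_ hb, ?_⟩
    · have := (mem_normalizer_iff.1 (inv_mem ha) c).1 hc
      rwa [inv_inv] at this
    · rw [pow_succ, he, pow_succ]
      group

theorem mem_of_pow {N : Subgroup G} {x : G} (ho : Odd (orderOf x)) {m : ℕ} (h : x ^ 2 ^ m ∈ N) : x ∈ N := by
  have hc : Nat.Coprime (2 ^ m) (orderOf x) := Nat.Coprime.pow_left m (Nat.coprime_two_left.2 ho)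
  obtain ⟨k, hk⟩ := exists_pow_eq_self_of_coprime hc
  rw [← hk]
  exact pow_mem h k

theorem mem_of_odd_mul {N : Subgroup G} {a b : G} (ha2 : TwoEl a) (ha : a ∈ normalizer (N : Set G)) (hb : b ∈ N)
    (ho : Odd (orderOf (a * b))) : a * b ∈ N := by
  obtain ⟨m, hm⟩ := ha2
  obtain ⟨c, hc, he⟩ := mul_pow_mod hb ha (2 ^ m)
  refine mem_of_pow ho (m := m) ?_
  rw [he, hm, one_mul]
  exact hc

theorem exists_two_pow [Finite G] (g : G) : ∃ m : ℕ, Odd (orderOf (g ^ 2 ^ m)) := by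
  obtain ⟨a, m, hm, h⟩ := Nat.exists_eq_two_pow_mul_odd (orderOf_pos g).ne'
  refine ⟨a, ?_⟩
  rw [orderOf_pow' g (pow_ne_zero a two_ne_zero), h, Nat.gcd_eq_right (Dvd.intro _ rfl),
    Nat.mul_div_cancel_left _ (pow_pos two_pos a)]
  exact hm

/-- every element of `A` has a 2-power power in `D` -/
def TwoMod (A D : Subgroup G) : Prop := ∀ a ∈ A, ∃ m : ℕ, a ^ 2 ^ m ∈ D

theorem TwoMod.trans {A E D : Subgroup G} (h1 : TwoMod A E) (h2 : TwoMod E D) : TwoMod A D := by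
  intro a ha
  obtain ⟨m, hm⟩ := h1 a ha
  obtain ⟨n, hn⟩ := h2 _ hm
  refine ⟨m + n, ?_⟩
  rwa [pow_add, pow_mul]

theorem mem_sup_norm {A B : Subgroup G} (h : A ≤ normalizer (B : Set G)) {x : G} (hx : x ∈ A ⊔ B) :
    ∃ a ∈ A, ∃ b ∈ B, x = a * b := by
  have h1 : x ∈ ((A ⊔ B : Subgroup G) : Set G) := hx
  rw [Subgroup.coe_mul_of_left_le_normalizer_right A B h] at h1
  obtain ⟨a, ha, b, hb, rfl⟩ := Set.mem_mul.1 h1
  exact ⟨a, ha, b, hb, rfl⟩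

theorem TwoMod.sup {A E D : Subgroup G} (h1 : TwoMod A D) (h2 : TwoMod E D) (hDE : D ≤ E)
    (hAE : A ≤ normalizer (E : Set G)) : TwoMod (A ⊔ E) D := by
  refine TwoMod.trans (E := E) (fun x hx => ?_) h2
  obtain ⟨a, ha, e, he, rfl⟩ := mem_sup_norm hAE hx
  obtain ⟨m, hm⟩ := h1 a ha
  obtain ⟨c, hc, hce⟩ := mul_pow_mod he (hAE ha) (2 ^ m)
  exact ⟨m, by rw [hce]; exact mul_mem (hDE hm) hc⟩

/-- the preimage of `O₂(C / D)` -/
theorem exists_max [Finite G] {C D : Subgroup G} (hDC : D ≤ C) (hCD : C ≤ normalizer (D : Set G)) :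
    ∃ E : Subgroup G, D ≤ E ∧ E ≤ C ∧ C ≤ normalizer (E : Set G) ∧ TwoMod E D ∧
      ∀ A ≤ C, C ≤ normalizer (A : Set G) → TwoMod A D → A ≤ E := by
  let s : Set (Subgroup G) := {A | D ≤ A ∧ A ≤ C ∧ C ≤ normalizer (A : Set G) ∧ TwoMod A D}
  obtain ⟨E, hE⟩ := (Set.toFinite s).exists_maximal ⟨D, le_rfl, hDC, hCD, fun a ha => ⟨0, by simpa using ha⟩⟩
  obtain ⟨h1, h2, h3, h4⟩ := hE.prop
  refine ⟨E, h1, h2, h3, h4, fun A hA hCA hAD => ?_⟩
  have h5 : A ⊔ E ∈ s := by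
    refine ⟨h1.trans le_sup_right, sup_le hA h2, ?_, hAD.sup h4 h1 (hA.trans h3)⟩
    intro c hc
    rw [← cj_eq_iff, cj, smul_sup]
    have e1 : MulAut.conj c • A = A := cj_eq_iff.2 (hCA hc)
    have e2 : MulAut.conj c • E = E := cj_eq_iff.2 (h3 hc)
    rw [e1, e2]
  exact le_sup_left.trans (hE.le_of_ge h5 le_sup_right)

theorem norm_of_max [Finite G] {C D E : Subgroup G} (hEC : E ≤ C) (hCE : C ≤ normalizer (E : Set G)) (hED : TwoMod E D)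
    (hmax : ∀ A ≤ C, C ≤ normalizer (A : Set G) → TwoMod A D → A ≤ E) {N : Subgroup G}
    (hNC : N ≤ normalizer (C : Set G)) (hND : N ≤ normalizer (D : Set G)) : N ≤ normalizer (E : Set G) := by
  have key : ∀ n ∈ N, cj n E ≤ E := by
    intro n hn
    refine hmax _ ?_ ?_ ?_
    · rw [← cj_eq_iff.2 (hNC hn)]
      exact cj_le_cj.2 hEC
    · intro c hc
      have h1 : n⁻¹ * c * n ∈ C := by
        have := (mem_normalizer_iff.1 (inv_mem (hNC hn)) c).1 hc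
        rwa [inv_inv] at this
      have h2 := cj_eq_iff.2 (hCE h1)
      rw [← cj_eq_iff]
      have e : c * n = n * (n⁻¹ * c * n) := by group
      rw [cj_cj, e, ← cj_cj, h2]
    · intro a ha
      obtain ⟨m, hm⟩ := hED _ (mem_cj.1 ha)
      refine ⟨m, ?_⟩
      have h1 := (mem_normalizer_iff.1 (hND hn) _).1 hm
      have h2 : n * (n⁻¹ * a * n) ^ 2 ^ m * n⁻¹ = a ^ 2 ^ m := by
        rw [← conj_pow]
        congr 1
        group
      rwa [h2] at h1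
  intro n hn
  rw [← cj_eq_iff]
  refine le_antisymm (key n hn) ?_
  rw [le_cj_iff]
  exact key _ (inv_mem hn)

section abs

variable {ι : Type*} {C : Subgroup G} {Bx Kx : ι → Subgroup G}

/-- `B_i` is abelian -/
theorem abs_comm (hBC : ∀ i, Bx i ≤ C) (hnK : ∀ i, C ≤ normalizer ((Kx i : Subgroup G) : Set G))
    (hcomm : ∀ i j, i ≠ j → ∀ a ∈ Bx i, ∀ b ∈ Bx j, a * b = b * a)
    (hKB : ∀ i l, i ≠ l → ∀ a ∈ Bx i, ∀ d ∈ Kx l, d ∈ C → d * a = a * d)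
    {i j l : ι} (hij : i ≠ j) (hil : i ≠ l) {k : G} (hk : k ∈ Kx l) (hkC : k ∈ normalizer (C : Set G))
    (hkB : ∀ b ∈ Bx i, k * b * k⁻¹ ∈ Bx j) {a b : G} (ha : a ∈ Bx i) (hb : b ∈ Bx i) : a * b = b * a := by
  -- `a = c d`, `c = k a k⁻¹ ∈ B_j`, `d = k a⁻¹ k⁻¹ a ∈ K_l ∩ C`
  have hc := hkB a ha
  have hd : k * a⁻¹ * k⁻¹ * a ∈ Kx l := by
    have h1 : a⁻¹ * k⁻¹ * a ∈ Kx l := by
      have := (mem_normalizer_iff.1 (inv_mem (hnK l (hBC i ha))) k⁻¹).1 (inv_mem hk)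
      rwa [inv_inv] at this
    have e : k * a⁻¹ * k⁻¹ * a = k * (a⁻¹ * k⁻¹ * a) := by group
    rw [e]
    exact mul_mem hk h1
  have hdC : k * a⁻¹ * k⁻¹ * a ∈ C :=
    mul_mem ((mem_normalizer_iff.1 hkC _).1 (inv_mem (hBC i ha))) (hBC i ha)
  have h1 := hKB i l hil b hb _ hd hdC
  have h2 := hcomm j i hij.symm _ hc b hb
  calc a * b = (k * a * k⁻¹) * ((k * a⁻¹ * k⁻¹ * a) * b) := by group
    _ = (k * a * k⁻¹) * b * (k * a⁻¹ * k⁻¹ * a) := by rw [h1]; group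
    _ = b * (k * a * k⁻¹) * (k * a⁻¹ * k⁻¹ * a) := by rw [h2]
    _ = b * a := by group

/-- **the abstract lemma** -/
theorem abs (hO : ∀ A ≤ C, C ≤ normalizer (A : Set G) → (∀ a ∈ A, ∃ m : ℕ, a ^ 2 ^ m = 1) → A = ⊥)
    (hBC : ∀ i, Bx i ≤ C) (hnB : ∀ i, C ≤ normalizer ((Bx i : Subgroup G) : Set G))
    (hnK : ∀ i, C ≤ normalizer ((Kx i : Subgroup G) : Set G))
    (hcomm : ∀ i j, i ≠ j → ∀ a ∈ Bx i, ∀ b ∈ Bx j, a * b = b * a)
    (hKB : ∀ i l, i ≠ l → ∀ a ∈ Bx i, ∀ d ∈ Kx l, d ∈ C → d * a = a * d)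
    (hsq : ∀ i, ∀ k ∈ Kx i, k * k ∈ Bx i)
    (htr : ∀ i j l, i ≠ l → j ≠ l → ∃ k ∈ Kx l, TwoEl k ∧ k ∈ normalizer (C : Set G) ∧
      (∀ t, ∃ t', ∀ b ∈ Bx t, k * b * k⁻¹ ∈ Bx t') ∧ (∀ b ∈ Bx i, k * b * k⁻¹ ∈ Bx j) ∧ ∀ b ∈ Bx l, k * b = b * k)
    (h3 : ∀ i j : ι, i ≠ j → ∃ l, i ≠ l ∧ j ≠ l) {i j : ι} (hij : i ≠ j) : Bx i ≤ Bx j := by
  -- everything commutes
  have hall : ∀ s t, ∀ a ∈ Bx s, ∀ b ∈ Bx t, a * b = b * a := by
    intro s t a ha b hb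
    by_cases hst : s = t
    · subst hst
      obtain ⟨t', hst'⟩ : ∃ t', s ≠ t' := by
        by_contra hcon
        push Not at hcon
        exact hij ((hcon i).symm.trans (hcon j))
      obtain ⟨l, hsl, htl⟩ := h3 s t' hst'
      obtain ⟨k, hk, -, hkC, -, hkB, -⟩ := htr s t' l hsl htl
      exact abs_comm hBC hnK hcomm hKB hst' hsl hk hkC hkB ha hb
    · exact hcomm s t hst a ha b hb
  set M : Subgroup G := ⨆ t, Bx t with hM
  have hBM : ∀ t, Bx t ≤ M := fun t => le_iSup Bx t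
  have hMC : M ≤ C := iSup_le hBC
  have hMM : ∀ a ∈ M, ∀ b ∈ M, a * b = b * a := by
    have h1 : ∀ s, M ≤ centralizer ((Bx s : Subgroup G) : Set G) := fun s => iSup_le fun t a ha =>
      mem_centralizer_iff.2 fun b hb => hall s t b hb a ha
    have h2 : M ≤ centralizer (M : Set G) := by
      rw [le_centralizer_iff]
      refine iSup_le fun s => ?_
      rw [← le_centralizer_iff]
      exact h1 s
    intro a ha b hb
    exact (mem_centralizer_iff.1 (h2 ha) b hb).symm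
  have hconj : ∀ g : G, (∀ t, ∃ t', ∀ b ∈ Bx t, g * b * g⁻¹ ∈ Bx t') → ∀ x ∈ M, g * x * g⁻¹ ∈ M := by
    intro g hg x hx
    have h1 : M ≤ M.comap (MulAut.conj g).toMonoidHom := by
      refine iSup_le fun t b hb => ?_
      obtain ⟨t', ht'⟩ := hg t
      exact hBM t' (ht' b hb)
    exact h1 hx
  have hCM : ∀ c ∈ C, ∀ x ∈ M, c * x * c⁻¹ ∈ M := fun c hc =>
    hconj c fun t => ⟨t, fun b hb => (mem_normalizer_iff.1 (hnB t hc) b).1 hb⟩
  -- `M` has odd order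
  let A : Subgroup G :=
    { carrier := {g | g ∈ M ∧ g * g = 1}
      one_mem' := ⟨one_mem _, one_mul 1⟩
      mul_mem' := by
        rintro a b ⟨ha, ha2⟩ ⟨hb, hb2⟩
        refine ⟨mul_mem ha hb, ?_⟩
        calc a * b * (a * b) = a * (b * a) * b := by group
          _ = a * (a * b) * b := by rw [hMM b hb a ha]
          _ = (a * a) * (b * b) := by group
          _ = 1 := by rw [ha2, hb2, one_mul]
      inv_mem' := by
        rintro a ⟨ha, ha2⟩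
        refine ⟨inv_mem ha, ?_⟩
        rw [← mul_inv_rev, ha2, inv_one] }
  have hA : A = ⊥ := by
    refine hO A (fun x hx => hMC hx.1) (fun c hc => ?_) fun a ha => ⟨1, by rw [pow_one, pow_two]; exact ha.2⟩
    have key : ∀ c ∈ C, ∀ x ∈ A, c * x * c⁻¹ ∈ A := by
      rintro c hc x ⟨hx, hx2⟩
      refine ⟨hCM c hc x hx, ?_⟩
      calc c * x * c⁻¹ * (c * x * c⁻¹) = c * (x * x) * c⁻¹ := by group
        _ = 1 := by rw [hx2]; group
    rw [mem_normalizer_iff]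
    refine fun x => ⟨key c hc x, fun hx => ?_⟩
    have := key c⁻¹ (inv_mem hc) _ hx
    have e : c⁻¹ * (c * x * c⁻¹) * c⁻¹⁻¹ = x := by group
    rwa [e] at this
  have hA1 : ∀ x ∈ M, x * x = 1 → x = 1 := fun x hx hx2 => by
    have : x ∈ A := ⟨hx, hx2⟩
    rw [hA] at this
    exact mem_bot.1 this
  have hA2 : ∀ (m : ℕ), ∀ x ∈ M, x ^ 2 ^ m = 1 → x = 1 := by
    intro m
    induction m with
    | zero => intro x _ h1; simpa using h1
    | succ m ih =>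
      intro x hx h1
      rw [pow_succ, pow_mul, pow_two] at h1
      exact ih x hx (hA1 _ (pow_mem hx _) h1)
  obtain ⟨l, hil, hjl⟩ := h3 i j hij
  obtain ⟨k, hk, hk2, hkC, hkM, hkB, hkl⟩ := htr i j l hil hjl
  have hkM' := hconj k hkM
  intro b hb
  have hbM := hBM i hb
  set c := k * b * k⁻¹ * b⁻¹ with hcdef
  have hcM : c ∈ M := mul_mem (hkM' b hbM) (inv_mem hbM)
  have hcK : c ∈ Kx l := by
    have h1 := (mem_normalizer_iff.1 (hnK l (hBC i hb)) k⁻¹).1 (inv_mem hk)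
    have e : c = k * (b * k⁻¹ * b⁻¹) := by rw [hcdef]; group
    rw [e]
    exact mul_mem hk h1
  have hc2 := hkl _ (hsq l c hcK)
  -- `c⁻¹ c^k` has square 1
  have hkc : k * c * k⁻¹ ∈ M := hkM' c hcM
  have h1 : c⁻¹ * (k * c * k⁻¹) = 1 := by
    refine hA1 _ (mul_mem (inv_mem hcM) hkc) ?_
    have e : k * c * k⁻¹ * (k * c * k⁻¹) = c * c := by
      calc k * c * k⁻¹ * (k * c * k⁻¹) = k * (c * c) * k⁻¹ := by group
        _ = c * c := by rw [hc2, mul_inv_cancel_right]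
    calc c⁻¹ * (k * c * k⁻¹) * (c⁻¹ * (k * c * k⁻¹)) = c⁻¹ * ((k * c * k⁻¹) * c⁻¹) * (k * c * k⁻¹) := by group
      _ = c⁻¹ * (c⁻¹ * (k * c * k⁻¹)) * (k * c * k⁻¹) := by rw [hMM _ hkc _ (inv_mem hcM)]
      _ = c⁻¹ * c⁻¹ * (k * c * k⁻¹ * (k * c * k⁻¹)) := by group
      _ = 1 := by rw [e]; group
  have h2 : k * c * k⁻¹ = c := (inv_mul_eq_one.1 h1).symm
  have h4 : ∀ n : ℕ, k ^ n * b * (k ^ n)⁻¹ = c ^ n * b := by
    intro n
    induction n with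
    | zero => simp
    | succ n ih =>
      have e1 : k ^ (n + 1) * b * (k ^ (n + 1))⁻¹ = k * (k ^ n * b * (k ^ n)⁻¹) * k⁻¹ := by
        rw [pow_succ']; group
      have e2 : k * (c ^ n * b) * k⁻¹ = (k * c * k⁻¹) ^ n * (k * b * k⁻¹) := by
        rw [conj_pow]; group
      have e3 : k * b * k⁻¹ = c * b := by rw [hcdef]; group
      rw [e1, ih, e2, h2, e3, ← mul_assoc, ← pow_succ]
  obtain ⟨m, hm⟩ := hk2
  have h5 := h4 (2 ^ m)
  rw [hm, one_mul, inv_one, mul_one] at h5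
  have h6 : c ^ 2 ^ m = 1 := by
    have h6' : c ^ 2 ^ m * b = 1 * b := by rw [one_mul]; exact h5.symm
    exact mul_right_cancel h6'
  have h7 := hA2 m c hcM h6
  have h8 : k * b * k⁻¹ = b := by
    have e3 : k * b * k⁻¹ = c * b := by rw [hcdef]; group
    rw [e3, h7, one_mul]
  rw [← h8]
  exact hkB b hb

/-- **the abstract lemma, modulo `E`** -/
theorem rel [Finite G] {N D E : Subgroup G} (hCN : C ≤ N) (hNC : N ≤ normalizer (C : Set G))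
    (hNE : N ≤ normalizer (E : Set G)) (hEC : E ≤ C) (hED : TwoMod E D)
    (hmax : ∀ A ≤ C, C ≤ normalizer (A : Set G) → TwoMod A D → A ≤ E)
    (hBC : ∀ i, Bx i ≤ C) (hnB : ∀ i, C ≤ normalizer ((Bx i : Subgroup G) : Set G))
    (hKN : ∀ i, Kx i ≤ N) (hnK : ∀ i, C ≤ normalizer ((Kx i : Subgroup G) : Set G))
    (hcomm : ∀ i j, i ≠ j → ∀ a ∈ Bx i, ∀ b ∈ Bx j, a * b * a⁻¹ * b⁻¹ ∈ E)
    (hKB : ∀ i l, i ≠ l → ∀ a ∈ Bx i, ∀ d ∈ Kx l, d ∈ C → d * a * d⁻¹ * a⁻¹ ∈ E)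
    (hsq : ∀ i, ∀ k ∈ Kx i, k * k ∈ Bx i)
    (htr : ∀ i j l, i ≠ l → j ≠ l → ∃ k ∈ Kx l, TwoEl k ∧
      (∀ t, ∃ t', ∀ b ∈ Bx t, k * b * k⁻¹ ∈ Bx t') ∧ (∀ b ∈ Bx i, k * b * k⁻¹ ∈ Bx j) ∧
        ∀ b ∈ Bx l, k * b * k⁻¹ * b⁻¹ ∈ E)
    (h3 : ∀ i j : ι, i ≠ j → ∃ l, i ≠ l ∧ j ≠ l) {i j : ι} (hij : i ≠ j) {b : G} (hb : b ∈ Bx i) :
    ∃ b' ∈ Bx j, b'⁻¹ * b ∈ E := by
  have hEn : (E.subgroupOf N).Normal := normal_subgroupOf_of_le_normalizer hNE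
  set f : N →* N ⧸ E.subgroupOf N := QuotientGroup.mk' (E.subgroupOf N) with hf
  have hf1 : ∀ x : N, f x = 1 ↔ (x : G) ∈ E := fun x => by
    rw [hf, QuotientGroup.mk'_apply, QuotientGroup.eq_one_iff, mem_subgroupOf]
  have hfs : Function.Surjective f := QuotientGroup.mk'_surjective _
  have hfc : ∀ x y : N, (x : G) * y * (x : G)⁻¹ * (y : G)⁻¹ ∈ E → f x * f y = f y * f x := by
    intro x y h1
    have h2 : f (x * y * x⁻¹ * y⁻¹) = 1 := (hf1 _).2 h1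
    rw [map_mul, map_mul, map_mul, map_inv, map_inv, mul_inv_eq_one, mul_inv_eq_iff_eq_mul] at h2
    exact h2
  let q : Subgroup G → Subgroup (N ⧸ E.subgroupOf N) := fun H => (H.subgroupOf N).map f
  have hq : ∀ (H : Subgroup G) x, x ∈ q H ↔ ∃ h : N, (h : G) ∈ H ∧ f h = x := fun H x => Iff.rfl
  have hqn : ∀ (H : Subgroup G), C ≤ normalizer (H : Set G) → q C ≤ normalizer ((q H : Subgroup _) : Set _) := by
    intro H hH
    have key : ∀ c ∈ q C, ∀ x ∈ q H, c * x * c⁻¹ ∈ q H := by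
      rintro _ ⟨c, hc, rfl⟩ _ ⟨x, hx, rfl⟩
      refine ⟨c * x * c⁻¹, ?_, by rw [map_mul, map_mul, map_inv]⟩
      exact (mem_normalizer_iff.1 (hH hc) x).1 hx
    intro c hc
    rw [mem_normalizer_iff]
    refine fun x => ⟨key c hc x, fun hx => ?_⟩
    have := key c⁻¹ (inv_mem hc) _ hx
    have e : c⁻¹ * (c * x * c⁻¹) * c⁻¹⁻¹ = x := by group
    rwa [e] at this
  have main : q (Bx i) ≤ q (Bx j) := by
    refine abs (C := q C) (Bx := fun i => q (Bx i)) (Kx := fun i => q (Kx i)) ?_ ?_ (fun i => hqn _ (hnB i))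
      (fun i => hqn _ (hnK i)) ?_ ?_ ?_ ?_ h3 hij
    · intro A hAC hCA hA2
      have h1 : (A.comap f).map N.subtype ≤ E := by
        refine hmax _ ?_ ?_ ?_
        · rintro _ ⟨x, hx, rfl⟩
          obtain ⟨c, hc, hcx⟩ := hAC hx
          have h2 : f (c⁻¹ * x) = 1 := by rw [map_mul, map_inv, hcx, inv_mul_cancel]
          have h3 : (c : G)⁻¹ * x ∈ C := hEC ((hf1 _).1 h2)
          have h4 := mul_mem (show (c : G) ∈ C from hc) h3
          rwa [mul_inv_cancel_left] at h4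
        · have key : ∀ c ∈ C, ∀ x ∈ (A.comap f).map N.subtype, c * x * c⁻¹ ∈ (A.comap f).map N.subtype := by
            rintro c hc _ ⟨x, hx, rfl⟩
            refine ⟨⟨c, hCN hc⟩ * x * ⟨c, hCN hc⟩⁻¹, ?_, rfl⟩
            show f (⟨c, hCN hc⟩ * x * ⟨c, hCN hc⟩⁻¹) ∈ A
            rw [map_mul, map_mul, map_inv]
            exact (mem_normalizer_iff.1 (hCA ⟨⟨c, hCN hc⟩, hc, rfl⟩) _).1 hx
          intro c hc
          rw [mem_normalizer_iff]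
          refine fun x => ⟨key c hc x, fun hx => ?_⟩
          have := key c⁻¹ (inv_mem hc) _ hx
          have e : c⁻¹ * (c * x * c⁻¹) * c⁻¹⁻¹ = x := by group
          rwa [e] at this
        · refine TwoMod.trans (E := E) ?_ hED
          rintro _ ⟨x, hx, rfl⟩
          obtain ⟨m, hm⟩ := hA2 _ hx
          rw [← map_pow, hf1] at hm
          exact ⟨m, hm⟩
      rw [eq_bot_iff]
      intro x hx
      obtain ⟨y, rfl⟩ := hfs x
      rw [mem_bot, hf1]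
      exact h1 ⟨y, hx, rfl⟩
    · exact fun i => Subgroup.map_mono fun x hx => hBC i hx
    · rintro i j hij _ ⟨a, ha, rfl⟩ _ ⟨b, hb, rfl⟩
      exact hfc a b (hcomm i j hij a ha b hb)
    · rintro i l hil _ ⟨a, ha, rfl⟩ _ ⟨d, hd, rfl⟩ ⟨c, hc, hcd⟩
      refine hfc d a (hKB i l hil a ha d hd ?_)
      have h2 : f (c⁻¹ * d) = 1 := by rw [map_mul, map_inv, hcd, inv_mul_cancel]
      have h3 : (c : G)⁻¹ * d ∈ C := hEC ((hf1 _).1 h2)
      have h4 := mul_mem (show (c : G) ∈ C from hc) h3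
      rwa [mul_inv_cancel_left] at h4
    · rintro i _ ⟨k, hk, rfl⟩
      exact ⟨k * k, hsq i k hk, by rw [map_mul]⟩
    · intro i j l hil hjl
      obtain ⟨k, hk, ⟨m, hm⟩, h1, h2, h3⟩ := htr i j l hil hjl
      have hkN : k ∈ N := hKN l hk
      refine ⟨f ⟨k, hkN⟩, ⟨⟨k, hkN⟩, hk, rfl⟩, ⟨m, ?_⟩, ?_, ?_, ?_, ?_⟩
      · rw [← map_pow, hf1]
        show k ^ 2 ^ m ∈ E
        rw [hm]
        exact one_mem _
      · have key : ∀ k ∈ N, ∀ x ∈ q C, ∀ hk : k ∈ N, f ⟨k, hk⟩ * x * (f ⟨k, hk⟩)⁻¹ ∈ q C := by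
          rintro k hk _ ⟨x, hx, rfl⟩ _
          refine ⟨⟨k, hk⟩ * x * ⟨k, hk⟩⁻¹, ?_, by rw [map_mul, map_mul, map_inv]⟩
          exact (mem_normalizer_iff.1 (hNC hk) x).1 hx
        rw [mem_normalizer_iff]
        refine fun x => ⟨fun hx => key k hkN x hx hkN, fun hx => ?_⟩
        have := key k⁻¹ (inv_mem hkN) _ hx (inv_mem hkN)
        have e0 : f ⟨k⁻¹, inv_mem hkN⟩ = (f ⟨k, hkN⟩)⁻¹ := by rw [← map_inv]; rfl
        rw [e0] at this
        have e : (f ⟨k, hkN⟩)⁻¹ * (f ⟨k, hkN⟩ * x * (f ⟨k, hkN⟩)⁻¹) * (f ⟨k, hkN⟩)⁻¹⁻¹ = x := by group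
        rwa [e] at this
      · intro t
        obtain ⟨t', ht'⟩ := h1 t
        refine ⟨t', ?_⟩
        rintro _ ⟨b, hb, rfl⟩
        exact ⟨⟨k, hkN⟩ * b * ⟨k, hkN⟩⁻¹, ht' b hb, by rw [map_mul, map_mul, map_inv]⟩
      · rintro _ ⟨b, hb, rfl⟩
        exact ⟨⟨k, hkN⟩ * b * ⟨k, hkN⟩⁻¹, h2 b hb, by rw [map_mul, map_mul, map_inv]⟩
      · rintro _ ⟨b, hb, rfl⟩
        exact hfc ⟨k, hkN⟩ b (h3 b hb)
  obtain ⟨b', hb', he⟩ := main ⟨⟨b, hCN (hBC i hb)⟩, hb, rfl⟩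
  refine ⟨b', hb', ?_⟩
  have h1 : f (b'⁻¹ * ⟨b, hCN (hBC i hb)⟩) = 1 := by rw [map_mul, map_inv, he, inv_mul_cancel]
  exact (hf1 _).1 h1

/-- the conclusion for elements of odd order -/
theorem rel_odd {D E : Subgroup G} (hCE : C ≤ normalizer (E : Set G)) (hEC : E ≤ C) (hED : TwoMod E D) {j : ι}
    (hBC : Bx j ≤ C) (hnB : C ≤ normalizer ((Bx j : Subgroup G) : Set G)) (hDB : D ≤ Bx j) {b b' : G}
    (ho : Odd (orderOf b)) (hb' : b' ∈ Bx j) (he : b'⁻¹ * b ∈ E) : b ∈ Bx j := by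
  have h1 : b * b'⁻¹ ∈ E := by
    have h2 := (mem_normalizer_iff.1 (hCE (hBC hb')) _).1 he
    have e : b' * (b'⁻¹ * b) * b'⁻¹ = b * b'⁻¹ := by group
    rwa [e] at h2
  obtain ⟨m, hm⟩ := hED _ h1
  obtain ⟨c, hc, hce⟩ := mul_pow_mod hb' (hnB (hEC h1)) (2 ^ m)
  rw [inv_mul_cancel_right] at hce
  refine mem_of_pow ho (m := m) ?_
  rw [hce]
  exact mul_mem (hDB hm) hc

end abs

end Cfsg.Agent.Omega.NO3S.OneQ.LemQAbs
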