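import Cfsg.Agent.Omega.NO3S.OneQ.Co
import Cfsg.Agent.Omega.NO3S.OneQ.LemQAbs
import Cfsg.Agent.MinSimple.CosetFam

/-!
# NO-3S, `OneQ`: LEMMA Q+ (bb OMEGA #17833 (2), #18518 (q1)-(q3)): `C_G(W_X)`, `K_X` are 2-groups

`B_X = bx V X = C_G(W_X)`; `cx V X = {g ∈ N_G(B_X) | [B_X, g] ≤ O₂(B_X)}`; `dx V Z = ⋂ B_T`, `T` a point of `V`.

* `One.W_le_cx` : `W_Y ≤ cx V X` for points `X ≠ Y`; `One.kx_sq` : `k² ∈ B_X` for `k ∈ K_X`;
* `Co.exists_r` : `K_X ∩ cx V X` is transitive on the points of `V` different from `X`, by 2-elements;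
* `Co.mem_bx` : the elements of odd order of `B_X ∩ K_Y`, `X ≠ Y`, lie in `dx V Z`;
* `Co.mem_dx` : so do all elements of odd order of `B_X`; `Co.oddGen_eq` : `O²(B_X)` does not depend on `X`;
* `Co.isP_bx`, `Co.isP_kx`, `Co.kx_eq_o2` : **LEMMA Q+**.
-/

set_option autoImplicit false
set_option linter.unusedSectionVars false

namespace Cfsg.Agent.Omega.NO3S.OneQ

open Subgroup Cfsg Cfsg.Agent.Omega.NO3S.PT Cfsg.Agent.Omega.NoFF.Basic
open Cfsg.Agent.ZN (o2)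
open Cfsg.Agent.MinSimple.VModule
open Cfsg.Agent.Omega.NO3S.OneQ.LemQAbs (mul_pow_mod mem_of_pow mem_of_odd_mul exists_two_pow TwoMod)
open scoped Pointwise

variable {G : Type*} [Group G]

/-- `B_X = C_G(W_X)` -/
def bx (V X : Subgroup G) : Subgroup G := centralizer ((ws V X : Subgroup G) : Set G)

theorem mem_bx {V X : Subgroup G} {g : G} : g ∈ bx V X ↔ ∀ w ∈ ws V X, g * w = w * g :=
  ⟨fun h w hw => (mem_centralizer_iff.1 h w hw).symm, fun h => mem_centralizer_iff.2 fun w hw => (h w hw).symm⟩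

theorem bx_cj (V X : Subgroup G) (g : G) : bx V (PT.cj g X) = PT.cj g (bx V X) := by
  unfold bx
  rw [cj_centralizer, ws_cj]

theorem normalizer_le_bx (V X : Subgroup G) : normalizer (X : Set G) ≤ normalizer ((bx V X : Subgroup G) : Set G) := by
  intro g hg
  rw [← cj_eq_iff, ← bx_cj, cj_eq_iff.2 hg]

theorem o2_cj (g : G) (L : Subgroup G) : o2 (PT.cj g L) = PT.cj g (o2 L) := MinSimple.CosetFam.o2_conj g L

theorem norm_o2 (L : Subgroup G) : normalizer (L : Set G) ≤ normalizer ((o2 L : Subgroup G) : Set G) := by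
  intro g hg
  rw [← cj_eq_iff, ← o2_cj, cj_eq_iff.2 hg]

/-- `{g ∈ N_G(B_X) | [B_X, g] ≤ O₂(B_X)}` -/
def cx (V X : Subgroup G) : Subgroup G where
  carrier := {g | g ∈ normalizer ((bx V X : Subgroup G) : Set G) ∧ ∀ b ∈ bx V X, g * b * g⁻¹ * b⁻¹ ∈ o2 (bx V X)}
  one_mem' := ⟨one_mem _, fun b _ => by
    have : (1 : G) * b * 1⁻¹ * b⁻¹ = 1 := by group
    rw [this]; exact one_mem _⟩
  mul_mem' := by
    rintro g k ⟨hg, hg1⟩ ⟨hk, hk1⟩
    refine ⟨mul_mem hg hk, fun b hb => ?_⟩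
    have e : g * k * b * (g * k)⁻¹ * b⁻¹ = g * (k * b * k⁻¹ * b⁻¹) * g⁻¹ * (g * b * g⁻¹ * b⁻¹) := by group
    rw [e]
    exact mul_mem ((mem_normalizer_iff.1 (norm_o2 _ hg) _).1 (hk1 b hb)) (hg1 b hb)
  inv_mem' := by
    rintro g ⟨hg, hg1⟩
    refine ⟨inv_mem hg, fun b hb => ?_⟩
    have e : g⁻¹ * b * g⁻¹⁻¹ * b⁻¹ = g⁻¹ * (g * b * g⁻¹ * b⁻¹)⁻¹ * g⁻¹⁻¹ := by group
    rw [e]
    exact (mem_normalizer_iff.1 (norm_o2 _ (inv_mem hg)) _).1 (inv_mem (hg1 b hb))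

theorem mem_cx {V X : Subgroup G} {g : G} :
    g ∈ cx V X ↔ g ∈ normalizer ((bx V X : Subgroup G) : Set G) ∧ ∀ b ∈ bx V X, g * b * g⁻¹ * b⁻¹ ∈ o2 (bx V X) :=
  Iff.rfl

theorem cx_conj {V X : Subgroup G} {r : G} (hr : r ∈ cx V X) (g : G) : g * r * g⁻¹ ∈ cx V (PT.cj g X) := by
  obtain ⟨h1, h2⟩ := mem_cx.1 hr
  refine mem_cx.2 ⟨?_, fun b hb => ?_⟩
  · rw [bx_cj, ← cj_eq_iff, cj_cj]
    have e : g * r * g⁻¹ * g = g * r := by group
    rw [e, ← cj_cj, cj_eq_iff.2 h1]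
  · rw [bx_cj, mem_cj] at hb
    rw [bx_cj, o2_cj, mem_cj]
    have e : g⁻¹ * (g * r * g⁻¹ * b * (g * r * g⁻¹)⁻¹ * b⁻¹) * g = r * (g⁻¹ * b * g) * r⁻¹ * (g⁻¹ * b * g)⁻¹ := by
      group
    rw [e]
    exact h2 _ hb

theorem normalizer_le_cx (V X : Subgroup G) : normalizer (X : Set G) ≤ normalizer ((cx V X : Subgroup G) : Set G) := by
  have key : ∀ g ∈ normalizer (X : Set G), ∀ r ∈ cx V X, g * r * g⁻¹ ∈ cx V X := by
    intro g hg r hr
    have := cx_conj hr g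
    rwa [cj_eq_iff.2 hg] at this
  intro g hg
  rw [mem_normalizer_iff]
  refine fun x => ⟨key g hg x, fun hx => ?_⟩
  have := key g⁻¹ (inv_mem hg) _ hx
  have e : g⁻¹ * (g * x * g⁻¹) * g⁻¹⁻¹ = x := by group
  rwa [e] at this

/-- `⋂ B_T` -/
def dx (V Z : Subgroup G) : Subgroup G := sInf {B | ∃ T, Pnt V Z T ∧ B = bx V T}

theorem mem_dx {V Z : Subgroup G} {g : G} : g ∈ dx V Z ↔ ∀ T, Pnt V Z T → g ∈ bx V T := by
  unfold dx
  rw [mem_sInf]
  refine ⟨fun h T hT => h _ ⟨T, hT, rfl⟩, ?_⟩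
  rintro h _ ⟨T, hT, rfl⟩
  exact h T hT

theorem dx_le {V Z T : Subgroup G} (hT : Pnt V Z T) : dx V Z ≤ bx V T := fun _ hg => mem_dx.1 hg T hT

theorem normalizer_le_dx (V Z : Subgroup G) : normalizer (V : Set G) ≤ normalizer ((dx V Z : Subgroup G) : Set G) := by
  have key : ∀ g ∈ normalizer (V : Set G), ∀ x ∈ dx V Z, g * x * g⁻¹ ∈ dx V Z := by
    intro g hg x hx
    refine mem_dx.2 fun T hT => ?_
    have h1 := mem_dx.1 hx _ (hT.conj (inv_mem hg))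
    rwa [bx_cj, mem_cj, inv_inv] at h1
  intro g hg
  rw [mem_normalizer_iff]
  refine fun x => ⟨key g hg x, fun hx => ?_⟩
  have := key g⁻¹ (inv_mem hg) _ hx
  have e : g⁻¹ * (g * x * g⁻¹) * g⁻¹⁻¹ = x := by group
  rwa [e] at this

namespace One

variable [Finite G] {S : Sylow 2 G} {B P V Z : Subgroup G} (h : One S B P V Z)
include h

theorem bx_le_cent {X : Subgroup G} (hX : Pnt V Z X) : bx V X ≤ centralizer (V : Set G) :=
  centralizer_le (h.V_le_W hX)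

theorem cent_norm_bx {X : Subgroup G} (hX : Pnt V Z X) :
    centralizer (V : Set G) ≤ normalizer ((bx V X : Subgroup G) : Set G) :=
  ((centralizer_le (show (X : Set G) ⊆ V from hX.le)).trans (centralizer_le_normalizer _)).trans (normalizer_le_bx V X)

theorem bx_le_kx {X : Subgroup G} (hX : Pnt V Z X) : bx V X ≤ kx V X := by
  intro b hb
  refine mem_kx.2 ⟨fun x hx => mem_bx.1 hb x (h.V_le_W hX (hX.le hx)), fun w hw => ?_⟩
  have : b * w * b⁻¹ * w⁻¹ = 1 := by rw [mem_bx.1 hb w hw]; group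
  rw [this]; exact one_mem _

theorem isP_W {X : Subgroup G} (hX : Pnt V Z X) : IsPGroup 2 (ws V X) := by
  rintro ⟨w, hw⟩
  exact ⟨1, Subtype.ext (by show w ^ 2 ^ 1 = 1; rw [pow_one, pow_two]; exact h.sq_W hX hw)⟩

/-- `[B_X, W_Y] ≤ O₂(B_X)` -/
theorem W_le_cx {X Y : Subgroup G} (hX : Pnt V Z X) (hY : Pnt V Z Y) : ws V Y ≤ cx V X := by
  intro u hu
  have huV := h.W_le_cent hY hu
  refine mem_cx.2 ⟨h.cent_norm_bx hX huV, fun b hb => ?_⟩
  have hbV := h.bx_le_cent hX hb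
  have h1 : bx V X ⊓ ws V Y ≤ o2 (bx V X) := by
    refine le_o2 inf_le_left ((h.isP_W hY).to_le inf_le_right) fun c hc => ?_
    rw [← cj_eq_iff, cj_inf, cj_eq_iff.2 (le_normalizer hc), cj_eq_iff.2 (h.cent_norm_W hY (h.bx_le_cent hX hc))]
  apply h1
  have h2 := (mem_normalizer_iff.1 (h.cent_norm_bx hX huV) b).1 hb
  refine ⟨(bx V X).mul_mem h2 ((bx V X).inv_mem hb), ?_⟩
  have e : u * b * u⁻¹ * b⁻¹ = u * (b * u⁻¹ * b⁻¹) := by group
  rw [e]
  exact mul_mem hu ((mem_normalizer_iff.1 (h.cent_norm_W hY hbV) _).1 (inv_mem hu))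

theorem kx_sq {X : Subgroup G} (hX : Pnt V Z X) {k : G} (hk : k ∈ kx V X) : k * k ∈ bx V X := by
  refine mem_bx.2 fun w hw => ?_
  obtain ⟨h1, h2⟩ := mem_kx.1 hk
  have h3 := h2 w hw
  set c := k * w * k⁻¹ * w⁻¹ with hc
  have h4 : c * c = 1 := h.sq_W hX (h.V_le_W hX (hX.le h3))
  have e : k * k * w = w * (k * k) := by
    have e1 : k * w * k⁻¹ = c * w := by rw [hc]; group
    have e2 : k * (c * w) * k⁻¹ = c * (c * w) := by
      calc k * (c * w) * k⁻¹ = (k * c) * k⁻¹ * (k * w * k⁻¹) := by group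
        _ = (c * k) * k⁻¹ * (k * w * k⁻¹) := by rw [h1 c h3]
        _ = c * (k * w * k⁻¹) := by group
        _ = c * (c * w) := by rw [e1]
    have e3 : k * (k * w * k⁻¹) * k⁻¹ = w := by
      rw [e1, e2, ← mul_assoc, h4, one_mul]
    calc k * k * w = (k * (k * w * k⁻¹) * k⁻¹) * (k * k) := by group
      _ = w * (k * k) := by rw [e3]
  exact e

theorem bx_of_kx_odd {X : Subgroup G} (hX : Pnt V Z X) {k : G} (hk : k ∈ kx V X) (ho : Odd (orderOf k)) :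
    k ∈ bx V X :=
  mem_of_pow ho (m := 1) (by rw [pow_one, pow_two]; exact h.kx_sq hX hk)

end One

namespace Co

variable [Finite G] {F : Type*} [Field F] [CharP F 2] {S : Sylow 2 G} {B P V Z : Subgroup G} (h : Co F S B P V Z)
include h

/-- `K_Z ∩ cx V Z` moves `V` -/
theorem not_R_le : ¬ kx V Z ⊓ cx V Z ≤ centralizer (V : Set G) := by
  intro hcon
  set R : Subgroup G := kx V Z ⊓ cx V Z with hR
  have hRn : normalizer (Z : Set G) ≤ normalizer (R : Set G) := by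
    intro g hg
    rw [← cj_eq_iff, hR, cj_inf, cj_eq_iff.2 (normalizer_le_kx V Z hg), cj_eq_iff.2 (normalizer_le_cx V Z hg)]
  have hcn : ∀ A : Subgroup G, normalizer (A : Set G) ≤ normalizer ((centralizer (A : Set G) : Subgroup G) : Set G) := by
    intro A g hg
    rw [← cj_eq_iff, cj_centralizer, cj_eq_iff.2 hg]
  have hRB : ws V Z ≤ centralizer (R : Set G) := by
    refine h.W_le_of_V ?_ (((centralizer_le_normalizer _).trans hRn).trans (hcn R))
    rw [le_centralizer_iff]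
    exact hcon
  -- `D = C_{W_Z}(K_Z)`
  set D : Subgroup G := ws V Z ⊓ centralizer ((kx V Z : Subgroup G) : Set G) with hD
  have hZD : Z ≤ D := by
    refine le_inf h.one.pl.Z_le_ws ?_
    rw [le_centralizer_iff]
    exact kx_le_cent
  have hDn : normalizer (Z : Set G) ≤ normalizer (D : Set G) := by
    intro g hg
    rw [← cj_eq_iff, hD, cj_inf, cj_eq_iff.2 (normalizer_le_ws V Z hg),
      cj_eq_iff.2 (hcn _ (normalizer_le_kx V Z hg))]
  obtain ⟨Y, hY, hYZ⟩ := h.one.exists_ne h.one.self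
  have hVD : V ≤ D := by
    refine h.V_le_of_comm (Inv.of_normZ hZD hDn) hY hYZ fun w hw u hu => ?_
    have huV := h.one.W_le_cent hY hu
    have hI := h.one.comm_mem h.one.self hY hYZ.symm hw hu
    have hIW := h.one.I_le_W h.one.self hI
    refine ⟨hIW, mem_centralizer_iff.2 fun k hk => ?_⟩
    set d := w * u * w⁻¹ * u⁻¹ with hd
    -- `k u k⁻¹ = b u`, `b ∈ R`
    have hb : k * u * k⁻¹ * u⁻¹ ∈ R := by
      constructor
      · have h1 := (mem_normalizer_iff.1 (h.one.cent_norm_K h.one.self huV) k⁻¹).1 (inv_mem hk)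
        have e : k * u * k⁻¹ * u⁻¹ = k * (u * k⁻¹ * u⁻¹) := by group
        rw [e]
        exact mul_mem hk h1
      · have h1 := h.one.W_le_cx h.one.self hY hu
        have h2 := (mem_normalizer_iff.1 (normalizer_le_cx V Z (centralizer_le_normalizer _ (kx_le_cent hk))) u).1 h1
        exact (cx V Z).mul_mem h2 ((cx V Z).inv_mem h1)
    have hz : k * w * k⁻¹ * w⁻¹ ∈ Z := (mem_kx.1 hk).2 w hw
    set b := k * u * k⁻¹ * u⁻¹ with hbd
    set z := k * w * k⁻¹ * w⁻¹ with hzd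
    have hbW : ∀ x ∈ ws V Z, b * x = x * b := fun x hx => mem_centralizer_iff.1 (hRB hx) b hb
    have hzV : z ∈ V := h.one.pl.ZV hz
    have hzW : z ∈ ws V Z := h.one.V_le_W h.one.self hzV
    have e1 : k * w * k⁻¹ = z * w := by rw [hzd]; group
    have e2 : k * u * k⁻¹ = b * u := by rw [hbd]; group
    have huz : u * z = z * u := h.one.cent_V huV hzV
    have hwz : w * z = z * w := h.one.comm_W h.one.self.cj hw hzW
    have key : k * d * k⁻¹ = d := by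
      have c1 : Commute b w := hbW w hw
      have c2 : Commute b z := hbW z hzW
      have c3 : Commute b d := hbW d hIW
      have c4 : Commute u z := huz
      have c5 : Commute w z := hwz
      have c6 : Commute z (w * (b * u) * w⁻¹) :=
        (c5.symm.mul_right (c2.symm.mul_right c4.symm)).mul_right c5.symm.inv_right
      calc k * d * k⁻¹ = (k * w * k⁻¹) * (k * u * k⁻¹) * (k * w * k⁻¹)⁻¹ * (k * u * k⁻¹)⁻¹ := by rw [hd]; group
        _ = (z * w) * (b * u) * (z * w)⁻¹ * (b * u)⁻¹ := by rw [e1, e2]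
        _ = (z * (w * (b * u) * w⁻¹)) * z⁻¹ * (b * u)⁻¹ := by group
        _ = ((w * (b * u) * w⁻¹) * z) * z⁻¹ * (b * u)⁻¹ := by rw [c6.eq]
        _ = (w * b) * u * w⁻¹ * (b * u)⁻¹ := by group
        _ = (b * w) * u * w⁻¹ * (b * u)⁻¹ := by rw [c1.eq]
        _ = (b * d) * b⁻¹ := by rw [hd]; group
        _ = (d * b) * b⁻¹ := by rw [c3.eq]
        _ = d := by group
    rwa [mul_inv_eq_iff_eq_mul] at key
  apply h.one.hf
  rw [le_centralizer_iff]
  exact hVD.trans inf_le_right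

/-- `O₂(C_G(Z)) ≤ K_Z` -/
theorem o2_le_kx : o2 (centralizer (Z : Set G)) ≤ kx V Z := by
  set Q := o2 (centralizer (Z : Set G)) with hQ
  have hQC : Q ≤ centralizer (Z : Set G) := o2_le _
  have hCQ : centralizer (Z : Set G) ≤ normalizer (Q : Set G) := le_normalizer_o2 _
  have hQB : Q ≤ B := by
    have h1 : B ⊔ Q ≤ B := by
      refine h.one.max_B (sup_le h.one.B_le_C hQC) ?_ le_sup_left
      exact h.one.isP_B.to_sup_of_normal_right' (o2_isPGroup _) (h.one.B_le_C.trans hCQ)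
    exact le_sup_right.trans h1
  -- `{w ∈ W_Z | [Q, w] ≤ Z}`
  let D : Subgroup G :=
    { carrier := {w | w ∈ centralizer (Z : Set G) ∧ ∀ q ∈ Q, q * w * q⁻¹ * w⁻¹ ∈ Z}
      one_mem' := ⟨one_mem _, fun q _ => by
        have : q * 1 * q⁻¹ * 1⁻¹ = 1 := by group
        rw [this]; exact one_mem _⟩
      mul_mem' := by
        rintro a b ⟨ha, ha1⟩ ⟨hb, hb1⟩
        refine ⟨mul_mem ha hb, fun q hq => ?_⟩
        have h1 := mem_centralizer_iff.1 ha _ (hb1 q hq)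
        have e : q * (a * b) * q⁻¹ * (a * b)⁻¹ = (q * a * q⁻¹ * a⁻¹) * (a * (q * b * q⁻¹ * b⁻¹) * a⁻¹) := by group
        rw [e, ← h1, mul_inv_cancel_right]
        exact mul_mem (ha1 q hq) (hb1 q hq)
      inv_mem' := by
        rintro a ⟨ha, ha1⟩
        refine ⟨inv_mem ha, fun q hq => ?_⟩
        have h1 := mem_centralizer_iff.1 (inv_mem ha) _ (inv_mem (ha1 q hq))
        have e : q * a⁻¹ * q⁻¹ * a⁻¹⁻¹ = a⁻¹ * (q * a * q⁻¹ * a⁻¹)⁻¹ * a⁻¹⁻¹ := by group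
        rw [e, ← h1, mul_inv_cancel_right]
        exact inv_mem (ha1 q hq) }
  have hVC : V ≤ centralizer (Z : Set G) := fun v hv =>
    mem_centralizer_iff.2 fun z hz => h.one.pl.Vcomm (h.one.pl.ZV hz) hv
  have hVD : V ≤ D := by
    intro v hv
    refine ⟨hVC hv, fun q hq => ?_⟩
    obtain ⟨t, ht⟩ := h.tv q (hQB hq)
    obtain ⟨x, y, rfl⟩ := (h.mem_V v).1 hv
    rw [ht, h.e_inv, ← h.e_add, h.e_memZ_iff, CharTwo.add_self_eq_zero]
  have hCD : centralizer (Z : Set G) ≤ normalizer (D : Set G) := by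
    have key : ∀ c ∈ centralizer (Z : Set G), ∀ w ∈ D, c * w * c⁻¹ ∈ D := by
      rintro c hc w ⟨hw, hw1⟩
      refine ⟨mul_mem (mul_mem hc hw) (inv_mem hc), fun q hq => ?_⟩
      have h1 : c⁻¹ * q * c ∈ Q := by
        have := (mem_normalizer_iff.1 (hCQ (inv_mem hc)) q).1 hq
        rwa [inv_inv] at this
      have h2 := hw1 _ h1
      have h3 := mem_centralizer_iff.1 hc _ h2
      have e : q * (c * w * c⁻¹) * q⁻¹ * (c * w * c⁻¹)⁻¹ = c * (c⁻¹ * q * c * w * (c⁻¹ * q * c)⁻¹ * w⁻¹) * c⁻¹ := by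
        group
      rw [e, ← h3, mul_inv_cancel_right]
      exact h2
    intro c hc
    rw [mem_normalizer_iff]
    refine fun x => ⟨key c hc x, fun hx => ?_⟩
    have := key c⁻¹ (inv_mem hc) _ hx
    have e : c⁻¹ * (c * x * c⁻¹) * c⁻¹⁻¹ = x := by group
    rwa [e] at this
  have hWD := h.W_le_of_V hVD hCD
  intro q hq
  exact mem_kx.2 ⟨fun z hz => (mem_centralizer_iff.1 (hQC hq) z hz).symm, fun w hw => (hWD hw).2 q hq⟩

variable [Finite F]

/-- every transvection of `K_Z` comes from `K_Z ∩ cx V Z` -/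
theorem exists_R (s : F) : ∃ r ∈ kx V Z, r ∈ cx V Z ∧ ∀ x y, r * h.e x y * r⁻¹ = h.e (x + s * y) y := by
  by_cases hs : s = 0
  · refine ⟨1, one_mem _, one_mem _, fun x y => ?_⟩
    rw [hs, zero_mul, add_zero]; group
  obtain ⟨r, hr, hrV⟩ := SetLike.not_le_iff_exists.1 h.not_R_le
  obtain ⟨t, ht⟩ := h.K_tv hr.1
  have ht0 : t ≠ 0 := by
    rintro rfl
    apply hrV
    exact h.mem_cent fun x y => by rw [ht, zero_mul, add_zero]
  have : Fintype F := Fintype.ofFinite F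
  obtain ⟨ζ, hζ⟩ := FiniteField.isSquare_of_char_two (ringChar.eq F 2) (s * t⁻¹)
  have hζ0 : ζ ≠ 0 := by
    rintro rfl
    rw [mul_zero] at hζ
    exact (mul_ne_zero hs (inv_ne_zero ht0)) hζ
  obtain ⟨τ, hτ⟩ := h.exists_tor hζ0
  have hτZ := hτ.norm_Z hζ0
  refine ⟨τ * r * τ⁻¹, (mem_normalizer_iff.1 (normalizer_le_kx V Z hτZ) r).1 hr.1,
    (mem_normalizer_iff.1 (normalizer_le_cx V Z hτZ) r).1 hr.2, fun x y => ?_⟩
  have h1 : τ⁻¹ * h.e x y * τ = h.e (ζ⁻¹ * x) (ζ * y) := by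
    have h2 := hτ.act (ζ⁻¹ * x) (ζ * y)
    rw [mul_inv_cancel_left₀ hζ0, inv_mul_cancel_left₀ hζ0] at h2
    rw [← h2]; group
  have e : τ * r * τ⁻¹ * h.e x y * (τ * r * τ⁻¹)⁻¹ = τ * (r * (τ⁻¹ * h.e x y * τ) * r⁻¹) * τ⁻¹ := by group
  rw [e, h1, ht, hτ.act, inv_mul_cancel_left₀ hζ0]
  congr 1
  rw [mul_add, mul_inv_cancel_left₀ hζ0]
  have e2 : ζ * (t * (ζ * y)) = (ζ * ζ) * t * y := by ring
  rw [e2, ← hζ, inv_mul_cancel_right₀ ht0]

/-- `K_X ∩ cx V X` is transitive on the other points, by 2-elements -/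
theorem exists_r {X A A' : Subgroup G} (hX : Pnt V Z X) (hA : Pnt V Z A) (hA' : Pnt V Z A') (hAX : A ≠ X)
    (hAX' : A' ≠ X) : ∃ r ∈ kx V X, r ∈ cx V X ∧ TwoEl r ∧ PT.cj r A = A' := by
  have key : ∀ {A A' : Subgroup G}, Pnt V Z A → Pnt V Z A' → A ≠ Z → A' ≠ Z →
      ∃ r ∈ kx V Z, r ∈ cx V Z ∧ TwoEl r ∧ PT.cj r A = A' := by
    intro A A' hA hA' hAZ hAZ'
    obtain ⟨k, hk, hkA⟩ := h.one.move h.one.self hA hA' hAZ hAZ'
    obtain ⟨s, hs⟩ := h.K_tv hk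
    obtain ⟨r, hr, hrc, hrs⟩ := h.exists_R s
    have hrA : PT.cj r A = A' := by
      have h1 : r⁻¹ * k ∈ centralizer (V : Set G) := h.mem_cent fun x y => by
        have e : r⁻¹ * k * h.e x y * (r⁻¹ * k)⁻¹ = r⁻¹ * (k * h.e x y * k⁻¹) * r := by group
        rw [e, hs, ← hrs]; group
      have h2 := h.one.cent_fix hA h1
      have h3 := congrArg (PT.cj r) h2
      rw [cj_cj, mul_inv_cancel_left] at h3
      rw [← h3, hkA]
    have hr2 : r ^ 2 ∈ centralizer (V : Set G) := by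
      rw [pow_two]
      exact h.one.bx_le_cent h.one.self (h.one.kx_sq h.one.self hr)
    obtain ⟨m, hm, hm2⟩ := exists_odd_pow r
    obtain ⟨j, rfl⟩ := hm
    refine ⟨r ^ (2 * j + 1), pow_mem hr _, pow_mem hrc _, hm2, ?_⟩
    rw [pow_succ, pow_mul, ← cj_cj, hrA]
    exact h.one.cent_fix hA' (pow_mem hr2 j)
  obtain ⟨p, hp, hpX⟩ := h.one.pl.exists_pt hX.cj hX.le
  have hpV := h.one.pl.PN hp
  have hne : ∀ {A : Subgroup G}, A ≠ X → PT.cj p⁻¹ A ≠ Z := by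
    intro A hAX e
    apply hAX
    rw [hpX, ← e, cj_cj, mul_inv_cancel, cj_one]
  obtain ⟨r, hr, hrc, hr2, hrA⟩ := key (hA.conj (inv_mem hpV)) (hA'.conj (inv_mem hpV)) (hne hAX) (hne hAX')
  refine ⟨p * r * p⁻¹, ?_, ?_, hr2.conj p, ?_⟩
  · rw [hpX, kx_cj]
    exact conj_mem_cj hr
  · rw [hpX]
    exact cx_conj hrc p
  · rw [← cj_cj, ← cj_cj, hrA, cj_cj, mul_inv_cancel, cj_one]

/-- **(O)** -/
theorem mem_bx {X Y T : Subgroup G} (hX : Pnt V Z X) (hY : Pnt V Z Y) (hT : Pnt V Z T) (hne : Y ≠ X) {b : G}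
    (hb : b ∈ bx V X) (hbY : b ∈ kx V Y) (ho : Odd (orderOf b)) : b ∈ bx V T := by
  by_cases hTX : T = X
  · rw [hTX]; exact hb
  obtain ⟨r, hr, hrc, -, hrY⟩ := h.exists_r hX hY hT hne hTX
  obtain ⟨h1, h2⟩ := mem_cx.1 hrc
  have ho2 := h2 b hb
  have hrb : r * b * r⁻¹ ∈ bx V X ⊓ kx V T := by
    refine ⟨(mem_normalizer_iff.1 h1 b).1 hb, ?_⟩
    rw [← hrY, kx_cj]
    exact conj_mem_cj hbY
  have hn : bx V X ≤ normalizer ((bx V X ⊓ kx V T : Subgroup G) : Set G) := by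
    intro c hc
    rw [← cj_eq_iff, cj_inf, cj_eq_iff.2 (le_normalizer hc), cj_eq_iff.2 (h.one.cent_norm_K hT (h.one.bx_le_cent hX hc))]
  have e : b = (r * b * r⁻¹ * b⁻¹)⁻¹ * (r * b * r⁻¹) := by group
  have ho' : Odd (orderOf ((r * b * r⁻¹ * b⁻¹)⁻¹ * (r * b * r⁻¹))) := by rwa [← e]
  have h3 := mem_of_odd_mul (twoEl_of_isPGroup (o2_isPGroup _) (inv_mem ho2)) (hn (o2_le _ (inv_mem ho2))) hrb ho'
  rw [← e] at h3
  exact h.one.bx_of_kx_odd hT h3.2 ho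

/-- the elements of odd order of `B_X` lie in all `B_T` -/
theorem mem_dx {X : Subgroup G} (hX : Pnt V Z X) {b : G} (hb : b ∈ bx V X) (ho : Odd (orderOf b)) : b ∈ dx V Z := by
  set C : Subgroup G := centralizer (V : Set G) with hC
  have hDC : dx V Z ≤ C := (dx_le h.one.self).trans (h.one.bx_le_cent h.one.self)
  have hCN : C ≤ normalizer (V : Set G) := centralizer_le_normalizer _
  obtain ⟨E, hDE, hEC, hCE, hED, hmax⟩ := LemQAbs.exists_max hDC (hCN.trans (normalizer_le_dx V Z))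
  have hNC : normalizer (V : Set G) ≤ normalizer (C : Set G) := by
    intro g hg
    rw [← cj_eq_iff, hC, cj_centralizer, cj_eq_iff.2 hg]
  have hNE := LemQAbs.norm_of_max hEC hCE hED hmax hNC (normalizer_le_dx V Z)
  have hodd : ∀ A ≤ C, (∀ a ∈ A, Odd (orderOf a) → a ∈ dx V Z) → TwoMod A (dx V Z) := by
    intro A _ hA a ha
    obtain ⟨m, hm⟩ := exists_two_pow a
    exact ⟨m, hA _ (pow_mem ha _) hm⟩
  have hBK : ∀ {X Y : Subgroup G}, Pnt V Z X → Pnt V Z Y → X ≠ Y → bx V X ⊓ kx V Y ≤ E := by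
    intro X Y hX hY hne
    refine hmax _ (inf_le_left.trans (h.one.bx_le_cent hX)) (fun c hc => ?_) (hodd _
      (inf_le_left.trans (h.one.bx_le_cent hX)) fun a ha hao => OneQ.mem_dx.2 fun T hT =>
        h.mem_bx hX hY hT hne.symm ha.1 ha.2 hao)
    rw [← cj_eq_iff, cj_inf, cj_eq_iff.2 (h.one.cent_norm_bx hX hc), cj_eq_iff.2 (h.one.cent_norm_K hY hc)]
  have hO2 : ∀ {X : Subgroup G}, Pnt V Z X → o2 (bx V X) ≤ E := by
    intro X hX
    refine hmax _ ((o2_le _).trans (h.one.bx_le_cent hX)) ((h.one.cent_norm_bx hX).trans (norm_o2 _)) fun a ha => ?_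
    obtain ⟨m, hm⟩ := twoEl_of_isPGroup (o2_isPGroup _) ha
    exact ⟨m, by rw [hm]; exact one_mem _⟩
  refine OneQ.mem_dx.2 fun T hT => ?_
  by_cases hTX : T = X
  · rw [hTX]; exact hb
  have key : ∃ b' ∈ bx V T, b'⁻¹ * b ∈ E := by
    refine LemQAbs.rel (ι := {X // Pnt V Z X}) (Bx := fun X => bx V X.1) (Kx := fun X => kx V X.1)
      (i := ⟨X, hX⟩) (j := ⟨T, hT⟩) hCN hNC hNE hEC hED hmax (fun i => h.one.bx_le_cent i.2)
      (fun i => h.one.cent_norm_bx i.2) (fun i => h.one.K_norm i.2) (fun i => h.one.cent_norm_K i.2)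
      ?_ ?_ (fun i k hk => h.one.kx_sq i.2 hk) ?_ ?_ (fun e => hTX (congrArg Subtype.val e).symm) hb
    · rintro ⟨X, hX⟩ ⟨Y, hY⟩ hne a ha b hb
      have hne' : X ≠ Y := fun e => hne (Subtype.ext e)
      refine hBK hX hY hne' ⟨?_, ?_⟩
      · have h1 := (mem_normalizer_iff.1 (h.one.cent_norm_bx hX (h.one.bx_le_cent hY hb)) a⁻¹).1 (inv_mem ha)
        have e : a * b * a⁻¹ * b⁻¹ = a * (b * a⁻¹ * b⁻¹) := by group
        rw [e]
        exact mul_mem ha h1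
      · exact h.one.bx_le_kx hY (mul_mem ((mem_normalizer_iff.1 (h.one.cent_norm_bx hY (h.one.bx_le_cent hX ha)) b).1 hb)
          (inv_mem hb))
    · rintro ⟨X, hX⟩ ⟨Y, hY⟩ hne a ha d hd hdC
      have hne' : X ≠ Y := fun e => hne (Subtype.ext e)
      refine hBK hX hY hne' ⟨?_, ?_⟩
      · exact (bx V X).mul_mem ((mem_normalizer_iff.1 (h.one.cent_norm_bx hX hdC) a).1 ha) ((bx V X).inv_mem ha)
      · have h1 := (mem_normalizer_iff.1 (h.one.cent_norm_K hY (h.one.bx_le_cent hX ha)) d⁻¹).1 (inv_mem hd)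
        have e : d * a * d⁻¹ * a⁻¹ = d * (a * d⁻¹ * a⁻¹) := by group
        rw [e]
        exact mul_mem hd h1
    · rintro ⟨X, hX⟩ ⟨Y, hY⟩ ⟨L, hL⟩ hXL hYL
      obtain ⟨r, hr, hrc, hr2, hrA⟩ := h.exists_r hL hX hY (fun e => hXL (Subtype.ext e)) (fun e => hYL (Subtype.ext e))
      refine ⟨r, hr, hr2, ?_, ?_, ?_⟩
      · rintro ⟨T, hT⟩
        refine ⟨⟨PT.cj r T, hT.conj (h.one.K_norm hL hr)⟩, fun b hb => ?_⟩
        show r * b * r⁻¹ ∈ bx V (PT.cj r T)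
        rw [bx_cj]
        exact conj_mem_cj hb
      · intro b hb
        show r * b * r⁻¹ ∈ bx V Y
        rw [← hrA, bx_cj]
        exact conj_mem_cj hb
      · intro b hb
        exact hO2 hL ((mem_cx.1 hrc).2 b hb)
    · rintro ⟨X, hX⟩ ⟨Y, hY⟩ hne
      obtain ⟨L, hL, hLV, h1, h2⟩ := h.one.pl.exists_third hX.cj hX.le hY.cj hY.le fun e => hne (Subtype.ext e)
      exact ⟨⟨L, hL, hLV⟩, fun e => h1 (congrArg Subtype.val e).symm, fun e => h2 (congrArg Subtype.val e).symm⟩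
  obtain ⟨b', hb', he⟩ := key
  exact LemQAbs.rel_odd (Bx := fun X : {X // Pnt V Z X} => bx V X.1) (j := ⟨T, hT⟩) hCE hEC hED (h.one.bx_le_cent hT)
    (h.one.cent_norm_bx hT) (dx_le hT) ho hb' he

/-- `O²(B_X)` does not depend on `X` -/
theorem oddGen_eq {X : Subgroup G} (hX : Pnt V Z X) : oddGen (bx V X) = oddGen (dx V Z) := by
  refine le_antisymm ?_ (oddGen_mono (dx_le hX))
  rw [oddGen_def, closure_le]
  rintro b ⟨hb, ho⟩
  exact mem_oddGen (h.mem_dx hX hb ho) ho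

theorem norm_odd_Z : normalizer (Z : Set G) ≤ normalizer ((oddGen (dx V Z) : Subgroup G) : Set G) := by
  rw [← h.oddGen_eq h.one.self]
  exact (normalizer_le_bx V Z).trans (normalizer_le_normalizer_oddGen _)

theorem norm_odd_V : normalizer (V : Set G) ≤ normalizer ((oddGen (dx V Z) : Subgroup G) : Set G) :=
  (normalizer_le_dx V Z).trans (normalizer_le_normalizer_oddGen _)

/-- `O²(B_X) = 1`: nonlocality, and `N_G(W_Z)` has characteristic 2 -/
theorem oddGen_bot (hnl : ∀ Q : Subgroup G, IsPGroup 2 Q → normalizer (V : Set G) ≤ normalizer (Q : Set G) →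
      normalizer (Z : Set G) ≤ normalizer (Q : Set G) → Q = ⊥)
    (hG : IsCharacteristicTwoType G) : oddGen (dx V Z) = ⊥ := by
  set E := oddGen (dx V Z) with hE
  have hEB : E ≤ bx V Z := (oddGen_le _).trans (dx_le h.one.self)
  have h1 : o2 E = ⊥ := hnl _ (o2_isPGroup _) (h.norm_odd_V.trans (norm_o2 _)) (h.norm_odd_Z.trans (norm_o2 _))
  -- `L = N_G(W_Z)`
  set L : Subgroup G := normalizer ((ws V Z : Subgroup G) : Set G) with hL
  have hWne : ws V Z ≠ ⊥ := by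
    intro e
    apply h.V_not_le
    refine le_trans ?_ bot_le
    rw [← e]
    exact h.one.V_le_W h.one.self
  have hc := hG.2 (ws V Z) (h.one.isP_W h.one.self) hWne
  have hc2 : L ⊓ centralizer ((o2 L : Subgroup G) : Set G) ≤ o2 L := by
    rintro x ⟨hxL, hx⟩
    refine ⟨⟨x, hxL⟩, hc ?_, rfl⟩
    rw [mem_centralizer_iff]
    intro y hy
    exact Subtype.ext (mem_centralizer_iff.1 hx y ⟨y, hy, rfl⟩)
  have hBL : bx V Z ≤ L := centralizer_le_normalizer _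
  have hLE : L ≤ normalizer (E : Set G) := by
    have h2 : L ≤ normalizer ((bx V Z : Subgroup G) : Set G) := by
      intro g hg
      rw [← cj_eq_iff, bx, cj_centralizer, cj_eq_iff.2 hg]
    rw [hE, ← h.oddGen_eq h.one.self]
    exact h2.trans (normalizer_le_normalizer_oddGen _)
  have hEL : E ≤ L := hEB.trans hBL
  -- `[E, O₂(L)] ≤ E ∩ O₂(L) ≤ O₂(E) = 1`
  have h2 : E ⊓ o2 L ≤ o2 E := by
    refine le_o2 inf_le_left ((o2_isPGroup _).to_le inf_le_right) fun c hc => ?_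
    rw [← cj_eq_iff, cj_inf, cj_eq_iff.2 (le_normalizer hc), cj_eq_iff.2 (le_normalizer_o2 L (hEL hc))]
  have h3 : E ≤ centralizer ((o2 L : Subgroup G) : Set G) := by
    intro x hx
    rw [mem_centralizer_iff]
    intro y hy
    have h4 : y * x * y⁻¹ * x⁻¹ ∈ E ⊓ o2 L := by
      constructor
      · exact E.mul_mem ((mem_normalizer_iff.1 (hLE (o2_le _ hy)) x).1 hx) (E.inv_mem hx)
      · have h5 := (mem_normalizer_iff.1 (le_normalizer_o2 L (hEL hx)) y⁻¹).1 (inv_mem hy)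
        have e : y * x * y⁻¹ * x⁻¹ = y * (x * y⁻¹ * x⁻¹) := by group
        rw [e]
        exact mul_mem hy h5
    have h5 := h2 h4
    rw [h1, mem_bot, mul_inv_eq_one, mul_inv_eq_iff_eq_mul] at h5
    exact h5
  have h4 : E ≤ o2 L := (le_inf hEL h3).trans hc2
  have h5 : E ≤ o2 E := (le_inf le_rfl h4).trans h2
  rw [h1] at h5
  exact le_bot_iff.1 h5

section final

variable (hnl : ∀ Q : Subgroup G, IsPGroup 2 Q → normalizer (V : Set G) ≤ normalizer (Q : Set G) →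
    normalizer (Z : Set G) ≤ normalizer (Q : Set G) → Q = ⊥) (hG : IsCharacteristicTwoType G)
include hnl hG

/-- **LEMMA Q+**: `C_G(W_X)` is a 2-group -/
theorem isP_bx {X : Subgroup G} (hX : Pnt V Z X) : IsPGroup 2 (bx V X) := by
  rintro ⟨b, hb⟩
  obtain ⟨m, hm⟩ := exists_two_pow b
  refine ⟨m, Subtype.ext ?_⟩
  show b ^ 2 ^ m = 1
  have h1 := mem_oddGen (h.mem_dx hX (pow_mem hb _) hm) hm
  rw [h.oddGen_bot hnl hG] at h1
  exact mem_bot.1 h1

theorem isP_cent {X : Subgroup G} (hX : Pnt V Z X) : IsPGroup 2 (centralizer ((ws V X : Subgroup G) : Set G)) :=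
  h.isP_bx hnl hG hX

/-- **LEMMA Q+**: `K_X` is a 2-group -/
theorem isP_kx {X : Subgroup G} (hX : Pnt V Z X) : IsPGroup 2 (kx V X) := by
  rintro ⟨k, hk⟩
  obtain ⟨m, hm⟩ := h.isP_bx hnl hG hX ⟨k * k, h.one.kx_sq hX hk⟩
  refine ⟨m + 1, Subtype.ext ?_⟩
  have h1 : (k * k) ^ 2 ^ m = 1 := congrArg Subtype.val hm
  show k ^ 2 ^ (m + 1) = 1
  rw [pow_succ', pow_mul, pow_two]
  exact h1

/-- **LEMMA Q+**: `K_Z = O₂(C_G(Z))` -/
theorem kx_eq_o2 : kx V Z = o2 (centralizer (Z : Set G)) := by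
  refine le_antisymm (le_o2 kx_le_cent (h.isP_kx hnl hG h.one.self)
    ((centralizer_le_normalizer _).trans (normalizer_le_kx V Z))) ?_
  exact h.o2_le_kx

end final

end Co

end Cfsg.Agent.Omega.NO3S.OneQ
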