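import Mathlib

/-!
# NO-3S, `OneSz` (`q ≥ 4`, `n = 1`): THEOREM T, pure part (bb OMEGA #20670, helper512)

`r` an `F`-representation of `C` on `M`, `v0 ∈ M`, `A ≤ C` (the group of the line `F v0`), `st ≤ C` (elements which
fix the line). `Mix.main` : if `A` contains a transvection with centre `F v0`, then `[M, A] ≤ F v0`.
-/

set_option autoImplicit false
set_option linter.unusedSectionVars false

namespace Cfsg.Agent.Omega.NO3S.OneQ

/-- the hypotheses -/
structure Mix {F M C : Type*} [Field F] [AddCommGroup M] [Module F M] [Group C] (r : Representation F C M) (v0 : M)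
    (A st : Subgroup C) : Prop where
  two : ∀ m : M, m + m = 0
  v0_ne : v0 ≠ 0
  span : Submodule.span F (Set.range fun c => r c v0) = ⊤
  quad : ∀ a ∈ A, ∀ b ∈ A, ∀ m, r a (r b m - m) = r b m - m
  fix0 : ∀ a ∈ A, r a v0 = v0
  st_v : ∀ g ∈ st, ∃ t : F, t ≠ 0 ∧ r g v0 = t • v0
  st_A : ∀ g ∈ st, ∀ a ∈ A, ∃ a' ∈ A, r (g * a * g⁻¹) = r a'
  tv_st : ∀ c, ∀ a ∈ A, r (c * a * c⁻¹) v0 = v0 → c * a * c⁻¹ ∈ st
  l1 : ∀ c, ∀ b ∈ A, ∀ ψ : M →ₗ[F] F, (∀ m, r (c * b * c⁻¹) m = m + ψ m • r c v0) → ψ v0 ≠ 0 →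
    ∀ a ∈ A, ψ (r a (r c v0) - r c v0) = 0 → r a (r c v0) = r c v0
  bl : ∀ a ∈ A, ∀ (t : F) (m : M), ∃ a' ∈ A, ∃ d : F, r a' m - m = t • (r a m - m) + d • v0
  fix : ∀ N : Submodule F M, (∀ g ∈ st, ∀ n ∈ N, r g n ∈ N) → (∃ n ∈ N, ∃ a ∈ A, r a n ≠ n) → v0 ∈ N

namespace Mix

variable {F M C : Type*} [Field F] [AddCommGroup M] [Module F M] [Group C] {r : Representation F C M} {v0 : M}
    {A st : Subgroup C}

/-- the functionals of the transvections of `A_c` -/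
def Ph (r : Representation F C M) (v0 : M) (A : Subgroup C) (c : C) : Set (M →ₗ[F] F) :=
  {φ | ∃ a ∈ A, ∀ m, r (c * a * c⁻¹) m = m + φ m • r c v0}

/-- the relation `#` -/
def Rel (r : Representation F C M) (v0 : M) (A : Subgroup C) (c d : C) : Prop :=
  ∃ φ ∈ Ph r v0 A c, φ (r d v0) ≠ 0

theorem r_inv_apply (r : Representation F C M) (g : C) (m : M) : r g (r g⁻¹ m) = m := by
  rw [← Module.End.mul_apply, ← map_mul, mul_inv_cancel, map_one, Module.End.one_apply]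

theorem r_inv_apply' (r : Representation F C M) (g : C) (m : M) : r g⁻¹ (r g m) = m := by
  rw [← Module.End.mul_apply, ← map_mul, inv_mul_cancel, map_one, Module.End.one_apply]

theorem r_mul (r : Representation F C M) (g k : C) (m : M) : r (g * k) m = r g (r k m) := by
  rw [map_mul, Module.End.mul_apply]

theorem ph_conj {c : C} (g : C) {φ : M →ₗ[F] F} (hφ : φ ∈ Ph r v0 A c) : φ ∘ₗ r g⁻¹ ∈ Ph r v0 A (g * c) := by
  obtain ⟨a, ha, hae⟩ := hφ
  refine ⟨a, ha, fun m => ?_⟩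
  have e : g * c * a * (g * c)⁻¹ = g * (c * a * c⁻¹) * g⁻¹ := by group
  rw [e, r_mul, r_mul, hae, map_add, map_smul, r_inv_apply, ← r_mul]
  rfl

theorem rel_conj {c d : C} (g : C) (h : Rel r v0 A c d) : Rel r v0 A (g * c) (g * d) := by
  obtain ⟨φ, hφ, hne⟩ := h
  refine ⟨_, ph_conj g hφ, ?_⟩
  rw [LinearMap.comp_apply, r_mul, r_inv_apply']
  exact hne

theorem rel_conj' {c d : C} (g : C) : Rel r v0 A (g * c) (g * d) ↔ Rel r v0 A c d := by
  refine ⟨fun h => ?_, rel_conj g⟩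
  have := rel_conj g⁻¹ h
  rwa [inv_mul_cancel_left, inv_mul_cancel_left] at this

section

variable (H : Mix r v0 A st)
include H

theorem ph_v {c : C} {φ : M →ₗ[F] F} (hφ : φ ∈ Ph r v0 A c) : φ (r c v0) = 0 := by
  obtain ⟨a, ha, hae⟩ := hφ
  have h1 := hae (r c v0)
  have e : c * a * c⁻¹ = c * (a * c⁻¹) := by group
  rw [e, r_mul, r_mul, r_inv_apply', H.fix0 a ha, left_eq_add] at h1
  refine (smul_eq_zero.1 h1).resolve_right fun h2 => H.v0_ne ?_
  rw [← r_inv_apply' r c v0, h2, map_zero]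

theorem ph_add {φ ψ : M →ₗ[F] F} (hφ : φ ∈ Ph r v0 A 1) (hψ : ψ ∈ Ph r v0 A 1) : φ + ψ ∈ Ph r v0 A 1 := by
  obtain ⟨a, ha, hae⟩ := hφ
  obtain ⟨b, hb, hbe⟩ := hψ
  refine ⟨a * b, mul_mem ha hb, fun m => ?_⟩
  have ea : 1 * a * 1⁻¹ = a := by group
  have eb : 1 * b * 1⁻¹ = b := by group
  have eab : 1 * (a * b) * 1⁻¹ = a * b := by group
  rw [ea] at hae
  rw [eb] at hbe
  rw [eab, r_mul, hbe, map_add, map_smul, hae, map_one, Module.End.one_apply, H.fix0 a ha, LinearMap.add_apply, add_smul,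
    add_assoc]

theorem ph_st {g : C} (hg : g ∈ st) {φ : M →ₗ[F] F} (hφ : φ ∈ Ph r v0 A g) : ∃ t : F, t ≠ 0 ∧ t • φ ∈ Ph r v0 A 1 := by
  obtain ⟨t, ht, hgt⟩ := H.st_v g hg
  obtain ⟨a, ha, hae⟩ := hφ
  obtain ⟨a', ha', e⟩ := H.st_A g hg a ha
  refine ⟨t, ht, a', ha', fun m => ?_⟩
  have ea : 1 * a' * 1⁻¹ = a' := by group
  rw [ea, ← e, hae, hgt, map_one, Module.End.one_apply, LinearMap.smul_apply, smul_smul, smul_eq_mul, mul_comm]

theorem rel_st {g d : C} (hg : g ∈ st) (h : Rel r v0 A g d) : Rel r v0 A 1 d := by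
  obtain ⟨φ, hφ, hne⟩ := h
  obtain ⟨t, ht, h1⟩ := H.ph_st hg hφ
  exact ⟨_, h1, by rw [LinearMap.smul_apply, smul_eq_mul]; exact mul_ne_zero ht hne⟩

theorem rel_st' {g d : C} (hg : g ∈ st) : Rel r v0 A 1 (g * d) ↔ Rel r v0 A 1 d := by
  have key : ∀ {g d : C}, g ∈ st → Rel r v0 A 1 (g * d) → Rel r v0 A 1 d := by
    intro g d hg h
    have h1 := rel_conj g⁻¹ h
    rw [inv_mul_cancel_left, mul_one] at h1
    exact H.rel_st (inv_mem hg) h1
  refine ⟨key hg, fun h => ?_⟩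
  refine key (inv_mem hg) ?_
  rwa [inv_mul_cancel_left]

variable [Finite M] [Finite F]

theorem rel_symm1 {c : C} (h : Rel r v0 A 1 c) : Rel r v0 A c 1 := by
  by_contra hcon
  obtain ⟨φ, hφ, hx⟩ := h
  set x := φ (r c v0) with hxd
  have : Finite (M →ₗ[F] F) := Finite.of_injective (fun f => (f : M → F)) DFunLike.coe_injective
  -- `x • φ' ∘ c⁻¹ ∈ Ph 1` for `φ' ∈ Ph 1`
  have key : ∀ φ' ∈ Ph r v0 A 1, x • (φ' ∘ₗ r c⁻¹) ∈ Ph r v0 A 1 := by
    intro φ' hφ'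
    have hψ : φ' ∘ₗ r c⁻¹ ∈ Ph r v0 A c := by
      have := ph_conj c hφ'
      rwa [mul_one] at this
    set ψ := φ' ∘ₗ r c⁻¹ with hψd
    have hψ0 : ψ v0 = 0 := by
      by_contra hne
      exact hcon ⟨ψ, hψ, by rw [map_one, Module.End.one_apply]; exact hne⟩
    have hψc := H.ph_v hψ
    obtain ⟨b, hb, hbe⟩ := hψ
    have hbst : c * b * c⁻¹ ∈ st := by
      refine H.tv_st c b hb ?_
      rw [hbe, hψ0, zero_smul, add_zero]
    set g := c * b * c⁻¹ with hg
    have hgi : ∀ m, r g⁻¹ m = m - ψ m • r c v0 := by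
      intro m
      have h1 : r g (m - ψ m • r c v0) = m := by
        rw [hbe, map_sub, map_smul, hψc, smul_zero, sub_zero, sub_add_cancel]
      rw [← r_inv_apply' r g (m - ψ m • r c v0), h1]
    have hg0 : r g v0 = v0 := by rw [hbe, hψ0, zero_smul, add_zero]
    obtain ⟨a, ha, hae⟩ := hφ
    obtain ⟨a', ha', e⟩ := H.st_A g hbst a ha
    have ea : 1 * a * 1⁻¹ = a := by group
    rw [ea] at hae
    have h2 : φ + x • ψ ∈ Ph r v0 A 1 := by
      refine ⟨a', ha', fun m => ?_⟩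
      have ea' : 1 * a' * 1⁻¹ = a' := by group
      have e3 : φ (m - ψ m • r c v0) = (φ + x • ψ) m := by
        rw [map_sub, map_smul, ← hxd, LinearMap.add_apply, LinearMap.smul_apply, smul_eq_mul, smul_eq_mul]
        have h4 : ∀ y : F, -y = y := fun y => by
          have h5 : (y + y) • v0 = 0 := by rw [add_smul, H.two]
          exact neg_eq_of_add_eq_zero_left ((smul_eq_zero.1 h5).resolve_right H.v0_ne)
        rw [sub_eq_add_neg, h4, mul_comm]
      rw [ea', ← e, r_mul, r_mul, hae, map_add, map_smul, r_inv_apply, map_one, Module.End.one_apply, hg0, hgi, e3]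
    have h3 := H.ph_add ⟨a, ha, fun m => by rw [ea]; exact hae m⟩ h2
    have h4 : φ + (φ + x • ψ) = x • ψ := by
      have h5 : φ + φ = 0 := by
        refine LinearMap.ext fun m => ?_
        rw [LinearMap.add_apply, LinearMap.zero_apply]
        have h5 : (φ m + φ m) • v0 = 0 := by rw [add_smul, H.two]
        exact (smul_eq_zero.1 h5).resolve_right H.v0_ne
      rw [← add_assoc, h5, zero_add]
    rwa [h4] at h3
  let f : Ph r v0 A 1 → Ph r v0 A 1 := fun φ' => ⟨x • ((φ' : M →ₗ[F] F) ∘ₗ r c⁻¹), key φ' φ'.2⟩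
  have hf : Function.Injective f := by
    rintro ⟨φ₁, h1⟩ ⟨φ₂, h2⟩ h12
    have h3 : x • (φ₁ ∘ₗ r c⁻¹) = x • (φ₂ ∘ₗ r c⁻¹) := congrArg Subtype.val h12
    apply Subtype.ext
    refine LinearMap.ext fun m => ?_
    have h4 := congrArg (fun g => g (r c m)) h3
    simp only [LinearMap.smul_apply, LinearMap.comp_apply, smul_eq_mul] at h4
    have h5 := mul_left_cancel₀ hx h4
    rw [r_inv_apply'] at h5
    exact h5
  obtain ⟨⟨φ', hφ'⟩, he⟩ := (Finite.injective_iff_surjective.1 hf) ⟨φ, hφ⟩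
  have h1 : x • (φ' ∘ₗ r c⁻¹) = φ := congrArg Subtype.val he
  apply hx
  rw [hxd, ← h1, LinearMap.smul_apply, LinearMap.comp_apply, r_inv_apply']
  have h2 := H.ph_v hφ'
  rw [map_one, Module.End.one_apply] at h2
  rw [h2, smul_zero]

theorem rel_symm {c d : C} (h : Rel r v0 A c d) : Rel r v0 A d c := by
  have h1 := rel_conj c⁻¹ h
  rw [inv_mul_cancel] at h1
  have h2 := rel_conj c (H.rel_symm1 h1)
  rwa [mul_inv_cancel_left, mul_one] at h2

/-- **(2)** : `m # l` ⟹ `[λ_m, A_l] ≤ λ_l` -/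
theorem rel_theta {c : C} (h : Rel r v0 A 1 c) : ∀ a ∈ A, ∃ d : F, r a (r c v0) - r c v0 = d • v0 := by
  by_contra hcon
  push Not at hcon
  obtain ⟨a₁, ha₁, h₁⟩ := hcon
  obtain ⟨ψ, hψ, hψ0⟩ := H.rel_symm1 h
  rw [map_one, Module.End.one_apply] at hψ0
  obtain ⟨b, hb, hbe⟩ := hψ
  obtain ⟨φ, ⟨a₀, ha₀, hae⟩, hφ⟩ := h
  have ea : 1 * a₀ * 1⁻¹ = a₀ := by group
  rw [ea, map_one, Module.End.one_apply] at hae
  set v := r c v0 with hv
  -- `ψ` is injective on `R`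
  have hadd : ∀ a ∈ A, ∀ a' ∈ A, r (a * a') v - v = (r a v - v) + (r a' v - v) := by
    intro a ha a' ha'
    have h1 := H.quad a ha a' ha' v
    rw [map_sub] at h1
    rw [r_mul]
    have : r a (r a' v) = (r a' v - v) + r a v := by rw [← h1]; abel
    rw [this]; abel
  have hinj : ∀ a ∈ A, ∀ a' ∈ A, ψ (r a v - v) = ψ (r a' v - v) → r a v - v = r a' v - v := by
    intro a ha a' ha' h1
    have h2 : ψ (r (a * a') v - v) = 0 := by
      rw [hadd a ha a' ha', map_add, h1]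
      have h5 : (ψ (r a' v - v) + ψ (r a' v - v)) • v0 = 0 := by rw [add_smul, H.two]
      exact (smul_eq_zero.1 h5).resolve_right H.v0_ne
    have h3 := H.l1 c b hb ψ hbe hψ0 (a * a') (mul_mem ha ha') h2
    have h4 := hadd a ha a' ha'
    rw [h3, sub_self] at h4
    have h5 := H.two (r a' v - v)
    exact add_right_cancel (h4.symm.trans h5.symm)
  choose a' ha' d hd using fun t : F => H.bl a₁ ha₁ t v
  have hne : ∀ t t' : F, r (a' t) v - v = r (a' t') v - v → t = t' := by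
    intro t t' h1
    rw [hd, hd] at h1
    by_contra hne
    have h2 : t - t' ≠ 0 := sub_ne_zero.2 hne
    have h3 : (t - t') • (r a₁ v - v) = (d t' - d t) • v0 := by
      rw [sub_smul, sub_smul, sub_eq_sub_iff_add_eq_add, h1, add_comm]
    refine h₁ ((t - t')⁻¹ * (d t' - d t)) ?_
    rw [mul_smul, ← h3, smul_smul, inv_mul_cancel₀ h2, one_smul]
  have hf : Function.Injective fun t => ψ (r (a' t) v - v) := by
    intro t t' h1
    exact hne t t' (hinj _ (ha' t) _ (ha' t') h1)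
  have hs := Finite.injective_iff_surjective.1 hf
  have h0 : ∀ a ∈ A, (∃ e : F, r a v - v = e • v0) → r a v - v = r (a' 0) v - v := by
    rintro a ha ⟨e, he⟩
    obtain ⟨t, ht⟩ := hs (ψ (r a v - v))
    have h1 := hinj _ (ha' t) _ ha ht
    by_cases ht0 : t = 0
    · rw [← h1, ht0]
    · exfalso
      rw [hd, he] at h1
      have h2 : t • (r a₁ v - v) = (e - d t) • v0 := by rw [sub_smul, ← h1]; abel
      refine h₁ (t⁻¹ * (e - d t)) ?_
      rw [mul_smul, ← h2, smul_smul, inv_mul_cancel₀ ht0, one_smul]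
  have h1 := h0 a₀ ha₀ ⟨φ v, by rw [hae]; abel⟩
  have h2 := h0 1 (one_mem _) ⟨0, by rw [map_one, Module.End.one_apply, sub_self, zero_smul]⟩
  rw [← h2, map_one, Module.End.one_apply, sub_self, hae, add_sub_cancel_left] at h1
  exact hφ ((smul_eq_zero.1 h1).resolve_right H.v0_ne)

/-- `Θ` -/
def Th (r : Representation F C M) (v0 : M) (A : Subgroup C) : Submodule F M where
  carrier := {w | ∀ a ∈ A, ∃ d : F, r a w - w = d • v0}
  zero_mem' := fun a _ => ⟨0, by rw [map_zero, sub_zero, zero_smul]⟩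
  add_mem' := by
    intro x y hx hy a ha
    obtain ⟨d, hd⟩ := hx a ha
    obtain ⟨e, he⟩ := hy a ha
    exact ⟨d + e, by rw [map_add, add_sub_add_comm, hd, he, add_smul]⟩
  smul_mem' := by
    intro t x hx a ha
    obtain ⟨d, hd⟩ := hx a ha
    exact ⟨t * d, by rw [map_smul, ← smul_sub, hd, smul_smul]⟩

/-- the component of `1` -/
def O (r : Representation F C M) (v0 : M) (A : Subgroup C) : Set C :=
  {e | Rel r v0 A 1 e ∨ ∃ m, Rel r v0 A 1 m ∧ Rel r v0 A m e}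

/-- the trick -/
theorem trick {m e : C} (h1 : Rel r v0 A 1 m) (h2 : Rel r v0 A m e) (h3 : ¬ Rel r v0 A 1 e) :
    ∃ (g : C) (t : F), Rel r v0 A 1 g ∧ r g v0 = r e v0 + t • r m v0 := by
  obtain ⟨ψ, ⟨b, hb, hbe⟩, hψ⟩ := h2
  have e1 : r (m * b * m⁻¹ * e) v0 = r e v0 + ψ (r e v0) • r m v0 := by rw [r_mul, hbe]
  refine ⟨m * b * m⁻¹ * e, ψ (r e v0), ?_, e1⟩
  obtain ⟨φ, hφ, hφm⟩ := h1
  refine ⟨φ, hφ, ?_⟩
  have h4 : φ (r e v0) = 0 := by
    by_contra hne
    exact h3 ⟨φ, hφ, hne⟩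
  rw [e1, map_add, map_smul, h4, zero_add, smul_eq_mul]
  exact mul_ne_zero hψ hφm

theorem O_theta {e : C} (he : e ∈ O r v0 A) : r e v0 ∈ Th r v0 A := by
  by_cases h1 : Rel r v0 A 1 e
  · exact H.rel_theta h1
  rcases he with h2 | ⟨m, hm, hme⟩
  · exact absurd h2 h1
  obtain ⟨g, t, hg, hge⟩ := H.trick hm hme h1
  have h2 : r g v0 ∈ Th r v0 A := H.rel_theta hg
  have h3 : r m v0 ∈ Th r v0 A := H.rel_theta hm
  have h4 : r e v0 = r g v0 - t • r m v0 := by rw [hge]; abel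
  rw [h4]
  exact sub_mem h2 ((Th r v0 A).smul_mem t h3)

theorem O_closed {e e' : C} (he : e ∈ O r v0 A) (h : Rel r v0 A e e') : e' ∈ O r v0 A := by
  by_cases h1 : Rel r v0 A 1 e
  · exact Or.inr ⟨e, h1, h⟩
  rcases he with h2 | ⟨m, hm, hme⟩
  · exact absurd h2 h1
  by_cases h3 : Rel r v0 A m e'
  · exact Or.inr ⟨m, hm, h3⟩
  obtain ⟨g, t, hg, hge⟩ := H.trick hm hme h1
  refine Or.inr ⟨g, hg, H.rel_symm ?_⟩
  obtain ⟨χ, hχ, hχe⟩ := H.rel_symm h
  refine ⟨χ, hχ, ?_⟩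
  have h4 : χ (r m v0) = 0 := by
    by_contra hne
    exact h3 (H.rel_symm ⟨χ, hχ, hne⟩)
  rw [hge, map_add, map_smul, h4, smul_zero, add_zero]
  exact hχe

theorem O_st {g e : C} (hg : g ∈ st) (he : g * e ∈ O r v0 A) : e ∈ O r v0 A := by
  rcases he with h1 | ⟨m, hm, hme⟩
  · exact Or.inl ((H.rel_st' hg).1 h1)
  · refine Or.inr ⟨g⁻¹ * m, (H.rel_st' (inv_mem hg)).2 hm, ?_⟩
    have := rel_conj g⁻¹ hme
    rwa [inv_mul_cancel_left] at this

/-- **THEOREM T**, pure form -/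
theorem main (hex : ∃ φ ∈ Ph r v0 A 1, φ ≠ 0) : ∀ a ∈ A, ∀ m, ∃ d : F, r a m - m = d • v0 := by
  -- a neighbour
  obtain ⟨m, hm⟩ : ∃ m, Rel r v0 A 1 m := by
    by_contra hcon
    push Not at hcon
    obtain ⟨φ, hφ, hne⟩ := hex
    apply hne
    refine LinearMap.ext_on_range (v := fun c => r c v0) H.span fun c => ?_
    by_contra h1
    exact hcon c ⟨φ, hφ, h1⟩
  obtain ⟨ψ, hψ, hψ0⟩ := H.rel_symm1 hm
  rw [map_one, Module.End.one_apply] at hψ0
  set N : Submodule F M := Submodule.span F {x | ∃ e, e ∉ O r v0 A ∧ r e v0 = x} with hN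
  have hNst : ∀ g ∈ st, ∀ n ∈ N, r g n ∈ N := by
    intro g hg n hn
    induction hn using Submodule.span_induction with
    | mem x hx =>
      obtain ⟨e, he, rfl⟩ := hx
      refine Submodule.subset_span ⟨g * e, fun h1 => he (H.O_st hg h1), ?_⟩
      rw [r_mul]
    | zero => rw [map_zero]; exact zero_mem _
    | add x y _ _ hx hy => rw [map_add]; exact add_mem hx hy
    | smul t x _ hx => rw [map_smul]; exact N.smul_mem t hx
  have hψN : ∀ n ∈ N, ψ n = 0 := by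
    intro n hn
    induction hn using Submodule.span_induction with
    | mem x hx =>
      obtain ⟨e, he, rfl⟩ := hx
      by_contra hne
      exact he (Or.inr ⟨m, hm, ψ, hψ, hne⟩)
    | zero => rw [map_zero]
    | add x y _ _ hx hy => rw [map_add, hx, hy, add_zero]
    | smul t x _ hx => rw [map_smul, hx, smul_zero]
  have hNA : ∀ n ∈ N, ∀ a ∈ A, r a n = n := by
    by_contra hcon
    push Not at hcon
    obtain ⟨n, hn, a, ha, hne⟩ := hcon
    exact hψ0 (hψN _ (H.fix N hNst ⟨n, hn, a, ha, hne⟩))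
  have htop : (⊤ : Submodule F M) ≤ Th r v0 A := by
    rw [← H.span, Submodule.span_le]
    rintro _ ⟨e, rfl⟩
    by_cases he : e ∈ O r v0 A
    · exact H.O_theta he
    · intro a ha
      refine ⟨0, ?_⟩
      rw [zero_smul, sub_eq_zero]
      exact hNA _ (Submodule.subset_span ⟨e, he, rfl⟩) a ha
  intro a ha m
  exact htop (Submodule.mem_top : m ∈ ⊤) a ha

end

end Mix

end Cfsg.Agent.Omega.NO3S.OneQ
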