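import Cfsg.Agent.Omega.NO3S.OneQ.Alf
import Cfsg.Agent.Omega.NO3S.OneQ.MixTAbs

/-!
# NO-3S, `OneSz` (`q ≥ 4`, `n = 1`): THEOREM T (bb OMEGA #20670, helper512)

* `Co.rz` : the representation of `C_G(Z)` on `MF`;
* `Co.l1` : LEMMA (1); `Co.mix` : the hypotheses of `Mix`;
* **`Co.ntr`** : if `[W_Z, W_Y] ≰ V`, then `A` contains no `λ`-transvection (`NTr V Z`).
-/

set_option autoImplicit false
set_option linter.unusedSectionVars false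

namespace Cfsg.Agent.Omega.NO3S.OneQ

open Subgroup Cfsg.Agent.Omega.NO3S.PT Cfsg.Agent.Omega.NoFF.Basic
open scoped Pointwise

universe u

variable {G : Type u} [Group G]

namespace Co

variable [Finite G] {F : Type*} [Field F] [CharP F 2] {S : Sylow 2 G} {B P V Z : Subgroup G} (h : Co F S B P V Z)

/-- the representation of `C_G(Z)` -/
noncomputable def rz : Representation F (centralizer (Z : Set G)) h.MF := h.rp.comp (Subgroup.inclusion h.C_le_hat)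

theorem rz_eq {g : G} (hg : g ∈ centralizer (Z : Set G)) : h.rz ⟨g, hg⟩ = h.rp ⟨g, h.C_le_hat hg⟩ := rfl

theorem rz_fm {g w : G} (hg : g ∈ centralizer (Z : Set G)) (hw : w ∈ ws V Z) :
    h.rz ⟨g, hg⟩ (h.fm ⟨w, hw⟩) = h.fm ⟨g * w * g⁻¹, h.W_conj (centralizer_le_normalizer _ hg) hw⟩ :=
  h.rp_fm' (h.C_le_hat hg) hw

theorem rz_mul {g k : G} (hg : g ∈ centralizer (Z : Set G)) (hk : k ∈ centralizer (Z : Set G)) (m : h.MF) :
    h.rz ⟨g * k, mul_mem hg hk⟩ m = h.rz ⟨g, hg⟩ (h.rz ⟨k, hk⟩ m) := by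
  have e : (⟨g * k, mul_mem hg hk⟩ : centralizer (Z : Set G)) = ⟨g, hg⟩ * ⟨k, hk⟩ := rfl
  rw [e, map_mul, Module.End.mul_apply]

/-- `[x, w]` in `MF` -/
theorem rz_comm {x w : G} (hx : x ∈ centralizer (Z : Set G)) (hw : w ∈ ws V Z) :
    ∃ hxw : x * w * x⁻¹ * w⁻¹ ∈ ws V Z, h.fm ⟨x * w * x⁻¹ * w⁻¹, hxw⟩ = h.rz ⟨x, hx⟩ (h.fm ⟨w, hw⟩) - h.fm ⟨w, hw⟩ := by
  have h1 := h.W_conj (centralizer_le_normalizer _ hx) hw
  refine ⟨mul_mem h1 (inv_mem hw), ?_⟩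
  rw [h.rz_fm hx hw, eq_sub_iff_add_eq, ← h.fm_mul]
  congr 1
  apply Subtype.ext
  show x * w * x⁻¹ * w⁻¹ * w = x * w * x⁻¹
  group

section

variable {c b : G} (hc : c ∈ centralizer (Z : Set G)) (hb : b ∈ ws V h.Yp)
include hc hb

/-- `c b c⁻¹` fixes `fm w` only if it commutes with `w` modulo `Z` -/
theorem zmem {w : G} (hw : w ∈ ws V Z) (hxC : c * b * c⁻¹ ∈ centralizer (Z : Set G))
    (he : h.rz ⟨c * b * c⁻¹, hxC⟩ (h.fm ⟨w, hw⟩) = h.fm ⟨w, hw⟩) :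
    c * b * c⁻¹ * w * (c * b * c⁻¹)⁻¹ * w⁻¹ ∈ Z := by
  obtain ⟨hxw, e⟩ := h.rz_comm hxC hw
  rw [he, sub_self] at e
  have h1 := (h.fm_eq_zero _).1 e
  have hcw : c⁻¹ * w * c ∈ ws V Z := by
    have := h.W_conj (centralizer_le_normalizer _ (inv_mem hc)) hw
    rwa [inv_inv] at this
  have h2 : b * (c⁻¹ * w * c) * b⁻¹ * (c⁻¹ * w * c)⁻¹ ∈ IV V Z := h.one.comm_mem h.pY h.one.self h.Yp_ne hb hcw
  have h3 := (mem_normalizer_iff.1 (norm_rd V Z (centralizer_le_normalizer _ (inv_mem hc))) _).1 h1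
  have e3 : c⁻¹ * (c * b * c⁻¹ * w * (c * b * c⁻¹)⁻¹ * w⁻¹) * c⁻¹⁻¹ = b * (c⁻¹ * w * c) * b⁻¹ * (c⁻¹ * w * c)⁻¹ := by group
  have h3' : b * (c⁻¹ * w * c) * b⁻¹ * (c⁻¹ * w * c)⁻¹ ∈ rd V Z := e3 ▸ h3
  have h4 := h.rd_inf_I ⟨h3', h2⟩
  have h5 := (mem_normalizer_iff.1 (centralizer_le_normalizer _ hc) _).1 h4
  have e4 : c * (b * (c⁻¹ * w * c) * b⁻¹ * (c⁻¹ * w * c)⁻¹) * c⁻¹ = c * b * c⁻¹ * w * (c * b * c⁻¹)⁻¹ * w⁻¹ := by group
  rwa [e4] at h5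

/-- **(NORM)** : if `x = c b c⁻¹` fixes the vector of the line `cj d V`, it normalises the line -/
theorem norm_line {d : G} (hd : d ∈ centralizer (Z : Set G)) (hxC : c * b * c⁻¹ ∈ centralizer (Z : Set G))
    (he : h.rz ⟨c * b * c⁻¹, hxC⟩ (h.rz ⟨d, hd⟩ h.v0) = h.rz ⟨d, hd⟩ h.v0) :
    c * b * c⁻¹ ∈ normalizer ((PT.cj d V : Subgroup G) : Set G) := by
  rw [← cj_eq_iff]
  refine eq_of_le_of_card_ge ?_ (card_cj _ _).ge
  intro w hw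
  rw [mem_cj] at hw
  set x := c * b * c⁻¹ with hx
  obtain ⟨v, hv, hvw⟩ : ∃ v ∈ V, x⁻¹ * w * x = d * v * d⁻¹ := ⟨_, mem_cj.1 hw, by group⟩
  obtain ⟨s, t, rfl⟩ := (h.mem_V v).1 hv
  have hvW := h.W_V s t
  have hw' : x⁻¹ * w * x ∈ ws V Z := by
    rw [hvw]
    exact h.W_conj (centralizer_le_normalizer _ hd) hvW
  have h1 : h.fm ⟨x⁻¹ * w * x, hw'⟩ = t • h.rz ⟨d, hd⟩ h.v0 := by
    rw [← map_smul, ← h.fm_e s t, h.rz_fm hd hvW]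
    congr 1
    exact Subtype.ext hvw
  have h2 : x * (x⁻¹ * w * x) * x⁻¹ * (x⁻¹ * w * x)⁻¹ ∈ Z :=
    h.zmem hc hb hw' hxC (by rw [h1, map_smul, he])
  have hdZ : PT.cj d Z = Z := cj_eq_iff.2 (centralizer_le_normalizer _ hd)
  have hZ : Z ≤ PT.cj d V := by
    rw [← hdZ]
    exact cj_le_cj.2 h.one.pl.ZV
  have e : w = x * (x⁻¹ * w * x) * x⁻¹ * (x⁻¹ * w * x)⁻¹ * (x⁻¹ * w * x) := by group
  rw [e]
  exact mul_mem (hZ h2) hw

end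

/-- **LEMMA (1)** of #20670 -/
theorem l1 {c b a : G} (hc : c ∈ centralizer (Z : Set G)) (hb : b ∈ ws V h.Yp) (ha : a ∈ ws V h.Yp)
    (hxC : c * b * c⁻¹ ∈ centralizer (Z : Set G)) (haC : a ∈ centralizer (Z : Set G)) (ψ : h.MF →ₗ[F] F)
    (hψ : ∀ m, h.rz ⟨c * b * c⁻¹, hxC⟩ m = m + ψ m • h.rz ⟨c, hc⟩ h.v0) (hψ0 : ψ h.v0 ≠ 0)
    (hs : ψ (h.rz ⟨a, haC⟩ (h.rz ⟨c, hc⟩ h.v0) - h.rz ⟨c, hc⟩ h.v0) = 0) :
    h.rz ⟨a, haC⟩ (h.rz ⟨c, hc⟩ h.v0) = h.rz ⟨c, hc⟩ h.v0 := by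
  by_contra hcon
  set x := c * b * c⁻¹ with hx
  set vc := h.rz ⟨c, hc⟩ h.v0 with hvc
  set s := h.rz ⟨a, haC⟩ vc - vc with hsd
  have hs0 : s ≠ 0 := fun e => hcon (sub_eq_zero.1 e)
  have hav : h.rz ⟨a, haC⟩ vc = vc + s := by rw [hsd]; abel
  have hbb := h.one.sq_W h.pY hb
  have haa := h.one.sq_W h.pY ha
  have hxx : x * x = 1 := by
    have e : x * x = c * (b * b) * c⁻¹ := by rw [hx]; group
    rw [e, hbb]; group
  have hxi : x⁻¹ = x := inv_eq_of_mul_eq_one_left hxx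
  have hai : a⁻¹ = a := inv_eq_of_mul_eq_one_left haa
  have ha0 : h.rz ⟨a, haC⟩ h.v0 = h.v0 := by
    have := h.rp_W_I h.pY ha (h.one.pl.V_le_IV (h.e_memV 0 1))
    exact this
  -- `ψ vc = 0`
  have hψc : ψ vc = 0 := by
    have h1 := hψ vc
    have e : h.rz ⟨x, hxC⟩ vc = vc := by
      have hbC := h.one.W_le_C h.pY hb
      have e1 : (⟨x, hxC⟩ : centralizer (Z : Set G)) = ⟨c, hc⟩ * (⟨b, hbC⟩ * ⟨c, hc⟩⁻¹) :=
        Subtype.ext (by show x = c * (b * c⁻¹); rw [hx]; group)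
      have hb0 : h.rz ⟨b, hbC⟩ h.v0 = h.v0 := h.rp_W_I h.pY hb (h.one.pl.V_le_IV (h.e_memV 0 1))
      rw [e1, hvc, Mix.r_mul, Mix.r_mul, Mix.r_inv_apply', hb0]
    rw [e, left_eq_add] at h1
    refine (smul_eq_zero.1 h1).resolve_right fun h2 => h.v0_ne ?_
    rw [← Mix.r_inv_apply' h.rz ⟨c, hc⟩ h.v0, ← hvc, h2, map_zero]
  -- step C: `s ∉ λ`
  have hslam : s ∉ h.lam := by
    intro h1
    rw [lam, Submodule.mem_span_singleton] at h1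
    obtain ⟨t, ht⟩ := h1
    rw [← ht, map_smul, smul_eq_mul] at hs
    have h2 := (mul_eq_zero.1 hs).resolve_right hψ0
    apply hs0
    rw [← ht, h2, zero_smul]
  -- the conjugate of `v ∈ V` under `z = x a x a`
  set z := x * a * x * a with hz
  have hzC : z ∈ centralizer (Z : Set G) := mul_mem (mul_mem (mul_mem hxC haC) hxC) haC
  have haV : a ∈ centralizer (V : Set G) := h.one.W_le_cent h.pY ha
  have key : ∀ p q : F, ∃ i, ∃ hi : i ∈ IV V Z, z * h.e p q * z⁻¹ = i * h.e p q ∧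
      h.fm ⟨i, h.one.I_le_W' hi⟩ = (q * ψ h.v0) • s := by
    intro p q
    set v := h.e p q with hv
    have hvW : v ∈ ws V Z := h.W_V p q
    obtain ⟨htW, hte⟩ := h.rz_comm hxC hvW
    set t := x * v * x⁻¹ * v⁻¹ with ht
    have hfv : h.fm ⟨v, hvW⟩ = q • h.v0 := h.fm_e p q
    have hft : h.fm ⟨t, htW⟩ = (q * ψ h.v0) • vc := by
      rw [hte, hψ, hfv, map_smul, smul_eq_mul]; abel
    -- `t ∈ cj c V`
    have htc : c⁻¹ * t * c ∈ V := by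
      have hcv : c⁻¹ * v * c ∈ ws V Z := by
        have := h.W_conj (centralizer_le_normalizer _ (inv_mem hc)) hvW
        rwa [inv_inv] at this
      have h2 : b * (c⁻¹ * v * c) * b⁻¹ * (c⁻¹ * v * c)⁻¹ ∈ IV V Z := h.one.comm_mem h.pY h.one.self h.Yp_ne hb hcv
      have e2 : c⁻¹ * t * c = b * (c⁻¹ * v * c) * b⁻¹ * (c⁻¹ * v * c)⁻¹ := by rw [ht, hx]; group
      rw [e2, ← h.fm_mem_lam_I h2]
      have e3 : h.fm ⟨b * (c⁻¹ * v * c) * b⁻¹ * (c⁻¹ * v * c)⁻¹, h.one.I_le_W' h2⟩ =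
          h.rz ⟨c⁻¹, inv_mem hc⟩ (h.fm ⟨t, htW⟩) := by
        rw [h.rz_fm (inv_mem hc) htW]
        congr 1
        apply Subtype.ext
        show b * (c⁻¹ * v * c) * b⁻¹ * (c⁻¹ * v * c)⁻¹ = c⁻¹ * t * c⁻¹⁻¹
        rw [inv_inv, e2]
      have e4 : h.rz ⟨c⁻¹, inv_mem hc⟩ vc = h.v0 := Mix.r_inv_apply' h.rz ⟨c, hc⟩ h.v0
      rw [e3, hft, map_smul, e4]
      exact h.lam.smul_mem _ (Submodule.mem_span_singleton_self _)
    -- `i' = [a, t] ∈ I`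
    have hi' : a * t * a⁻¹ * t⁻¹ ∈ IV V Z := h.one.comm_mem h.pY h.one.self h.Yp_ne ha htW
    set i' := a * t * a⁻¹ * t⁻¹ with hi'd
    have hi'W := h.one.I_le_W' hi'
    have hfi : h.fm ⟨i', hi'W⟩ = (q * ψ h.v0) • s := by
      obtain ⟨hx1, e1⟩ := h.rz_comm haC htW
      have e2 : h.fm ⟨i', hi'W⟩ = h.fm ⟨a * t * a⁻¹ * t⁻¹, hx1⟩ := rfl
      rw [e2, e1, hft, map_smul, hav, smul_add]; abel
    have hj : x * i' * x⁻¹ * i'⁻¹ ∈ Z := by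
      refine h.zmem hc hb hi'W hxC ?_
      rw [hψ, hfi, map_smul, hs, smul_zero, zero_smul, add_zero]
    set j := x * i' * x⁻¹ * i'⁻¹ with hjd
    have hjI : j ∈ IV V Z := h.one.pl.V_le_IV (h.one.pl.ZV hj)
    refine ⟨j * i', mul_mem hjI hi', ?_, ?_⟩
    · have e1 : a * v * a⁻¹ = v := by
        rw [h.one.cent_V haV (h.e_memV p q), mul_inv_cancel_right]
      have e2 : x * v * x⁻¹ = t * v := by rw [ht]; group
      have e3 : a * (t * v) * a⁻¹ = i' * t * v := by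
        have : a * (t * v) * a⁻¹ = (a * t * a⁻¹) * (a * v * a⁻¹) := by group
        rw [this, e1, hi'd]; group
      have e4 : x * t * x⁻¹ = t := by
        have h5 : b * (c⁻¹ * t * c) = c⁻¹ * t * c * b := h.one.cent_V (h.one.W_le_cent h.pY hb) htc
        have h6 : x * t * x⁻¹ = c * (b * (c⁻¹ * t * c) * b⁻¹) * c⁻¹ := by rw [hx]; group
        rw [h6, h5]; group
      have htt : t * t = 1 := h.one.sq_W h.one.self htW
      have e5 : z * v * z⁻¹ = x * (a * (x * (a * v * a⁻¹) * x⁻¹) * a⁻¹) * x⁻¹ := by rw [hz]; group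
      rw [e5, e1, e2, e3]
      have e6 : x * (i' * t * v) * x⁻¹ = j * i' * (x * t * x⁻¹) * (x * v * x⁻¹) := by rw [hjd]; group
      rw [e6, e4, e2]
      calc j * i' * t * (t * v) = j * i' * (t * t) * v := by group
        _ = j * i' * v := by rw [htt, mul_one]
    · have hjW := h.one.I_le_W' hjI
      have e1 : h.fm ⟨j * i', h.one.I_le_W' (mul_mem hjI hi')⟩ = h.fm ⟨j, hjW⟩ + h.fm ⟨i', hi'W⟩ :=
        h.fm_mul ⟨j, hjW⟩ ⟨i', hi'W⟩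
      rw [e1, hfi, (h.fm_eq_zero _).2 (h.Z_le_rd hj), zero_add]
  -- step B
  obtain ⟨i₀, hi₀, he₀, hf₀⟩ := key 0 1
  rw [one_mul] at hf₀
  set u := z * h.e 0 1 * z⁻¹ with hu
  have huI : u ∈ IV V Z := by
    rw [he₀]
    exact mul_mem hi₀ (h.one.pl.V_le_IV (h.e_memV 0 1))
  have hfu : h.fm ⟨u, h.one.I_le_W' huI⟩ = ψ h.v0 • s + h.v0 := by
    have e1 : h.fm ⟨u, h.one.I_le_W' huI⟩ = h.fm (⟨i₀, h.one.I_le_W' hi₀⟩ * ⟨h.e 0 1, h.W_V 0 1⟩) := by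
      congr 1
      exact Subtype.ext he₀
    rw [e1, h.fm_mul, hf₀]
    rfl
  have hzv : h.rz ⟨z, hzC⟩ h.v0 = ψ h.v0 • s + h.v0 := by
    rw [← hfu]
    exact h.rz_fm hzC (h.W_V 0 1)
  -- step C
  have huV : u ∉ V := by
    intro h1
    rw [← h.fm_mem_lam_I huI, hfu] at h1
    have h2 := sub_mem h1 (Submodule.mem_span_singleton_self h.v0 : h.v0 ∈ h.lam)
    rw [add_sub_cancel_right] at h2
    have h3 := h.lam.smul_mem (ψ h.v0)⁻¹ h2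
    rw [smul_smul, inv_mul_cancel₀ hψ0, one_smul] at h3
    exact hslam h3
  -- step D
  obtain ⟨k, hk, hkV, hku⟩ := h.one.pl.F2' h.one.hf h.one.hO huI huV h.pY.cj h.pY.le (h.e_memY 1)
  have hkC : k ∈ centralizer (Z : Set G) := centralizer_le h.one.pl.ZV hkV
  have hdC : k * z ∈ centralizer (Z : Set G) := mul_mem hkC hzC
  set d := k * z with hdd
  have hdv : h.rz ⟨d, hdC⟩ h.v0 = ψ h.v0 • s := by
    have e1 : h.rz ⟨d, hdC⟩ h.v0 = h.rz ⟨k, hkC⟩ (h.fm ⟨u, h.one.I_le_W' huI⟩) := by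
      rw [hfu, ← hzv, ← h.rz_mul hkC hzC]
    rw [e1, h.rz_fm hkC]
    have e2 : k * u * k⁻¹ = h.e 0 1 * u := by rw [← hku]; group
    have e3 : h.fm ⟨k * u * k⁻¹, h.W_conj (centralizer_le_normalizer _ hkC) (h.one.I_le_W' huI)⟩ =
        h.fm (⟨h.e 0 1, h.W_V 0 1⟩ * ⟨u, h.one.I_le_W' huI⟩) := by
      congr 1
      exact Subtype.ext e2
    rw [e3, h.fm_mul, hfu]
    show h.v0 + (ψ h.v0 • s + h.v0) = ψ h.v0 • s
    rw [add_left_comm, h.add_self, add_zero]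
  -- step E
  have hdI : PT.cj d V ≤ IV V Z := by
    intro w hw
    rw [mem_cj] at hw
    obtain ⟨p, q, hpq⟩ := (h.mem_V _).1 hw
    obtain ⟨i, hi, he, -⟩ := key p q
    have e1 : w = k * (z * h.e p q * z⁻¹) * k⁻¹ := by rw [hpq, hdd]; group
    rw [e1, he]
    exact (mem_normalizer_iff.1 (normalizer_le_IV V Z (centralizer_le_normalizer _ hkV)) _).1
      (mul_mem hi (h.one.pl.V_le_IV (h.e_memV p q)))
  -- step F
  have hxN := h.norm_line hc hb hdC hxC (by rw [hdv, hψ, map_smul, hs, smul_zero, zero_smul, add_zero])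
  -- step G
  have hVI : V ≤ PT.cj d (IV V Z) := by
    obtain ⟨L, hL, hYL, hdL⟩ := h.one.exists_line_of h.pY hdC hdI
    have hdZ : PT.cj d Z = Z := cj_eq_iff.2 (centralizer_le_normalizer _ hdC)
    have h1 : h.Yp ≤ ws V (PT.cj d h.Yp) := hYL.trans (le_ws hL hdL)
    have h2 : Z ≤ ws V (PT.cj d h.Yp) := by
      have h3 : Z ≤ PT.cj d V := by
        rw [← hdZ]
        exact cj_le_cj.2 h.one.pl.ZV
      exact h3.trans (le_ws ⟨d, rfl⟩ (cj_le_cj.2 h.pY.le))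
    rw [← h.one.pl.IV_eq h.one.hf h.one.self.cj h.one.self.le h.pY.cj h.pY.le h.Yp_ne.symm, cj_inf, ← ws_cj, ← ws_cj, hdZ]
    refine le_inf h.one.V_le_W' fun v hv => ?_
    obtain ⟨p, hp, q, hq, rfl⟩ := h.one.pl.exists_mul h.one.self.cj h.one.self.le h.pY.cj h.pY.le h.Yp_ne.symm hv
    exact mul_mem (h2 hp) (h1 hq)
  -- step H
  have hadC : d * a * d⁻¹ ∈ centralizer (Z : Set G) := mul_mem (mul_mem hdC haC) (inv_mem hdC)
  have hyC : x * (d * a * d⁻¹) * x⁻¹ ∈ centralizer (Z : Set G) := mul_mem (mul_mem hxC hadC) (inv_mem hxC)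
  have hy0 : h.rz ⟨x * (d * a * d⁻¹) * x⁻¹, hyC⟩ h.v0 = h.v0 := by
    have hn : d⁻¹ * x * d ∈ normalizer (V : Set G) := by
      rw [← cj_eq_iff]
      have h1 := cj_eq_iff.2 hxN
      rw [cj_cj] at h1
      have h2 := congrArg (PT.cj d⁻¹) h1
      rw [cj_cj, cj_cj, inv_mul_cancel, cj_one] at h2
      rwa [← mul_assoc] at h2
    have hnC : d⁻¹ * x * d ∈ centralizer (Z : Set G) := mul_mem (mul_mem (inv_mem hdC) hxC) hdC
    obtain ⟨h3, h4⟩ := h.one.conj_pnt (centralizer_le_normalizer _ hnC) hn h.pY h.Yp_ne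
    have h5 : d⁻¹ * x * d * a * (d⁻¹ * x * d)⁻¹ ∈ ws V (PT.cj (d⁻¹ * x * d) h.Yp) := by
      rw [ws_cj]
      exact conj_mem_cj ha
    have h6 : d⁻¹ * h.e 0 1 * d ∈ IV V Z := mem_cj.1 (hVI (h.e_memV 0 1))
    have h7 := h.one.I_comm_W h3 h6 h5
    have h8 : x * (d * a * d⁻¹) * x⁻¹ * h.e 0 1 * (x * (d * a * d⁻¹) * x⁻¹)⁻¹ = h.e 0 1 := by
      have e1 : x * (d * a * d⁻¹) * x⁻¹ * h.e 0 1 * (x * (d * a * d⁻¹) * x⁻¹)⁻¹ =
          d * ((d⁻¹ * x * d * a * (d⁻¹ * x * d)⁻¹) * (d⁻¹ * h.e 0 1 * d)) * (d⁻¹ * x * d * a * (d⁻¹ * x * d)⁻¹)⁻¹ * d⁻¹ := by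
        group
      rw [e1, ← h7]; group
    have e2 : h.rz ⟨x * (d * a * d⁻¹) * x⁻¹, hyC⟩ h.v0 = _ := h.rz_fm hyC (h.W_V 0 1)
    rw [e2]
    show _ = h.fm ⟨h.e 0 1, h.W_V 0 1⟩
    congr 1
    exact Subtype.ext h8
  -- step I
  have hX2 : ∀ m, h.rz ⟨x, hxC⟩ (h.rz ⟨x, hxC⟩ m) = m := by
    intro m
    rw [← h.rz_mul hxC hxC]
    have e : (⟨x * x, mul_mem hxC hxC⟩ : centralizer (Z : Set G)) = 1 := Subtype.ext hxx
    rw [e, map_one, Module.End.one_apply]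
  have hA2 : ∀ m, h.rz ⟨a, haC⟩ (h.rz ⟨a, haC⟩ m) = m := by
    intro m
    rw [← h.rz_mul haC haC]
    have e : (⟨a * a, mul_mem haC haC⟩ : centralizer (Z : Set G)) = 1 := Subtype.ext haa
    rw [e, map_one, Module.End.one_apply]
  have hzm : ∀ m, h.rz ⟨z, hzC⟩ m = h.rz ⟨x, hxC⟩ (h.rz ⟨a, haC⟩ (h.rz ⟨x, hxC⟩ (h.rz ⟨a, haC⟩ m))) := by
    intro m
    rw [← h.rz_mul hxC haC, ← h.rz_mul (mul_mem hxC haC) hxC, ← h.rz_mul (mul_mem (mul_mem hxC haC) hxC) haC]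
  have hcm : ∀ m, h.rz ⟨x, hxC⟩ (h.rz ⟨a, haC⟩ (h.rz ⟨x, hxC⟩ (h.rz ⟨a, haC⟩ m))) =
      h.rz ⟨a, haC⟩ (h.rz ⟨x, hxC⟩ (h.rz ⟨a, haC⟩ (h.rz ⟨x, hxC⟩ m))) := by
    intro m
    have hab : ∀ m, h.rz ⟨a, haC⟩ (h.rz ⟨x, hxC⟩ (h.rz ⟨a, haC⟩ m)) = m + ψ (h.rz ⟨a, haC⟩ m) • (vc + s) := by
      intro m
      rw [hψ, map_add, map_smul, hA2, hav]
    rw [hab, hab, hψ, hψ, map_add, map_smul, map_add, hψc, hs, map_add, map_smul, hav, map_add ψ _ (ψ m • (vc + s)),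
      map_smul, map_add, hψc, hs]
    simp only [add_zero, smul_zero]
    exact add_right_comm _ _ _
  have hda : ∀ m, h.rz ⟨d * a * d⁻¹, hadC⟩ m = h.rz ⟨a, haC⟩ m := by
    have h1 : ∀ m, h.rz ⟨z, hzC⟩ (h.rz ⟨a, haC⟩ m) = h.rz ⟨a, haC⟩ (h.rz ⟨z, hzC⟩ m) := by
      intro m
      rw [hzm, hA2, hzm, ← hcm, hA2]
    have h2 : ∀ m, h.rz ⟨k, hkC⟩ (h.rz ⟨a, haC⟩ m) = h.rz ⟨a, haC⟩ (h.rz ⟨k, hkC⟩ m) := by
      intro m
      exact congrArg (fun f => f m) (h.yl_A (mem_yl_of h.pY hk hkV) ha)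
    have h3 : ∀ m, h.rz ⟨d, hdC⟩ (h.rz ⟨a, haC⟩ m) = h.rz ⟨a, haC⟩ (h.rz ⟨d, hdC⟩ m) := by
      intro m
      have e1 : ∀ m, h.rz ⟨d, hdC⟩ m = h.rz ⟨k, hkC⟩ (h.rz ⟨z, hzC⟩ m) := fun m => h.rz_mul hkC hzC m
      rw [e1, h1, h2, ← e1]
    intro m
    have e : (⟨d * a * d⁻¹, hadC⟩ : centralizer (Z : Set G)) = ⟨d, hdC⟩ * (⟨a, haC⟩ * ⟨d, hdC⟩⁻¹) :=
      Subtype.ext (by show d * a * d⁻¹ = d * (a * d⁻¹); group)
    rw [e, Mix.r_mul, Mix.r_mul, h3, Mix.r_inv_apply]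
  -- step J
  have hfin : h.rz ⟨x, hxC⟩ (h.rz ⟨a, haC⟩ (h.rz ⟨x, hxC⟩ h.v0)) = h.v0 := by
    have e : (⟨x * (d * a * d⁻¹) * x⁻¹, hyC⟩ : centralizer (Z : Set G)) = ⟨x, hxC⟩ * (⟨d * a * d⁻¹, hadC⟩ * ⟨x, hxC⟩⁻¹) :=
      Subtype.ext (by show x * (d * a * d⁻¹) * x⁻¹ = x * (d * a * d⁻¹ * x⁻¹); group)
    have e2 : h.rz ⟨x, hxC⟩⁻¹ h.v0 = h.rz ⟨x, hxC⟩ h.v0 := by
      rw [← Mix.r_inv_apply' h.rz ⟨x, hxC⟩ (h.rz ⟨x, hxC⟩ h.v0), hX2]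
    rw [e, Mix.r_mul, Mix.r_mul, e2, hda] at hy0
    exact hy0
  have h9 := hzm h.v0
  rw [ha0, hfin, hzv, add_eq_right] at h9
  exact hs0 ((smul_eq_zero.1 h9).resolve_left hψ0)

/-- the group `A` in `C_G(Z)` -/
def AC : Subgroup (centralizer (Z : Set G)) := (ws V h.Yp).subgroupOf _

theorem mem_AC {a : centralizer (Z : Set G)} : a ∈ h.AC ↔ (a : G) ∈ ws V h.Yp := mem_subgroupOf

/-- the hypotheses of `Mix` -/
theorem mix : Mix h.rz h.v0 h.AC ((normalizer (V : Set G)).subgroupOf (centralizer (Z : Set G))) where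
  two := h.add_self
  v0_ne := h.v0_ne
  span := by
    set N := Submodule.span F (Set.range fun c => h.rz c h.v0) with hN
    let D : Subgroup G :=
      { carrier := {w | ∃ hw : w ∈ ws V Z, h.fm ⟨w, hw⟩ ∈ N}
        one_mem' := ⟨one_mem _, by
          have e : h.fm ⟨1, one_mem _⟩ = 0 := h.fm_one
          rw [e]; exact zero_mem _⟩
        mul_mem' := by
          rintro a b ⟨ha, ha'⟩ ⟨hb, hb'⟩
          refine ⟨mul_mem ha hb, ?_⟩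
          have e : h.fm ⟨a * b, mul_mem ha hb⟩ = h.fm ⟨a, ha⟩ + h.fm ⟨b, hb⟩ := h.fm_mul ⟨a, ha⟩ ⟨b, hb⟩
          rw [e]
          exact add_mem ha' hb'
        inv_mem' := by
          rintro a ⟨ha, ha'⟩
          refine ⟨inv_mem ha, ?_⟩
          have e : h.fm ⟨a⁻¹, inv_mem ha⟩ = h.fm ⟨a, ha⟩ := h.fm_inv ⟨a, ha⟩
          rw [e]
          exact ha' }
    have h0 : h.v0 ∈ N := Submodule.subset_span ⟨1, by
      show h.rz 1 h.v0 = h.v0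
      rw [map_one]; rfl⟩
    have hV : V ≤ D := by
      intro v hv
      obtain ⟨p, q, rfl⟩ := (h.mem_V v).1 hv
      exact ⟨h.W_V p q, by rw [h.fm_e]; exact N.smul_mem q h0⟩
    have hNC : ∀ (g : centralizer (Z : Set G)), ∀ n ∈ N, h.rz g n ∈ N := by
      intro g n hn
      induction hn using Submodule.span_induction with
      | mem x hx =>
        obtain ⟨c, rfl⟩ := hx
        exact Submodule.subset_span ⟨g * c, Mix.r_mul _ _ _ _⟩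
      | zero => rw [map_zero]; exact zero_mem _
      | add x y _ _ hx hy => rw [map_add]; exact add_mem hx hy
      | smul t x _ hx => rw [map_smul]; exact N.smul_mem t hx
    have hD : centralizer (Z : Set G) ≤ normalizer (D : Set G) := by
      have key : ∀ g ∈ centralizer (Z : Set G), ∀ w ∈ D, g * w * g⁻¹ ∈ D := by
        rintro g hg w ⟨hw, hwN⟩
        refine ⟨h.W_conj (centralizer_le_normalizer _ hg) hw, ?_⟩
        rw [← h.rz_fm hg hw]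
        exact hNC _ _ hwN
      intro g hg
      rw [mem_normalizer_iff]
      intro w
      refine ⟨key g hg w, fun hw => ?_⟩
      have h1 := key g⁻¹ (inv_mem hg) _ hw
      have e : g⁻¹ * (g * w * g⁻¹) * g⁻¹⁻¹ = w := by group
      rwa [e] at h1
    rw [eq_top_iff]
    rintro m -
    obtain ⟨w, rfl⟩ := h.fm_surj m
    obtain ⟨hw, hwN⟩ := h.W_le_of_V hV hD w.2
    exact hwN
  quad := fun a ha b hb m => h.rp_quad h.pY h.Yp_ne (h.mem_AC.1 ha) (h.mem_AC.1 hb) m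
  fix0 := fun a ha => h.rp_W_I h.pY (h.mem_AC.1 ha) (h.one.pl.V_le_IV (h.e_memV 0 1))
  st_v := by
    rintro ⟨g, hg⟩ hgN
    rw [mem_subgroupOf] at hgN
    obtain ⟨p, q, hpq⟩ := (h.mem_V _).1 ((mem_normalizer_iff.1 hgN _).1 (h.e_memV 0 1))
    have e : h.rz ⟨g, hg⟩ h.v0 = q • h.v0 := by
      have e1 : h.rz ⟨g, hg⟩ h.v0 = _ := h.rz_fm hg (h.W_V 0 1)
      rw [e1, ← h.fm_e p q]
      congr 1
      exact Subtype.ext hpq.symm
    refine ⟨q, ?_, e⟩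
    rintro rfl
    rw [zero_smul] at e
    exact h.v0_ne (by rw [← Mix.r_inv_apply' h.rz ⟨g, hg⟩ h.v0, e, map_zero])
  st_A := by
    rintro ⟨g, hg⟩ hgN ⟨a, haC⟩ ha
    rw [mem_subgroupOf] at hgN
    rw [mem_AC] at ha
    obtain ⟨h3, h4⟩ := h.one.conj_pnt (centralizer_le_normalizer _ hg) hgN h.pY h.Yp_ne
    obtain ⟨k, hk, hkY⟩ := h.one.move h.one.self h3 h.pY h4 h.Yp_ne
    have hkC : k ∈ centralizer (Z : Set G) := kx_le_cent hk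
    have h5 : k * (g * a * g⁻¹) * k⁻¹ ∈ ws V h.Yp := by
      rw [← hkY, ws_cj, ws_cj]
      exact conj_mem_cj (conj_mem_cj ha)
    refine ⟨⟨k * (g * a * g⁻¹) * k⁻¹, h.one.W_le_C h.pY h5⟩, h.mem_AC.2 h5, ?_⟩
    have hk1 : h.rz ⟨k, hkC⟩ = 1 := h.rp_one_of hk _
    have e : (⟨k * (g * a * g⁻¹) * k⁻¹, h.one.W_le_C h.pY h5⟩ : centralizer (Z : Set G)) =
        ⟨k, hkC⟩ * (⟨g, hg⟩ * ⟨a, haC⟩ * ⟨g, hg⟩⁻¹) * ⟨k, hkC⟩⁻¹ := Subtype.ext rfl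
    have hk2 : h.rz ⟨k, hkC⟩⁻¹ = 1 := by
      have := h.rz.map_mul ⟨k, hkC⟩ ⟨k, hkC⟩⁻¹
      rw [mul_inv_cancel, map_one, hk1, one_mul] at this
      exact this.symm
    have e3 : h.rz (⟨k, hkC⟩ * (⟨g, hg⟩ * ⟨a, haC⟩ * ⟨g, hg⟩⁻¹) * ⟨k, hkC⟩⁻¹) = h.rz (⟨g, hg⟩ * ⟨a, haC⟩ * ⟨g, hg⟩⁻¹) := by
      rw [map_mul, map_mul, hk1, hk2, one_mul, mul_one]
    rw [e]
    exact e3.symm
  tv_st := by
    rintro ⟨c, hc⟩ ⟨a, haC⟩ ha he
    rw [mem_AC] at ha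
    rw [mem_subgroupOf]
    have hxC : c * a * c⁻¹ ∈ centralizer (Z : Set G) := mul_mem (mul_mem hc haC) (inv_mem hc)
    have h1 := h.norm_line hc ha (one_mem _) hxC (by
      have e1 : (⟨1, one_mem _⟩ : centralizer (Z : Set G)) = 1 := rfl
      rw [e1, map_one, Module.End.one_apply]
      exact he)
    rwa [cj_one] at h1
  l1 := by
    rintro ⟨c, hc⟩ ⟨b, hbC⟩ hb ψ hψ hψ0 ⟨a, haC⟩ ha hs
    exact h.l1 hc (h.mem_AC.1 hb) (h.mem_AC.1 ha) (mul_mem (mul_mem hc hbC) (inv_mem hc)) haC ψ hψ hψ0 hs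
  bl := by
    rintro ⟨a, haC⟩ ha t m
    rw [mem_AC] at ha
    have hwW := h.sw_inv_W ha
    obtain ⟨x, rfl⟩ := h.fm_surj m
    obtain ⟨w', hw'⟩ := h.fm_surj (t • h.fm ⟨_, hwW⟩)
    have h1 := h.ag_symm w' x
    have h2 := h.ag_symm ⟨_, hwW⟩ x
    have e1 : h.ag ⟨_, hwW⟩ = h.rz ⟨a, haC⟩ := by
      rw [ag, rz_eq]
      congr 1
      apply Subtype.ext
      show h.sw * (h.sw⁻¹ * a * h.sw) * h.sw⁻¹ = a
      group
    refine ⟨⟨h.sw * w' * h.sw⁻¹, h.one.W_le_C h.pY (h.sw_W w'.2)⟩, h.mem_AC.2 (h.sw_W w'.2), ?_⟩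
    have e2 : h.rz ⟨h.sw * w' * h.sw⁻¹, h.one.W_le_C h.pY (h.sw_W w'.2)⟩ = h.ag w' := rfl
    rw [e2, ← e1]
    have h3 := sub_mem (h.lam.smul_mem t h2) h1
    have h4 : h.ag w' (h.fm x) - h.fm x - t • (h.ag ⟨_, hwW⟩ (h.fm x) - h.fm x) ∈ h.lam := by
      have e3 : t • ((h.ag x (h.fm ⟨_, hwW⟩) - h.fm ⟨_, hwW⟩) - (h.ag ⟨_, hwW⟩ (h.fm x) - h.fm x)) -
          ((h.ag x (h.fm w') - h.fm w') - (h.ag w' (h.fm x) - h.fm x)) =
          h.ag w' (h.fm x) - h.fm x - t • (h.ag ⟨_, hwW⟩ (h.fm x) - h.fm x) := by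
        rw [hw', map_smul]
        have e4 : ∀ (p q : h.MF), t • (p - q) = t • p - t • q := fun p q => smul_sub _ _ _
        rw [e4, e4]
        abel
      rw [← e3]
      exact h3
    rw [lam, Submodule.mem_span_singleton] at h4
    obtain ⟨d, hd⟩ := h4
    exact ⟨d, by rw [hd]; abel⟩
  fix := by
    rintro N hN ⟨n, hn, ⟨a, haC⟩, ha, hne⟩
    rw [mem_AC] at ha
    let D : Subgroup G :=
      { carrier := {w | ∃ hw : w ∈ IV V Z, h.fm ⟨w, h.one.I_le_W' hw⟩ ∈ N}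
        one_mem' := ⟨one_mem _, by
          have e : h.fm ⟨1, h.one.I_le_W' (one_mem _)⟩ = 0 := h.fm_one
          rw [e]; exact zero_mem _⟩
        mul_mem' := by
          rintro a b ⟨ha, ha'⟩ ⟨hb, hb'⟩
          refine ⟨mul_mem ha hb, ?_⟩
          have e : h.fm ⟨a * b, h.one.I_le_W' (mul_mem ha hb)⟩ = h.fm ⟨a, h.one.I_le_W' ha⟩ + h.fm ⟨b, h.one.I_le_W' hb⟩ :=
            h.fm_mul ⟨a, h.one.I_le_W' ha⟩ ⟨b, h.one.I_le_W' hb⟩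
          rw [e]
          exact add_mem ha' hb'
        inv_mem' := by
          rintro a ⟨ha, ha'⟩
          refine ⟨inv_mem ha, ?_⟩
          have e : h.fm ⟨a⁻¹, h.one.I_le_W' (inv_mem ha)⟩ = h.fm ⟨a, h.one.I_le_W' ha⟩ := h.fm_inv ⟨a, h.one.I_le_W' ha⟩
          rw [e]
          exact ha' }
    have hDI : D ≤ IV V Z := fun w hw => hw.1
    have hDB : B ≤ normalizer (D : Set G) := by
      have key : ∀ g ∈ B, ∀ w ∈ D, g * w * g⁻¹ ∈ D := by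
        rintro g hg w ⟨hw, hwN⟩
        have hgC := h.one.B_le_C hg
        refine ⟨(mem_normalizer_iff.1 (normalizer_le_IV V Z (h.one.B_norm_V hg)) _).1 hw, ?_⟩
        have e : h.rz ⟨g, hgC⟩ (h.fm ⟨w, h.one.I_le_W' hw⟩) = _ := h.rz_fm hgC (h.one.I_le_W' hw)
        rw [← e]
        exact hN _ (mem_subgroupOf.2 (h.one.B_norm_V hg)) _ hwN
      intro g hg
      rw [mem_normalizer_iff]
      intro w
      refine ⟨key g hg w, fun hw => ?_⟩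
      have h1 := key g⁻¹ (inv_mem hg) _ hw
      have e : g⁻¹ * (g * w * g⁻¹) * g⁻¹⁻¹ = w := by group
      rwa [e] at h1
    have hDZ : ¬ D ≤ Z := by
      intro h1
      obtain ⟨w, rfl⟩ := h.fm_surj n
      obtain ⟨u, hu, hu', e⟩ := h.rp_W h.pY h.Yp_ne ha w
      have h2 : u ∈ D := by
        refine ⟨hu, ?_⟩
        rw [← e]
        have h3 : h.rz ⟨a, haC⟩ (h.fm w) ∈ N := by
          refine hN _ (mem_subgroupOf.2 ?_) _ hn
          exact centralizer_le_normalizer _ (h.one.W_le_cent h.pY ha)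
        exact sub_mem h3 hn
      have h3 := (h.fm_eq_zero ⟨u, h.one.I_le_W' hu⟩).2 (h.Z_le_rd (h1 h2))
      rw [h3, sub_eq_zero] at e
      exact hne e
    obtain ⟨v, ⟨hvI, hvN⟩, hvV, hvZ⟩ := h.one.fix_sub hDI hDB hDZ
    obtain ⟨p, q, rfl⟩ := (h.mem_V v).1 hvV
    have hq : q ≠ 0 := fun e => hvZ (h.e_memZ_iff.2 e)
    have e : h.fm ⟨h.e p q, h.one.I_le_W' hvI⟩ = q • h.v0 := h.fm_e p q
    rw [e] at hvN
    have h1 := N.smul_mem q⁻¹ hvN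
    rwa [smul_smul, inv_mul_cancel₀ hq, one_smul] at h1

include h in
/-- **THEOREM T** : if `[W_Z, W_Y] ≰ V`, then `A` contains no `λ`-transvection -/
theorem ntr {Y : Subgroup G} (hY : Pnt V Z Y) (hne : Y ≠ Z)
    (hnt : ∃ w ∈ ws V Z, ∃ u ∈ ws V Y, w * u * w⁻¹ * u⁻¹ ∉ V) : NTr V Z := by
  intro T hT hTZ u hu huV
  by_contra hcon
  have hFin := h.finF
  have hMfin : Finite h.MF := Finite.of_surjective h.fm h.fm_surj
  -- move `T` to `Yp`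
  obtain ⟨k, hk, hkT⟩ := h.one.move h.one.self hT h.pY hTZ h.Yp_ne
  have hkN := h.one.K_norm h.one.self hk
  have hkZ := centralizer_le_normalizer _ (kx_le_cent hk)
  set a := k * u * k⁻¹ with had
  have ha : a ∈ ws V h.Yp := by
    rw [← hkT, ws_cj]
    exact conj_mem_cj hu
  have haC := h.one.W_le_C h.pY ha
  have haV : ∀ w ∈ ws V Z, a * w * a⁻¹ * w⁻¹ ∈ V := by
    intro w hw
    have h1 : k⁻¹ * w * k ∈ ws V Z := by
      have := h.W_conj (inv_mem hkZ) hw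
      rwa [inv_inv] at this
    have h2 := (mem_normalizer_iff.1 hkN _).1 (huV _ h1)
    have e : k * (u * (k⁻¹ * w * k) * u⁻¹ * (k⁻¹ * w * k)⁻¹) * k⁻¹ = a * w * a⁻¹ * w⁻¹ := by rw [had]; group
    rwa [e] at h2
  have haK : a ∉ kx V Z := by
    intro h1
    apply hcon
    have h2 : k⁻¹ * a * k ∈ kx V Z := h.K_conj hkZ h1
    have e : k⁻¹ * a * k = u := by rw [had]; group
    rwa [e] at h2
  have hlam : ∀ m, h.rz ⟨a, haC⟩ m - m ∈ h.lam := by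
    intro m
    obtain ⟨w, rfl⟩ := h.fm_surj m
    obtain ⟨v, hv, hv', e⟩ := h.rp_W h.pY h.Yp_ne ha w
    have e1 : h.rz ⟨a, haC⟩ (h.fm w) - h.fm w = _ := e
    rw [e1, h.fm_mem_lam_I hv, hv']
    exact haV w w.2
  obtain ⟨f, hf⟩ : ∃ f : h.MF →ₗ[F] F, f h.v0 = 1 := by
    obtain ⟨g, hg⟩ : ∃ g : Module.Dual F h.MF, g h.v0 ≠ 0 := by
      by_contra hc
      push Not at hc
      exact h.v0_ne ((Module.forall_dual_apply_eq_zero_iff F h.v0).1 hc)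
    exact ⟨(g h.v0)⁻¹ • g, by rw [LinearMap.smul_apply, smul_eq_mul, inv_mul_cancel₀ hg]⟩
  set φ : h.MF →ₗ[F] F := f ∘ₗ (h.rz ⟨a, haC⟩ - 1) with hφ
  have hφe : ∀ m, h.rz ⟨a, haC⟩ m = m + φ m • h.v0 := by
    intro m
    have h1 := hlam m
    rw [lam, Submodule.mem_span_singleton] at h1
    obtain ⟨t, ht⟩ := h1
    have h2 : φ m = t := by
      rw [hφ, LinearMap.comp_apply, LinearMap.sub_apply, Module.End.one_apply, ← ht, map_smul, hf, smul_eq_mul, mul_one]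
    rw [h2, ht]; abel
  have hφ0 : φ ≠ 0 := by
    intro h0
    apply haK
    rw [mem_kx]
    refine ⟨fun z hz => (mem_centralizer_iff.1 haC z hz).symm, fun w hw => ?_⟩
    have h1 := h.one.comm_mem h.pY h.one.self h.Yp_ne ha hw
    obtain ⟨hx, e⟩ := h.rz_comm haC hw
    rw [hφe, h0, LinearMap.zero_apply, zero_smul, add_zero, sub_self] at e
    exact h.rd_inf_I ⟨(h.fm_eq_zero _).1 e, h1⟩
  have hmain := h.mix.main ⟨φ, ⟨⟨a, haC⟩, h.mem_AC.2 ha, fun m => by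
    have e : (1 : centralizer (Z : Set G)) * ⟨a, haC⟩ * 1⁻¹ = ⟨a, haC⟩ := by group
    rw [e, map_one, Module.End.one_apply]
    exact hφe m⟩, hφ0⟩
  -- the contradiction
  obtain ⟨w, hw, v, hv, hwv⟩ := hnt
  apply hwv
  obtain ⟨l, hl, hlY⟩ := h.one.move h.one.self hY h.pY hne h.Yp_ne
  have hlN := h.one.K_norm h.one.self hl
  have hlZ := centralizer_le_normalizer _ (kx_le_cent hl)
  have hv' : l * v * l⁻¹ ∈ ws V h.Yp := by
    rw [← hlY, ws_cj]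
    exact conj_mem_cj hv
  have hw' : l * w * l⁻¹ ∈ ws V Z := h.W_conj hlZ hw
  obtain ⟨d, hd⟩ := hmain ⟨l * v * l⁻¹, h.one.W_le_C h.pY hv'⟩ (h.mem_AC.2 hv') (h.fm ⟨_, hw'⟩)
  obtain ⟨i, hi, hi', e⟩ := h.rp_W h.pY h.Yp_ne hv' ⟨_, hw'⟩
  have e1 : h.rz ⟨l * v * l⁻¹, h.one.W_le_C h.pY hv'⟩ (h.fm ⟨_, hw'⟩) - h.fm ⟨_, hw'⟩ = _ := e
  rw [e1] at hd
  have h1 : h.fm ⟨i, h.one.I_le_W' hi⟩ ∈ h.lam := by
    rw [hd]
    exact h.lam.smul_mem d (Submodule.mem_span_singleton_self _)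
  rw [h.fm_mem_lam_I hi, hi'] at h1
  have h2 := (mem_normalizer_iff.1 (inv_mem hlN) _).1 (inv_mem h1)
  have e2 : l⁻¹ * (l * v * l⁻¹ * (l * w * l⁻¹) * (l * v * l⁻¹)⁻¹ * (l * w * l⁻¹)⁻¹)⁻¹ * l⁻¹⁻¹ = w * v * w⁻¹ * v⁻¹ := by
    group
  rwa [e2] at h2

end Co

end Cfsg.Agent.Omega.NO3S.OneQ
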