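import Cfsg.Agent.Omega.Lie.LemmaTComp

/-!
# THEOREM W (#17961), section 2, abstract part

`norm_of_o2` : `A` is an elementary abelian 2-group normalised by a Sylow 2-subgroup of `H`, `O₂(H) = 1`, `L` is a component of
even order, `a ∈ A` and `A ≤ O₂(C_H(a))`.  Then `L^a = L`.
-/

set_option autoImplicit false
set_option linter.unusedSectionVars false

namespace Cfsg.Agent.Omega.NO3S.OneQ

open Cfsg Subgroup Cfsg.Agent.SignalizersComponents.Components

variable {H : Type*} [Group H]

theorem norm_of_o2 [Finite H] {A : Subgroup H} {S : Sylow 2 H} (hsq : ∀ a ∈ A, a * a = 1)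
    (hSA : ∀ s ∈ (S : Subgroup H), ∀ a ∈ A, s * a * s⁻¹ ∈ A) (hO : pCore 2 H = ⊥) {L : Subgroup H}
    (hL : IsComponent L) (h2 : 2 ∣ Nat.card L) {a : H} (ha : a ∈ A)
    (hA : A ≤ (pCore 2 (centralizer ({a} : Set H))).map (centralizer ({a} : Set H)).subtype) :
    L.map (MulAut.conj a).toMonoidHom = L := by
  by_contra hne
  have hf2 : Fact (Nat.Prime 2) := ⟨Nat.prime_two⟩
  have hai : a⁻¹ = a := inv_eq_of_mul_eq_one_left (hsq a ha)
  have hcomm : ∀ x ∈ L, ∀ y ∈ L, x * (a * y * a⁻¹) = (a * y * a⁻¹) * x := by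
    intro x hx y hy
    have h1 := component_le_centralizer_of_ne hL (isComponent_conj a hL) (Ne.symm hne) hx
    exact (mem_centralizer_iff.1 h1 (a * y * a⁻¹) ⟨y, hy, rfl⟩).symm
  let d : L →* centralizer ({a} : Set H) :=
    { toFun := fun f => ⟨f * (a * f * a⁻¹), by
        rw [mem_centralizer_singleton_iff]
        have h1 := hcomm f f.2 f f.2
        calc (f : H) * (a * f * a⁻¹) * a = (a * f * a⁻¹ * f) * a := by rw [h1]
          _ = a * (f * (a * f * a⁻¹)) := by rw [hai]; group⟩
      map_one' := Subtype.ext (by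
        show (1 : H) * (a * 1 * a⁻¹) = 1
        group)
      map_mul' := fun f g => Subtype.ext (by
        show (f * g : H) * (a * (f * g) * a⁻¹) = f * (a * f * a⁻¹) * (g * (a * g * a⁻¹))
        have h1 := hcomm g g.2 f f.2
        calc (f * g : H) * (a * (f * g) * a⁻¹) = f * (g * (a * f * a⁻¹)) * (a * g * a⁻¹) := by group
          _ = f * ((a * f * a⁻¹) * g) * (a * g * a⁻¹) := by rw [h1]
          _ = _ := by group) }
  obtain ⟨s, hsL, hsS, hs1, hss⟩ := Omega.Lie.LemmaT.exists_involution S hL.1 h2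
  have hsi : s⁻¹ = s := inv_eq_of_mul_eq_one_left hss
  have hb : s * (a * s * a⁻¹) ∈ A := by
    have h1 := mul_mem (hSA s hsS a ha) (inv_mem ha)
    rw [hsi] at h1
    have e : s * a * s * a⁻¹ = s * (a * s * a⁻¹) := by group
    rwa [e] at h1
  have hsN : (⟨s, hsL⟩ : L) ∈ (pCore 2 (centralizer ({a} : Set H))).comap d := by
    obtain ⟨c, hc, hcb⟩ := hA hb
    rw [mem_comap]
    have e : d ⟨s, hsL⟩ = c := Subtype.ext hcb.symm
    rw [e]
    exact hc
  have hNn : ((pCore 2 (centralizer ({a} : Set H))).comap d).Normal :=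
    (Cfsg.Agent.Lib.Cores.pCore_normal (G := centralizer ({a} : Set H)) 2).comap d
  rcases quasisimple_normal hL.2 _ hNn with h1 | h1
  · -- `L` is solvable
    apply quasisimple_not_isSolvable hL.2
    have hp : IsPGroup 2 (pCore 2 (centralizer ({a} : Set H))) := Cfsg.Agent.Lib.Cores.pCore_isPGroup 2
    have hd : ∀ f : L, d f ∈ pCore 2 (centralizer ({a} : Set H)) := fun f => by
      have h3 : f ∈ (pCore 2 (centralizer ({a} : Set H))).comap d := by rw [h1]; exact mem_top _
      exact h3
    let d' : L →* pCore 2 (centralizer ({a} : Set H)) := d.codRestrict _ hd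
    have hnil : Group.IsNilpotent (pCore 2 (centralizer ({a} : Set H))) := hp.isNilpotent
    have hsol : Group.IsSolvable (pCore 2 (centralizer ({a} : Set H))) := inferInstance
    have hker : Group.IsSolvable d'.ker := by
      have h4 : ∀ x ∈ d'.ker, ∀ y : L, x * y = y * x := by
        intro x hx y
        have h5 : d x = 1 := congrArg Subtype.val (MonoidHom.mem_ker.1 hx)
        have h6 : (x : H) * (a * x * a⁻¹) = 1 := congrArg Subtype.val h5
        have h7 : (x : H) = (a * x * a⁻¹)⁻¹ := eq_inv_of_mul_eq_one_left h6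
        have h8 := hcomm y y.2 x x.2
        apply Subtype.ext
        show (x : H) * y = y * x
        rw [h7]
        exact ((show Commute (y : H) (a * x * a⁻¹) from h8).inv_right).symm.eq
      exact Group.isSolvable_of_comm fun x y => Subtype.ext (h4 x x.2 y)
    exact Group.isSolvable_of_ker_le_range d'.ker.subtype d' (by rw [range_subtype])
  · apply hs1
    refine (Omega.Lie.LemmaT.comp_of_isComponent hL hO).cen s hsL hss fun y hy => ?_
    exact (congrArg Subtype.val (mem_center_iff.1 (h1 hsN) ⟨y, hy⟩)).symm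

end Cfsg.Agent.Omega.NO3S.OneQ
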