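import Cfsg.Agent.Omega.NO3S.OneQ.Tor
import Cfsg.Agent.Omega.NO3S.OneQ.FitEnd
import Cfsg.Agent.Omega.NO3S.OneQ.PComp
import Cfsg.Agent.Involutions.BaerSuzuki

/-!
# THEOREM W (#17961), sections 1, 2: LEMMA CP', COROLLARY BS, `A` normalises the components

`R : QRep V Z M H`, `A = R.img (ws V Y)`.

* `One.cp` (**CP'**) : `f ∈ H` of odd order inverted by `a ∈ A`, `λ^f ≤ Ī` ⟹ `f = 1`;
* `One.bs` (**BS**) : `A ≤ X ≤ H`, `λ^X ≤ Ī` ⟹ `A ≤ O₂(X)`;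
* `One.bs_cent` : `λ ≤ [M, a]` ⟹ `A ≤ O₂(C_H(a))`;
* `Co.lam_le` : `[E_Z, u] ≠ 1`, `u ∈ W_Y` ⟹ `V ≤ [W_Z, u] Z`;
* `One.comm_V_of` : `[E_Z, W_Y] = 1` ⟹ `[W_Z, W_Y] ≤ V`;
* `Co.norm_comp` : if `[W_Z, W_Y] ≰ V`, then `A` normalises every component of even order of `H`.
-/

set_option autoImplicit false
set_option linter.unusedSectionVars false

namespace Cfsg.Agent.Omega.NO3S.OneQ

open Subgroup Cfsg.Agent.Omega.NO3S.PT Cfsg.Agent.Omega.NoFF.Basic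
open scoped Pointwise

universe u

variable {G : Type u} [Group G]

namespace One

variable [Finite G] {S : Sylow 2 G} {B P V Z : Subgroup G} (h : One S B P V Z)
include h

/-- `W_z ≤ C(L)` for a point `z` of a line `L` -/
theorem W_le_line {L z : Subgroup G} (hL : IsCj V L) (hz : IsCj Z z) (hzL : z ≤ L) :
    ws V z ≤ centralizer (L : Set G) := by
  obtain ⟨g, rfl⟩ := hL
  have h1 : Pnt V Z (cj g⁻¹ z) := ⟨hz.cj _, by rw [cj_le_iff, inv_inv]; exact hzL⟩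
  have h2 := h.W_le_cent h1
  intro w hw
  have h3 : g⁻¹ * w * g ∈ ws V (cj g⁻¹ z) := by
    rw [ws_cj, mem_cj, inv_inv]
    have e : g * (g⁻¹ * w * g) * g⁻¹ = w := by group
    rw [e]; exact hw
  rw [← cj_centralizer, mem_cj]
  exact h2 h3

/-- the points `Y` of `V` and `cj c Y`, `c ∈ C_G(Z)`, are on a line if `cj c V ≤ I` -/
theorem exists_line_of {Y : Subgroup G} (hY : Pnt V Z Y) {c : G} (hc : c ∈ centralizer (Z : Set G))
    (hcV : cj c V ≤ IV V Z) : ∃ L, IsCj V L ∧ Y ≤ L ∧ cj c Y ≤ L := by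
  have hcZ : cj c Z = Z := cj_eq_iff.2 (centralizer_le_normalizer _ hc)
  by_cases hYV : cj c Y ≤ V
  · exact ⟨V, ⟨1, (cj_one V).symm⟩, hY.le, hYV⟩
  obtain ⟨u, hu, hu1⟩ := h.pl.pt_ne_bot (hY.cj.cj c)
  have huI : u ∈ IV V Z := hcV (cj_le_cj.2 hY.le hu)
  have huV : u ∉ V := by
    intro e
    obtain ⟨T, hT, hTV, huT⟩ := h.pl.exists_point e hu1
    exact hYV (h.pl.pts_eq (hY.cj.cj c) hT hu huT hu1 ▸ hTV)
  obtain ⟨x, -, -, hxu, hxZ, -⟩ := h.pl.F2_swap h.hf h.hO huI huV h.self.cj h.self.le hY.cj hY.le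
  have h2 : cj x (cj c Y) = cj c Y := cj_eq_iff.2 (h.pl.norm_of_comm (hY.cj.cj c) hu hu1 hxu)
  refine ⟨cj x (cj c V), ⟨x * c, by rw [cj_cj]⟩, ?_, ?_⟩
  · rw [← hxZ, ← hcZ]
    have h3 : cj c Z ≤ cj c V := cj_le_cj.2 h.pl.ZV
    rw [hcZ] at h3 ⊢
    exact cj_le_cj.2 h3
  · rw [← h2]
    exact cj_le_cj.2 (cj_le_cj.2 hY.le)

variable {M H : Type u} [AddCommGroup M] [Group H] [DistribMulAction H M] (R : QRep V Z M H)
variable {Y : Subgroup G} (hY : Pnt V Z Y) (hne : Y ≠ Z)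

theorem I_le_W' : IV V Z ≤ ws V Z := h.I_le_W h.self

theorem Z_le_I : Z ≤ IV V Z := h.pl.ZV.trans h.pl.V_le_IV

/-- **LEMMA CP'** -/
theorem cp (hY : Pnt V Z Y) {f a : H} (hfo : Odd (orderOf f)) (ha : a ∈ R.img (ws V Y))
    (hinv : a * f * a⁻¹ = f⁻¹) (hV : ∀ v ∈ R.dn V, f • v ∈ R.dn (IV V Z)) : f = 1 := by
  have h2 : Fact (Nat.Prime 2) := ⟨Nat.prime_two⟩
  obtain ⟨c, hc, rfl⟩ := R.phi_surj f
  have hcV : cj c V ≤ IV V Z := by
    intro v hv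
    rw [mem_cj] at hv
    have h1 := hV _ ((h.mem_lam R).mpr ⟨_, hv, rfl⟩)
    have e : c * (c⁻¹ * v * c) * c⁻¹ = v := by group
    rw [R.act c hc _ (h.V_le_W' hv), e, R.pi_mem_dn h.Z_le_I h.I_le_W'] at h1
    · exact h1
    · rw [← e]
      exact (mem_normalizer_iff.1 (h.C_norm_W hc) _).1 (h.V_le_W' hv)
  obtain ⟨L, hL, hYL, hcL⟩ := h.exists_line_of hY hc hcV
  -- `W_{cY}` normalises `W_Y`
  have hW1 : ws V (cj c Y) ≤ normalizer ((ws V Y : Subgroup G) : Set G) :=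
    ((h.W_le_line hL (hY.cj.cj c) hcL).trans (centralizer_le hYL)).trans
      ((centralizer_le_normalizer _).trans (normalizer_le_ws V Y))
  have hWc : ws V (cj c Y) = cj c (ws V Y) := by rw [ws_cj]
  have hWC : ws V (cj c Y) ≤ centralizer (Z : Set G) := by
    rw [hWc, cj_le_iff]
    have h3 : cj c⁻¹ (centralizer (Z : Set G)) = centralizer (Z : Set G) := by
      rw [cj_eq_iff]; exact Subgroup.le_normalizer (inv_mem hc)
    rw [h3]
    exact h.W_le_C hY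
  have hYC := h.W_le_C hY
  have hpY : IsPGroup 2 (ws V Y) := fun w => ⟨1, by
    rw [pow_one, pow_two]
    exact Subtype.ext (h.sq_W hY w.2)⟩
  have hpc : IsPGroup 2 (ws V (cj c Y)) := by rw [hWc]; exact hpY.map _
  have hp : IsPGroup 2 (ws V (cj c Y) ⊔ ws V Y : Subgroup G) := hpc.to_sup_of_normal_right' hpY hW1
  have hsC : ws V (cj c Y) ⊔ ws V Y ≤ centralizer (Z : Set G) := sup_le hWC hYC
  have hpI : IsPGroup 2 (R.img (ws V (cj c Y) ⊔ ws V Y)) := by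
    have h4 : IsPGroup 2 ((ws V (cj c Y) ⊔ ws V Y : Subgroup G).subgroupOf (centralizer (Z : Set G))) :=
      hp.comap_of_injective _ (subtype_injective _)
    exact h4.map _
  obtain ⟨w, hw, rfl⟩ := (R.mem_img hYC).mp ha
  have hwC := hYC hw
  have hff : R.phi c * R.phi c ∈ R.img (ws V (cj c Y) ⊔ ws V Y) := by
    rw [R.mem_img hsC]
    refine ⟨c * w * c⁻¹ * w⁻¹, ?_, ?_⟩
    · refine mul_mem (mem_sup_left ?_) (mem_sup_right (inv_mem hw))
      rw [hWc]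
      exact conj_mem_cj hw
    · have e1 : R.phi w * (R.phi c)⁻¹ * (R.phi w)⁻¹ = R.phi c := by
        have := congrArg (fun t => t⁻¹) hinv
        simp only [mul_inv_rev, inv_inv] at this
        rw [mul_assoc]; exact this
      rw [R.phi_mul _ (mul_mem (mul_mem hc hwC) (inv_mem hc)) _ (inv_mem hwC), R.phi_mul _ (mul_mem hc hwC) _ (inv_mem hc),
        R.phi_mul _ hc _ hwC, R.phi_inv hc, R.phi_inv hwC]
      calc R.phi c * R.phi w * (R.phi c)⁻¹ * (R.phi w)⁻¹ = R.phi c * (R.phi w * (R.phi c)⁻¹ * (R.phi w)⁻¹) := by group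
        _ = _ := by rw [e1]
  obtain ⟨k, hk⟩ := hpI ⟨_, hff⟩
  have hk' : (R.phi c * R.phi c) ^ 2 ^ k = 1 := congrArg Subtype.val hk
  rw [← pow_two, ← pow_mul, ← pow_succ'] at hk'
  have h5 : orderOf (R.phi c) ∣ 2 ^ (k + 1) := orderOf_dvd_of_pow_eq_one hk'
  have h6 : orderOf (R.phi c) = 1 := Nat.Coprime.eq_one_of_dvd (Nat.Coprime.pow_right _ (Nat.coprime_two_right.mpr hfo)) h5
  rwa [orderOf_eq_one_iff] at h6

/-- **COROLLARY BS** -/
theorem bs [Finite H] (hY : Pnt V Z Y) {X : Subgroup H} (hA : R.img (ws V Y) ≤ X)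
    (hV : ∀ x ∈ X, ∀ v ∈ R.dn V, x • v ∈ R.dn (IV V Z)) : R.img (ws V Y) ≤ (Cfsg.pCore 2 X).map X.subtype := by
  intro a ha
  have haX := hA ha
  refine ⟨⟨a, haX⟩, ?_, rfl⟩
  have haa : a * a = 1 := by
    have := (h.elabA R hY).2 a ha
    rwa [pow_two] at this
  have key : IsPGroup 2 (Subgroup.normalClosure {(⟨a, haX⟩ : X)} : Subgroup X) := by
    by_contra hcon
    obtain ⟨f, hf1, hfo, hfi⟩ := Involutions.BaerSuzuki.exists_odd_inverted (⟨a, haX⟩ : X) (Subtype.ext haa) hcon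
    apply hf1
    apply Subtype.ext
    refine h.cp R hY (f := (f : H)) (a := a) ?_ ha ?_ (hV f f.2)
    · rwa [Subgroup.orderOf_coe]
    · exact congrArg Subtype.val hfi
  exact (le_sSup ⟨Subgroup.normalClosure_normal, key⟩ : Subgroup.normalClosure {(⟨a, haX⟩ : X)} ≤ Cfsg.pCore 2 X)
    (Subgroup.subset_normalClosure (by simp))

/-- `λ ≤ [M, a]` ⟹ `A ≤ O₂(C_H(a))` -/
theorem bs_cent [Finite H] (hY : Pnt V Z Y) (hne : Y ≠ Z) {a : H} (ha : a ∈ R.img (ws V Y))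
    (hl : ∀ v ∈ R.dn V, ∃ m : M, v = a • m - m) :
    R.img (ws V Y) ≤ (Cfsg.pCore 2 (centralizer ({a} : Set H))).map (centralizer ({a} : Set H)).subtype := by
  refine h.bs R hY ?_ ?_
  · intro b hb
    rw [mem_centralizer_singleton_iff]
    exact congrArg Subtype.val ((h.elabA R hY).1.is_comm.comm ⟨b, hb⟩ ⟨a, ha⟩)
  · intro x hx v hv
    rw [mem_centralizer_singleton_iff] at hx
    obtain ⟨m, rfl⟩ := hl v hv
    have e : x • (a • m - m) = a • (x • m) - x • m := by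
      rw [smul_sub, ← mul_smul, hx, mul_smul]
    rw [e]
    obtain ⟨w, hw, hwm⟩ := R.pi_surj (x • m)
    obtain ⟨u, hu, rfl⟩ := (R.mem_img (h.W_le_C hY)).mp ha
    rw [← hwm, ← R.pi_comm h.ok (h.W_le_C hY hu) hw]
    have h1 : u * w * u⁻¹ * w⁻¹ ∈ IV V Z := h.comm_mem hY h.self hne hu hw
    exact (R.mem_dn h.I_le_W').mpr ⟨_, h1, rfl⟩

end One

namespace One

variable [Finite G] {S : Sylow 2 G} {B P V Z : Subgroup G} (h : One S B P V Z)
include h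

/-- a point of `V` is `cj g Z`, `g ∈ N_G(V)` -/
theorem exists_g {X : Subgroup G} (hX : Pnt V Z X) : ∃ g ∈ normalizer (V : Set G), cj g Z = X := by
  obtain ⟨p, hp, e⟩ := h.pl.exists_pt hX.cj hX.le
  exact ⟨p, h.pl.PN hp, e.symm⟩

/-- `E_Z = D_Z` implies `E_X = D_X` for all `X` -/
theorem ee_le_dd_pt {X : Subgroup G} (hX : Pnt V Z X) (he : ee V Z Z ≤ dd V Z Z) : ee V Z X ≤ dd V Z X := by
  obtain ⟨g, hg, rfl⟩ := h.exists_g hX
  rw [← cj_ee hg, ← cj_dd hg]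
  exact cj_le_cj.2 he

/-- `[E_Z, W_Y] = 1` implies `[W_Z, W_Y] ≤ V` -/
theorem comm_V_of {Y : Subgroup G} (hY : Pnt V Z Y) (hne : Y ≠ Z)
    (hc : ∀ e ∈ ee V Z Z, ∀ u ∈ ws V Y, e * u = u * e) {w u : G} (hw : w ∈ ws V Z) (hu : u ∈ ws V Y) :
    w * u * w⁻¹ * u⁻¹ ∈ V := by
  have he : ee V Z Z ≤ dd V Z Z := fun e he => h.mem_dd_of h.self hY hne (ee_le he) fun u hu => hc e he u hu
  refine h.w1_comm h.self hY hne.symm ?_ ?_
  · refine mem_w1.2 ⟨hw, fun T hT hTZ => mem_centralizer_iff.2 fun e heT => ?_⟩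
    exact h.dd_comm h.self hTZ.symm (h.ee_le_dd_pt hT he heT) hw
  · refine mem_w1.2 ⟨hu, fun T hT hTY => mem_centralizer_iff.2 fun e heT => ?_⟩
    exact h.dd_comm hY hTY.symm (h.ee_le_dd_pt hT he heT) hu

end One

namespace Co

variable [Finite G] {F : Type*} [Field F] [CharP F 2] {S : Sylow 2 G} {B P V Z : Subgroup G} (h : Co F S B P V Z)

include h in
/-- if `[w, u] ∈ V - Z`, `w ∈ W_Z`, `u ∈ W_Y`, then `V ≤ [W_Z, u] Z` -/
theorem lam_le' {Y : Subgroup G} (hY : Pnt V Z Y) (hne : Y ≠ Z) {u w : G} (hu : u ∈ ws V Y) (hw : w ∈ ws V Z)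
    (h1 : u * w * u⁻¹ * w⁻¹ ∈ V) (h2 : u * w * u⁻¹ * w⁻¹ ∉ Z) {v : G} (hv : v ∈ V) :
    ∃ w' ∈ ws V Z, u * w' * u⁻¹ * w'⁻¹ * v⁻¹ ∈ Z := by
  obtain ⟨a, b, hab⟩ := (h.mem_V _).1 h1
  obtain ⟨x, y, rfl⟩ := (h.mem_V _).1 hv
  have hb : b ≠ 0 := by
    rintro rfl
    exact h2 (hab ▸ h.e_memZ a)
  obtain ⟨w', hw', hww⟩ := h.exists_smul (y * b⁻¹) hw
  have huC := h.one.W_le_C hY hu
  have huN := centralizer_le_normalizer _ huC
  have hA : u * w' * u⁻¹ * w'⁻¹ * (h.e x y)⁻¹ ∈ rd V Z := by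
    have hm : ∀ w ∈ ws V Z, u * w * u⁻¹ * w⁻¹ ∈ ws V Z := fun w hw => mul_mem (h.W_conj huN hw) (inv_mem hw)
    rw [h.e_inv]
    rw [h.mem_rd_iff (mul_mem (hm w' hw') (h.W_V x y))]
    intro k hk
    have key : ∀ w ∈ ws V Z, h.fn (u * w * u⁻¹ * w⁻¹) k = h.fn w (u⁻¹ * k * u) + h.fn w k := by
      intro w hw
      rw [h.fn_mul (h.W_conj huN hw) (inv_mem hw) hk, h.fn_conj huC hw hk, h.fn_inv hw]
    rw [h.fn_mul (hm w' hw') (h.W_V x y) hk, key w' hw', hww k hk, hww _ (h.K_conj huN hk), ← mul_add, ← key w hw, ← hab,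
      h.fn_V a b hk, h.fn_V x y hk]
    have e : y * b⁻¹ * (b * h.fn (h.e 0 1) k) = y * h.fn (h.e 0 1) k := by
      rw [mul_assoc, inv_mul_cancel_left₀ hb]
    rw [e, CharTwo.add_self_eq_zero]
  have hB : u * w' * u⁻¹ * w'⁻¹ * (h.e x y)⁻¹ ∈ IV V Z :=
    mul_mem (h.one.comm_mem hY h.one.self hne hu hw') (inv_mem (h.one.pl.V_le_IV hv))
  exact ⟨w', hw', h.rd_inf_I ⟨hA, hB⟩⟩

include h in
/-- if `[E_Z, u] ≠ 1`, `u ∈ W_Y`, then `V ≤ [W_Z, u] Z` -/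
theorem lam_le {Y : Subgroup G} (hY : Pnt V Z Y) (hne : Y ≠ Z) {u w : G} (hu : u ∈ ws V Y) (hw : w ∈ ee V Z Z)
    (h1 : u * w ≠ w * u) {v : G} (hv : v ∈ V) : ∃ w' ∈ ws V Z, u * w' * u⁻¹ * w'⁻¹ * v⁻¹ ∈ Z := by
  have h2 := h.one.ee_act' hY hne hw hu
  refine h.lam_le' hY hne hu (ee_le hw) (hY.le h2) (fun h3 => h1 ?_) hv
  have h4 : u * w * u⁻¹ * w⁻¹ ∈ Z ⊓ Y := ⟨h3, h2⟩
  rw [h.one.pl.pts_inf h.one.self.cj hY.cj hne.symm, mem_bot, mul_inv_eq_one, mul_inv_eq_iff_eq_mul] at h4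
  exact h4

variable {M H : Type u} [AddCommGroup M] [Group H] [DistribMulAction H M] (R : QRep V Z M H)

include h in
/-- `λ ≤ [M, a]` or `a` centralises `Ē` -/
theorem lam_or {Y : Subgroup G} (hY : Pnt V Z Y) (hne : Y ≠ Z) {u : G} (hu : u ∈ ws V Y) :
    (∀ e ∈ ee V Z Z, e * u = u * e) ∨ ∀ v ∈ R.dn V, ∃ m : M, v = R.phi u • m - m := by
  by_cases h1 : ∀ e ∈ ee V Z Z, e * u = u * e
  · exact Or.inl h1
  push Not at h1
  obtain ⟨e, he, heu⟩ := h1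
  refine Or.inr fun v hv => ?_
  obtain ⟨v, hv', rfl⟩ := (h.one.mem_lam R).mp hv
  obtain ⟨w, hw, hwv⟩ := h.lam_le hY hne hu he (fun e' => heu e'.symm) hv'
  have huC := h.one.W_le_C hY hu
  refine ⟨R.pi w, ?_⟩
  rw [← R.pi_comm h.one.ok huC hw, eq_comm, R.pi_eq _ (h.one.V_le_W' hv')]
  · exact hwv
  · exact mul_mem (h.W_conj (centralizer_le_normalizer _ huC) hw) (inv_mem hw)

/-- the image of `B` as a Sylow 2-subgroup of `H` -/
theorem _root_.Cfsg.Agent.Omega.NO3S.OneQ.One.exists_sylow [Finite H] (h : One S B P V Z) :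
    ∃ T : Sylow 2 H, (T : Subgroup H) = R.img B := by
  have : Fact (Nat.Prime 2) := ⟨Nat.prime_two⟩
  have hS2 : IsPGroup 2 (R.img B) := by
    have : IsPGroup 2 (B.subgroupOf (centralizer (Z : Set G))) :=
      h.isP_B.comap_of_injective _ (subtype_injective _)
    exact this.map _
  exact ⟨hS2.toSylow (h.img_S_index R), rfl⟩

/-- the image of `B` normalises `A` -/
theorem _root_.Cfsg.Agent.Omega.NO3S.OneQ.One.B_norm_A (h : One S B P V Z) {Y : Subgroup G} (hY : Pnt V Z Y)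
    (hne : Y ≠ Z) : ∀ s ∈ R.img B, ∀ a ∈ R.img (ws V Y), s * a * s⁻¹ ∈ R.img (ws V Y) := by
  intro s hs a ha
  obtain ⟨b, hb, rfl⟩ := (R.mem_img h.B_le_C).mp hs
  obtain ⟨u, hu, rfl⟩ := (R.mem_img (h.W_le_C hY)).mp ha
  obtain ⟨h3, h4⟩ := h.conj_pnt (h.B_norm_Z hb) (h.B_norm_V hb) hY hne
  rw [← h.img_eq R hY hne h3 h4, R.mem_img (h.W_le_C h3)]
  refine ⟨b * u * b⁻¹, ?_, ?_⟩
  · rw [ws_cj]; exact conj_mem_cj hu
  · have huC := h.W_le_C hY hu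
    have hbC := h.B_le_C hb
    rw [R.phi_mul _ (mul_mem hbC huC) _ (inv_mem hbC), R.phi_mul _ hbC u huC, R.phi_inv hbC]

include h in
/-- **section 2** : `A` normalises every component (of even order) of `H` -/
theorem norm_comp [Finite H] [FaithfulSMul H M] {Y : Subgroup G} (hY : Pnt V Z Y) (hne : Y ≠ Z)
    (hnt : ∃ w ∈ ws V Z, ∃ u ∈ ws V Y, w * u * w⁻¹ * u⁻¹ ∉ V) {L : Subgroup H} (hL : Cfsg.IsComponent L)
    (h2 : 2 ∣ Nat.card L) {a : H} (ha : a ∈ R.img (ws V Y)) : L.map (MulAut.conj a).toMonoidHom = L := by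
  obtain ⟨T, hT⟩ := h.one.exists_sylow R
  have key : ∀ a ∈ R.img (ws V Y), (∀ v ∈ R.dn V, ∃ m : M, v = a • m - m) →
      L.map (MulAut.conj a).toMonoidHom = L := by
    intro a ha hv
    refine norm_of_o2 (S := T) (fun b hb => ?_) ?_ (h.one.o2h R) hL h2 ha (h.one.bs_cent R hY hne ha hv)
    · have := (h.one.elabA R hY).2 b hb
      rwa [pow_two] at this
    · rw [hT]; exact h.one.B_norm_A R hY hne
  obtain ⟨u₀, hu₀, rfl⟩ := (R.mem_img (h.one.W_le_C hY)).mp ha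
  by_contra hcon
  obtain ⟨w, hw, u, hu, hwu⟩ := hnt
  apply hwu
  have hE0 : ∀ e ∈ ee V Z Z, e * u₀ = u₀ * e := by
    rcases h.lam_or R hY hne hu₀ with h1 | h1
    · exact h1
    · exact absurd (key _ ha h1) hcon
  refine h.one.comm_V_of hY hne (fun e he u hu => ?_) hw hu
  rcases h.lam_or R hY hne hu with h1 | h1
  · exact h1 e he
  have ha1 : R.phi u ∈ R.img (ws V Y) := (R.mem_img (h.one.W_le_C hY)).mpr ⟨u, hu, rfl⟩
  have h3 := key _ ha1 h1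
  rcases h.lam_or R hY hne (mul_mem hu hu₀) with h4 | h4
  · have h5 := h4 e he
    have h6 := hE0 e he
    have h7 : e * u * u₀ = u * e * u₀ := by
      calc e * u * u₀ = e * (u * u₀) := by group
        _ = u * u₀ * e := h5
        _ = u * (u₀ * e) := by group
        _ = u * (e * u₀) := by rw [h6]
        _ = _ := by group
    exact mul_right_cancel h7
  · exfalso
    have ha2 : R.phi (u * u₀) ∈ R.img (ws V Y) := (R.mem_img (h.one.W_le_C hY)).mpr ⟨_, mul_mem hu hu₀, rfl⟩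
    have h5 := key _ ha2 h4
    rw [R.phi_mul _ (h.one.W_le_C hY hu) _ (h.one.W_le_C hY hu₀)] at h5
    apply hcon
    have h6 : (L.map (MulAut.conj (R.phi u₀)).toMonoidHom).map (MulAut.conj (R.phi u)).toMonoidHom = L := by
      rw [map_map]
      have e : (MulAut.conj (R.phi u)).toMonoidHom.comp (MulAut.conj (R.phi u₀)).toMonoidHom =
          (MulAut.conj (R.phi u * R.phi u₀)).toMonoidHom := by
        rw [map_mul]; rfl
      rw [e]
      exact h5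
    refine map_injective (f := (MulAut.conj (R.phi u)).toMonoidHom) (MulAut.conj (R.phi u)).injective ?_
    rw [h6, h3]

end Co

end Cfsg.Agent.Omega.NO3S.OneQ
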