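import Cfsg.Agent.Omega.NO3S.OneQ.Flag
import Cfsg.Agent.Involutions.BaerSuzuki

/-!
# NO-3S, critical distance 1: LEMMA PLANE for `q ≥ 4` (bb OMEGA #17961, section 5)

`Pla V Z Q` : `Q` is a plane (points and lines in `Q` are the points and lines of a projective plane), the image of
`W_Y` in `C_X / K_X` is the same for all points `Y ≠ X` of `Q`, and `W_X = E_X(L) E_X(M)` for lines `L ≠ M` of `Q` on `X`.

* `Pla.dd_cent` : `D_X(L)` centralises `W_Y` for all points `Y` of `Q`;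
* `Pla.comm_mem` : `[W_X, W_Y] ≤ Q`;
* `Pla.cent_W` (5.3) : `j = w_T w_R⁻¹` centralises `W_X`, `X` not on the line `TR`;
* `Pla.exists_comm` (5.4) : `[j, j'] ∈ T`, `≠ 1`.
-/

set_option autoImplicit false
set_option linter.unusedSectionVars false

namespace Cfsg.Agent.Omega.NO3S.OneQ

open Subgroup Cfsg.Agent.Omega.NO3S.PT Cfsg.Agent.Omega.NoFF.Basic
open scoped Pointwise

variable {G : Type*} [Group G]

/-- **a plane** -/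
structure Plg (V Z Q : Subgroup G) : Prop where
  ln : ∃ L, IsCj V L ∧ L ≤ Q
  leW : ∀ X, IsCj Z X → X ≤ Q → Q ≤ ws V X
  cov : ∀ u ∈ Q, u ≠ 1 → ∃ X, IsCj Z X ∧ X ≤ Q ∧ u ∈ X
  col : ∀ X Y, IsCj Z X → IsCj Z Y → X ≤ Q → Y ≤ Q → X ≠ Y → ∃ L, IsCj V L ∧ L ≤ Q ∧ X ≤ L ∧ Y ≤ L
  meet : ∀ L M, IsCj V L → IsCj V M → L ≤ Q → M ≤ Q → ∃ X, IsCj Z X ∧ X ≤ L ∧ X ≤ M
  out : ∀ L, IsCj V L → L ≤ Q → ∃ X, IsCj Z X ∧ X ≤ Q ∧ ¬ X ≤ L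

/-- **a plane** on which all the groups `W_Y` have the same image in `C_X / K_X` -/
structure Pla (V Z Q : Subgroup G) : Prop extends Plg V Z Q where
  img : ∀ X Y T, IsCj Z X → IsCj Z Y → IsCj Z T → X ≤ Q → Y ≤ Q → T ≤ Q → Y ≠ X → T ≠ X →
    ∀ a ∈ ws V Y, ∃ b ∈ ws V T, ∃ k ∈ kx V X, a = b * k
  spl : ∀ X L M, IsCj Z X → IsCj V L → IsCj V M → L ≤ Q → M ≤ Q → X ≤ L → X ≤ M → L ≠ M →
    ∀ a ∈ ws V X, ∃ b ∈ ee L Z X, ∃ c ∈ ee M Z X, a = b * c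

theorem Plg.cj {V Z Q : Subgroup G} (hp : Plg V Z Q) (g : G) : Plg V Z (PT.cj g Q) := by
  have hinv : ∀ {X : Subgroup G}, X ≤ PT.cj g Q → PT.cj g⁻¹ X ≤ Q := fun {X} hX => by
    rw [cj_le_iff, inv_inv]; exact hX
  have hle : ∀ {X Y : Subgroup G}, PT.cj g⁻¹ X ≤ Y → X ≤ PT.cj g Y := fun {X Y} hX => by
    rw [cj_le_iff, inv_inv] at hX; exact hX
  have hne : ∀ {X Y : Subgroup G}, X ≠ Y → PT.cj g⁻¹ X ≠ PT.cj g⁻¹ Y := fun {X Y} hXY e => hXY (cj_inj.1 e)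
  have hback : ∀ (a : G), g * (g⁻¹ * a * g) * g⁻¹ = a := fun a => by group
  constructor
  · obtain ⟨L, hL, hLQ⟩ := hp.ln
    exact ⟨PT.cj g L, hL.cj g, cj_le_cj.2 hLQ⟩
  · intro X hX hXQ
    have h1 := hp.leW _ (hX.cj g⁻¹) (hinv hXQ)
    rwa [ws_cj, le_cj_iff, inv_inv] at h1
  · intro u hu hu1
    obtain ⟨X, hX, hXQ, huX⟩ := hp.cov (g⁻¹ * u * g) (mem_cj.1 hu) (fun e => hu1 (by rw [← hback u, e]; group))
    exact ⟨PT.cj g X, hX.cj g, cj_le_cj.2 hXQ, mem_cj.2 huX⟩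
  · intro X Y hX hY hXQ hYQ hXY
    obtain ⟨L, hL, hLQ, hXL, hYL⟩ := hp.col _ _ (hX.cj g⁻¹) (hY.cj g⁻¹) (hinv hXQ) (hinv hYQ) (hne hXY)
    exact ⟨PT.cj g L, hL.cj g, cj_le_cj.2 hLQ, hle hXL, hle hYL⟩
  · intro L M hL hM hLQ hMQ
    obtain ⟨X, hX, hXL, hXM⟩ := hp.meet _ _ (hL.cj g⁻¹) (hM.cj g⁻¹) (hinv hLQ) (hinv hMQ)
    refine ⟨PT.cj g X, hX.cj g, ?_, ?_⟩
    · rw [cj_le_iff]; exact hXL
    · rw [cj_le_iff]; exact hXM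
  · intro L hL hLQ
    obtain ⟨X, hX, hXQ, hXL⟩ := hp.out _ (hL.cj g⁻¹) (hinv hLQ)
    refine ⟨PT.cj g X, hX.cj g, cj_le_cj.2 hXQ, fun e => hXL ?_⟩
    rwa [cj_le_iff] at e

theorem Pla.cj {V Z Q : Subgroup G} (hp : Pla V Z Q) (g : G) : Pla V Z (PT.cj g Q) := by
  have hinv : ∀ {X : Subgroup G}, X ≤ PT.cj g Q → PT.cj g⁻¹ X ≤ Q := fun {X} hX => by
    rw [cj_le_iff, inv_inv]; exact hX
  have hne : ∀ {X Y : Subgroup G}, X ≠ Y → PT.cj g⁻¹ X ≠ PT.cj g⁻¹ Y := fun {X Y} hXY e => hXY (cj_inj.1 e)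
  have hback : ∀ (a : G), g * (g⁻¹ * a * g) * g⁻¹ = a := fun a => by group
  refine ⟨hp.toPlg.cj g, ?_, ?_⟩
  · intro X Y T hX hY hT hXQ hYQ hTQ hYX hTX a ha
    obtain ⟨b, hb, k, hk, e⟩ := hp.img _ _ _ (hX.cj g⁻¹) (hY.cj g⁻¹) (hT.cj g⁻¹) (hinv hXQ) (hinv hYQ) (hinv hTQ)
      (hne hYX) (hne hTX) (g⁻¹ * a * g) (by rw [ws_cj, mem_cj, inv_inv, hback]; exact ha)
    refine ⟨g * b * g⁻¹, ?_, g * k * g⁻¹, ?_, ?_⟩
    · rwa [ws_cj, mem_cj, inv_inv] at hb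
    · rwa [kx_cj, mem_cj, inv_inv] at hk
    · rw [← hback a, e]; group
  · intro X L M hX hL hM hLQ hMQ hXL hXM hLM a ha
    obtain ⟨b, hb, k, hk, e⟩ := hp.spl (PT.cj g⁻¹ X) (PT.cj g⁻¹ L) (PT.cj g⁻¹ M) (hX.cj g⁻¹) (hL.cj g⁻¹) (hM.cj g⁻¹)
      (hinv hLQ) (hinv hMQ) (cj_le_cj.2 hXL) (cj_le_cj.2 hXM) (hne hLM) (g⁻¹ * a * g)
      (by rw [ws_cj, mem_cj, inv_inv, hback]; exact ha)
    refine ⟨g * b * g⁻¹, ?_, g * k * g⁻¹, ?_, ?_⟩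
    · rwa [← cj_conj_ee, mem_cj, inv_inv] at hb
    · rwa [← cj_conj_ee, mem_cj, inv_inv] at hk
    · rw [← hback a, e]; group

/-- the group generated by the `W_X`, `X` in `Q` -/
def fq (V Z Q : Subgroup G) : Subgroup G := sSup {W | ∃ X, IsCj Z X ∧ X ≤ Q ∧ W = ws V X}

/-- the group generated by the centralisers in `W_X` of all `W_Y`, `X`, `Y` in `Q` -/
def dq (V Z Q : Subgroup G) : Subgroup G :=
  sSup {D | ∃ X, IsCj Z X ∧ X ≤ Q ∧ D = ws V X ⊓ centralizer ((fq V Z Q : Subgroup G) : Set G)}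

theorem ws_le_fq {V Z Q X : Subgroup G} (hX : IsCj Z X) (hXQ : X ≤ Q) : ws V X ≤ fq V Z Q :=
  le_sSup ⟨X, hX, hXQ, rfl⟩

theorem dq_le_fq {V Z Q : Subgroup G} : dq V Z Q ≤ fq V Z Q := by
  refine sSup_le ?_
  rintro _ ⟨X, hX, hXQ, rfl⟩
  exact inf_le_left.trans (ws_le_fq hX hXQ)

theorem dq_le_cent {V Z Q : Subgroup G} : dq V Z Q ≤ centralizer ((fq V Z Q : Subgroup G) : Set G) := by
  refine sSup_le ?_
  rintro _ ⟨X, hX, hXQ, rfl⟩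
  exact inf_le_right

theorem mem_cent_fq {V Z Q : Subgroup G} {d : G} :
    d ∈ centralizer ((fq V Z Q : Subgroup G) : Set G) ↔ ∀ X, IsCj Z X → X ≤ Q → ∀ b ∈ ws V X, d * b = b * d := by
  constructor
  · intro hd X hX hXQ b hb
    exact (mem_centralizer_iff.1 hd b (ws_le_fq hX hXQ hb)).symm
  · intro hd
    have h1 : fq V Z Q ≤ centralizer ({d} : Set G) := by
      refine sSup_le ?_
      rintro _ ⟨X, hX, hXQ, rfl⟩ b hb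
      rw [mem_centralizer_singleton_iff]
      exact (hd X hX hXQ b hb).symm
    rw [mem_centralizer_iff]
    exact fun b hb => mem_centralizer_singleton_iff.1 (h1 hb)

namespace Pla

variable [Finite G] {S : Sylow 2 G} {B P V Z : Subgroup G} (h : One S B P V Z)
include h

/-- `Q` centralises every `W_X` -/
theorem Q_comm {Q : Subgroup G} (hp : Pla V Z Q) {X : Subgroup G} (hX : IsCj Z X) (hXQ : X ≤ Q) {u w : G}
    (hu : u ∈ Q) (hw : w ∈ ws V X) : u * w = w * u := h.comm_W hX (hp.leW X hX hXQ hu) hw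

theorem Q_le_cent {Q : Subgroup G} (hp : Pla V Z Q) : Q ≤ centralizer ((fq V Z Q : Subgroup G) : Set G) :=
  fun _ hu => mem_cent_fq.2 fun _ hX hXQ _ hb => hp.Q_comm h hX hXQ hu hb

/-- for a point `X` of `Q` and a line `L` there is another line on `X` -/
theorem exists_line {Q : Subgroup G} (hp : Pla V Z Q) {X L : Subgroup G} (hX : IsCj Z X) (hL : IsCj V L)
    (hLQ : L ≤ Q) (hXL : X ≤ L) : ∃ M, IsCj V M ∧ M ≤ Q ∧ X ≤ M ∧ M ≠ L := by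
  obtain ⟨R, hR, hRQ, hRL⟩ := hp.out L hL hLQ
  obtain ⟨M, hM, hMQ, hXM, hRM⟩ := hp.col X R hX hR (hXL.trans hLQ) hRQ (fun e => hRL (e ▸ hXL))
  exact ⟨M, hM, hMQ, hXM, fun e => hRL (e ▸ hRM)⟩

/-- a second point on a line -/
theorem exists_pt {L X : Subgroup G} (hL : IsCj V L) (hX : IsCj Z X) (hXL : X ≤ L) :
    ∃ Y, IsCj Z Y ∧ Y ≤ L ∧ Y ≠ X := by
  obtain ⟨S', C', Q', h'⟩ := h.flag hL hX hXL
  obtain ⟨Y, hY, hne⟩ := h'.exists_ne h'.self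
  exact ⟨Y, ((pnt_iff hX).1 hY).cj, hY.le, hne⟩

/-- a third point on a line -/
theorem exists_pt3 {L X Y : Subgroup G} (hL : IsCj V L) (hX : IsCj Z X) (hXL : X ≤ L) (hY : IsCj Z Y) (hYL : Y ≤ L)
    (hne : X ≠ Y) : ∃ T, IsCj Z T ∧ T ≤ L ∧ T ≠ X ∧ T ≠ Y := by
  obtain ⟨S', C', Q', h'⟩ := h.flag hL hX hXL
  obtain ⟨T, hT, hTL, h1, h2⟩ := h'.pl.exists_third h'.pl.isCj_self hXL (h.pnt_line hX hY hYL).cj hYL hne
  exact ⟨T, ((pnt_iff hX).1 ⟨hT, hTL⟩).cj, hTL, h1, h2⟩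

/-- two lines on `T` avoiding `X` -/
theorem exists_two {Q : Subgroup G} (hp : Pla V Z Q) {X T : Subgroup G} (hX : IsCj Z X) (hT : IsCj Z T)
    (hXQ : X ≤ Q) (hTQ : T ≤ Q) (hne : T ≠ X) :
    ∃ M N, IsCj V M ∧ IsCj V N ∧ M ≤ Q ∧ N ≤ Q ∧ T ≤ M ∧ T ≤ N ∧ M ≠ N ∧ ¬ X ≤ M ∧ ¬ X ≤ N := by
  obtain ⟨L, hL, hLQ, hTL, hXL⟩ := hp.col T X hT hX hTQ hXQ hne
  obtain ⟨R, hR, hRQ, hRL⟩ := hp.out L hL hLQ
  have hRT : R ≠ T := fun e => hRL (e ▸ hTL)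
  have hRX : R ≠ X := fun e => hRL (e ▸ hXL)
  obtain ⟨M, hM, hMQ, hTM, hRM⟩ := hp.col T R hT hR hTQ hRQ hRT.symm
  have hXM : ¬ X ≤ M := fun e => hRL (by rw [h.line_eq hL hM hT hX hTL hXL hTM e hne]; exact hRM)
  obtain ⟨A, hA, hAQ, hRA, hXA⟩ := hp.col R X hR hX hRQ hXQ hRX
  obtain ⟨B, hB, hBA, hBR, hBX⟩ := exists_pt3 h hA hR hRA hX hXA hRX
  have hBT : B ≠ T := by
    rintro rfl
    exact hRL (by rw [h.line_eq hL hA hB hX hTL hXL hBA hXA hBX]; exact hRA)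
  obtain ⟨N, hN, hNQ, hTN, hBN⟩ := hp.col T B hT hB hTQ (hBA.trans hAQ) hBT.symm
  refine ⟨M, N, hM, hN, hMQ, hNQ, hTM, hTN, ?_, hXM, ?_⟩
  · rintro rfl
    have h1 := h.line_eq hM hA hR hB hRM hBN hRA hBA hBR.symm
    exact hXM (h1 ▸ hXA)
  · intro hXN
    have h1 := h.line_eq hN hA hB hX hBN hXN hBA hXA hBX
    have h2 := h.line_eq hL hA hT hX hTL hXL (h1 ▸ hTN) hXA hne
    exact hRL (h2 ▸ hRA)

/-- `D_X(L)` centralises all `W_Y` -/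
theorem dd_cent {Q : Subgroup G} (hp : Pla V Z Q) (hN : NN V Z) {X L : Subgroup G} (hX : IsCj Z X) (hL : IsCj V L)
    (hLQ : L ≤ Q) (hXL : X ≤ L) {d : G} (hd : d ∈ dd L Z X) : d ∈ centralizer ((fq V Z Q : Subgroup G) : Set G) := by
  have hXQ := hXL.trans hLQ
  rw [mem_cent_fq]
  intro R hR hRQ b hb
  obtain ⟨Y, hY, hYL, hYX⟩ := exists_pt h hL hX hXL
  have hdW : d ∈ ws V X := by
    have := dd_le hd
    rwa [ws_line hL] at this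
  by_cases hRX : R = X
  · subst hRX
    exact h.comm_W hX hdW hb
  obtain ⟨M, hM, hMQ, hXM, hRM⟩ := hp.col X R hX hR hXQ hRQ (Ne.symm hRX)
  have h1 : d ∈ dd M Z X := by
    refine h.nn_dd hN hM hX hXM hR hRM hRX hdW fun u hu => ?_
    obtain ⟨u', hu', k, hk, rfl⟩ := hp.img X R Y hX hR hY hXQ hRQ (hYL.trans hLQ) hRX hYX u hu
    rw [h.dd_line hL hX hXL hY hYL hYX] at hd
    have h2 : d * u' = u' * d := (mem_centralizer_iff.1 hd.2 u' hu').symm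
    have h3 : k * d * k⁻¹ * d⁻¹ ∈ X := (mem_kx.1 hk).2 d hdW
    have h4 : d * (u' * k) * d⁻¹ * (u' * k)⁻¹ = u' * (k * d * k⁻¹ * d⁻¹)⁻¹ * u'⁻¹ := by
      calc d * (u' * k) * d⁻¹ * (u' * k)⁻¹ = (d * u') * k * d⁻¹ * k⁻¹ * u'⁻¹ := by group
        _ = u' * (k * d * k⁻¹ * d⁻¹)⁻¹ * u'⁻¹ := by rw [h2]; group
    rw [h4]
    have h5 : u' ∈ centralizer (L : Set G) := h.ws_le_line hL hY hYL hu'
    have h6 : (k * d * k⁻¹ * d⁻¹)⁻¹ ∈ X := inv_mem h3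
    have h7 := mem_centralizer_iff.1 h5 _ (hXL h6)
    rw [← h7, mul_inv_cancel_right]
    exact h6
  rw [h.dd_line hM hX hXM hR hRM hRX] at h1
  exact (mem_centralizer_iff.1 h1.2 b hb).symm

theorem dd_le_dq {Q : Subgroup G} (hp : Pla V Z Q) (hN : NN V Z) {X L : Subgroup G} (hX : IsCj Z X) (hL : IsCj V L)
    (hLQ : L ≤ Q) (hXL : X ≤ L) : dd L Z X ≤ dq V Z Q := by
  intro d hd
  refine (le_sSup (a := ws V X ⊓ centralizer ((fq V Z Q : Subgroup G) : Set G)) ?_ :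
    ws V X ⊓ centralizer ((fq V Z Q : Subgroup G) : Set G) ≤ dq V Z Q) ⟨?_, hp.dd_cent h hN hX hL hLQ hXL hd⟩
  · exact ⟨X, hX, hXL.trans hLQ, rfl⟩
  · have := dd_le hd
    rwa [ws_line hL] at this

/-- `[E_X(M), W_Y] ≤ M` for all `Y ≠ X` of `Q` -/
theorem ee_mem {Q : Subgroup G} (hp : Pla V Z Q) {X M Y : Subgroup G} (hX : IsCj Z X) (hM : IsCj V M)
    (hMQ : M ≤ Q) (hXM : X ≤ M) (hY : IsCj Z Y) (hYQ : Y ≤ Q) (hne : Y ≠ X) {e u : G} (he : e ∈ ee M Z X)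
    (hu : u ∈ ws V Y) : e * u * e⁻¹ * u⁻¹ ∈ M := by
  have hXQ := hXM.trans hMQ
  obtain ⟨T, hT, hTM, hTX⟩ := exists_pt h hM hX hXM
  have heW : e ∈ ws V X := by
    have := ee_le he
    rwa [ws_line hM] at this
  obtain ⟨t, ht, k, hk, rfl⟩ := hp.img X Y T hX hY hT hXQ hYQ (hTM.trans hMQ) hne hTX u hu
  have h1 := h.ee_line_act hM hX hXM hT hTM hTX he ht
  have h2 : e * k * e⁻¹ * k⁻¹ ∈ X := by
    have h3 := inv_mem ((mem_kx.1 hk).2 e heW)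
    have e1 : (k * e * k⁻¹ * e⁻¹)⁻¹ = e * k * e⁻¹ * k⁻¹ := by group
    rwa [e1] at h3
  have h4 : t ∈ centralizer (M : Set G) := h.ws_le_line hM hT hTM ht
  have h5 : e * (t * k) * e⁻¹ * (t * k)⁻¹ = (e * t * e⁻¹ * t⁻¹) * (t * (e * k * e⁻¹ * k⁻¹) * t⁻¹) := by group
  rw [h5, ← mem_centralizer_iff.1 h4 _ (hXM h2), mul_inv_cancel_right]
  exact M.mul_mem (hTM h1) (hXM h2)

/-- `[W_X, W_Y] ≤ Q` -/
theorem comm_mem {Q : Subgroup G} (hp : Pla V Z Q) {X Y : Subgroup G} (hX : IsCj Z X) (hXQ : X ≤ Q)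
    (hY : IsCj Z Y) (hYQ : Y ≤ Q) {a b : G} (ha : a ∈ ws V X) (hb : b ∈ ws V Y) : a * b * a⁻¹ * b⁻¹ ∈ Q := by
  by_cases hYX : Y = X
  · subst hYX
    have : a * b * a⁻¹ * b⁻¹ = 1 := by rw [h.comm_W hY ha hb]; group
    rw [this]; exact one_mem _
  obtain ⟨L, hL, hLQ, hXL, hYL⟩ := hp.col X Y hX hY hXQ hYQ (Ne.symm hYX)
  obtain ⟨M, hM, hMQ, hXM, hML⟩ := hp.exists_line h hX hL hLQ hXL
  obtain ⟨e, he, f, hf, rfl⟩ := hp.spl X L M hX hL hM hLQ hMQ hXL hXM hML.symm a ha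
  have h1 := hLQ (hp.ee_mem h hX hL hLQ hXL hY hYQ hYX he hb)
  have h2 := hMQ (hp.ee_mem h hX hM hMQ hXM hY hYQ hYX hf hb)
  have heW : e ∈ ws V X := by
    have := ee_le he
    rwa [ws_line hL] at this
  have h3 : e * f * b * (e * f)⁻¹ * b⁻¹ = (e * (f * b * f⁻¹ * b⁻¹) * e⁻¹) * (e * b * e⁻¹ * b⁻¹) := by group
  rw [h3, ← hp.Q_comm h hX hXQ h2 heW, mul_inv_cancel_right]
  exact Q.mul_mem h2 h1

/-- (5.3), first step: `[W_X, w_T] ≤ l ∩ m` -/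
theorem comm_inf {Q : Subgroup G} (hp : Pla V Z Q) {X T L M s : Subgroup G} (hX : IsCj Z X) (hT : IsCj Z T)
    (hL : IsCj V L) (hM : IsCj V M) (hLQ : L ≤ Q) (hMQ : M ≤ Q) (hXL : X ≤ L) (hTM : T ≤ M) (hXM : ¬ X ≤ M)
    (hs : IsCj Z s) (hsL : s ≤ L) (hsM : s ≤ M) {w t : G} (hw : w ∈ ee L Z X) (ht : t ∈ ee M Z T) :
    w * t * w⁻¹ * t⁻¹ ∈ s := by
  have hTX : T ≠ X := fun e => hXM (e ▸ hTM)
  have htW : t ∈ ws V T := by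
    have := ee_le ht
    rwa [ws_line hM] at this
  have hwW : w ∈ ws V X := by
    have := ee_le hw
    rwa [ws_line hL] at this
  have h1 := hp.ee_mem h hX hL hLQ hXL hT (hTM.trans hMQ) hTX hw htW
  have h2 := inv_mem (hp.ee_mem h hT hM hMQ hTM hX (hXL.trans hLQ) hTX.symm ht hwW)
  have e1 : (t * w * t⁻¹ * w⁻¹)⁻¹ = w * t * w⁻¹ * t⁻¹ := by group
  rw [e1] at h2
  have hne : L ≠ M := fun e => hXM (e ▸ hXL)
  set c := w * t * w⁻¹ * t⁻¹ with hc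
  by_cases hc1 : c = 1
  · rw [hc1]; exact one_mem _
  obtain ⟨S', C', Q', h'⟩ := h.flag hL hX hXL
  obtain ⟨A, hA, hAL, hcA⟩ := h'.pl.exists_point h1 hc1
  obtain ⟨S'', C'', Q'', h''⟩ := h.flag hM hT hTM
  obtain ⟨B, hB, hBM, hcB⟩ := h''.pl.exists_point h2 hc1
  have hA' := ((pnt_iff hX).1 ⟨hA, hAL⟩).cj
  have hB' := ((pnt_iff hT).1 ⟨hB, hBM⟩).cj
  have hAB : A = B := h.pl.pts_eq hA' hB' hcA hcB hc1
  by_contra hcs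
  have hAs : A ≠ s := fun e => hcs (e ▸ hcA)
  exact hne (h.line_eq hL hM hA' hs hAL hsL (hAB ▸ hBM) hsM hAs)

/-- (5.3) `j = w_T w_R⁻¹ ∈ K_X` centralises `W_X`, `X` not on the line `M ∋ T, R` -/
theorem cent_W {Q : Subgroup G} (hp : Pla V Z Q) {X T R M : Subgroup G} (hX : IsCj Z X) (hT : IsCj Z T)
    (hR : IsCj Z R) (hM : IsCj V M) (hXQ : X ≤ Q) (hMQ : M ≤ Q) (hTM : T ≤ M) (hRM : R ≤ M) (hXM : ¬ X ≤ M)
    {t r : G} (ht : t ∈ ee M Z T) (hr : r ∈ ee M Z R) (hj : t * r⁻¹ ∈ kx V X) {w : G} (hw : w ∈ ws V X) :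
    t * r⁻¹ * w = w * (t * r⁻¹) := by
  have hTX : T ≠ X := fun e => hXM (e ▸ hTM)
  obtain ⟨L, hL, hLQ, hXL, hTL⟩ := hp.col X T hX hT hXQ (hTM.trans hMQ) hTX.symm
  obtain ⟨L', hL', hLQ', hXL', hLL⟩ := hp.exists_line h hX hL hLQ hXL
  have htW : t ∈ ws V T := by
    have := ee_le ht
    rwa [ws_line hM] at this
  have hrW : r ∈ ws V R := by
    have := ee_le hr
    rwa [ws_line hM] at this
  -- `e ∈ E_X(l)` commutes with `j`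
  have key : ∀ l, IsCj V l → l ≤ Q → X ≤ l → ∀ e ∈ ee l Z X, t * r⁻¹ * e = e * (t * r⁻¹) := by
    intro l hl hlQ hXl e he
    obtain ⟨s, hs, hsl, hsM⟩ := hp.meet l M hl hM hlQ hMQ
    have hsX : s ≠ X := fun e => hXM (e ▸ hsM)
    have heW : e ∈ ws V X := by
      have := ee_le he
      rwa [ws_line hl] at this
    have h1 := hp.comm_inf h hX hT hl hM hlQ hMQ hXl hTM hXM hs hsl hsM he ht
    have h2 := hp.comm_inf h hX hR hl hM hlQ hMQ hXl hRM hXM hs hsl hsM he hr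
    have h2Q : e * r * e⁻¹ * r⁻¹ ∈ Q := (hsl.trans hlQ) h2
    have h3 : e * (t * r⁻¹) * e⁻¹ * (t * r⁻¹)⁻¹ = (e * t * e⁻¹ * t⁻¹) * (e * r * e⁻¹ * r⁻¹)⁻¹ := by
      have h4 : e * (t * r⁻¹) * e⁻¹ * (t * r⁻¹)⁻¹ =
        (e * t * e⁻¹ * t⁻¹) * (t * (r⁻¹ * (e * r * e⁻¹ * r⁻¹)⁻¹ * r) * t⁻¹) := by group
      have hc : ∀ {R' : Subgroup G}, IsCj Z R' → R' ≤ Q → ∀ w ∈ ws V R',
          w * (e * r * e⁻¹ * r⁻¹)⁻¹ * w⁻¹ = (e * r * e⁻¹ * r⁻¹)⁻¹ := by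
        intro R' hR' hRQ' w hw
        rw [← hp.Q_comm h hR' hRQ' (inv_mem h2Q) hw, mul_inv_cancel_right]
      have h5 := hc hR (hRM.trans hMQ) r⁻¹ (inv_mem hrW)
      rw [inv_inv] at h5
      rw [h4, h5, hc hT (hTM.trans hMQ) t htW]
    have h6 : e * (t * r⁻¹) * e⁻¹ * (t * r⁻¹)⁻¹ ∈ s := by
      rw [h3]; exact s.mul_mem h1 (s.inv_mem h2)
    have h7 : e * (t * r⁻¹) * e⁻¹ * (t * r⁻¹)⁻¹ ∈ X := by
      have h8 := inv_mem ((mem_kx.1 hj).2 e heW)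
      have e1 : (t * r⁻¹ * e * (t * r⁻¹)⁻¹ * e⁻¹)⁻¹ = e * (t * r⁻¹) * e⁻¹ * (t * r⁻¹)⁻¹ := by group
      rwa [e1] at h8
    have h8 : e * (t * r⁻¹) * e⁻¹ * (t * r⁻¹)⁻¹ ∈ s ⊓ X := ⟨h6, h7⟩
    rw [h.pl.pts_inf hs hX hsX, mem_bot, mul_inv_eq_one, mul_inv_eq_iff_eq_mul] at h8
    exact h8.symm
  obtain ⟨e, he, f, hf, rfl⟩ := hp.spl X L L' hX hL hL' hLQ hLQ' hXL hXL' hLL.symm w hw
  rw [← mul_assoc (t * r⁻¹), key L hL hLQ hXL e he, mul_assoc e, key L' hL' hLQ' hXL' f hf, mul_assoc]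

theorem Q_le_IV {Q : Subgroup G} (hp : Pla V Z Q) {M : Subgroup G} (hM : IsCj V M) (hMQ : M ≤ Q) : Q ≤ IV M Z := by
  refine le_sInf ?_
  rintro _ ⟨Y, hY, hYM, rfl⟩
  rw [ws_line hM]
  exact hp.leW Y hY (hYM.trans hMQ)

/-- a point which meets a line lies on it -/
theorem pt_le {M X : Subgroup G} (hM : IsCj V M) (hX : IsCj Z X) {u : G} (hu : u ∈ X) (hu1 : u ≠ 1) (huM : u ∈ M) :
    X ≤ M := by
  obtain ⟨g, rfl⟩ := hM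
  have hT : IsCj Z (PT.cj g Z) := ⟨g, rfl⟩
  obtain ⟨S', C', Q', h'⟩ := h.flag ⟨g, rfl⟩ hT (cj_le_cj.2 h.pl.ZV)
  obtain ⟨A, hA, hAL, huA⟩ := h'.pl.exists_point huM hu1
  have h1 := h.pl.pts_eq hX ((pnt_iff hT).1 ⟨hA, hAL⟩).cj hu huA hu1
  rw [h1]; exact hAL

/-- (5.3) `j` centralises `W_Y` for all `Y` of `Q` which are not on `M` -/
theorem cent_all {Q : Subgroup G} (hp : Pla V Z Q) (hN : NN V Z) {X T R M : Subgroup G} (hX : IsCj Z X)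
    (hT : IsCj Z T) (hR : IsCj Z R) (hM : IsCj V M) (hXQ : X ≤ Q) (hMQ : M ≤ Q) (hTM : T ≤ M) (hRM : R ≤ M)
    (hXM : ¬ X ≤ M) {t r : G} (ht : t ∈ ee M Z T) (hr : r ∈ ee M Z R) (hj : t * r⁻¹ ∈ kx V X) {Y : Subgroup G}
    (hY : IsCj Z Y) (hYQ : Y ≤ Q) (hYM : ¬ Y ≤ M) {b : G} (hb : b ∈ ws V Y) : t * r⁻¹ * b = b * (t * r⁻¹) := by
  by_cases hXY : X = Y
  · subst hXY
    exact hp.cent_W h hX hT hR hM hXQ hMQ hTM hRM hXM ht hr hj hb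
  obtain ⟨L, hL, hLQ, hXL, hYL⟩ := hp.col X Y hX hY hXQ hYQ hXY
  obtain ⟨s, hs, hsL, hsM⟩ := hp.meet L M hL hM hLQ hMQ
  have hsX : s ≠ X := fun e => hXM (e ▸ hsM)
  have hsY : s ≠ Y := fun e => hYM (e ▸ hsM)
  obtain ⟨u, hu, hu1⟩ := h.pl.pt_ne_bot hX
  obtain ⟨s0, hs0, r0, hr0, hur⟩ := h.line_mul hL hs hsL hY hYL hsY (hXL hu)
  have hr1 : r0 ≠ 1 := by
    rintro rfl
    rw [mul_one] at hur
    exact hsX (h.pl.pts_eq hs hX hs0 (hur ▸ hu) (hur ▸ hu1))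
  have huM : u ∉ M := fun e => hXM (pt_le h hM hX hu hu1 e)
  obtain ⟨k, hk, hkM, hku⟩ := h.F2_line hM hT hTM hs hsM (hp.Q_le_IV h hM hMQ (hXQ hu)) huM (s.inv_mem hs0)
  have hku' : k * u * k⁻¹ = r0 := by
    have : k * u * k⁻¹ = s0⁻¹ * u := by rw [← hku]; group
    rw [this, hur]; group
  have hkX : PT.cj k X = Y := by
    refine h.pl.pts_eq (hX.cj k) hY ?_ hr0 hr1
    rw [← hku']
    exact conj_mem_cj hu
  have hb' : k⁻¹ * b * k ∈ ws V X := by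
    rw [← mem_cj, ← ws_cj, hkX]; exact hb
  have h1 := hp.cent_W h hX hT hR hM hXQ hMQ hTM hRM hXM ht hr hj hb'
  have h2 := hp.dd_cent h hN hT hM hMQ hTM (h.kx_dd_line hM hT hTM hs hsM hk hkM ht)
  have h3 := hp.dd_cent h hN hR hM hMQ hRM (h.kx_dd_line hM hR hRM hs hsM hk hkM hr)
  set a := k * t * k⁻¹ * t⁻¹ with ha
  set c := k * r * k⁻¹ * r⁻¹ with hc
  have ha1 : a * b = b * a := mem_cent_fq.1 h2 Y hY hYQ b hb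
  have hc1 : c * b = b * c := mem_cent_fq.1 h3 Y hY hYQ b hb
  have e1 : k * (t * r⁻¹) * k⁻¹ = a * (t * r⁻¹) * c⁻¹ := by rw [ha, hc]; group
  have h4 : (k * (t * r⁻¹) * k⁻¹) * b = b * (k * (t * r⁻¹) * k⁻¹) := by
    calc (k * (t * r⁻¹) * k⁻¹) * b = k * (t * r⁻¹ * (k⁻¹ * b * k)) * k⁻¹ := by group
      _ = k * ((k⁻¹ * b * k) * (t * r⁻¹)) * k⁻¹ := by rw [h1]
      _ = _ := by group
  rw [e1] at h4
  have ca : Commute a b := ha1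
  have cc : Commute c b := hc1
  have h5 : Commute (a * (t * r⁻¹) * c⁻¹) b := h4
  have h6 : Commute (a⁻¹ * (a * (t * r⁻¹) * c⁻¹) * c) b := (ca.inv_left.mul_left h5).mul_left cc
  have e2 : a⁻¹ * (a * (t * r⁻¹) * c⁻¹) * c = t * r⁻¹ := by group
  rw [e2] at h6
  exact h6.eq

/-- a partner -/
theorem exists_partner {Q : Subgroup G} (hp : Pla V Z Q) {X T R M : Subgroup G} (hX : IsCj Z X) (hT : IsCj Z T)
    (hR : IsCj Z R) (hM : IsCj V M) (hXQ : X ≤ Q) (hMQ : M ≤ Q) (hTM : T ≤ M) (hRM : R ≤ M) (hXM : ¬ X ≤ M)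
    {r : G} (hr : r ∈ ee M Z R) : ∃ t ∈ ee M Z T, t * r⁻¹ ∈ kx V X := by
  have hTX : T ≠ X := fun e => hXM (e ▸ hTM)
  have hRX : R ≠ X := fun e => hXM (e ▸ hRM)
  have hrW : r ∈ ws V R := by
    have := ee_le hr
    rwa [ws_line hM] at this
  obtain ⟨L, hL, hLQ, hTL, hXL⟩ := hp.col T X hT hX (hTM.trans hMQ) hXQ hTX
  obtain ⟨b, hb, k, hk, rfl⟩ := hp.img X R T hX hR hT hXQ (hRM.trans hMQ) (hTM.trans hMQ) hRX hTX r hrW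
  have hML : M ≠ L := fun e => hXM (e ▸ hXL)
  obtain ⟨e, he, f, hf, rfl⟩ := hp.spl T M L hT hM hL hMQ hLQ hTM hTL hML b hb
  refine ⟨e, he, ?_⟩
  rw [h.ee_line hL hT hTL hX hXL hTX.symm] at hf
  have h1 : e * (e * f * k)⁻¹ = e * (f * k)⁻¹ * e⁻¹ := by group
  rw [h1]
  have heW : e ∈ ws V T := by
    have := ee_le he
    rwa [ws_line hM] at this
  have h2 : e ∈ normalizer (X : Set G) :=
    centralizer_le_normalizer _ (centralizer_le hXL (h.ws_le_line hL hT hTL heW))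
  exact (mem_normalizer_iff.1 (normalizer_le_kx V X h2) _).1 (inv_mem (mul_mem hf.2 hk))

/-- (5.4) the commutator -/
theorem comm_eq {Q : Subgroup G} (hp : Pla V Z Q) (hN : NN V Z) {X T M N R R' : Subgroup G} (hX : IsCj Z X)
    (hT : IsCj Z T) (hM : IsCj V M) (hN' : IsCj V N) (hR : IsCj Z R) (hR' : IsCj Z R') (hXQ : X ≤ Q) (hMQ : M ≤ Q)
    (hNQ : N ≤ Q) (hTM : T ≤ M) (hTN : T ≤ N) (hRM : R ≤ M) (hRN : R' ≤ N) (hRT : R ≠ T) (hRT' : R' ≠ T)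
    (hMN : M ≠ N) (hXM : ¬ X ≤ M) (hXN : ¬ X ≤ N) {t r t' r' : G} (ht : t ∈ ee M Z T) (hr : r ∈ ee M Z R)
    (hj : t * r⁻¹ ∈ kx V X) (ht' : t' ∈ ee N Z T) (hr' : r' ∈ ee N Z R') (hj' : t' * r'⁻¹ ∈ kx V X) :
    (t * r⁻¹) * (t' * r'⁻¹) * (t * r⁻¹)⁻¹ * (t' * r'⁻¹)⁻¹ = r * r' * r⁻¹ * r'⁻¹ ∧ r * r' * r⁻¹ * r'⁻¹ ∈ T := by
  have hRN' : ¬ R ≤ N := fun e => hMN (h.line_eq hM hN' hR hT hRM hTM e hTN hRT)
  have hRM' : ¬ R' ≤ M := fun e => hMN (h.line_eq hM hN' hR' hT e hTM hRN hTN hRT')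
  have htW : t ∈ ws V T := by
    have := ee_le ht
    rwa [ws_line hM] at this
  have hrW : r ∈ ws V R := by
    have := ee_le hr
    rwa [ws_line hM] at this
  have htW' : t' ∈ ws V T := by
    have := ee_le ht'
    rwa [ws_line hN'] at this
  have hrW' : r' ∈ ws V R' := by
    have := ee_le hr'
    rwa [ws_line hN'] at this
  have h1 := hp.cent_all h hN hX hT hR hM hXQ hMQ hTM hRM hXM ht hr hj hR' (hRN.trans hNQ) hRM' hrW'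
  have h2 := hp.cent_all h hN hX hT hR' hN' hXQ hNQ hTN hRN hXN ht' hr' hj' hR (hRM.trans hMQ) hRN' hrW
  have hri : r⁻¹ = r := h.W_inv hR hrW
  have hQc : ∀ {u : G}, u ∈ Q → ∀ {A : Subgroup G}, IsCj Z A → A ≤ Q → ∀ {w : G}, w ∈ ws V A →
      w * u * w⁻¹ = u := by
    intro u hu A hA hAQ w hw
    rw [← hp.Q_comm h hA hAQ hu hw, mul_inv_cancel_right]
  -- `[j, j'] = [j, t']`
  have e1 : (t * r⁻¹) * (t' * r'⁻¹) * (t * r⁻¹)⁻¹ * (t' * r'⁻¹)⁻¹ = (t * r⁻¹) * t' * (t * r⁻¹)⁻¹ * t'⁻¹ := by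
    have c1 : Commute (t * r⁻¹) r' := h1
    have c2 := c1.inv_right.inv_left
    calc (t * r⁻¹) * (t' * r'⁻¹) * (t * r⁻¹)⁻¹ * (t' * r'⁻¹)⁻¹
        = (t * r⁻¹) * t' * (r'⁻¹ * (t * r⁻¹)⁻¹) * (t' * r'⁻¹)⁻¹ := by group
      _ = (t * r⁻¹) * t' * ((t * r⁻¹)⁻¹ * r'⁻¹) * (t' * r'⁻¹)⁻¹ := by rw [c2.eq]
      _ = _ := by group
  have h3 : r⁻¹ * t' * r * t'⁻¹ ∈ Q := by
    have := hp.comm_mem h hR (hRM.trans hMQ) hT (hTM.trans hMQ) (inv_mem hrW) htW'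
    rwa [inv_inv] at this
  have e2 : (t * r⁻¹) * t' * (t * r⁻¹)⁻¹ * t'⁻¹ = r⁻¹ * t' * r * t'⁻¹ := by
    have c1 : t⁻¹ * t'⁻¹ = t'⁻¹ * t⁻¹ := h.comm_W hT (inv_mem htW) (inv_mem htW')
    calc (t * r⁻¹) * t' * (t * r⁻¹)⁻¹ * t'⁻¹ = t * r⁻¹ * t' * r * (t⁻¹ * t'⁻¹) := by group
      _ = t * r⁻¹ * t' * r * (t'⁻¹ * t⁻¹) := by rw [c1]
      _ = t * (r⁻¹ * t' * r * t'⁻¹) * t⁻¹ := by group
      _ = _ := hQc h3 hT (hTM.trans hMQ) htW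
  have h4 : r * t' * r⁻¹ * t'⁻¹ = r⁻¹ * t' * r * t'⁻¹ := by rw [hri]
  have h5 : r * r' * r⁻¹ * r'⁻¹ ∈ Q := hp.comm_mem h hR (hRM.trans hMQ) hR' (hRN.trans hNQ) hrW hrW'
  have e3 : r * t' * r⁻¹ * t'⁻¹ = r * r' * r⁻¹ * r'⁻¹ := by
    have c1 : Commute (t' * r'⁻¹) r := h2
    have c2 : t' * r'⁻¹ * r = r * (t' * r'⁻¹) := c1.eq
    have c3 : r * t' = t' * r'⁻¹ * r * r' := by rw [c2]; group
    calc r * t' * r⁻¹ * t'⁻¹ = t' * (r'⁻¹ * (r * r' * r⁻¹ * r'⁻¹) * r'⁻¹⁻¹) * t'⁻¹ := by rw [c3]; group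
      _ = t' * (r * r' * r⁻¹ * r'⁻¹) * t'⁻¹ := by rw [hQc h5 hR' (hRN.trans hNQ) (inv_mem hrW')]
      _ = _ := hQc h5 hT (hTM.trans hMQ) htW'
  refine ⟨by rw [e1, e2, ← h4, e3], ?_⟩
  rw [← e3]
  exact h.ee_line_act hM hR hRM hT hTM hRT.symm hr htW'

/-- (5.4) -/
theorem exists_comm {Q : Subgroup G} (hp : Pla V Z Q) (hN : NN V Z) {X T : Subgroup G} (hX : IsCj Z X)
    (hT : IsCj Z T) (hXQ : X ≤ Q) (hTQ : T ≤ Q) (hne : T ≠ X) :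
    ∃ j ∈ fq V Z Q, ∃ j' ∈ fq V Z Q, j ∈ centralizer ((ws V X : Subgroup G) : Set G) ∧
      j' ∈ centralizer ((ws V X : Subgroup G) : Set G) ∧ j * j' * j⁻¹ * j'⁻¹ ∈ T ∧ j * j' * j⁻¹ * j'⁻¹ ≠ 1 := by
  obtain ⟨M, N, hM, hN', hMQ, hNQ, hTM, hTN, hMN, hXM, hXN⟩ := hp.exists_two h hX hT hXQ hTQ hne
  obtain ⟨R, hR, hRM, hRT⟩ := exists_pt h hM hT hTM
  obtain ⟨R', hR', hRN, hRT'⟩ := exists_pt h hN' hT hTN
  have hRN' : ¬ R ≤ N := fun e => hMN (h.line_eq hM hN' hR hT hRM hTM e hTN hRT)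
  by_contra hcon
  have key : ∀ r ∈ ee M Z R, ∀ r' ∈ ee N Z R', r * r' * r⁻¹ * r'⁻¹ = 1 := by
    intro r hr r' hr'
    by_contra h1
    obtain ⟨t, ht, hj⟩ := hp.exists_partner h hX hT hR hM hXQ hMQ hTM hRM hXM hr
    obtain ⟨t', ht', hj'⟩ := hp.exists_partner h hX hT hR' hN' hXQ hNQ hTN hRN hXN hr'
    obtain ⟨e1, h2⟩ := hp.comm_eq h hN hX hT hM hN' hR hR' hXQ hMQ hNQ hTM hTN hRM hRN hRT hRT' hMN hXM hXN ht hr hj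
      ht' hr' hj'
    have hm : ∀ {A L : Subgroup G}, IsCj Z A → IsCj V L → A ≤ L → L ≤ Q → ∀ {a : G}, a ∈ ee L Z A →
        a ∈ fq V Z Q := by
      intro A L hA hL hAL hLQ a ha
      have h3 := ee_le ha
      rw [ws_line hL] at h3
      exact ws_le_fq hA (hAL.trans hLQ) h3
    refine hcon ⟨t * r⁻¹, mul_mem (hm hT hM hTM hMQ ht) (inv_mem (hm hR hM hRM hMQ hr)), t' * r'⁻¹,
      mul_mem (hm hT hN' hTN hNQ ht') (inv_mem (hm hR' hN' hRN hNQ hr')), ?_, ?_, ?_, ?_⟩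
    · rw [mem_centralizer_iff]
      exact fun w hw => (hp.cent_W h hX hT hR hM hXQ hMQ hTM hRM hXM ht hr hj hw).symm
    · rw [mem_centralizer_iff]
      exact fun w hw => (hp.cent_W h hX hT hR' hN' hXQ hNQ hTN hRN hXN ht' hr' hj' hw).symm
    · rw [e1]; exact h2
    · rw [e1]; exact h1
  have hRR : R ≠ R' := fun e => hRN' (e ▸ hRN)
  obtain ⟨A, hA, hAQ, hRA, hRA'⟩ := hp.col R R' hR hR' (hRM.trans hMQ) (hRN.trans hNQ) hRR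
  have hNA : N ≠ A := fun e => hRN' (e ▸ hRA)
  have hMA : M ≠ A := by
    rintro rfl
    exact hMN (h.line_eq hM hN' hR' hT hRA' hTM hRN hTN hRT')
  have hEW : ∀ {A L : Subgroup G}, IsCj V L → ∀ {a : G}, a ∈ ee L Z A → a ∈ ws V A := by
    intro A L hL a ha
    have h3 := ee_le ha
    rwa [ws_line hL] at h3
  -- `E_R(M) ≤ D_R`
  have h1 : ∀ r ∈ ee M Z R, r ∈ centralizer ((fq V Z Q : Subgroup G) : Set G) := by
    intro r hr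
    refine hp.dd_cent h hN hR hA hAQ hRA (h.nn_dd hN hA hR hRA hR' hRA' hRR.symm (hEW hM hr) fun b hb => ?_)
    obtain ⟨b1, hb1, b2, hb2, rfl⟩ := hp.spl R' N A hR' hN' hA hNQ hAQ hRN hRA' hNA b hb
    have h2 := key r hr b1 hb1
    have h3 := inv_mem (h.ee_line_act hA hR' hRA' hR hRA hRR hb2 (hEW hM hr))
    have e1 : (b2 * r * b2⁻¹ * r⁻¹)⁻¹ = r * b2 * r⁻¹ * b2⁻¹ := by group
    rw [e1] at h3
    have e2 : r * (b1 * b2) * r⁻¹ * (b1 * b2)⁻¹ = (r * b1 * r⁻¹ * b1⁻¹) * (b1 * (r * b2 * r⁻¹ * b2⁻¹) * b1⁻¹) := by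
      group
    rw [e2, h2, one_mul, ← hp.Q_comm h hR' (hRN.trans hNQ) (hRA.trans hAQ h3) (hEW hN' hb1), mul_inv_cancel_right]
    exact h3
  have h2 : ee M Z R ≤ dd M Z R := by
    intro r hr
    rw [h.dd_line hM hR hRM hT hTM hRT.symm]
    exact ⟨hEW hM hr, centralizer_le (ws_le_fq hT hTQ) (h1 r hr)⟩
  have h3 := h.ee_le_dd_flag hM hR hRM hA hR hRA h2
  apply h.dd_ne_line hM hR hRM
  intro a ha
  obtain ⟨b, hb, c, hc, rfl⟩ := hp.spl R M A hR hM hA hMQ hAQ hRM hRA hMA a ha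
  have h4 : c ∈ centralizer ((fq V Z Q : Subgroup G) : Set G) := hp.dd_cent h hN hR hA hAQ hRA (h3 hc)
  rw [h.dd_line hM hR hRM hT hTM hRT.symm]
  exact ⟨ha, centralizer_le (ws_le_fq hT hTQ) (mul_mem (h1 b hb) h4)⟩

end Pla

end Cfsg.Agent.Omega.NO3S.OneQ
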