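import Cfsg.Agent.Omega.NO3S.OneQ.Plane

/-!
# NO-3S, critical distance 1: LEMMA PLANE, the end (bb OMEGA #17961, (5.5))

* `Pla.gam` : `[C_G(W_X), F_Q] ≤ D_Q`;
* `Pla.comm_cent` : `W_R^g` centralises `Q`, for points `R ≠ X` of `Q` and `g ∈ W_Y`, `Y ≠ X` a point of a plane on `X`;
* **`One.no_plane`** : there is no plane (`Pla V Z Q`), if (N) holds.
-/

set_option autoImplicit false
set_option linter.unusedSectionVars false

namespace Cfsg.Agent.Omega.NO3S.OneQ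

open Subgroup Cfsg Cfsg.Agent.Omega.NO3S.PT Cfsg.Agent.Omega.NoFF.Basic
open scoped Pointwise

variable {G : Type*} [Group G]

theorem cj_fq (V Z Q : Subgroup G) (g : G) : PT.cj g (fq V Z Q) = fq V Z (PT.cj g Q) := by
  have key : ∀ (g : G) (Q : Subgroup G), fq V Z Q ≤ PT.cj g⁻¹ (fq V Z (PT.cj g Q)) := by
    intro g Q
    refine sSup_le ?_
    rintro _ ⟨X, hX, hXQ, rfl⟩
    rw [le_cj_iff, inv_inv, ← ws_cj]
    exact ws_le_fq (hX.cj g) (cj_le_cj.2 hXQ)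
  apply le_antisymm
  · rw [cj_le_iff]; exact key g Q
  · have h1 := key g⁻¹ (PT.cj g Q)
    rwa [cj_cj, inv_mul_cancel, cj_one, inv_inv] at h1

/-- two involutions with `(x y)^4 = 1` generate a 2-group -/
theorem isPGroup_pair {x y : G} (hx : x * x = 1) (hy : y * y = 1) (h : (x * y) ^ 4 = 1) :
    IsPGroup 2 (closure {x, y} : Subgroup G) := by
  have hxi : x⁻¹ = x := inv_eq_of_mul_eq_one_left hx
  have hyi : y⁻¹ = y := inv_eq_of_mul_eq_one_left hy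
  have h1 : IsPGroup 2 (zpowers (x * y)) := by
    rintro ⟨w, hw⟩
    obtain ⟨k, rfl⟩ := mem_zpowers_iff.mp hw
    refine ⟨2, Subtype.ext ?_⟩
    change ((x * y) ^ k) ^ (2 ^ 2) = 1
    have : ((x * y) ^ k) ^ (2 ^ 2) = ((x * y) ^ 4) ^ k := by
      rw [← zpow_natCast, ← zpow_mul, ← zpow_natCast, ← zpow_mul, mul_comm]
      norm_num
    rw [this, h, one_zpow]
  have h2 : IsPGroup 2 (zpowers x) := by
    rintro ⟨w, hw⟩
    obtain ⟨k, rfl⟩ := mem_zpowers_iff.mp hw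
    refine ⟨1, Subtype.ext ?_⟩
    change (x ^ k) ^ (2 ^ 1) = 1
    have : (x ^ k) ^ (2 ^ 1) = (x * x) ^ k := by
      rw [← pow_two, ← zpow_natCast, ← zpow_mul, ← zpow_natCast, ← zpow_mul, mul_comm]
      norm_num
    rw [this, hx, one_zpow]
  have hinv : x * (x * y) * x⁻¹ = (x * y)⁻¹ := by
    rw [mul_inv_rev, hyi, ← mul_assoc x, hx, one_mul]
  have hn : zpowers x ≤ normalizer (zpowers (x * y) : Set G) := by
    rw [zpowers_le, mem_normalizer_iff]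
    intro w
    have key : ∀ w ∈ zpowers (x * y), x * w * x⁻¹ ∈ zpowers (x * y) := by
      intro w hw
      obtain ⟨k, rfl⟩ := mem_zpowers_iff.mp hw
      rw [← conj_zpow, hinv]
      exact Subgroup.zpow_mem _ (Subgroup.inv_mem _ (mem_zpowers _)) k
    refine ⟨key w, fun hw => ?_⟩
    have h3 := key _ hw
    have e : x * (x * w * x⁻¹) * x⁻¹ = w := by
      calc x * (x * w * x⁻¹) * x⁻¹ = (x * x) * w * (x * x)⁻¹ := by group
        _ = w := by rw [hx]; group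
    rwa [e] at h3
  have h3 := IsPGroup.to_sup_of_normal_right' h2 h1 hn
  refine h3.to_le ?_
  rw [closure_le]
  rintro w (rfl | hw)
  · exact mem_sup_left (mem_zpowers _)
  · rw [Set.mem_singleton_iff.1 hw]
    have h4 : x * (x * y) ∈ zpowers x ⊔ zpowers (x * y) :=
      Subgroup.mul_mem _ (mem_sup_left (mem_zpowers _)) (mem_sup_right (mem_zpowers _))
    rwa [← mul_assoc, hx, one_mul] at h4

/-- `J`, `J'` are central in `Γ` modulo `D`, `a b = b a`: `[a J, b J'] ∈ D` -/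
theorem comm_mod {Γ D : Subgroup G} (hD : D ≤ Γ) (hn : ∀ γ ∈ Γ, ∀ d ∈ D, γ * d * γ⁻¹ ∈ D) {a b J J' : G}
    (ha : a ∈ Γ) (hb : b ∈ Γ) (hJ : J ∈ Γ) (hJ' : J' ∈ Γ) (hab : a * b = b * a)
    (hc : ∀ γ ∈ Γ, γ * J * γ⁻¹ * J⁻¹ ∈ D) (hc' : ∀ γ ∈ Γ, γ * J' * γ⁻¹ * J'⁻¹ ∈ D) :
    (a * J) * (b * J') * (a * J)⁻¹ * (b * J')⁻¹ ∈ D := by
  have : (D.subgroupOf Γ).Normal := ⟨fun d hd γ => hn γ γ.2 d hd⟩
  set π := QuotientGroup.mk' (D.subgroupOf Γ) with hπ
  have hcom : ∀ {x y : Γ}, (x : G) * y * (x : G)⁻¹ * (y : G)⁻¹ ∈ D → π x * π y = π y * π x := by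
    intro x y hxy
    have h1 : x * y * x⁻¹ * y⁻¹ ∈ D.subgroupOf Γ := hxy
    have h2 := (QuotientGroup.eq_one_iff _).2 h1
    have h3 : π (x * y * x⁻¹ * y⁻¹) = 1 := h2
    rw [map_mul, map_mul, map_mul, map_inv, map_inv, mul_inv_eq_one, mul_inv_eq_iff_eq_mul] at h3
    exact h3
  let a' : Γ := ⟨a, ha⟩
  let b' : Γ := ⟨b, hb⟩
  let j : Γ := ⟨J, hJ⟩
  let j' : Γ := ⟨J', hJ'⟩
  have e1 : Commute (π a') (π b') := by
    show π a' * π b' = π b' * π a'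
    rw [← map_mul, ← map_mul]
    congr 1
    exact Subtype.ext hab
  have e2 : ∀ x : Γ, Commute (π x) (π j) := fun x => hcom (hc x x.2)
  have e3 : ∀ x : Γ, Commute (π x) (π j') := fun x => hcom (hc' x x.2)
  have e4 : Commute (π a' * π j) (π b' * π j') :=
    (e1.mul_right (e3 a')).mul_left (((e2 b').symm).mul_right (e3 j))
  have e5 : π ((a' * j) * (b' * j') * (a' * j)⁻¹ * (b' * j')⁻¹) = 1 := by
    rw [map_mul, map_mul, map_mul, map_inv, map_inv, map_mul, map_mul, e4.eq]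
    group
  have e6 : (a' * j) * (b' * j') * (a' * j)⁻¹ * (b' * j')⁻¹ ∈ D.subgroupOf Γ := (QuotientGroup.eq_one_iff _).1 e5
  exact e6

theorem comm_pow {a g : G} (ha : a⁻¹ = a) (hg : g⁻¹ = g) :
    a * (g * a * g⁻¹) * a⁻¹ * (g * a * g⁻¹)⁻¹ = (a * g) ^ 4 := by
  have e2 : (g * a * g⁻¹)⁻¹ = g * a * g := by
    rw [mul_inv_rev, mul_inv_rev, inv_inv, ha, hg, mul_assoc]
  rw [e2, ha, hg]
  simp only [pow_succ, pow_zero, one_mul, mul_assoc]

namespace Pla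

variable [Finite G] {S : Sylow 2 G} {B P V Z : Subgroup G} (h : One S B P V Z)
include h

/-- `[C_G(W_X), F_Q] ≤ D_Q` -/
theorem gam {Q : Subgroup G} (hp : Pla V Z Q) (hN : NN V Z) {X : Subgroup G} (hX : IsCj Z X) (hXQ : X ≤ Q) {b : G}
    (hb : b ∈ fq V Z Q) : ∀ γ ∈ centralizer ((ws V X : Subgroup G) : Set G), γ * b * γ⁻¹ * b⁻¹ ∈ dq V Z Q := by
  let A : Subgroup G :=
    { carrier := {b | b ∈ fq V Z Q ∧ ∀ γ ∈ centralizer ((ws V X : Subgroup G) : Set G), γ * b * γ⁻¹ * b⁻¹ ∈ dq V Z Q}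
      one_mem' := ⟨one_mem _, fun γ _ => by
        have : γ * 1 * γ⁻¹ * (1 : G)⁻¹ = 1 := by group
        rw [this]; exact one_mem _⟩
      mul_mem' := by
        rintro a b ⟨ha, ha'⟩ ⟨hb, hb'⟩
        refine ⟨mul_mem ha hb, fun γ hγ => ?_⟩
        have e1 : γ * (a * b) * γ⁻¹ * (a * b)⁻¹ = (γ * a * γ⁻¹ * a⁻¹) * (a * (γ * b * γ⁻¹ * b⁻¹) * a⁻¹) := by group
        have h1 := mem_centralizer_iff.1 (dq_le_cent (hb' γ hγ)) a ha
        rw [e1, h1, mul_inv_cancel_right]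
        exact mul_mem (ha' γ hγ) (hb' γ hγ)
      inv_mem' := by
        rintro a ⟨ha, ha'⟩
        refine ⟨inv_mem ha, fun γ hγ => ?_⟩
        have e1 : γ * a⁻¹ * γ⁻¹ * a⁻¹⁻¹ = a⁻¹ * ((γ * a * γ⁻¹ * a⁻¹)⁻¹ * a) := by group
        have h1 := mem_centralizer_iff.1 (dq_le_cent (inv_mem (ha' γ hγ))) a ha
        rw [e1, ← h1, inv_mul_cancel_left]
        exact inv_mem (ha' γ hγ) }
  have hA : fq V Z Q ≤ A := by
    refine sSup_le ?_
    rintro _ ⟨Y, hY, hYQ, rfl⟩ b hb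
    refine ⟨ws_le_fq hY hYQ hb, fun γ hγ => ?_⟩
    by_cases hYX : Y = X
    · subst hYX
      have h1 : γ * b = b * γ := (mem_centralizer_iff.1 hγ b hb).symm
      rw [h1, mul_inv_cancel_right, mul_inv_cancel]
      exact one_mem _
    obtain ⟨L, hL, hLQ, hXL, hYL⟩ := hp.col X Y hX hY hXQ hYQ (Ne.symm hYX)
    refine hp.dd_le_dq h hN hY hL hLQ hYL ?_
    rw [h.dd_line hL hY hYL hX hXL (Ne.symm hYX)]
    have h1 : γ ∈ normalizer ((ws V Y : Subgroup G) : Set G) :=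
      normalizer_le_ws V Y (centralizer_le_normalizer _ (centralizer_le (hYL.trans (h.line_le_ws hL hXL)) hγ))
    have h2 : b ∈ normalizer ((ws V X : Subgroup G) : Set G) :=
      normalizer_le_ws V X (centralizer_le_normalizer _ (centralizer_le hXL (h.ws_le_line hL hY hYL hb)))
    refine ⟨(ws V Y).mul_mem ((mem_normalizer_iff.1 h1 b).1 hb) ((ws V Y).inv_mem hb), ?_⟩
    have h3 : b * γ⁻¹ * b⁻¹ ∈ centralizer ((ws V X : Subgroup G) : Set G) := by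
      have h4 := conj_mem_cj (g := b) (inv_mem hγ)
      rwa [cj_centralizer, cj_eq_iff.2 h2] at h4
    have e1 : γ * b * γ⁻¹ * b⁻¹ = γ * (b * γ⁻¹ * b⁻¹) := by group
    rw [e1]
    exact mul_mem hγ h3
  exact (hA hb).2

/-- points of a plane are collinear: `W_Y ≤ C_G(X)` -/
theorem ws_le_cent {Q : Subgroup G} (hp : Pla V Z Q) {X Y : Subgroup G} (hX : IsCj Z X) (hY : IsCj Z Y)
    (hXQ : X ≤ Q) (hYQ : Y ≤ Q) : ws V Y ≤ centralizer (X : Set G) := by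
  intro b hb
  rw [mem_centralizer_iff]
  exact fun x hx => hp.Q_comm h hY hYQ (hXQ hx) hb

/-- **(5.5)** -/
theorem comm_cent {Q Q₁ : Subgroup G} (hp : Pla V Z Q) (hp₁ : Pla V Z Q₁) (hN : NN V Z) {X Y : Subgroup G}
    (hX : IsCj Z X) (hXQ : X ≤ Q) (hXQ₁ : X ≤ Q₁) (hY : IsCj Z Y) (hYQ : Y ≤ Q₁) {g : G}
    (hg : g ∈ ws V Y) {R : Subgroup G} (hR : IsCj Z R) (hRQ : R ≤ Q) (hRX : R ≠ X) {b : G}
    (hb : b ∈ ws V (PT.cj g R)) : b ∈ centralizer (Q : Set G) := by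
  have _ := hRX
  have hgX : g ∈ centralizer (X : Set G) := hp₁.ws_le_cent h hX hY hXQ₁ hYQ hg
  have hcX : PT.cj g X = X := cj_eq_iff.2 (centralizer_le_normalizer _ hgX)
  have hp' := hp.cj g
  have hXQ' : X ≤ PT.cj g Q := by rw [← hcX]; exact cj_le_cj.2 hXQ
  have hR' : IsCj Z (PT.cj g R) := hR.cj g
  have hRQ' : PT.cj g R ≤ PT.cj g Q := cj_le_cj.2 hRQ
  have hbX : b ∈ centralizer (X : Set G) := hp'.ws_le_cent h hX hR' hXQ' hRQ' hb
  have hgW : g ∈ normalizer ((ws V X : Subgroup G) : Set G) :=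
    normalizer_le_ws V X (centralizer_le_normalizer _ hgX)
  -- every point `T ≠ X` of `Q` is centralised by `b`
  have key : ∀ T, IsCj Z T → T ≤ Q → T ≠ X → ∀ u ∈ T, b * u = u * b := by
    intro T hT hTQ hTX u hu
    obtain ⟨j, hj, j', hj', hjc, hjc', hcT, hc1⟩ := hp.exists_comm h hN hX hT hXQ hTQ hTX
    obtain ⟨L, hL, hLQ, hXL, hTL⟩ := hp.col X T hX hT hXQ hTQ hTX.symm
    have hΓ : dq V Z (PT.cj g Q) ≤ centralizer ((ws V X : Subgroup G) : Set G) :=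
      dq_le_cent.trans (centralizer_le (ws_le_fq hX hXQ'))
    have hcon : ∀ {j : G}, j ∈ fq V Z Q → g * j * g⁻¹ ∈ fq V Z (PT.cj g Q) := by
      intro j hj
      rw [← cj_fq]
      exact conj_mem_cj hj
    have hcen : ∀ {j : G}, j ∈ centralizer ((ws V X : Subgroup G) : Set G) →
        g * j * g⁻¹ ∈ centralizer ((ws V X : Subgroup G) : Set G) := by
      intro j hj
      have h4 := conj_mem_cj (g := g) hj
      rwa [cj_centralizer, cj_eq_iff.2 hgW] at h4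
    -- `d = [j, g] ∈ D_{Q₁}`
    have hd := fun {j : G} (hj : j ∈ centralizer ((ws V X : Subgroup G) : Set G)) =>
      hp₁.gam h hN hX hXQ₁ (ws_le_fq hY hYQ hg) j hj
    have hdc : ∀ {j : G}, j ∈ centralizer ((ws V X : Subgroup G) : Set G) →
        j * g * j⁻¹ * g⁻¹ ∈ centralizer ((ws V X : Subgroup G) : Set G) := fun {j} hj =>
      centralizer_le (ws_le_fq hX hXQ₁) (dq_le_cent (hd hj))
    have hdd : (j * g * j⁻¹ * g⁻¹) * (j' * g * j'⁻¹ * g⁻¹) = (j' * g * j'⁻¹ * g⁻¹) * (j * g * j⁻¹ * g⁻¹) :=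
      (mem_centralizer_iff.1 (dq_le_cent (hd hjc)) _ (dq_le_fq (hd hjc'))).symm
    have e1 : ∀ j : G, j = (j * g * j⁻¹ * g⁻¹) * (g * j * g⁻¹) := fun j => by group
    have h1 := comm_mod (Γ := centralizer ((ws V X : Subgroup G) : Set G)) (D := dq V Z (PT.cj g Q)) hΓ
      (fun γ hγ d hd => by
        have h2 := hp'.gam h hN hX hXQ' (dq_le_fq hd) γ hγ
        have h3 := mul_mem h2 hd
        rwa [inv_mul_cancel_right] at h3)
      (hdc hjc) (hdc hjc') (hcen hjc) (hcen hjc') hdd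
      (fun γ hγ => hp'.gam h hN hX hXQ' (hcon hj) γ hγ) (fun γ hγ => hp'.gam h hN hX hXQ' (hcon hj') γ hγ)
    rw [← e1 j, ← e1 j'] at h1
    have h2 : b * (j * j' * j⁻¹ * j'⁻¹) = (j * j' * j⁻¹ * j'⁻¹) * b :=
      mem_centralizer_iff.1 (dq_le_cent h1) b (ws_le_fq hR' hRQ' hb)
    have h3 := h.lin_fix hL hX hXL hT hTL hTX.symm hbX hcT hc1 h2
    exact (mem_centralizer_iff.1 h3 u (hTL hu)).symm
  rw [mem_centralizer_iff]
  intro u hu
  by_cases hu1 : u = 1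
  · rw [hu1, one_mul, mul_one]
  obtain ⟨T, hT, hTQ, huT⟩ := hp.cov u hu hu1
  by_cases hTX : T = X
  · exact mem_centralizer_iff.1 hbX u (hTX ▸ huT)
  · exact (key T hT hTQ hTX u huT).symm

/-- `[a, a^g] ∈ C_G(W_X)` -/
theorem comm_conj {Q Q₁ : Subgroup G} (hp : Pla V Z Q) (hp₁ : Pla V Z Q₁) (hN : NN V Z) {X Y : Subgroup G}
    (hX : IsCj Z X) (hXQ : X ≤ Q) (hXQ₁ : X ≤ Q₁) (hY : IsCj Z Y) (hYQ : Y ≤ Q₁) {g : G}
    (hg : g ∈ ws V Y) {R : Subgroup G} (hR : IsCj Z R) (hRQ : R ≤ Q) (hRX : R ≠ X) {a : G} (ha : a ∈ ws V R) :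
    a * (g * a * g⁻¹) * a⁻¹ * (g * a * g⁻¹)⁻¹ ∈ centralizer ((ws V X : Subgroup G) : Set G) := by
  have hgX : g ∈ centralizer (X : Set G) := hp₁.ws_le_cent h hX hY hXQ₁ hYQ hg
  have hcX : PT.cj g X = X := cj_eq_iff.2 (centralizer_le_normalizer _ hgX)
  have hp' := hp.cj g
  have hXQ' : X ≤ PT.cj g Q := by rw [← hcX]; exact cj_le_cj.2 hXQ
  have hgi : g⁻¹ = g := h.W_inv hY hg
  set b := g * a * g⁻¹ with hb
  have hbW : b ∈ ws V (PT.cj g R) := by rw [ws_cj]; exact conj_mem_cj ha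
  have hbQ : b ∈ centralizer (Q : Set G) := hp.comm_cent h hp₁ hN hX hXQ hXQ₁ hY hYQ hg hR hRQ hRX hbW
  have haQ : a ∈ centralizer ((PT.cj g Q : Subgroup G) : Set G) := by
    rw [← cj_centralizer, mem_cj]
    have e1 : g⁻¹ * a * g = b := by
      rw [hb, hgi]
    rw [e1]; exact hbQ
  have haX : a ∈ centralizer (X : Set G) := hp.ws_le_cent h hX hR hXQ hRQ ha
  have hbX : b ∈ centralizer (X : Set G) := hp'.ws_le_cent h hX (hR.cj g) hXQ' (cj_le_cj.2 hRQ) hbW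
  have hnW : ∀ {c : G}, c ∈ centralizer (X : Set G) → c ∈ normalizer ((ws V X : Subgroup G) : Set G) := fun {c} hc =>
    normalizer_le_ws V X (centralizer_le_normalizer _ hc)
  have key : ∀ w ∈ ws V X, (a * b) * w * (a * b)⁻¹ = (b * a) * w * (b * a)⁻¹ := by
    intro w hw
    have h1 : a * w * a⁻¹ * w⁻¹ ∈ Q := hp.comm_mem h hR hRQ hX hXQ ha hw
    have h2 : b * w * b⁻¹ * w⁻¹ ∈ PT.cj g Q := hp'.comm_mem h (hR.cj g) (cj_le_cj.2 hRQ) hX hXQ' hbW hw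
    have h3 := mem_centralizer_iff.1 hbQ _ h1
    have h4 := mem_centralizer_iff.1 haQ _ h2
    have h5 : (a * w * a⁻¹ * w⁻¹) * (b * w * b⁻¹ * w⁻¹) = (b * w * b⁻¹ * w⁻¹) * (a * w * a⁻¹ * w⁻¹) :=
      h.comm_W hX (hp.leW X hX hXQ h1) (hp'.leW X hX hXQ' h2)
    calc (a * b) * w * (a * b)⁻¹ = (a * (b * w * b⁻¹ * w⁻¹)) * (w * a⁻¹) := by group
      _ = ((b * w * b⁻¹ * w⁻¹) * a) * (w * a⁻¹) := by rw [h4]
      _ = ((b * w * b⁻¹ * w⁻¹) * (a * w * a⁻¹ * w⁻¹)) * w := by group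
      _ = ((a * w * a⁻¹ * w⁻¹) * (b * w * b⁻¹ * w⁻¹)) * w := by rw [h5]
      _ = ((a * w * a⁻¹ * w⁻¹) * b) * (w * b⁻¹) := by group
      _ = (b * (a * w * a⁻¹ * w⁻¹)) * (w * b⁻¹) := by rw [h3]
      _ = _ := by group
  rw [mem_centralizer_iff]
  intro w hw
  have hba : b * a ∈ normalizer ((ws V X : Subgroup G) : Set G) := mul_mem (hnW hbX) (hnW haX)
  have hw' : (b * a)⁻¹ * w * (b * a) ∈ ws V X := by
    have h1 := (mem_normalizer_iff.1 (inv_mem hba) w).1 hw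
    rwa [inv_inv] at h1
  have h1 := key _ hw'
  have e1 : (b * a) * ((b * a)⁻¹ * w * (b * a)) * (b * a)⁻¹ = w := by group
  rw [e1] at h1
  have e2 : (a * b) * ((b * a)⁻¹ * w * (b * a)) * (a * b)⁻¹ =
    (a * b * a⁻¹ * b⁻¹) * w * (a * b * a⁻¹ * b⁻¹)⁻¹ := by group
  rw [e2, mul_inv_eq_iff_eq_mul] at h1
  exact h1.symm

end Pla

namespace One

variable [Finite G] {S : Sylow 2 G} {B P V Z : Subgroup G} (h : One S B P V Z)
include h

/-- **LEMMA PLANE** -/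
theorem no_plane (hN : NN V Z) {Q : Subgroup G} (hp : Pla V Z Q) : False := by
  obtain ⟨L, hL, hLQ⟩ := hp.ln
  obtain ⟨X, hX, hXL⟩ : ∃ X, IsCj Z X ∧ X ≤ L := by
    obtain ⟨g, rfl⟩ := hL
    exact ⟨PT.cj g Z, ⟨g, rfl⟩, cj_le_cj.2 h.pl.ZV⟩
  obtain ⟨R, hR, hRL, hRX⟩ := Pla.exists_pt h hL hX hXL
  have hXQ := hXL.trans hLQ
  have hRQ := hRL.trans hLQ
  have hWn : centralizer (X : Set G) ≤ normalizer ((ws V X : Subgroup G) : Set G) := fun c hc =>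
    normalizer_le_ws V X (centralizer_le_normalizer _ hc)
  set Γ : Subgroup (centralizer (X : Set G)) :=
    (centralizer ((ws V X : Subgroup G) : Set G)).subgroupOf (centralizer (X : Set G)) with hΓ
  have : Γ.Normal := by
    refine ⟨fun γ hγ c => ?_⟩
    rw [hΓ, mem_subgroupOf] at hγ ⊢
    have h4 := conj_mem_cj (g := (c : G)) hγ
    rwa [cj_centralizer, cj_eq_iff.2 (hWn c.2)] at h4
  set π := QuotientGroup.mk' Γ with hπ
  have key : ws V R ≤ kx V X := by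
    intro a ha
    have haX : a ∈ centralizer (X : Set G) := hp.ws_le_cent h hX hR hXQ hRQ ha
    let a' : centralizer (X : Set G) := ⟨a, haX⟩
    have ha2 : a' * a' = 1 := Subtype.ext (h.W_sq hR ha)
    have h1 : π a' ∈ pCore 2 (centralizer (X : Set G) ⧸ Γ) := by
      refine Cfsg.Agent.Involutions.BaerSuzuki.mem_pCore_of_conj_pairs (p := 2) _ fun c => ?_
      obtain ⟨c, rfl⟩ := QuotientGroup.mk'_surjective Γ c
      have hx : π a' * π a' = 1 := by rw [← map_mul, ha2, map_one]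
      have hai : a'⁻¹ = a' := inv_eq_of_mul_eq_one_left ha2
      set g' : centralizer (X : Set G) := c * a' * c⁻¹ with hg'
      have hgg : g' * g' = 1 := by
        rw [hg']
        calc c * a' * c⁻¹ * (c * a' * c⁻¹) = c * (a' * a') * c⁻¹ := by group
          _ = 1 := by rw [ha2]; group
      have hgi : g'⁻¹ = g' := inv_eq_of_mul_eq_one_left hgg
      have hy : π g' * π g' = 1 := by rw [← map_mul, hgg, map_one]
      have hcc : (QuotientGroup.mk' Γ) c * π a' * ((QuotientGroup.mk' Γ) c)⁻¹ = π g' := by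
        rw [hg', map_mul, map_mul, map_inv]
      rw [hcc]
      refine isPGroup_pair hx hy ?_
      -- the plane `Q^c`
      have hcX : PT.cj (c : G) X = X := cj_eq_iff.2 (centralizer_le_normalizer _ c.2)
      have h2 := hp.comm_conj h (hp.cj (c : G)) hN hX hXQ (hcX.symm.le.trans (cj_le_cj.2 hXQ))
        (hR.cj (c : G)) (cj_le_cj.2 hRQ) (g := (g' : G)) (by rw [ws_cj]; exact conj_mem_cj ha) hR hRQ hRX ha
      have h3 : a' * (g' * a' * g'⁻¹) * a'⁻¹ * (g' * a' * g'⁻¹)⁻¹ ∈ Γ := h2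
      have h4 : π (a' * (g' * a' * g'⁻¹) * a'⁻¹ * (g' * a' * g'⁻¹)⁻¹) = 1 := (QuotientGroup.eq_one_iff _).2 h3
      rw [comm_pow hai hgi, map_pow, map_mul] at h4
      exact h4
    refine mem_kx.2 ⟨fun x hx => (mem_centralizer_iff.1 haX x hx).symm, ?_⟩
    -- the subgroup of `W_X` of elements `w` with `[a, w] ∈ X`
    let A : Subgroup G :=
      { carrier := {w | w ∈ ws V X ∧ a * w * a⁻¹ * w⁻¹ ∈ X}
        one_mem' := ⟨one_mem _, by
          have : a * 1 * a⁻¹ * (1 : G)⁻¹ = 1 := by group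
          rw [this]; exact one_mem _⟩
        mul_mem' := by
          rintro u w ⟨hu, hu'⟩ ⟨hw, hw'⟩
          refine ⟨mul_mem hu hw, ?_⟩
          have e1 : a * (u * w) * a⁻¹ * (u * w)⁻¹ = (a * u * a⁻¹ * u⁻¹) * (u * (a * w * a⁻¹ * w⁻¹) * u⁻¹) := by group
          have h1 := hp.Q_comm h hX hXQ (hXQ hw') hu
          rw [e1, ← h1, mul_inv_cancel_right]
          exact mul_mem hu' hw'
        inv_mem' := by
          rintro u ⟨hu, hu'⟩
          refine ⟨inv_mem hu, ?_⟩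
          have e1 : a * u⁻¹ * a⁻¹ * u⁻¹⁻¹ = u⁻¹ * ((a * u * a⁻¹ * u⁻¹)⁻¹ * u) := by group
          have h1 := hp.Q_comm h hX hXQ (hXQ (inv_mem hu')) hu
          rw [e1, h1, inv_mul_cancel_left]
          exact inv_mem hu' }
    have hA : ws V X ≤ A := by
      refine ws_le fun M hM hXM v hv => ⟨h.line_le_ws hM hXM hv, ?_⟩
      obtain ⟨S', C', Q', h'⟩ := h.flag hM hX hXM
      exact h'.act_of_pCore Γ (fun γ hγ => centralizer_le (h.line_le_ws hM hXM) hγ) h1 hv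
    exact fun w hw => (hA hw).2
  -- `E_R(L) = W_R`
  obtain ⟨S', C', Q', h'⟩ := h.flag hL hR hRL
  apply h'.ee_ne h'.self
  rw [ee_of hR, h.ee_line hL hR hRL hX hXL hRX.symm, ws_line hL]
  exact inf_eq_left.2 key

end One

end Cfsg.Agent.Omega.NO3S.OneQ
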