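import Cfsg.Agent.Omega.NO3S.OneQ.Flag

/-!
# NO-3S, critical distance 1: relations between two lines on a point (bb OMEGA #19808, #19910)

`L`, `M` are lines on the point `X`, `Y ≠ X` a point of `L`, `Q ≠ X` a point of `M`.

* `One.star_comm` (1.1) : `e ∈ W_Q ∩ K_X` moving `Y`, `g ∈ K_X` moving `Q` and centralising all `D_T(L)`; then
  `[d, e] ∈ I_M` for `d ∈ D_Y(L)`;
* `One.star` (1.2) : then `D_X(L) ≤ I_L (D_X(L) ∩ I_M)`;
* **`One.n6`** (N6) : if `C_{W_X}(E_Y(L)) = E_X(L)`, `[Y, w] ≰ E_X(L)` for some `w ∈ W_Q`, and `Q ≰ E_X(L)`, then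
  `D_X(L) ≤ I_L`;
* **`One.kappa`** : `w ∈ W_Y`, `e ∈ W_Q ∩ K_X` moving `Y`, `e` centralises `[Q, w]`; then `[w, w^e] ∈ I_L ∩ I_M`.
-/

set_option autoImplicit false
set_option linter.unusedSectionVars false

namespace Cfsg.Agent.Omega.NO3S.OneQ

open Subgroup Cfsg.Agent.Omega.NO3S.PT Cfsg.Agent.Omega.NoFF.Basic
open scoped Pointwise

variable {G : Type*} [Group G]

namespace One

variable [Finite G] {S : Sylow 2 G} {B P V Z : Subgroup G} (h : One S B P V Z)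
include h

/-- `W_X ∩ W_Y = I_L` -/
theorem IV_line {L X Y : Subgroup G} (hL : IsCj V L) (hX : IsCj Z X) (hXL : X ≤ L) (hY : IsCj Z Y) (hYL : Y ≤ L)
    (hne : X ≠ Y) : ws V X ⊓ ws V Y = IV L Z := by
  obtain ⟨S', C', Q, h'⟩ := h.flag hL hX hXL
  have h1 := h'.pl.IV_eq h'.hf h'.self.cj hXL (h.pnt_line hX hY hYL).cj hYL hne
  rwa [ws_line hL, ws_line hL, IV_of hX] at h1

theorem I_le_dd_line {L X : Subgroup G} (hL : IsCj V L) (hX : IsCj Z X) (hXL : X ≤ L) : IV L Z ≤ dd L Z X := by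
  obtain ⟨S', C', Q, h'⟩ := h.flag hL hX hXL
  rw [← IV_of hX, ← dd_of hX]
  exact h'.I_le_dd h'.self

/-- `K_X` normalises the lines on `X` -/
theorem K_norm_line {L X : Subgroup G} (hL : IsCj V L) (hX : IsCj Z X) (hXL : X ≤ L) :
    kx V X ≤ normalizer (L : Set G) := by
  obtain ⟨S', C', Q, h'⟩ := h.flag hL hX hXL
  have h1 := h'.K_norm h'.self
  rwa [kx_line hL] at h1

/-- `K_X` normalises `I_L` -/
theorem K_norm_I {L X : Subgroup G} (hL : IsCj V L) (hX : IsCj Z X) (hXL : X ≤ L) :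
    kx V X ≤ normalizer ((IV L Z : Subgroup G) : Set G) := (h.K_norm_line hL hX hXL).trans (normalizer_le_IV L Z)

/-- `W_T` normalises `W_X` for `T, X` on a line -/
theorem W_norm_line {L X T : Subgroup G} (hL : IsCj V L) (hXL : X ≤ L) (hT : IsCj Z T) (hTL : T ≤ L) :
    ws V T ≤ normalizer ((ws V X : Subgroup G) : Set G) := by
  refine (h.ws_le_line hL hT hTL).trans ?_
  exact ((centralizer_le (show (X : Set G) ⊆ L from hXL)).trans (centralizer_le_normalizer _)).trans (normalizer_le_ws V X)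

/-- `D_T(L)` centralises all `W_R`, `R` a point of `L` -/
theorem dd_cent_line {L T R : Subgroup G} (hL : IsCj V L) (hT : IsCj Z T) (hTL : T ≤ L) (hR : IsCj Z R) (hRL : R ≤ L)
    {d w : G} (hd : d ∈ dd L Z T) (hw : w ∈ ws V R) : w * d = d * w := by
  by_cases hRT : R = T
  · subst hRT
    have h1 : d ∈ ws V R := by
      have := hd.1
      rwa [ws_line hL] at this
    exact h.comm_W hR hw h1
  · rw [h.dd_line hL hT hTL hR hRL hRT] at hd
    exact mem_centralizer_iff.1 hd.2 w hw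

/-- `C(g) ∩ W_Q ≤ I_M`, `g ∈ K_X` moving `Q` -/
theorem mem_I_of_comm {M X Q : Subgroup G} (hM : IsCj V M) (hX : IsCj Z X) (hXM : X ≤ M) (hQ : IsCj Z Q) (hQM : Q ≤ M)
    {g c : G} (hg : g ∈ kx V X) (hgQ : PT.cj g Q ≠ Q) (hc : c ∈ ws V Q) (hgc : g * c = c * g) : c ∈ IV M Z := by
  have h1 : PT.cj g M = M := cj_eq_iff.2 (h.K_norm_line hM hX hXM hg)
  have h2 : PT.cj g Q ≤ M := by
    have := cj_le_cj (g := g) |>.2 hQM
    rwa [h1] at this
  rw [← h.IV_line hM hQ hQM (hQ.cj g) h2 (Ne.symm hgQ)]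
  refine ⟨hc, ?_⟩
  rw [ws_cj]
  have h3 := conj_mem_cj (g := g) hc
  rwa [hgc, mul_inv_cancel_right] at h3

section two

variable {L M X Y Q : Subgroup G} (hL : IsCj V L) (hM : IsCj V M) (hX : IsCj Z X) (hXL : X ≤ L) (hXM : X ≤ M)
  (hY : IsCj Z Y) (hYL : Y ≤ L) (hYX : Y ≠ X) (hQ : IsCj Z Q) (hQM : Q ≤ M) (hQX : Q ≠ X)
include hL hM hX hXL hXM hY hYL hYX hQ hQM hQX

/-- `[D_Y(L), W_Q] ≤ D_Q(M)` -/
theorem dd_W {d e : G} (hd : d ∈ dd L Z Y) (he : e ∈ ws V Q) : d * e * d⁻¹ * e⁻¹ ∈ dd M Z Q := by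
  -- `d` centralises `W_X`
  have hdX : d ∈ centralizer ((ws V X : Subgroup G) : Set G) := by
    rw [h.dd_line hL hY hYL hX hXL (Ne.symm hYX)] at hd
    exact hd.2
  have hML : M ≤ ws V X := h.line_le_ws hM hXM
  have hdQ : d ∈ normalizer ((ws V Q : Subgroup G) : Set G) := by
    refine normalizer_le_ws V Q (centralizer_le_normalizer _ ?_)
    exact centralizer_le (hQM.trans hML) hdX
  have heX : e ∈ normalizer ((ws V X : Subgroup G) : Set G) := h.W_norm_line hM hXM hQ hQM he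
  rw [h.dd_line hM hQ hQM hX hXM (Ne.symm hQX)]
  constructor
  · exact (ws V Q).mul_mem ((mem_normalizer_iff.1 hdQ e).1 he) ((ws V Q).inv_mem he)
  · have h1 : e * d⁻¹ * e⁻¹ ∈ centralizer ((ws V X : Subgroup G) : Set G) := by
      have h2 := conj_mem_cj (g := e) (inv_mem hdX)
      rwa [cj_centralizer, cj_eq_iff.2 heX] at h2
    have e1 : d * e * d⁻¹ * e⁻¹ = d * (e * d⁻¹ * e⁻¹) := by group
    rw [e1]
    exact mul_mem hdX h1

/-- `D_Y(L)^e = D_{Y^e}(L)` -/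
theorem dd_conj {e d : G} (heX : e ∈ kx V X) (hd : d ∈ dd L Z Y) : e * d * e⁻¹ ∈ dd L Z (PT.cj e Y) := by
  have h1 := conj_mem_cj (g := e) hd
  rwa [cj_conj_dd, cj_eq_iff.2 (h.K_norm_line hL hX hXL heX)] at h1

theorem cj_le_line {e : G} (heX : e ∈ kx V X) : PT.cj e Y ≤ L := by
  have := cj_le_cj (g := e) |>.2 hYL
  rwa [cj_eq_iff.2 (h.K_norm_line hL hX hXL heX)] at this

/-- (1.1) `[D_Y(L), e] ≤ I_M` -/
theorem star_comm {e g d : G} (he : e ∈ ws V Q) (heX : e ∈ kx V X) (hg : g ∈ kx V X) (hgQ : PT.cj g Q ≠ Q)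
    (hgD : ∀ T, IsCj Z T → T ≤ L → ∀ d ∈ dd L Z T, g * d = d * g) (hd : d ∈ dd L Z Y) :
    d * e * d⁻¹ * e⁻¹ ∈ IV M Z := by
  have h1 := h.dd_W hL hM hX hXL hXM hY hYL hYX hQ hQM hQX hd he
  have h2 : d * e * d⁻¹ * e⁻¹ ∈ ws V Q := by
    rw [← ws_line hM]
    exact dd_le h1
  refine h.mem_I_of_comm hM hX hXM hQ hQM hg hgQ h2 ?_
  have h3 : g * d = d * g := hgD Y hY hYL d hd
  have h4 : g * (e * d⁻¹ * e⁻¹) = (e * d⁻¹ * e⁻¹) * g :=
    hgD _ (hY.cj e) (h.cj_le_line hL hM hX hXL hXM hY hYL hYX hQ hQM hQX heX) _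
      (h.dd_conj hL hM hX hXL hXM hY hYL hYX hQ hQM hQX heX (inv_mem hd))
  have e1 : d * e * d⁻¹ * e⁻¹ = d * (e * d⁻¹ * e⁻¹) := by group
  rw [e1]
  calc g * (d * (e * d⁻¹ * e⁻¹)) = (g * d) * (e * d⁻¹ * e⁻¹) := by group
    _ = d * (g * (e * d⁻¹ * e⁻¹)) := by rw [h3]; group
    _ = d * (e * d⁻¹ * e⁻¹) * g := by rw [h4]; group

/-- `[D_Y(L), e]` centralises all `W_T`, `T` a point of `L` -/
theorem star_cent {e d w : G} {T : Subgroup G} (heX : e ∈ kx V X) (hd : d ∈ dd L Z Y) (hT : IsCj Z T)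
    (hTL : T ≤ L) (hw : w ∈ ws V T) : w * (d * e * d⁻¹ * e⁻¹) = d * e * d⁻¹ * e⁻¹ * w := by
  have h3 : w * d = d * w := h.dd_cent_line hL hY hYL hT hTL hd hw
  have h4 : w * (e * d⁻¹ * e⁻¹) = (e * d⁻¹ * e⁻¹) * w :=
    h.dd_cent_line hL (hY.cj e) (h.cj_le_line hL hM hX hXL hXM hY hYL hYX hQ hQM hQX heX) hT hTL
      (h.dd_conj hL hM hX hXL hXM hY hYL hYX hQ hQM hQX heX (inv_mem hd)) hw
  have e1 : d * e * d⁻¹ * e⁻¹ = d * (e * d⁻¹ * e⁻¹) := by group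
  rw [e1]
  calc w * (d * (e * d⁻¹ * e⁻¹)) = (w * d) * (e * d⁻¹ * e⁻¹) := by group
    _ = d * (w * (e * d⁻¹ * e⁻¹)) := by rw [h3]; group
    _ = d * (e * d⁻¹ * e⁻¹) * w := by rw [h4]; group

omit hM hXM hQ hQM hQX in
theorem relIndex_I : (IV L Z).relIndex (dd L Z Y) = (IV L Z).relIndex (dd L Z X) := by
  obtain ⟨S', C', R, h'⟩ := h.flag hL hX hXL
  obtain ⟨k, hk, -, hk1, hk2⟩ := h'.pl.swap h'.hf h'.self.cj hXL (h.pnt_line hX hY hYL).cj hYL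
  have hkN := h'.pl.XV_le_N hk
  have h1 : PT.cj k L = L := cj_eq_iff.2 hkN
  have h2 : PT.cj k (IV L Z) = IV L Z := cj_eq_iff.2 (normalizer_le_IV L Z hkN)
  have h3 : PT.cj k (dd L Z X) = dd L Z Y := by rw [cj_conj_dd, h1, hk1]
  rw [← h3]
  nth_rewrite 1 [← h2]
  exact relIndex_pointwise_smul _ _ _

/-- **(1.2)** `D_X(L) ≤ I_L (D_X(L) ∩ I_M)` -/
theorem star {e g : G} (he : e ∈ ws V Q) (heX : e ∈ kx V X) (heY : PT.cj e Y ≠ Y) (hg : g ∈ kx V X)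
    (hgQ : PT.cj g Q ≠ Q) (hgD : ∀ T, IsCj Z T → T ≤ L → ∀ d ∈ dd L Z T, g * d = d * g) {c : G}
    (hc : c ∈ dd L Z X) : ∃ i ∈ IV L Z, ∃ j ∈ IV M Z, c = i * j := by
  have hIX : IV L Z ≤ dd L Z X := h.I_le_dd_line hL hX hXL
  have hDW : dd L Z X ≤ ws V X := by
    have : dd L Z X ≤ ws L X := dd_le
    rwa [ws_line hL] at this
  have hmem : ∀ d ∈ dd L Z Y, d * e * d⁻¹ * e⁻¹ ∈ dd L Z X := by
    intro d hd
    have h1 := h.star_comm hL hM hX hXL hXM hY hYL hYX hQ hQM hQX he heX hg hgQ hgD hd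
    rw [h.dd_line hL hX hXL hY hYL hYX]
    refine ⟨?_, mem_centralizer_iff.2 fun w hw => ?_⟩
    · rw [← h.IV_line hM hX hXM hQ hQM (Ne.symm hQX)] at h1
      exact h1.1
    · exact h.star_cent hL hM hX hXL hXM hY hYL hYX hQ hQM hQX heX hd hY hYL hw
  let f : dd L Z Y →* dd L Z X :=
    { toFun := fun d => ⟨d * e * (d : G)⁻¹ * e⁻¹, hmem d d.2⟩
      map_one' := Subtype.ext (by simp)
      map_mul' := by
        intro a b
        apply Subtype.ext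
        show (a : G) * b * e * ((a : G) * b)⁻¹ * e⁻¹ = (a * e * (a : G)⁻¹ * e⁻¹) * (b * e * (b : G)⁻¹ * e⁻¹)
        have h1 := hmem b b.2
        have h2 := hmem a a.2
        -- `a` commutes with `[b, e] ∈ W_X`
        have h3 : ((b : G) * e * (b : G)⁻¹ * e⁻¹) * a = a * ((b : G) * e * (b : G)⁻¹ * e⁻¹) :=
          h.dd_cent_line hL hY hYL hX hXL a.2 (hDW h1)
        have h4 := h.comm_W hX (hDW h1) (hDW h2)
        rw [← h4]
        calc (a : G) * b * e * ((a : G) * b)⁻¹ * e⁻¹ =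
            (a * ((b : G) * e * (b : G)⁻¹ * e⁻¹)) * e * (a : G)⁻¹ * e⁻¹ := by group
          _ = ((b : G) * e * (b : G)⁻¹ * e⁻¹) * (a * e * (a : G)⁻¹ * e⁻¹) := by rw [← h3]; group }
  have hn : ((IV L Z).subgroupOf (dd L Z X)).Normal := by
    refine ⟨fun a ha b => ?_⟩
    rw [mem_subgroupOf] at ha ⊢
    have h1 := h.comm_W hX (hDW b.2) (hDW a.2)
    show (b : G) * a * (b : G)⁻¹ ∈ IV L Z
    rw [h1, mul_inv_cancel_right]
    exact ha
  set J := (IV L Z).subgroupOf (dd L Z X) with hJ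
  let F : dd L Z Y →* dd L Z X ⧸ J := (QuotientGroup.mk' J).comp f
  have hker : F.ker ≤ (IV L Z).subgroupOf (dd L Z Y) := by
    intro d hd
    rw [MonoidHom.mem_ker] at hd
    have h1 : f d ∈ J := (QuotientGroup.eq_one_iff _).1 hd
    rw [hJ, mem_subgroupOf] at h1
    have h1' : (d : G) * e * (d : G)⁻¹ * e⁻¹ ∈ IV L Z := h1
    rw [mem_subgroupOf]
    -- `e d⁻¹ e⁻¹ ∈ W_Y`
    have hdW : (d : G) ∈ ws V Y := by
      rw [← ws_line hL]
      exact dd_le d.2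
    have hI := h.IV_line hL hY hYL (hY.cj e) (h.cj_le_line hL hM hX hXL hXM hY hYL hYX hQ hQM hQX heX) (Ne.symm heY)
    have h2 : e * (d : G)⁻¹ * e⁻¹ ∈ IV L Z := by
      rw [← hI]
      constructor
      · have e1 : e * (d : G)⁻¹ * e⁻¹ = (d : G)⁻¹ * ((d : G) * e * (d : G)⁻¹ * e⁻¹) := by group
        rw [e1]
        refine (ws V Y).mul_mem ((ws V Y).inv_mem hdW) ?_
        rw [← hI] at h1'
        exact h1'.1
      · rw [ws_cj]
        exact conj_mem_cj ((ws V Y).inv_mem hdW)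
    have h3 := (mem_normalizer_iff.1 (h.K_norm_I hL hX hXL heX) _).2 h2
    exact (inv_mem_iff).1 h3
  have hF : F.range = ⊤ := by
    apply Subgroup.eq_top_of_le_card
    rw [← index_ker]
    refine le_trans ?_ (Nat.le_of_dvd (Nat.pos_of_ne_zero FiniteIndex.index_ne_zero) (index_dvd_of_le hker))
    change Nat.card (dd L Z X ⧸ J) ≤ (IV L Z).relIndex (dd L Z Y)
    rw [h.relIndex_I hL hX hXL hY hYL hYX]
    exact le_rfl
  have h1 : QuotientGroup.mk' J ⟨c, hc⟩ ∈ F.range := by rw [hF]; exact mem_top _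
  obtain ⟨d, hd⟩ := h1
  have h2 : (f d)⁻¹ * ⟨c, hc⟩ ∈ J := QuotientGroup.eq.1 hd
  rw [hJ, mem_subgroupOf] at h2
  refine ⟨_, h2, _, h.star_comm hL hM hX hXL hXM hY hYL hYX hQ hQM hQX he heX hg hgQ hgD d.2, ?_⟩
  show c = ((f d : G))⁻¹ * c * (f d : G)
  have h3 := h.comm_W hX (hDW hc) (hDW (f d).2)
  rw [mul_assoc, h3, inv_mul_cancel_left]

end two

/-- `C_{W_X}(E_Y) = E_X` for all flags -/
theorem w1_mem (hN : w1 V Z Z ≤ ee V Z Z) {L X Y : Subgroup G} (hL : IsCj V L) (hX : IsCj Z X) (hXL : X ≤ L)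
    (hY : IsCj Z Y) (hYL : Y ≤ L) (hne : Y ≠ X) {u : G} (hu : u ∈ ws V X)
    (hue : ∀ e ∈ ee L Z Y, e * u = u * e) : u ∈ ee L Z X := by
  obtain ⟨g, rfl, rfl⟩ := PB.Geom.exists_conj_flag h.pl hX hL hXL
  have hY' : Pnt V Z (PT.cj g⁻¹ Y) := ⟨hY.cj g⁻¹, by rw [cj_le_iff, inv_inv]; exact hYL⟩
  have hYne : PT.cj g⁻¹ Y ≠ Z := fun e => hne (by rw [← e, cj_cj, mul_inv_cancel, cj_one])
  rw [← cj_conj_ee, mem_cj]
  apply hN
  rw [h.w1_eq h.self hY' hYne]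
  refine ⟨?_, mem_centralizer_iff.2 fun e he => ?_⟩
  · show g⁻¹ * u * g ∈ ws V Z
    rw [← mem_cj, ← ws_cj]; exact hu
  · have h1 : g * e * g⁻¹ ∈ ee (PT.cj g V) Z Y := by
      have h2 := conj_mem_cj (g := g) he
      rwa [cj_conj_ee, cj_cj, mul_inv_cancel, cj_one] at h2
    have h3 := hue _ h1
    calc e * (g⁻¹ * u * g) = g⁻¹ * ((g * e * g⁻¹) * u) * g := by group
      _ = g⁻¹ * u * g * e := by rw [h3]; group

section two

variable {L M X Y Q : Subgroup G} (hL : IsCj V L) (hM : IsCj V M) (hX : IsCj Z X) (hXL : X ≤ L) (hXM : X ≤ M)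
  (hY : IsCj Z Y) (hYL : Y ≤ L) (hYX : Y ≠ X) (hQ : IsCj Z Q) (hQM : Q ≤ M) (hQX : Q ≠ X)
include hL hM hX hXL hXM hY hYL hYX hQ hQM hQX

/-- `[W_Q, K_X] ≤ K_X` -/
theorem comm_mem_K {w e : G} (hw : w ∈ ws V Q) (he : e ∈ kx V X) : w * e * w⁻¹ * e⁻¹ ∈ kx V X := by
  have h1 : w ∈ normalizer ((kx V X : Subgroup G) : Set G) :=
    normalizer_le_kx V X (centralizer_le_normalizer _ (centralizer_le hXM (h.ws_le_line hM hQ hQM hw)))
  exact (kx V X).mul_mem ((mem_normalizer_iff.1 h1 e).1 he) ((kx V X).inv_mem he)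

/-- **(N6)** -/
theorem n6 (hN : w1 V Z Z ≤ ee V Z Z) {w y q : G} (hw : w ∈ ws V Q) (hy : y ∈ Y)
    (hwy : w * y * w⁻¹ * y⁻¹ ∉ ee L Z X) (hq : q ∈ Q) (hqE : q ∉ ee L Z X) : dd L Z X ≤ IV L Z := by
  have hyW : y ∈ ws V Y := h.line_le_ws hL hYL (hYL hy)
  have hyX : y ∈ ws V X := h.line_le_ws hL hXL (hYL hy)
  have hqX : q ∈ ws V X := h.line_le_ws hM hXM (hQM hq)
  have hwX : w ∈ normalizer ((ws V X : Subgroup G) : Set G) := h.W_norm_line hM hXM hQ hQM hw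
  have hwyX : w * y * w⁻¹ ∈ ws V X := (mem_normalizer_iff.1 hwX y).1 hyX
  have hcX : w * y * w⁻¹ * y⁻¹ ∈ ws V X := (ws V X).mul_mem hwyX ((ws V X).inv_mem hyX)
  have hwi : w⁻¹ = w := h.W_inv hQ hw
  -- the element `e`
  obtain ⟨e, heE, hec, heq⟩ : ∃ e ∈ ee L Z Y, e * (w * y * w⁻¹ * y⁻¹) ≠ (w * y * w⁻¹ * y⁻¹) * e ∧ e * q ≠ q * e := by
    obtain ⟨e1, he1, hc1⟩ : ∃ e ∈ ee L Z Y, e * (w * y * w⁻¹ * y⁻¹) ≠ (w * y * w⁻¹ * y⁻¹) * e := by
      by_contra hcon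
      push Not at hcon
      exact hwy (h.w1_mem hN hL hX hXL hY hYL hYX hcX hcon)
    obtain ⟨e2, he2, hq2⟩ : ∃ e ∈ ee L Z Y, e * q ≠ q * e := by
      by_contra hcon
      push Not at hcon
      exact hqE (h.w1_mem hN hL hX hXL hY hYL hYX hqX hcon)
    by_cases hq1 : e1 * q = q * e1
    · by_cases hc2 : e2 * (w * y * w⁻¹ * y⁻¹) = (w * y * w⁻¹ * y⁻¹) * e2
      · refine ⟨e1 * e2, mul_mem he1 he2, fun hcon => hc1 ?_, fun hcon => hq2 ?_⟩
        · have h1 : e1 = (e1 * e2) * e2⁻¹ := by group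
          have h2 : e2⁻¹ * (w * y * w⁻¹ * y⁻¹) = (w * y * w⁻¹ * y⁻¹) * e2⁻¹ := by
            rw [inv_mul_eq_iff_eq_mul, ← mul_assoc, hc2, mul_inv_cancel_right]
          rw [h1, mul_assoc, h2, ← mul_assoc, hcon, mul_assoc]
        · have h1 : e2 = e1⁻¹ * (e1 * e2) := by group
          have h2 : e1⁻¹ * q = q * e1⁻¹ := by
            rw [inv_mul_eq_iff_eq_mul, ← mul_assoc, hq1, mul_inv_cancel_right]
          rw [h1, mul_assoc, hcon, ← mul_assoc, h2, mul_assoc]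
      · exact ⟨e2, he2, hc2, hq2⟩
    · exact ⟨e1, he1, hc1, hq1⟩
  have heY : e ∈ ws V Y := by
    rw [← ws_line hL]
    exact ee_le heE
  have heX : e ∈ kx V X := by
    rw [h.ee_line hL hY hYL hX hXL (Ne.symm hYX)] at heE
    exact heE.2
  have hey : e * y = y * e := h.comm_W hY heY hyW
  set g := w * e * w⁻¹ * e⁻¹ with hgdef
  have hgX : g ∈ kx V X := h.comm_mem_K hL hM hX hXL hXM hY hYL hYX hQ hQM hQX hw heX
  have heQM : PT.cj e Q ≤ M := by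
    have := cj_le_cj (g := e) |>.2 hQM
    rwa [cj_eq_iff.2 (h.K_norm_line hM hX hXM heX)] at this
  -- `g` centralises `D_T(M)`
  have hgD : ∀ T, IsCj Z T → T ≤ M → ∀ d ∈ dd M Z T, g * d = d * g := by
    intro T hT hTM d hd
    have h1 : w * d = d * w := h.dd_cent_line hM hT hTM hQ hQM hd hw
    have h2 : (e * w⁻¹ * e⁻¹) * d = d * (e * w⁻¹ * e⁻¹) := by
      refine h.dd_cent_line hM hT hTM (hQ.cj e) heQM hd ?_
      rw [ws_cj]
      exact conj_mem_cj ((ws V Q).inv_mem hw)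
    have e1 : g = w * (e * w⁻¹ * e⁻¹) := by rw [hgdef]; group
    rw [e1, mul_assoc, h2, ← mul_assoc, h1, mul_assoc]
  have hgY : PT.cj g Y ≠ Y := by
    intro hcon
    have h1 : g * y * g⁻¹ * y⁻¹ ∈ Y := Y.mul_mem ((mem_normalizer_iff.1 (cj_eq_iff.1 hcon) y).1 hy) (Y.inv_mem hy)
    have h2 : g * y * g⁻¹ * y⁻¹ ∈ X := (mem_kx.1 hgX).2 y hyX
    have h3 : g * y * g⁻¹ * y⁻¹ ∈ Y ⊓ X := ⟨h1, h2⟩
    rw [h.pl.pts_inf hY hX hYX, mem_bot, mul_inv_eq_one, mul_inv_eq_iff_eq_mul] at h3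
    apply hec
    -- `e` commutes with `w⁻¹ y w = w y w⁻¹`
    have h4 : e * (w⁻¹ * y * w) = (w⁻¹ * y * w) * e := by
      have h5 : w * e * w⁻¹ * (e⁻¹ * y * e) * w * e⁻¹ * w⁻¹ = y := by
        calc w * e * w⁻¹ * (e⁻¹ * y * e) * w * e⁻¹ * w⁻¹ = (g * y) * g⁻¹ := by rw [hgdef]; group
          _ = y := by rw [h3, mul_inv_cancel_right]
      have h6 : e⁻¹ * y * e = y := by rw [mul_assoc, ← hey, inv_mul_cancel_left]
      rw [h6] at h5
      have h7 : e * (w⁻¹ * y * w) * e⁻¹ = w⁻¹ * y * w := by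
        calc e * (w⁻¹ * y * w) * e⁻¹ = w⁻¹ * (w * e * w⁻¹ * y * w * e⁻¹ * w⁻¹) * w := by group
          _ = _ := by rw [h5]
      rwa [mul_inv_eq_iff_eq_mul] at h7
    rw [hwi] at h4 ⊢
    have h5 : e * y⁻¹ = y⁻¹ * e := by
      rw [eq_inv_mul_iff_mul_eq, ← mul_assoc, ← hey, mul_inv_cancel_right]
    rw [← mul_assoc, h4, mul_assoc, h5, ← mul_assoc]
  -- `[d⁻¹, w]`
  have key : dd L Z Y ≤ IV L Z := by
    intro d hd
    have hdW : d ∈ ws V Y := by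
      rw [← ws_line hL]
      exact dd_le hd
    have hdi : d⁻¹ = d := h.W_inv hY hdW
    set δ := d * w * d⁻¹ * w⁻¹ with hδ
    have hδD : δ ∈ dd M Z Q := h.dd_W hL hM hX hXL hXM hY hYL hYX hQ hQM hQX hd hw
    have hι := h.star_comm hM hL hX hXM hXL hQ hQM hQX hY hYL hYX heY heX hgX hgY hgD (inv_mem hδD)
    rw [inv_inv] at hι
    set ι := δ⁻¹ * e * δ * e⁻¹ with hιdef
    have hwι : w * ι = ι * w := by
      have h1 := h.star_cent hM hL hX hXM hXL hQ hQM hQX hY hYL hYX heX (inv_mem hδD) hQ hQM hw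
      rwa [inv_inv] at h1
    have h1 : w⁻¹ * d * w = d * δ := by
      rw [hδ]
      have : w⁻¹ * d * w = d * (d⁻¹ * w⁻¹ * d * w) := by group
      rw [this, hdi, hwi]
    have hed : e⁻¹ * d * e = d := by
      have := h.comm_W hY heY hdW
      rw [mul_assoc, ← this, inv_mul_cancel_left]
    have hed' : e * d * e⁻¹ = d := by rw [h.comm_W hY heY hdW, mul_inv_cancel_right]
    have h2 : g * d * g⁻¹ = d * ι := by
      calc g * d * g⁻¹ = w * e * (w⁻¹ * (e⁻¹ * d * e) * w) * e⁻¹ * w⁻¹ := by rw [hgdef]; group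
        _ = w * (e * (d * δ) * e⁻¹) * w⁻¹ := by rw [hed, h1]; group
        _ = w * ((e * d * e⁻¹) * (e * δ * e⁻¹)) * w⁻¹ := by group
        _ = w * (d * δ * ι) * w⁻¹ := by rw [hed', hιdef]; group
        _ = w * (w⁻¹ * d * w) * (ι * w⁻¹) := by rw [h1]; group
        _ = d * (w * ι) * w⁻¹ := by group
        _ = d * ι := by rw [hwι]; group
    have hgYL : PT.cj g Y ≤ L := h.cj_le_line hL hM hX hXL hXM hY hYL hYX hQ hQM hQX hgX
    have hI := h.IV_line hL hY hYL (hY.cj g) hgYL (Ne.symm hgY)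
    have h3 : g * d * g⁻¹ ∈ IV L Z := by
      rw [← hI]
      constructor
      · rw [h2]
        refine (ws V Y).mul_mem hdW ?_
        rw [← hI] at hι
        exact hι.1
      · rw [ws_cj]
        exact conj_mem_cj hdW
    exact (mem_normalizer_iff.1 (h.K_norm_I hL hX hXL hgX) d).2 h3
  have h1 : (IV L Z).relIndex (dd L Z X) = 1 := by
    rw [← h.relIndex_I hL hX hXL hY hYL hYX]
    exact relIndex_eq_one.2 key
  exact relIndex_eq_one.1 h1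

/-- **KAPPA** -/
theorem kappa {w e : G} (hw : w ∈ ws V Y) (he : e ∈ ws V Q) (heX : e ∈ kx V X) (heY : PT.cj e Y ≠ Y)
    (hc : ∀ q ∈ Q, e * (w * q * w⁻¹) = (w * q * w⁻¹) * e) :
    w * (e * w * e⁻¹) * w⁻¹ * (e * w * e⁻¹)⁻¹ ∈ IV L Z ∧ w * (e * w * e⁻¹) * w⁻¹ * (e * w * e⁻¹)⁻¹ ∈ IV M Z ∧
      w * (e * w * e⁻¹) * w⁻¹ * (e * w * e⁻¹)⁻¹ ∈ ws V (PT.cj w Q) := by
  have hwi : w⁻¹ = w := h.W_inv hY hw
  have hei : e⁻¹ = e := h.W_inv hQ he
  have hYL' : PT.cj e Y ≤ L := h.cj_le_line hL hM hX hXL hXM hY hYL hYX hQ hQM hQX heX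
  set u := w * (e * w * e⁻¹) * w⁻¹ * (e * w * e⁻¹)⁻¹ with hu
  have h1 : u ∈ IV L Z := by
    rw [← h.IV_line hL hY hYL (hY.cj e) hYL' (Ne.symm heY)]
    have ha : e * w * e⁻¹ ∈ ws V (PT.cj e Y) := by rw [ws_cj]; exact conj_mem_cj hw
    have hn1 : w ∈ normalizer ((ws V (PT.cj e Y) : Subgroup G) : Set G) := h.W_norm_line hL hYL' hY hYL hw
    have hn2 : e * w * e⁻¹ ∈ normalizer ((ws V Y : Subgroup G) : Set G) := h.W_norm_line hL hYL (hY.cj e) hYL' ha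
    constructor
    · have e1 : u = w * ((e * w * e⁻¹) * w⁻¹ * (e * w * e⁻¹)⁻¹) := by rw [hu]; group
      rw [e1]
      exact (ws V Y).mul_mem hw ((mem_normalizer_iff.1 hn2 _).1 ((ws V Y).inv_mem hw))
    · exact (ws V _).mul_mem ((mem_normalizer_iff.1 hn1 _).1 ha) ((ws V _).inv_mem ha)
  -- `u = [w e w⁻¹, e]`
  have h2 : u = (w * e * w⁻¹) * e * (w * e * w⁻¹)⁻¹ * e⁻¹ := by
    calc u = w * e * w * e⁻¹ * w⁻¹ * e * w⁻¹ * e⁻¹ := by rw [hu]; group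
      _ = w * e * w⁻¹ * e * w * e⁻¹ * w⁻¹ * e⁻¹ := by rw [hei, hwi]
      _ = _ := by group
  have h3 : u ∈ ws V (PT.cj w Q) := by
    have hn : e ∈ normalizer ((ws V (PT.cj w Q) : Subgroup G) : Set G) := by
      refine normalizer_le_ws V _ (centralizer_le_normalizer _ ?_)
      rw [mem_centralizer_iff]
      intro q hq
      rw [SetLike.mem_coe, mem_cj] at hq
      have h4 := hc _ hq
      have e1 : w * (w⁻¹ * q * w) * w⁻¹ = q := by group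
      rw [e1] at h4
      exact h4.symm
    have ha : w * e * w⁻¹ ∈ ws V (PT.cj w Q) := by rw [ws_cj]; exact conj_mem_cj he
    have e1 : u = (w * e * w⁻¹) * (e * (w * e * w⁻¹)⁻¹ * e⁻¹) := by rw [h2]; group
    rw [e1]
    exact (ws V _).mul_mem ha ((mem_normalizer_iff.1 hn _).1 ((ws V _).inv_mem ha))
  have h4 : u ∈ ws V Q := by
    have hn : w * e * w⁻¹ ∈ normalizer ((ws V Q : Subgroup G) : Set G) := by
      refine normalizer_le_ws V _ (centralizer_le_normalizer _ ?_)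
      rw [mem_centralizer_iff]
      intro q hq
      have h5 := hc q hq
      have h6 : e * (w⁻¹ * q * w) = (w⁻¹ * q * w) * e := by rw [hwi] at h5 ⊢; exact h5
      calc q * (w * e * w⁻¹) = w * ((w⁻¹ * q * w) * e) * w⁻¹ := by group
        _ = w * e * w⁻¹ * q := by rw [← h6]; group
    rw [h2]
    exact (ws V _).mul_mem ((mem_normalizer_iff.1 hn _).1 he) ((ws V _).inv_mem he)
  refine ⟨h1, ?_, h3⟩
  rw [← h.IV_line hM hX hXM hQ hQM (Ne.symm hQX)]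
  refine ⟨?_, h4⟩
  rw [← h.IV_line hL hX hXL hY hYL (Ne.symm hYX)] at h1
  exact h1.1

end two

end One

end Cfsg.Agent.Omega.NO3S.OneQ
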