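import Cfsg.Agent.Omega.NO3S.OneQ.CaseN1
import Cfsg.Agent.Omega.NO3S.OneQ.TrE.InjLft
import Cfsg.Agent.Omega.NO3S.OneQ.FrOf
import Cfsg.Agent.Omega.Node.NO3SOneB

/-!
# NO-3S, natural lines, `q ≥ 4`, critical distance 1, over the `(R, B)`-frame: the assembly of `OneSzBF`

* `Co.Sz` : the conclusion of `OneSzBF` over `Co`;
* case (N) always holds (`Co.ntr_all`, helper418, 703, 153, 482); `k = dim MF / Ē = 1` : `Co.szMod_one` (helper258);
* `BigN` : `k ≥ 2` : `D_Z ≤ I` and TI;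
* `coSz_of` : `Co ⟹ Sz`; **`oneSzBF_of`** : `OneSzBF K`;
* `benderAll_of` : `FlatBorel.BenderAll` from `Frame.Bender`.
-/

set_option autoImplicit false
set_option linter.unusedSectionVars false

namespace Cfsg.Agent.Omega.NO3S

open Subgroup Cfsg Cfsg.Agent.ZN Cfsg.Agent.Omega.MinPar Cfsg.Agent.Omega.Frame Cfsg.Agent.Omega.FrameNOFF
open Cfsg.Agent.Omega.NoFF.Lines Cfsg.Agent.Omega.NatPair Cfsg.Agent.Omega.NO3S.PT
open Cfsg.Agent.MinSimple.VModule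
open Cfsg.Agent.WeakTI.FlatBorel (CritAll BenderAll)

universe u

/-- `W_Z / Z` is natural for `Sz(q)` -/
def OneQ.Co.Sz {G : Type u} [Group G] [Finite G] {F : Type} [Field F] {S : Sylow 2 G} {B P V Z : Subgroup G}
    (_h : OneQ.Co F S B P V Z) : Prop :=
  ∃ (θ : F →+* F) (e m : ℕ) (T : Cfsg.Agent.LieRecognition.SzMatrix.Good F θ e), 1 ≤ m ∧
    Nat.card F = 2 ^ (2 * m + 1) ∧
    Nonempty (Cfsg.Agent.Omega.TwoFFour.SzMod T (normalizer (Z : Set G)) (ws V Z) Z)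

namespace OneQ

section sockets

/-- **Case (N), `k = dim MF / Ē ≥ 2`** : `D_Z ≤ I` and TI. Paper: helper46 #20317, 246 #21556; Lean: helper46, 246,
859, 482, 982, 279, 382. -/
def BigN : Prop :=
  ∀ (G : Type u) [Group G] [Finite G] (F : Type) [Field F] [Finite F] [CharP F 2] (S : Sylow 2 G)
    (B P V Z : Subgroup G) (h : Co F S B P V Z), IsCharacteristicTwoType G → 4 ≤ Nat.card F → NTr V Z →
      (¬ ∀ x y : h.MF, x ∉ h.Eb → ∃ c : F, y + c • x ∈ h.Eb) → dd V Z Z ≤ IV V Z ∧ TIw V Z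

/-- over `Co`: `W_Z / Z` is natural for `Sz(q)` -/
def CoSz : Prop :=
  ∀ (G : Type u) [Group G] [Finite G] (F : Type) [Field F] [Finite F] [CharP F 2] (S : Sylow 2 G)
    (B P V Z : Subgroup G) (h : Co F S B P V Z), IsCharacteristicTwoType G → 4 ≤ Nat.card F → h.Sz

end sockets

/-- **`Co ⟹ Sz`** -/
theorem coSz_of (hcrit : CritAll.{u}) (hbend : BenderAll.{u}) (h2 : BigN.{u}) : CoSz.{u} := by
  intro G _ _ F _ _ _ S B P V Z h hG hF
  have hN : NTr V Z := h.ntr_all (by omega)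
  by_cases hone : ∀ x y : h.MF, x ∉ h.Eb → ∃ c : F, y + c • x ∈ h.Eb
  · exact h.szMod_one hcrit hbend hG hN hone hF
  · obtain ⟨hD, hTI⟩ := h2 G F S B P V Z h hG hF hN hone
    exact h.szMod hcrit hbend hG hN hD hTI hF

end OneQ

/-- **`OneSzBF`** -/
theorem oneSzBF_of {K : Cls.{u}} (h : OneQ.CoSz.{u}) : OneSzBF K := by
  intro G _ _ _ S P hL F _ _ _ hF N B R hR hf y hc
  left
  obtain ⟨h1⟩ := hR.exists_co hL.toHyp N hf hc
  have h3 := h G F S B P _ R h1 hL.ctx.char2 hF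
  rw [FrB.W_eq hR.pb]
  exact h3

/-- Bender's theorem -/
theorem benderAll_of (h : Frame.Bender.{u}) : BenderAll.{u} := by
  intro X _ _ hs hna ⟨H, hH⟩
  have : IsSimpleGroup X := hs
  rcases h X hna H hH with ⟨F, i1, i2, ⟨n, hn, hF⟩, e⟩ | h | ⟨F, i1, i2, n, hn, hF, e⟩
  · left
    have : Fact (Nat.Prime 2) := ⟨Nat.prime_two⟩
    refine ⟨F, i1, i2, ?_, ?_, e⟩
    · exact charP_of_card_eq_prime_pow hF
    · rw [hF]
      calc 4 = 2 ^ 2 := rfl
        _ ≤ 2 ^ n := Nat.pow_le_pow_right (by norm_num) hn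
  · exact Or.inr (Or.inl h)
  · right; right
    refine ⟨F, i1, i2, 2 ^ n, hF, ?_, ?_, e⟩
    · exact (Nat.even_pow.mpr ⟨even_two, by omega⟩)
    · calc 4 = 2 ^ 2 := rfl
        _ ≤ 2 ^ n := Nat.pow_le_pow_right (by norm_num) hn

end Cfsg.Agent.Omega.NO3S
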