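import Cfsg.Agent.Omega.NO3S.OneQ.SzB
import Cfsg.Agent.Omega.NO3S.OneQ.Sg.Asm
import Cfsg.Agent.Omega.NO3S.OneQ.Sg.DxM

/-!
# NO-3S, natural lines, `q ≥ 4`, critical distance 1, over the `(R, B)`-frame: `OneSzBF`

* `OneQ.bigN` : case (N), `k ≥ 2` (TI: helper46, 859, 246, 482, 982; `D_Z ≤ I`: helper46, 382, 279);
* **`oneSzBF`** : `OneSzBF K` from Aschbacher's criterion (`CritAll`, S1175) and Bender's theorem.
-/

set_option autoImplicit false

namespace Cfsg.Agent.Omega.NO3S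

open Cfsg Cfsg.Agent.Omega.Frame
open Cfsg.Agent.WeakTI.FlatBorel (CritAll BenderAll)

universe u

theorem OneQ.bigN : OneQ.BigN.{u} := by
  intro G _ _ F _ _ _ S B P V Z h hG hF hN hone
  have hq := h.exists_ne_zero_one (by omega)
  have hk := h.big_of hone
  exact ⟨h.dx_le hN hq (h.ti_LL hN hq hk hG), h.tiw_big hN hq hk hG⟩

/-- **`OneSzBF`** -/
theorem oneSzBF {K : Cls.{u}} (hcrit : CritAll.{u}) (hb : Frame.Bender.{u}) : OneSzBF K :=
  oneSzBF_of (OneQ.coSz_of hcrit (benderAll_of hb) OneQ.bigN)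

end Cfsg.Agent.Omega.NO3S
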