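import Cfsg.Agent.Omega.NO3S.OneQ.WGrp

/-!
# THEOREM W (#17961), (4.1), (4.2): the centre of `End_K(N)`

* `center_scalar` : `z v₀ ∈ F v₀` for `z` in the centre of `End_K(N)`;
* `exists_comp` : the homogeneous component `e N` of `v₀`; the centre of `End_K` acts on it by scalars;
* `comp_comm` : everything which normalises `K` and `F v₀` commutes with `e`.
-/

set_option autoImplicit false
set_option linter.unusedSectionVars false

namespace Cfsg.Agent.Omega.NO3S.OneQ.W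

variable {F : Type*} [Field F] {N : Type*} [AddCommGroup N] [Module F N] {X : Type*} [Group X]
  {σ : X →* Module.End F N}

/-- commutes with `K` -/
def CK (σ : X →* Module.End F N) (K : Subgroup X) (c : Module.End F N) : Prop := ∀ k ∈ K, c * σ k = σ k * c

/-- commutes with `K` and with everything which commutes with `K` -/
def ZK (σ : X →* Module.End F N) (K : Subgroup X) (z : Module.End F N) : Prop :=
  CK σ K z ∧ ∀ c, CK σ K c → c * z = z * c

theorem CK.mul {K : Subgroup X} {c c' : Module.End F N} (h : CK σ K c) (h' : CK σ K c') : CK σ K (c * c') := by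
  intro k hk
  rw [mul_assoc, h' k hk, ← mul_assoc, h k hk, mul_assoc]

theorem CK.sub {K : Subgroup X} {c c' : Module.End F N} (h : CK σ K c) (h' : CK σ K c') : CK σ K (c - c') := by
  intro k hk
  rw [sub_mul, mul_sub, h k hk, h' k hk]

theorem CK.scalar {K : Subgroup X} (a : F) : CK σ K (algebraMap F _ a) := fun k _ => Algebra.commutes a (σ k)

theorem ZK.sub {K : Subgroup X} {z z' : Module.End F N} (h : ZK σ K z) (h' : ZK σ K z') : ZK σ K (z - z') :=
  ⟨h.1.sub h'.1, fun c hc => by rw [sub_mul, mul_sub, h.2 c hc, h'.2 c hc]⟩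

theorem ZK.scalar {K : Subgroup X} (a : F) : ZK σ K (algebraMap F _ a) :=
  ⟨CK.scalar a, fun c _ => (Algebra.commutes a c).symm⟩

theorem σ_inv (g : X) : σ g * σ g⁻¹ = 1 := by rw [← map_mul, mul_inv_cancel, map_one]

theorem inv_σ (g : X) : σ g⁻¹ * σ g = 1 := by rw [← map_mul, inv_mul_cancel, map_one]

theorem σ_inv_apply (g : X) (n : N) : σ g (σ g⁻¹ n) = n := LinearMap.congr_fun (σ_inv g) n

theorem inv_σ_apply (g : X) (n : N) : σ g⁻¹ (σ g n) = n := LinearMap.congr_fun (inv_σ g) n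

/-- conjugation -/
theorem CK.conj {K : Subgroup X} {g : X} (hg : ∀ k ∈ K, g⁻¹ * k * g ∈ K) {c : Module.End F N} (h : CK σ K c) :
    CK σ K (σ g * c * σ g⁻¹) := by
  intro k hk
  have h1 := h _ (hg k hk)
  have e1 : σ (g⁻¹ * k * g) = σ g⁻¹ * σ k * σ g := by rw [map_mul, map_mul]
  rw [e1] at h1
  calc σ g * c * σ g⁻¹ * σ k = σ g * (c * (σ g⁻¹ * σ k * σ g)) * σ g⁻¹ := by
        simp only [mul_assoc]
        rw [σ_inv, mul_one]
    _ = σ g * ((σ g⁻¹ * σ k * σ g) * c) * σ g⁻¹ := by rw [h1]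
    _ = (σ g * σ g⁻¹) * σ k * (σ g * c * σ g⁻¹) := by simp only [mul_assoc]
    _ = σ k * (σ g * c * σ g⁻¹) := by rw [σ_inv, one_mul]

theorem ZK.conj {K : Subgroup X} {g : X} (hg : ∀ k ∈ K, g⁻¹ * k * g ∈ K) (hg' : ∀ k ∈ K, g * k * g⁻¹ ∈ K)
    {z : Module.End F N} (h : ZK σ K z) : ZK σ K (σ g * z * σ g⁻¹) := by
  refine ⟨h.1.conj hg, fun c hc => ?_⟩
  have h1 : CK σ K (σ g⁻¹ * c * σ g) := by
    have h2 := hc.conj (g := g⁻¹) (by
      intro k hk
      rw [inv_inv]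
      exact hg' k hk)
    rwa [inv_inv] at h2
  have h2 := h.2 _ h1
  calc c * (σ g * z * σ g⁻¹) = σ g * ((σ g⁻¹ * c * σ g) * z) * σ g⁻¹ := by
        have e : σ g * ((σ g⁻¹ * c * σ g) * z) * σ g⁻¹ = (σ g * σ g⁻¹) * c * (σ g * z * σ g⁻¹) := by
          simp only [mul_assoc]
        rw [e, σ_inv, one_mul]
    _ = σ g * (z * (σ g⁻¹ * c * σ g)) * σ g⁻¹ := by rw [h2]
    _ = (σ g * z * σ g⁻¹) * c * (σ g * σ g⁻¹) := by simp only [mul_assoc]
    _ = (σ g * z * σ g⁻¹) * c := by rw [σ_inv, mul_one]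

/-- `z² v = 0` implies `z v = 0` -/
theorem ZK.sq_zero {K : Subgroup X} (hK : CR σ K) {z : Module.End F N} (h : ZK σ K z) {v : N} (hv : z (z v) = 0) :
    z v = 0 := by
  have := hK.semisimple
  exact center_sq (R := RK σ K) (z := toEnd z h.1) (fun c => by
    refine LinearMap.ext fun n => ?_
    exact LinearMap.congr_fun (h.2 (ofEnd c) (ofEnd_comm c)) n) hv

/-- **(4.1), (4.2)** -/
theorem center_scalar [CharP F 2] {K : Subgroup X} (hK : CR σ K) {t : X} (ht : ∀ k ∈ K, t⁻¹ * k * t ∈ K) {v0 : N}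
    (hv0 : v0 ≠ 0) {R0 : Submodule F N} (hC : ∀ c, CK σ K c → c v0 ∈ R0) {κ : F} (hκ : κ ≠ 1)
    (ht0 : σ t v0 = κ • v0) (ht1 : ∀ r ∈ R0, ∃ k : F, σ t r - r = k • v0) {z : Module.End F N} (hz : ZK σ K z) :
    ∃ k : F, z v0 = k • v0 := by
  have hκ0 : κ ≠ 0 := by
    rintro rfl
    rw [zero_smul] at ht0
    apply hv0
    rw [← inv_σ_apply (σ := σ) t v0, ht0, map_zero]
  obtain ⟨k, hk⟩ := ht1 _ (hC z hz.1)
  set lam := k * (κ - 1)⁻¹ with hlam
  have hκ1 : κ - 1 ≠ 0 := sub_ne_zero.2 hκ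
  set z' := z - algebraMap F _ lam with hz'
  have hZ : ZK σ K z' := hz.sub (ZK.scalar lam)
  set p := z' v0 with hp
  have hp1 : p = z v0 - lam • v0 := by
    rw [hp, hz', LinearMap.sub_apply, Module.algebraMap_end_apply]
  -- `t p = p`
  have htp : σ t p = p := by
    rw [hp1, map_sub, map_smul, ht0]
    have h1 : σ t (z v0) = z v0 + k • v0 := by rw [← hk]; abel
    rw [h1, smul_smul]
    have h2 : k = lam * κ - lam := by rw [hlam]; field_simp
    have h3 : k • v0 = (lam * κ) • v0 - lam • v0 := by rw [← sub_smul, ← h2]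
    rw [h3]
    abel
  -- `q = z' p`
  set q := z' p with hq
  have hti : σ t⁻¹ v0 = κ⁻¹ • v0 := by
    have h1 : σ t⁻¹ (σ t v0) = v0 := inv_σ_apply t v0
    rw [ht0, map_smul] at h1
    rw [← h1, smul_smul, inv_mul_cancel₀ hκ0, one_smul, h1]
  have htq : σ t q = κ⁻¹ • q := by
    have h1 : (σ t * z' * σ t⁻¹) v0 = κ⁻¹ • p := by
      show σ t (z' (σ t⁻¹ v0)) = _
      rw [hti, map_smul, map_smul, ← hp, htp]
    have h2 : (σ t * z' * σ t⁻¹) p = κ⁻¹ • q := by
      have h3 := LinearMap.congr_fun (hZ.2 _ (hZ.1.conj ht)) v0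
      have h4 : (σ t * z' * σ t⁻¹) (z' v0) = z' ((σ t * z' * σ t⁻¹) v0) := h3
      rw [← hp, h1, map_smul, ← hq] at h4
      exact h4
    have h3 : (σ t * z' * σ t⁻¹) p = σ t q := by
      show σ t (z' (σ t⁻¹ p)) = σ t q
      have h4 : σ t⁻¹ p = p := by
        have h5 := inv_σ_apply (σ := σ) t p
        rwa [htp] at h5
      rw [h4, ← hq]
    rw [← h3, h2]
  obtain ⟨k', hk'⟩ := ht1 q (hC _ (hZ.1.mul hZ.1))
  have hκ2 : κ⁻¹ - 1 ≠ 0 := by
    intro h
    apply hκ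
    have h1 : κ⁻¹ = 1 := sub_eq_zero.1 h
    rw [← inv_inv κ, h1, inv_one]
  have hqm : q = ((κ⁻¹ - 1)⁻¹ * k') • v0 := by
    rw [mul_smul, ← hk', htq]
    have h1 : κ⁻¹ • q - q = (κ⁻¹ - 1) • q := by rw [sub_smul, one_smul]
    rw [h1, smul_smul, inv_mul_cancel₀ hκ2, one_smul]
  set m := (κ⁻¹ - 1)⁻¹ * k' with hm
  have hm0 : m = 0 := by
    have h1 := htq
    rw [hqm, map_smul, ht0, smul_smul, smul_smul] at h1
    have h2 : (m * κ - κ⁻¹ * m) • v0 = 0 := by rw [sub_smul, h1, sub_self]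
    have h3 := (smul_eq_zero.1 h2).resolve_right hv0
    have h4 : m * (κ * κ - 1) = 0 := by
      have h5 : κ⁻¹ * κ = 1 := inv_mul_cancel₀ hκ0
      linear_combination κ * h3 + m * h5
    rcases mul_eq_zero.1 h4 with h5 | h5
    · exact h5
    · exfalso
      apply hκ
      have h6 : (κ - 1) * (κ - 1) = 0 := by
        have h7 : (2 : F) = 0 := CharTwo.two_eq_zero
        linear_combination h5 + (1 - κ) * h7
      exact sub_eq_zero.1 (mul_self_eq_zero.1 h6)
  have hq0 : z' (z' v0) = 0 := by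
    show q = 0
    rw [hqm, hm0, zero_smul]
  have hp0 := hZ.sq_zero hK hq0
  refine ⟨lam, ?_⟩
  rw [← hp, hp1] at hp0
  exact sub_eq_zero.1 hp0

/-- **the homogeneous component of `v₀`** -/
theorem exists_comp {K : Subgroup X} (hK : CR σ K) {v0 : N} (hz : ∀ z, ZK σ K z → ∃ k : F, z v0 = k • v0) :
    ∃ e : Module.End F N, ZK σ K e ∧ e * e = e ∧ e v0 = v0 ∧ ∀ z, ZK σ K z → ∃ k : F, z * e = k • e := by
  have := hK.semisimple
  let P : Submodule (RK σ K) N := Submodule.span (RK σ K) (Set.range fun c : Module.End (RK σ K) N => c v0)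
  have hP : P.IsFullyInvariant := by
    intro f
    rw [Submodule.span_le]
    rintro _ ⟨c, rfl⟩
    exact Submodule.subset_span ⟨f * c, rfl⟩
  obtain ⟨e₀, he1, he2, he3⟩ := exists_central_proj hP
  have hv0 : v0 ∈ P := Submodule.subset_span ⟨1, rfl⟩
  refine ⟨ofEnd e₀, ⟨ofEnd_comm e₀, fun c hc => ?_⟩, ?_, (he1 v0).1 hv0, fun z hz' => ?_⟩
  · refine LinearMap.ext fun n => ?_
    exact LinearMap.congr_fun (he3 (toEnd c hc)) n
  · refine LinearMap.ext fun n => ?_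
    exact (he1 _).1 (he2 n)
  · obtain ⟨k, hk⟩ := hz z hz'
    refine ⟨k, LinearMap.ext fun n => ?_⟩
    have key : ∀ n ∈ P, z n = k • n := by
      intro n hn
      refine Submodule.span_induction (p := fun n _ => z n = k • n) ?_ ?_ ?_ ?_ hn
      · rintro _ ⟨c, rfl⟩
        have h1 := LinearMap.congr_fun (hz'.2 (ofEnd c) (ofEnd_comm c)) v0
        have h2 : c (z v0) = z (c v0) := h1
        have h3 : (ofEnd c) (k • v0) = k • (ofEnd c) v0 := map_smul _ _ _
        show z (c v0) = k • c v0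
        rw [← h2, hk]
        exact h3
      · rw [map_zero, smul_zero]
      · intro x y _ _ hx hy
        rw [map_add, hx, hy, smul_add]
      · intro r x _ hx
        have h1 := LinearMap.congr_fun (RK_comm hz'.1 r.2) x
        have h2 : z (r • x) = r • z x := h1
        rw [h2, hx]
        exact LinearMap.map_smul (r : Module.End F N) k x
    exact key _ (he2 n)

/-- everything which normalises `K` and `F v₀` commutes with `e` -/
theorem comp_comm {K : Subgroup X} {v0 : N} (hv0 : v0 ≠ 0) {e : Module.End F N} (he : ZK σ K e) (hee : e * e = e)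
    (hev : e v0 = v0) (hz : ∀ z, ZK σ K z → ∃ k : F, z * e = k • e) {g : X} (hg : ∀ k ∈ K, g⁻¹ * k * g ∈ K)
    (hg' : ∀ k ∈ K, g * k * g⁻¹ ∈ K) {c : F} (hgv : σ g v0 = c • v0) : σ g * e = e * σ g := by
  have hc0 : c ≠ 0 := by
    rintro rfl
    rw [zero_smul] at hgv
    apply hv0
    rw [← inv_σ_apply (σ := σ) g v0, hgv, map_zero]
  have hgi : σ g⁻¹ v0 = c⁻¹ • v0 := by
    have h1 : σ g⁻¹ (σ g v0) = v0 := inv_σ_apply g v0
    rw [hgv, map_smul] at h1
    rw [← h1, smul_smul, inv_mul_cancel₀ hc0, one_smul, h1]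
  have key : ∀ g : X, ∀ c : F, c ≠ 0 → σ g⁻¹ v0 = c • v0 → σ g (c • v0) = v0 → ZK σ K (σ g * e * σ g⁻¹) →
      (σ g * e * σ g⁻¹) * e = e := by
    intro g c _ h1 h2 hZ
    obtain ⟨k, hk⟩ := hz _ hZ
    have h3 := LinearMap.congr_fun hk v0
    have h4 : σ g (e (σ g⁻¹ (e v0))) = k • e v0 := h3
    rw [hev, h1, map_smul, hev, h2] at h4
    have h5 : (k - 1) • v0 = 0 := by rw [sub_smul, ← h4, one_smul, sub_self]
    have h6 : k = 1 := sub_eq_zero.1 ((smul_eq_zero.1 h5).resolve_right hv0)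
    rw [hk, h6, one_smul]
  have h1 := key g c⁻¹ (inv_ne_zero hc0) hgi (by rw [map_smul, hgv, smul_smul, inv_mul_cancel₀ hc0, one_smul])
    (he.conj hg hg')
  have h2 := key g⁻¹ c hc0 (by rw [inv_inv]; exact hgv) (by rw [map_smul, hgi, smul_smul, mul_inv_cancel₀ hc0, one_smul])
    (he.conj (g := g⁻¹) (by intro k hk; rw [inv_inv]; exact hg' k hk) (by intro k hk; rw [inv_inv]; exact hg k hk))
  rw [inv_inv] at h2
  -- `h1 : g e g⁻¹ e = e`, `h2 : g⁻¹ e g e = e`
  have h3 : e * (σ g * e * σ g⁻¹) = σ g * e * σ g⁻¹ := by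
    calc e * (σ g * e * σ g⁻¹) = σ g * ((σ g⁻¹ * e * σ g) * e) * σ g⁻¹ := by
          have e1 : σ g * ((σ g⁻¹ * e * σ g) * e) * σ g⁻¹ = (σ g * σ g⁻¹) * e * (σ g * e * σ g⁻¹) := by
            simp only [mul_assoc]
          rw [e1, σ_inv, one_mul]
      _ = _ := by rw [h2]
  have h4 : (σ g * e * σ g⁻¹) * e = e * (σ g * e * σ g⁻¹) := he.2 _ (he.conj hg hg').1
  have h5 : σ g * e * σ g⁻¹ = e := by rw [← h3, ← h4, h1]
  calc σ g * e = σ g * e * (σ g⁻¹ * σ g) := by rw [inv_σ, mul_one]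
    _ = (σ g * e * σ g⁻¹) * σ g := by simp only [mul_assoc]
    _ = e * σ g := by rw [h5]

end Cfsg.Agent.Omega.NO3S.OneQ.W
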