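import Cfsg.Agent.Omega.NO3S.OneQ.WGrp

/-!
# THEOREM W (#17961), section 4: one component in coordinates

`N` homogeneous for `L`, `C : Crd F N R Y d`, `h : Act σ L R`.
* `rs r` : the action of `r ∈ R` on `Y`; `conj_rs`, `conj_comm`;
-/

set_option autoImplicit false
set_option linter.unusedSectionVars false

namespace Cfsg.Agent.Omega.NO3S.OneQ.W

open Matrix

variable {F : Type*} [Field F] {N : Type*} [AddCommGroup N] [Module F N] {X : Type*} [Group X]
  {σ : X →* Module.End F N} {R : Type*} [Ring R] [Algebra F R] [Module R N] [IsScalarTower F R N]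

/-- `R` acts as the algebra generated by `L` -/
structure Act (σ : X →* Module.End F N) (L : Subgroup X) (R : Type*) [Ring R] [Algebra F R] [Module R N]
    [IsScalarTower F R N] : Prop where
  el : ∀ l ∈ L, ∃ r : R, ∀ n : N, r • n = σ l n
  cm : ∀ c : Module.End F N, (∀ l ∈ L, c * σ l = σ l * c) → ∀ (r : R) (n : N), c (r • n) = r • c n
  inv : ∀ W : Submodule F N, (∀ l ∈ L, ∀ w ∈ W, σ l w ∈ W) → ∀ (r : R), ∀ w ∈ W, r • w ∈ W
  nor : ∀ g : X, (∀ l ∈ L, g * l * g⁻¹ ∈ L) → (∀ l ∈ L, g⁻¹ * l * g ∈ L) → Nor R (σ g)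

theorem exists_act.{v} {N : Type v} [AddCommGroup N] [Module F N] {σ : X →* Module.End F N} [Finite N]
    {L : Subgroup X} (h : CR σ L) (hc : CSg σ L) (hne : ∃ n : N, n ≠ 0) :
    ∃ (R : Type v) (_ : Ring R) (_ : Algebra F R) (_ : Module R N) (_ : IsScalarTower F R N) (Y : Submodule R N)
      (d : ℕ), Act σ L R ∧ Nonempty (Crd F N R Y d) := by
  obtain ⟨Y, d, hC⟩ := exists_crd_grp h hc hne
  refine ⟨RK σ L, inferInstance, inferInstance, inferInstance, inferInstance, Y, d, ?_, hC⟩
  exact
    { el := fun l hl => ⟨⟨_, mem_RK hl⟩, fun _ => rfl⟩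
      cm := fun c hc r n => LinearMap.congr_fun (RK_comm hc r.2) n
      inv := fun W hW r => RK_mem hW r.2
      nor := fun g hg hg' => nor_RK hg hg' }

namespace Crd

variable {Y : Submodule R N} {d : ℕ} (C : Crd F N R Y d)

/-- the operator `r` on `N` -/
def op (F N : Type*) [Field F] [AddCommGroup N] [Module F N] {R : Type*} [Ring R] [Algebra F R]
    [Module R N] [IsScalarTower F R N] (r : R) : Module.End F N where
  toFun n := r • n
  map_add' n m := smul_add r n m
  map_smul' c n := by
    show r • (c • n) = c • (r • n)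
    rw [← algebraMap_smul R c n, ← algebraMap_smul R c (r • n), ← mul_smul, ← mul_smul, Algebra.commutes]

theorem op_apply (r : R) (n : N) : op F N r n = r • n := rfl

theorem conj_op (r : R) : C.conj (op F N r) = tens (op F Y r) 1 := by
  refine LinearMap.ext fun n => ?_
  obtain ⟨m, rfl⟩ := C.EF.surjective n
  rw [C.conj_apply]
  funext i
  have h1 : C.EF (r • m) = r • C.EF m := C.E.map_smul r m
  rw [op_apply, h1, tens_apply]
  simp [Matrix.one_apply, op_apply]

/-- operators commuting with `R` -/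
theorem conj_comm {c : Module.End F N} (hc : ∀ (r : R) (n : N), c (r • n) = r • c n) :
    ∃ m : Matrix (Fin d) (Fin d) F, C.conj c = tens 1 m := by
  have hG : ∀ (r : R) (n : Fin d → Y), C.conj c (r • n) = r • C.conj c n := by
    intro r n
    obtain ⟨m, rfl⟩ := C.EF.surjective n
    have h1 : r • C.EF m = C.EF (r • m) := (C.E.map_smul r m).symm
    rw [h1, C.conj_apply, C.conj_apply, hc]
    exact C.E.map_smul r (c m)
  have hsm : ∀ (r : R) (j : Fin d) (y : Y), (r • (Pi.single j y : Fin d → Y)) = Pi.single j (r • y) :=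
    fun r j y => by
      funext i
      rw [Pi.smul_apply]
      by_cases h : i = j
      · subst h
        rw [Pi.single_eq_same, Pi.single_eq_same]
      · rw [Pi.single_eq_of_ne h, Pi.single_eq_of_ne h, smul_zero]
  have key : ∀ i j, ∃ k : F, ∀ y : Y, C.conj c (Pi.single j y) i = k • y := by
    intro i j
    let f : Module.End R Y :=
      { toFun := fun y => C.conj c (Pi.single j y) i
        map_add' := fun a b => by
          rw [Pi.single_add, map_add, Pi.add_apply]
        map_smul' := fun r y => by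
          rw [← hsm, hG, Pi.smul_apply]
          rfl }
    obtain ⟨k, hk⟩ := C.sc f
    exact ⟨k, hk⟩
  choose m hm using key
  refine ⟨Matrix.of m, LinearMap.ext fun n => funext fun i => ?_⟩
  have h1 : n = ∑ j, Pi.single j (n j) := (Finset.univ_sum_single n).symm
  conv_lhs => rw [h1]
  rw [map_sum, Finset.sum_apply, tens_apply]
  exact Finset.sum_congr rfl fun j _ => hm i j _

theorem tens_comm (s : Module.End F Y) (m : Matrix (Fin d) (Fin d) F) : tens s 1 * tens 1 m = tens 1 m * tens s 1 := by
  rw [tens_mul, tens_mul, one_mul, mul_one, one_mul, mul_one]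

/-- two operators, `s ⊗ 1` and `1 ⊗ m`, commute -/
theorem comm_of {a c : Module.End F N} {s : Module.End F Y} {m : Matrix (Fin d) (Fin d) F}
    (ha : C.conj a = tens s 1) (hc : C.conj c = tens 1 m) : a * c = c * a := by
  apply C.conj_inj
  rw [C.conj_mul, C.conj_mul, ha, hc, tens_comm]

/-- the pure vectors of `N` -/
def pn (u : Fin d → F) (y : Y) : N := C.EF.symm (pv u y)

theorem EF_pn (u : Fin d → F) (y : Y) : C.EF (C.pn u y) = pv u y := C.EF.apply_symm_apply _

theorem apply_pn {g : Module.End F N} {s : Module.End F Y} {m : Matrix (Fin d) (Fin d) F}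
    (h : C.conj g = tens s m) (u : Fin d → F) (y : Y) : g (C.pn u y) = C.pn (m *ᵥ u) (s y) := by
  apply C.EF.injective
  rw [← C.conj_apply, EF_pn, EF_pn, h, tens_pv]

theorem pn_add (u : Fin d → F) (y y' : Y) : C.pn u (y + y') = C.pn u y + C.pn u y' := by
  apply C.EF.injective
  rw [map_add, EF_pn, EF_pn, EF_pn]
  funext i
  exact smul_add _ _ _

theorem pn_sub (u : Fin d → F) (y y' : Y) : C.pn u (y - y') = C.pn u y - C.pn u y' := by
  apply C.EF.injective
  rw [map_sub, EF_pn, EF_pn, EF_pn]
  funext i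
  exact smul_sub _ _ _

theorem pn_add' (u u' : Fin d → F) (y : Y) : C.pn (u + u') y = C.pn u y + C.pn u' y := by
  apply C.EF.injective
  rw [map_add, EF_pn, EF_pn, EF_pn]
  funext i
  exact add_smul _ _ _

theorem pn_sub' (u u' : Fin d → F) (y : Y) : C.pn (u - u') y = C.pn u y - C.pn u' y := by
  apply C.EF.injective
  rw [map_sub, EF_pn, EF_pn, EF_pn]
  funext i
  exact sub_smul _ _ _

theorem pn_smul (k : F) (u : Fin d → F) (y : Y) : C.pn u (k • y) = k • C.pn u y := by
  apply C.EF.injective
  rw [map_smul, EF_pn, EF_pn]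
  funext i
  exact smul_comm _ _ _

theorem pn_smul' (k : F) (u : Fin d → F) (y : Y) : C.pn (k • u) y = k • C.pn u y := by
  apply C.EF.injective
  rw [map_smul, EF_pn, EF_pn]
  funext i
  exact mul_smul _ _ _

theorem pn_zero (u : Fin d → F) : C.pn u 0 = 0 := by
  have := C.pn_sub u 0 0
  rwa [sub_self, sub_self] at this

theorem pn_zero' (y : Y) : C.pn 0 y = 0 := by
  have := C.pn_sub' 0 0 y
  rwa [sub_self, sub_self] at this

theorem pn_eq_zero {u : Fin d → F} {y : Y} (h : C.pn u y = 0) : u = 0 ∨ y = 0 := by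
  by_contra hcon
  push Not at hcon
  obtain ⟨i, hi⟩ : ∃ i, u i ≠ 0 := by
    by_contra hc
    push Not at hc
    exact hcon.1 (funext hc)
  have h1 : pv u y = 0 := by rw [← C.EF_pn, h, map_zero]
  exact (smul_eq_zero.1 (congrFun h1 i)).elim hi hcon.2

/-- `N` is generated by pure vectors -/
theorem ind {p : N → Prop} (h0 : p 0) (ha : ∀ x y, p x → p y → p (x + y)) (hp : ∀ u y, p (C.pn u y)) (n : N) : p n := by
  classical
  have h1 : n = ∑ j, C.pn (Pi.single j 1) (C.EF n j) := by
    apply C.EF.injective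
    rw [map_sum]
    funext i
    rw [Finset.sum_apply, Finset.sum_eq_single i]
    · rw [EF_pn]
      show _ = (Pi.single i (1 : F) : Fin d → F) i • _
      rw [Pi.single_eq_same, one_smul]
    · intro j _ hj
      rw [EF_pn]
      show (Pi.single j (1 : F) : Fin d → F) i • _ = 0
      rw [Pi.single_eq_of_ne (Ne.symm hj), zero_smul]
    · intro h
      exact absurd (Finset.mem_univ i) h
  rw [h1]
  refine Finset.sum_induction _ p ha h0 fun j _ => hp _ _

end Crd

end Cfsg.Agent.Omega.NO3S.OneQ.W
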