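import Cfsg.Agent.Omega.NO3S.OneQ.WFour

/-!
# THEOREM W (#17961), (4.4): the end (Burnside)
-/

set_option autoImplicit false
set_option linter.unusedSectionVars false

namespace Cfsg.Agent.Omega.NO3S.OneQ.W

open Matrix

variable {F : Type*} [Field F] {N : Type*} [AddCommGroup N] [Module F N] {X : Type*} [Group X]
  {σ : X →* Module.End F N} {R : Type*} [Ring R] [Algebra F R] [Module R N] [IsScalarTower F R N]
  {Y : Submodule R N} {d : ℕ}

namespace Crd

variable (C : Crd F N R Y d)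

/-- the operator of `l ∈ L` -/
theorem exists_op {L : Subgroup X} (ha : Act σ L R) {l : X} (hl : l ∈ L) :
    ∃ r : R, (∀ n : N, r • n = σ l n) ∧ C.conj (σ l) = tens (op F Y r) 1 := by
  obtain ⟨r, hr⟩ := ha.el l hl
  refine ⟨r, hr, ?_⟩
  rw [← C.conj_op]
  congr 1
  exact LinearMap.ext fun n => (hr n).symm

theorem pn_inj {u : Fin d → F} (hu : u ≠ 0) {y y' : Y} (h : C.pn u y = C.pn u y') : y = y' := by
  have h1 : C.pn u (y - y') = 0 := by rw [C.pn_sub, h, sub_self]
  exact sub_eq_zero.1 ((C.pn_eq_zero h1).resolve_left hu)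

end Crd

namespace Fo

variable {C : Crd F N R Y d} {A : Subgroup X} {x : Module.End F Y} {z : Matrix (Fin d) (Fin d) F} {μ : A → F}
  {v0 : N} {Eb : AddSubgroup N}

/-- **(4.4)** -/
theorem false [Finite F] [Finite N] [CharP F 2] (h4 : 4 ≤ Nat.card F) (h : Fo C σ A x z μ v0 Eb) {L S : Subgroup X}
    (ha : Act σ L R) (hS : ∀ s ∈ S, σ s v0 = v0) (hmove : ∃ s ∈ S ⊓ L, σ s ≠ 1) {n l : X} (hnL : n ∈ L)
    (hn : ∀ s ∈ S ⊓ L, n⁻¹ * s * n ∈ S ⊓ L) (hnl : σ (n * n) * σ l ≠ σ l * σ (n * n))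
    (hstab : (∃ k : F, σ n v0 = k • v0) → ∀ a ∈ A, n * a * n⁻¹ ∈ A) : False := by
  obtain ⟨y1, hy1⟩ := h.exists_y
  obtain ⟨u1, hu1⟩ := h.exists_u
  obtain ⟨k0, hk0, hv0⟩ := h.line h4 hu1 hy1
  set w := C.pn (z *ᵥ u1) (x y1) with hw
  have hSw : ∀ s ∈ S, σ s w = w := by
    intro s hs
    have h1 := hS s hs
    rw [hv0, map_smul] at h1
    exact smul_right_injective N hk0 h1
  -- the elements of `S ∩ L`
  have hop : ∀ l ∈ L, ∃ r : R, (∀ n : N, r • n = σ l n) ∧ ∀ u y, σ l (C.pn u y) = C.pn u (r • y) := by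
    intro l hl
    obtain ⟨r, hr, hr'⟩ := C.exists_op ha hl
    refine ⟨r, hr, fun u y => ?_⟩
    rw [C.apply_pn hr', Matrix.one_mulVec]
    rfl
  obtain ⟨s, hs, hs1⟩ := hmove
  obtain ⟨ρ, hρ, hρ'⟩ := hop s hs.2
  obtain ⟨ν, hν, hν'⟩ := hop n hnL
  have hρx : ρ • x y1 = x y1 := by
    have h1 := hSw s hs.1
    rw [hw, hρ'] at h1
    exact C.pn_inj hu1 h1
  have hρy : ρ • y1 ≠ y1 := by
    intro h1
    apply hs1
    refine LinearMap.ext fun m => ?_
    refine C.ind (p := fun m => σ s m = (1 : Module.End F N) m) (map_zero _) ?_ ?_ m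
    · intro a b ha hb
      rw [map_add, map_add, ha, hb]
    · intro u y
      obtain ⟨a, b, rfl⟩ := h.dimY hy1 y
      have e1 : ρ • (a • y1 + b • x y1) = a • y1 + b • x y1 := by
        have e2 : ρ • (a • y1 + b • x y1) = Crd.op F Y ρ (a • y1 + b • x y1) := rfl
        rw [e2, map_add, map_smul, map_smul]
        show a • (ρ • y1) + b • (ρ • x y1) = _
        rw [h1, hρx]
      rw [hρ', e1]
      rfl
  have hνx : ∃ k : F, ν • x y1 = k • x y1 := by
    obtain ⟨a, b, hab⟩ := h.dimY hy1 (ν • x y1)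
    have h1 : ρ • (ν • x y1) = ν • x y1 := by
      have h2 : σ s (σ n w) = σ n w := by
        have h3 : s * n = n * (n⁻¹ * s * n) := by group
        have h5 : σ s * σ n = σ n * σ (n⁻¹ * s * n) := by rw [← map_mul, ← map_mul, h3]
        have h6 := LinearMap.congr_fun h5 w
        have h7 : σ s (σ n w) = σ n (σ (n⁻¹ * s * n) w) := h6
        rw [h7, hSw _ (hn s hs).1]
      rw [hw, hν', hρ'] at h2
      exact C.pn_inj hu1 h2
    rw [hab] at h1
    have e2 : ρ • (a • y1 + b • x y1) = a • (ρ • y1) + b • (ρ • x y1) := by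
      have e2 : ρ • (a • y1 + b • x y1) = Crd.op F Y ρ (a • y1 + b • x y1) := rfl
      rw [e2, map_add, map_smul, map_smul]
      rfl
    rw [e2, hρx, add_left_inj] at h1
    have ha0 : a = 0 := by
      by_contra hne
      exact hρy (smul_right_injective _ hne h1)
    exact ⟨b, by rw [hab, ha0, zero_smul, zero_add]⟩
  obtain ⟨k, hk⟩ := hνx
  have hnw : σ n v0 = k • v0 := by
    rw [hv0, map_smul, hw, hν', hk, C.pn_smul, smul_comm]
  have hA := hstab ⟨k, hnw⟩
  obtain ⟨a1, ha1⟩ := h.mu_surj 1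
  let a2 : A := ⟨n * a1 * n⁻¹, hA a1 a1.2⟩
  have hconj : C.conj (σ n) = tens (Crd.op F Y ν) 1 := by
    obtain ⟨r, hr, hr'⟩ := C.exists_op ha hnL
    have h1 : Crd.op F N r = Crd.op F N ν := LinearMap.ext fun m => (hr m).trans (hν m).symm
    rw [hr', ← C.conj_op, h1, C.conj_op]
  have h1 : tens (Crd.op F Y ν * (1 + x)) (1 + z) = tens ((1 + μ a2 • x) * Crd.op F Y ν) (1 + μ a2 • z) := by
    have e1 : σ n * σ a1 = σ (a2 : X) * σ n := by
      rw [← map_mul, ← map_mul]
      congr 1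
      show n * a1 = n * a1 * n⁻¹ * n
      group
    have e2 : C.conj (σ n) * C.conj (σ a1) = C.conj (σ (a2 : X)) * C.conj (σ n) := by
      rw [← C.conj_mul, e1, C.conj_mul]
    rw [hconj, h.act, h.act, tens_mul, tens_mul, ha1, one_smul, one_smul, one_mul, mul_one] at e2
    exact e2
  have hne1 : Crd.op F Y ν * (1 + x) ≠ 0 := by
    intro h0
    have h2 : Crd.op F Y ν * (1 + x) * (1 + x) = 0 := by rw [h0, zero_mul]
    have h3 : (1 + x) * (1 + x) = 1 := by
      have h5 := add_self_end x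
      have h6 : (1 + x) * (1 + x) = 1 + (x + x) + x * x := by noncomm_ring
      rw [h6, h5, h.xx, add_zero, add_zero]
    rw [mul_assoc, h3, mul_one] at h2
    have h5 : ν • x y1 = 0 := LinearMap.congr_fun h2 (x y1)
    have h6 : σ n w = 0 := by rw [hw, hν', h5, C.pn_zero]
    have h7 : σ n⁻¹ (σ n w) = w := by
      have h8 : σ n⁻¹ * σ n = 1 := by rw [← map_mul, inv_mul_cancel, map_one]
      exact LinearMap.congr_fun h8 w
    rw [h6, map_zero] at h7
    exact (C.pn_eq_zero h7.symm).elim hu1 hy1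
  have hne2 : (1 + μ a2 • z) ≠ 0 := by
    intro h0
    have h2 : (1 + μ a2 • z) *ᵥ (z *ᵥ u1) = z *ᵥ u1 := by
      rw [Matrix.add_mulVec, Matrix.one_mulVec, Matrix.smul_mulVec, h.zzu, smul_zero, add_zero]
    rw [h0, Matrix.zero_mulVec] at h2
    exact hu1 h2.symm
  obtain ⟨c, hc1, hc2⟩ := tens_prop h1 hne1 hne2
  have hc3 : (1 - c) • u1 + (1 - c * μ a2) • (z *ᵥ u1) = 0 := by
    have h2 : (1 + z) *ᵥ u1 = (c • (1 + μ a2 • z)) *ᵥ u1 := by rw [← hc2]
    rw [Matrix.add_mulVec, Matrix.one_mulVec, Matrix.smul_mulVec, Matrix.add_mulVec, Matrix.one_mulVec,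
      Matrix.smul_mulVec, smul_add, smul_smul] at h2
    rw [sub_smul, sub_smul, one_smul, one_smul, sub_add_sub_comm, h2, sub_self]
  obtain ⟨hc4, hc5⟩ := h.indep hu1 hc3
  have hc6 : c = 1 := (sub_eq_zero.1 hc4).symm
  rw [hc6, one_mul] at hc5
  have hmu : μ a2 = 1 := (sub_eq_zero.1 hc5).symm
  rw [hc6, one_smul, hmu, one_smul] at hc1
  -- `x ν = ν x`
  have hcomm : ∀ y, x (ν • y) = ν • x y := by
    intro y
    have h2 := LinearMap.congr_fun hc1 y
    have h3 : ν • y + x (ν • y) = Crd.op F Y ν (y + x y) := h2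
    rw [map_add] at h3
    exact add_left_cancel h3
  obtain ⟨a, b, hab⟩ := h.dimY hy1 (ν • y1)
  have hνx' : ν • x y1 = a • x y1 := by
    rw [← hcomm, hab, map_add, map_smul, map_smul, h.xxy, smul_zero, add_zero]
  have hadd : ∀ (p q : F), ν • (p • y1 + q • x y1) = p • (ν • y1) + q • (ν • x y1) := by
    intro p q
    have e2 : ν • (p • y1 + q • x y1) = Crd.op F Y ν (p • y1 + q • x y1) := rfl
    rw [e2, map_add, map_smul, map_smul]
    rfl
  have hνy : ν • (ν • y1) = (a * a) • y1 := by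
    rw [hab, hadd, hab, hνx', smul_add, smul_smul, smul_smul, smul_smul]
    have h2 : (a * b) • x y1 + (b * a) • x y1 = 0 := by
      rw [← add_smul, mul_comm b a, CharTwo.add_self_eq_zero, zero_smul]
    rw [add_assoc, h2, add_zero]
  have hνxx : ν • (ν • x y1) = (a * a) • x y1 := by
    have h2 := hadd 0 a
    rw [zero_smul, zero_smul, zero_add, zero_add] at h2
    rw [hνx', h2, hνx', smul_smul]
  apply hnl
  have hsc : ∀ m, σ (n * n) m = (a * a) • m := by
    intro m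
    refine C.ind (p := fun m => σ (n * n) m = (a * a) • m) ?_ ?_ ?_ m
    · rw [map_zero, smul_zero]
    · intro p q hp hq
      rw [map_add, hp, hq, smul_add]
    · intro u y
      rw [map_mul]
      show σ n (σ n (C.pn u y)) = _
      rw [hν', hν', ← C.pn_smul]
      congr 1
      obtain ⟨p, q, rfl⟩ := h.dimY hy1 y
      have h2 : ν • (p • (ν • y1) + q • (ν • x y1)) = p • (ν • (ν • y1)) + q • (ν • (ν • x y1)) := by
        have k1 := LinearMap.map_smul (Crd.op F Y ν) p (ν • y1)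
        have k2 := LinearMap.map_smul (Crd.op F Y ν) q (ν • x y1)
        have k3 := LinearMap.map_add (Crd.op F Y ν) (p • (ν • y1)) (q • (ν • x y1))
        rw [k1, k2] at k3
        exact k3
      rw [hadd, h2, hνy, hνxx, smul_add, smul_comm p, smul_comm q]
  refine LinearMap.ext fun m => ?_
  show σ (n * n) (σ l m) = σ l (σ (n * n) m)
  rw [hsc, hsc, map_smul]

end Fo

end Cfsg.Agent.Omega.NO3S.OneQ.W
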