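import Cfsg.Agent.Omega.NO3S.OneQ.WCrd

/-!
# THEOREM W (#17961), (4.5): `dim [Y,A] = 1` or `dim X = 1`
-/

set_option autoImplicit false
set_option linter.unusedSectionVars false

namespace Cfsg.Agent.Omega.NO3S.OneQ.W

open Matrix

variable {F : Type*} [Field F] {N : Type*} [AddCommGroup N] [Module F N] {R : Type*} [Ring R] [Algebra F R]
  [Module R N] [IsScalarTower F R N]

namespace Crd

variable {Y : Submodule R N} {d : ℕ} (C : Crd F N R Y d)

/-- the commutator space of a family of operators `s a` -/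
def cU {A : Type*} (s : A → Module.End F Y) : Submodule F Y := Submodule.span F {y | ∃ a y', y = s a y' - y'}

/-- the commutator space of a family of operators on `N` -/
def cN {A : Type*} (g : A → Module.End F N) : Submodule F N := Submodule.span F {n | ∃ a n', n = g a n' - n'}

variable {A : Type*} {g : A → Module.End F N} {s : A → Module.End F Y}

theorem pn_mem (hg : ∀ a, C.conj (g a) = tens (s a) 1) (u : Fin d → F) {y : Y} (hy : y ∈ cU s) : C.pn u y ∈ cN g := by
  refine Submodule.span_induction (p := fun y _ => C.pn u y ∈ cN g) ?_ ?_ ?_ ?_ hy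
  · rintro _ ⟨a, y', rfl⟩
    refine Submodule.subset_span ⟨a, C.pn u y', ?_⟩
    rw [C.apply_pn (hg a), Matrix.one_mulVec, C.pn_sub]
  · rw [C.pn_zero]; exact Submodule.zero_mem _
  · intro x y _ _ hx hy
    rw [C.pn_add]; exact Submodule.add_mem _ hx hy
  · intro k x _ hx
    rw [C.pn_smul]; exact Submodule.smul_mem _ _ hx

theorem cN_ind (hg : ∀ a, C.conj (g a) = tens (s a) 1) {p : N → Prop} (h0 : p 0)
    (ha : ∀ x y, p x → p y → p (x + y)) (hs : ∀ (k : F) x, p x → p (k • x)) (hp : ∀ u, ∀ y ∈ cU s, p (C.pn u y))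
    {n : N} (hn : n ∈ cN g) : p n := by
  refine Submodule.span_induction (p := fun n _ => p n) ?_ h0 (fun x y _ _ => ha x y) (fun k x _ => hs k x) hn
  rintro _ ⟨a, n', rfl⟩
  refine C.ind (p := fun n' => p (g a n' - n')) ?_ ?_ ?_ n'
  · simpa using h0
  · intro x y hx hy
    have e : g a (x + y) - (x + y) = (g a x - x) + (g a y - y) := by rw [map_add]; abel
    rw [e]
    exact ha _ _ hx hy
  · intro u y
    rw [C.apply_pn (hg a), Matrix.one_mulVec, ← C.pn_sub]
    exact hp u _ (Submodule.subset_span ⟨a, y, rfl⟩)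

/-- **(4.5)** -/
theorem one_or_one (hg : ∀ a, C.conj (g a) = tens (s a) 1) {t : Module.End F N} {st : Module.End F Y}
    {rt : Matrix (Fin d) (Fin d) F} (ht : C.conj t = tens st rt) {v0 : N} (hv0 : v0 ≠ 0) (hv : v0 ∈ cN g) {κ : F}
    (hκ : κ ≠ 1) (ht0 : t v0 = κ • v0) (ht1 : ∀ r ∈ cN g, ∃ k : F, t r - r = k • v0) :
    d = 1 ∨ ∃ y0 : Y, ∀ y ∈ cU s, ∃ k : F, y = k • y0 := by
  by_cases hd : d = 1
  · exact Or.inl hd
  right
  have hpos := C.pos
  have hd2 : 1 < d := by omega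
  let e0 : Fin d → F := Pi.single ⟨0, by omega⟩ 1
  let e1 : Fin d → F := Pi.single ⟨1, hd2⟩ 1
  have he : ∀ a b : F, a • e0 + b • e1 = 0 → a = 0 ∧ b = 0 := by
    intro a b h
    constructor
    · have h1 := congrFun h ⟨0, by omega⟩
      have h2 : a * e0 ⟨0, by omega⟩ + b * e1 ⟨0, by omega⟩ = 0 := h1
      have h3 : e0 ⟨0, by omega⟩ = 1 := Pi.single_eq_same _ _
      have h4 : e1 ⟨0, by omega⟩ = 0 := Pi.single_eq_of_ne (by simp [Fin.ext_iff]) _
      rw [h3, h4] at h2
      linear_combination h2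
    · have h1 := congrFun h ⟨1, hd2⟩
      have h2 : a * e0 ⟨1, hd2⟩ + b * e1 ⟨1, hd2⟩ = 0 := h1
      have h3 : e1 ⟨1, hd2⟩ = 1 := Pi.single_eq_same _ _
      have h4 : e0 ⟨1, hd2⟩ = 0 := Pi.single_eq_of_ne (by simp [Fin.ext_iff]) _
      rw [h3, h4] at h2
      linear_combination h2
  -- the operator `t - 1` on pure vectors
  have hw : ∀ y ∈ cU s, ∀ u, ∃ k : F, C.pn (rt *ᵥ u) (st y) - C.pn u y = k • v0 := by
    intro y hy u
    obtain ⟨k, hk⟩ := ht1 _ (C.pn_mem hg u hy)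
    rw [C.apply_pn ht] at hk
    exact ⟨k, hk⟩
  -- a common zero
  have hzero : ∀ y ∈ cU s, ∃ u : Fin d → F, u ≠ 0 ∧ C.pn (rt *ᵥ u) (st y) = C.pn u y := by
    intro y hy
    obtain ⟨k0, hk0⟩ := hw y hy e0
    obtain ⟨k1, hk1⟩ := hw y hy e1
    by_cases hk : k0 = 0
    · refine ⟨e0, ?_, ?_⟩
      · intro h
        have := (he 1 0 (by rw [h]; simp)).1
        exact one_ne_zero this
      · rw [hk, zero_smul] at hk0
        exact sub_eq_zero.1 hk0
    · refine ⟨k1 • e0 + (-k0) • e1, ?_, ?_⟩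
      · intro h
        exact hk (neg_eq_zero.1 (he _ _ h).2)
      · have h1 : C.pn (rt *ᵥ (k1 • e0 + (-k0) • e1)) (st y) - C.pn (k1 • e0 + (-k0) • e1) y =
            k1 • (C.pn (rt *ᵥ e0) (st y) - C.pn e0 y) + (-k0) • (C.pn (rt *ᵥ e1) (st y) - C.pn e1 y) := by
          rw [Matrix.mulVec_add, Matrix.mulVec_smul, Matrix.mulVec_smul, C.pn_add', C.pn_add', C.pn_smul', C.pn_smul',
            C.pn_smul', C.pn_smul', smul_sub, smul_sub]
          abel
        rw [hk0, hk1, smul_smul, smul_smul, ← add_smul] at h1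
        have h2 : k1 * k0 + -k0 * k1 = 0 := by ring
        rw [h2, zero_smul] at h1
        exact sub_eq_zero.1 h1
  -- eigenvectors
  have heig : ∀ y ∈ cU s, y ≠ 0 → ∃ c : F, st y = c • y := by
    intro y hy hy0
    obtain ⟨u, hu, hk⟩ := hzero y hy
    obtain ⟨i, hi⟩ : ∃ i, u i ≠ 0 := by
      by_contra hcon
      push Not at hcon
      exact hu (funext hcon)
    have h1 : pv (rt *ᵥ u) (st y) = pv u y := by rw [← C.EF_pn, ← C.EF_pn, hk]
    have h2 : (rt *ᵥ u) i • st y = u i • y := congrFun h1 i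
    have h3 : (rt *ᵥ u) i ≠ 0 := by
      intro h
      rw [h, zero_smul] at h2
      exact (smul_eq_zero.1 h2.symm).elim hi hy0
    refine ⟨((rt *ᵥ u) i)⁻¹ * u i, ?_⟩
    rw [mul_smul, ← h2, smul_smul, inv_mul_cancel₀ h3, one_smul]
  -- one direction
  have hline : ∀ y ∈ cU s, ∀ c : F, st y = c • y → ∀ u, ∃ k : F, C.pn (c • (rt *ᵥ u) - u) y = k • v0 := by
    intro y hy c hc u
    obtain ⟨k, hk⟩ := hw y hy u
    refine ⟨k, ?_⟩
    rw [C.pn_sub', C.pn_smul', ← C.pn_smul, ← hc, hk]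
  by_contra hcon
  push Not at hcon
  -- `y1`, `y2`
  obtain ⟨y1, hy1, hy10⟩ := hcon 0
  have hy1ne : y1 ≠ 0 := by
    rintro rfl
    exact hy10 0 (by rw [smul_zero])
  obtain ⟨c, hc⟩ := heig y1 hy1 hy1ne
  have pair : ∀ y ∈ cU s, (∀ k : F, y ≠ k • y1) → (∀ u, c • (rt *ᵥ u) - u = 0) ∧ st y = c • y := by
    intro y hy hyk
    have hyne : y ≠ 0 := by
      rintro rfl
      exact hyk 0 (by rw [zero_smul])
    obtain ⟨c', hc'⟩ := heig y hy hyne
    -- not both lines
    have hnot : ∀ u u', c • (rt *ᵥ u) - u ≠ 0 → c' • (rt *ᵥ u') - u' ≠ 0 → False := by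
      intro u u' hu hu'
      obtain ⟨k, hk⟩ := hline y1 hy1 c hc u
      obtain ⟨k', hk'⟩ := hline y hy c' hc' u'
      have hk0 : k ≠ 0 := by
        rintro rfl
        rw [zero_smul] at hk
        exact (C.pn_eq_zero hk).elim hu hy1ne
      have hk0' : k' ≠ 0 := by
        rintro rfl
        rw [zero_smul] at hk'
        exact (C.pn_eq_zero hk').elim hu' hyne
      have h1 : C.pn (c' • (rt *ᵥ u') - u') y = C.pn ((k' * k⁻¹) • (c • (rt *ᵥ u) - u)) y1 := by
        rw [C.pn_smul', hk, hk', smul_smul, mul_assoc, inv_mul_cancel₀ hk0, mul_one]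
      obtain ⟨i, hi⟩ : ∃ i, (c' • (rt *ᵥ u') - u') i ≠ 0 := by
        by_contra hcon
        push Not at hcon
        exact hu' (funext hcon)
      have h2 : pv (c' • (rt *ᵥ u') - u') y = pv ((k' * k⁻¹) • (c • (rt *ᵥ u) - u)) y1 := by
        rw [← C.EF_pn, ← C.EF_pn, h1]
      have h3 : (c' • (rt *ᵥ u') - u') i • y = ((k' * k⁻¹) • (c • (rt *ᵥ u) - u)) i • y1 := congrFun h2 i
      apply hyk (((c' • (rt *ᵥ u') - u') i)⁻¹ * ((k' * k⁻¹) • (c • (rt *ᵥ u) - u)) i)
      rw [mul_smul, ← h3, smul_smul, inv_mul_cancel₀ hi, one_smul]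
    -- both vanish
    have two : ∀ (a b : F) (y : Y), y ≠ 0 → (∀ u, a • (rt *ᵥ u) - u = 0) →
        (∀ u, ∃ k : F, C.pn (b • (rt *ᵥ u) - u) y = k • v0) → b = a := by
      intro a b y hy0 ha hb
      by_contra hab
      have ha0 : a ≠ 0 := by
        rintro rfl
        have := ha e0
        rw [zero_smul, zero_sub, neg_eq_zero] at this
        have := (he 1 0 (by rw [this]; simp)).1
        exact one_ne_zero this
      have h1 : ∀ u, b • (rt *ᵥ u) - u = (b * a⁻¹ - 1) • u := by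
        intro u
        have h2 : u = a • (rt *ᵥ u) := (sub_eq_zero.1 (ha u)).symm
        rw [sub_smul, one_smul, mul_smul]
        congr 2
        conv_rhs => rw [h2]
        rw [smul_smul, inv_mul_cancel₀ ha0, one_smul]
      have hba : b * a⁻¹ - 1 ≠ 0 := by
        intro h
        apply hab
        have h2 : b * a⁻¹ = 1 := sub_eq_zero.1 h
        field_simp at h2
        exact h2
      have h2 : ∀ u, ∃ k : F, C.pn u y = k • v0 := by
        intro u
        obtain ⟨k, hk⟩ := hb u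
        rw [h1, C.pn_smul'] at hk
        refine ⟨(b * a⁻¹ - 1)⁻¹ * k, ?_⟩
        rw [mul_smul, ← hk, smul_smul, inv_mul_cancel₀ hba, one_smul]
      obtain ⟨k0, hk0⟩ := h2 e0
      obtain ⟨k1, hk1⟩ := h2 e1
      have h3 : C.pn (k1 • e0 + (-k0) • e1) y = 0 := by
        rw [C.pn_add', C.pn_smul', C.pn_smul', hk0, hk1, smul_smul, smul_smul, ← add_smul]
        have h2 : k1 * k0 + -k0 * k1 = 0 := by ring
        rw [h2, zero_smul]
      have h4 := (C.pn_eq_zero h3).resolve_right hy0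
      have h5 := neg_eq_zero.1 (he _ _ h4).2
      rw [h5, zero_smul] at hk0
      have h6 := (C.pn_eq_zero hk0).resolve_right hy0
      have := (he 1 0 (by rw [h6]; simp)).1
      exact one_ne_zero this
    by_cases h1 : ∀ u, c • (rt *ᵥ u) - u = 0
    · have := two c c' y hyne h1 (hline y hy c' hc')
      exact ⟨h1, by rw [hc', this]⟩
    · push Not at h1
      obtain ⟨u, hu⟩ := h1
      have h2 : ∀ u', c' • (rt *ᵥ u') - u' = 0 := by
        intro u'
        by_contra hu'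
        exact hnot u u' hu hu'
      have h3 := two c' c y1 hy1ne h2 (hline y1 hy1 c hc)
      rw [← h3] at h2
      exact absurd (h2 u) hu
  obtain ⟨y2, hy2, hy2k⟩ := hcon y1
  obtain ⟨hrt, -⟩ := pair y2 hy2 hy2k
  have hst : ∀ y ∈ cU s, st y = c • y := by
    intro y hy
    by_cases h1 : ∀ k : F, y ≠ k • y1
    · exact (pair y hy h1).2
    · push Not at h1
      obtain ⟨k, rfl⟩ := h1
      rw [map_smul, hc, smul_comm]
  -- `t` is trivial on `[N, A]`
  have ht2 : t v0 = v0 := by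
    refine C.cN_ind hg (p := fun n => t n = n) (map_zero t) ?_ ?_ ?_ hv
    · intro x y hx hy
      rw [map_add, hx, hy]
    · intro k x hx
      rw [map_smul, hx]
    · intro u y hy
      rw [C.apply_pn ht, hst y hy, C.pn_smul, ← C.pn_smul', sub_eq_zero.1 (hrt u)]
  rw [ht0] at ht2
  have h1 : (κ - 1) • v0 = 0 := by rw [sub_smul, ht2, one_smul, sub_self]
  exact hκ (sub_eq_zero.1 ((smul_eq_zero.1 h1).resolve_right hv0))

end Crd

end Cfsg.Agent.Omega.NO3S.OneQ.W
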