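import Cfsg.Agent.Omega.NO3S.OneQ.WCen
import Cfsg.Agent.Omega.NO3S.OneQ.WOne
import Cfsg.Agent.Omega.NO3S.OneQ.WFourEnd

/-!
# THEOREM W (#17961): the abstract data and the homogeneous case

`WD σ A S LL t v₀ κ Eb` : the input of THEOREM W, sections 3-4 (`LL` : the components moved by `A`, `K = sSup LL`).
`HD` : the same with `CSg σ K` (the centre of `End_K(N)` consists of scalars).
`HD.main` : `LL = {L}`, `N = Y ⊗ F^d`, `A` acts on `Y`, and `d = 1` or `dim [Y,A] = 1`.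
-/

set_option autoImplicit false
set_option linter.unusedSectionVars false

namespace Cfsg.Agent.Omega.NO3S.OneQ.W

open Matrix

variable {F : Type*} [Field F] {N : Type*} [AddCommGroup N] [Module F N] {X : Type*} [Group X]

/-- `[N, A]` -/
def NA (σ : X →* Module.End F N) (A : Subgroup X) : Submodule F N :=
  Submodule.span F {n | ∃ a ∈ A, ∃ n', n = σ a n' - n'}

/-- the common part of the data -/
structure WB (σ : X →* Module.End F N) (A S : Subgroup X) (LL : Set (Subgroup X)) (t : X) (v0 : N) (κ : F)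
    (Eb : AddSubgroup N) : Prop where
  A_sq : ∀ a ∈ A, a * a = 1
  faith : ∀ a ∈ A, σ a = 1 → a = 1
  quad : ∀ a ∈ A, ∀ b ∈ A, (σ a - 1) * (σ b - 1) = 0
  card : Nat.card F ≤ Nat.card A
  AL : ∀ L ∈ LL, ∀ a ∈ A, ∀ l ∈ L, a * l * a⁻¹ ∈ L
  comm : ∀ L ∈ LL, ∀ L' ∈ LL, L ≠ L' → ∀ l ∈ L, ∀ l' ∈ L', l * l' = l' * l
  LA : ∀ L ∈ LL, L ≤ Subgroup.closure {g | ∃ l ∈ L, ∃ a ∈ A, g = l * a * l⁻¹ * a⁻¹}
  crL : ∀ L ∈ LL, CR σ L
  move : ∀ L ∈ LL, ∃ l ∈ L, σ l v0 ≠ v0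
  out : ∃ a ∈ A, a ∈ sSup LL ∧ a ≠ 1
  tK : ∀ k ∈ sSup LL, t * k * t⁻¹ ∈ sSup LL
  tK' : ∀ k ∈ sSup LL, t⁻¹ * k * t ∈ sSup LL
  v0_ne : v0 ≠ 0
  v0_mem : v0 ∈ NA σ A
  S_fix : ∀ s ∈ S, σ s v0 = v0
  κ_ne : κ ≠ 1
  t_v0 : σ t v0 = κ • v0
  t_R : ∀ r ∈ NA σ A, ∃ k : F, σ t r - r = k • v0
  idx : Eb.index ≤ Nat.card A
  eb : ∀ n ∈ Eb, ∀ a ∈ A, ∃ k : F, σ a n - n = k • v0
  evn : ∀ L ∈ LL, ∃ s ∈ S ⊓ L, σ s ≠ 1
  bur : ∀ L ∈ LL, ∃ n ∈ L, (∀ s ∈ S ⊓ L, n⁻¹ * s * n ∈ S ⊓ L) ∧ (∃ l ∈ L, σ (n * n) * σ l ≠ σ l * σ (n * n)) ∧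
    ((∃ k : F, σ n v0 = k • v0) → ∀ a ∈ A, n * a * n⁻¹ ∈ A)

/-- **the data of THEOREM W** -/
structure WD (σ : X →* Module.End F N) (A S : Subgroup X) (LL : Set (Subgroup X)) (t : X) (v0 : N) (κ : F)
    (Eb : AddSubgroup N) : Prop extends WB σ A S LL t v0 κ Eb where
  S2 : IsPGroup 2 S
  SA : ∀ s ∈ S, ∀ a ∈ A, s * a * s⁻¹ ∈ A
  SK : ∀ s ∈ S, ∀ k ∈ sSup LL, s * k * s⁻¹ ∈ sSup LL
  crK : CR σ (sSup LL)
  fixR : ∀ r ∈ NA σ A, (∀ s ∈ S, σ s r = r) → ∃ k : F, r = k • v0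

/-- the homogeneous case -/
structure HD (σ : X →* Module.End F N) (A S : Subgroup X) (LL : Set (Subgroup X)) (t : X) (v0 : N) (κ : F)
    (Eb : AddSubgroup N) : Prop extends WB σ A S LL t v0 κ Eb where
  cs : CSg σ (sSup LL)

variable {σ : X →* Module.End F N} {A S : Subgroup X} {LL : Set (Subgroup X)} {t : X} {v0 : N} {κ : F}
  {Eb : AddSubgroup N}

/-- a product of commuting subgroups -/
theorem factor_of {LL : Set (Subgroup X)} (hc : ∀ L ∈ LL, ∀ L' ∈ LL, L ≠ L' → ∀ l ∈ L, ∀ l' ∈ L', l * l' = l' * l)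
    {L : Subgroup X} (hL : L ∈ LL) : ∀ k ∈ sSup LL, ∃ l ∈ L, ∃ c : X, (∀ l' ∈ L, c * l' = l' * c) ∧ k = l * c := by
  let M : Subgroup X :=
    { carrier := {k | ∃ l ∈ L, ∃ c : X, (∀ l' ∈ L, c * l' = l' * c) ∧ k = l * c}
      one_mem' := ⟨1, one_mem _, 1, fun l' _ => by rw [one_mul, mul_one], by rw [mul_one]⟩
      mul_mem' := by
        rintro _ _ ⟨l, hl, c, hc, rfl⟩ ⟨m, hm, e, he, rfl⟩
        refine ⟨l * m, mul_mem hl hm, c * e, fun l' hl' => ?_, ?_⟩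
        · rw [mul_assoc, he l' hl', ← mul_assoc, hc l' hl', mul_assoc]
        · rw [mul_assoc, ← mul_assoc c, hc m hm, mul_assoc, mul_assoc]
      inv_mem' := by
        rintro _ ⟨l, hl, c, hc, rfl⟩
        refine ⟨l⁻¹, inv_mem hl, c⁻¹, fun l' hl' => ?_, ?_⟩
        · rw [inv_mul_eq_iff_eq_mul, ← mul_assoc, hc l' hl', mul_inv_cancel_right]
        · rw [_root_.mul_inv_rev]
          have h1 := hc l⁻¹ (inv_mem hl)
          have h2 : c⁻¹ * l⁻¹ = l⁻¹ * c⁻¹ := by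
            rw [inv_mul_eq_iff_eq_mul, ← mul_assoc, h1, mul_inv_cancel_right]
          exact h2 }
  have hM : sSup LL ≤ M := by
    refine sSup_le fun L' hL' => ?_
    intro k hk
    by_cases h : L = L'
    · subst h
      exact ⟨k, hk, 1, fun l' _ => by rw [one_mul, mul_one], by rw [mul_one]⟩
    · exact ⟨1, one_mem _, k, fun l' hl' => (hc L hL L' hL' h l' hl' k hk).symm, by rw [one_mul]⟩
  exact fun k hk => hM hk

/-- `A` as a homomorphism -/
def WB.π (_h : WB σ A S LL t v0 κ Eb) : A →* Module.End F N := σ.comp A.subtype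

theorem isPGroup_of_sq (h : ∀ a ∈ A, a * a = 1) : IsPGroup 2 A := by
  intro a
  refine ⟨1, Subtype.ext ?_⟩
  rw [pow_one, pow_two]
  exact h a a.2

/-- `L` is trivial where it commutes with `A` -/
theorem WB.triv_of (h : WB σ A S LL t v0 κ Eb) {L : Subgroup X} (hL : L ∈ LL)
    (hc : ∀ l ∈ L, ∀ a ∈ A, σ l * σ a = σ a * σ l) : ∀ l ∈ L, σ l = 1 := by
  intro l hl
  have h1 := h.LA L hL hl
  refine Subgroup.closure_induction (p := fun g _ => σ g = 1) ?_ (map_one _) ?_ ?_ h1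
  · rintro _ ⟨l, hl, a, ha, rfl⟩
    rw [map_mul, map_mul, map_mul, hc l hl a ha]
    calc σ a * σ l * σ l⁻¹ * σ a⁻¹ = σ a * (σ l * σ l⁻¹) * σ a⁻¹ := by simp only [mul_assoc]
      _ = 1 := by rw [σ_inv, mul_one, σ_inv]
  · intro x y _ _ hx hy
    rw [map_mul, hx, hy, one_mul]
  · intro x _ hx
    have h2 := inv_σ (σ := σ) x
    rwa [hx, mul_one] at h2

theorem NA_eq : NA σ A = Crd.cN (fun a : A => σ a) := by
  unfold NA Crd.cN
  congr 1
  ext n
  constructor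
  · rintro ⟨a, ha, n', rfl⟩
    exact ⟨⟨a, ha⟩, n', rfl⟩
  · rintro ⟨a, n', rfl⟩
    exact ⟨a, a.2, n', rfl⟩

/-- **the homogeneous case** -/
theorem HD.main.{v} {N : Type v} [AddCommGroup N] [Module F N] {σ : X →* Module.End F N} {v0 : N}
    {Eb : AddSubgroup N} [Finite F] [Finite N] [CharP F 2] (h4 : 4 ≤ Nat.card F) (h : HD σ A S LL t v0 κ Eb) :
    ∃ L ∈ LL, LL = {L} ∧ ∃ (R : Type v) (_ : Ring R) (_ : Algebra F R) (_ : Module R N) (_ : IsScalarTower F R N)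
      (Y : Submodule R N) (d : ℕ) (C : Crd F N R Y d) (s : A →* Module.End F Y), Act σ L R ∧
      (∀ a : A, C.conj (σ a) = tens (s a) 1) ∧
      (d = 1 ∨ ∃ y0 : Y, ∀ y ∈ Crd.cU (fun a : A => s a), ∃ k : F, y = k • y0) := by
  have hne : ∃ n : N, n ≠ 0 := ⟨v0, h.v0_ne⟩
  -- a component
  obtain ⟨L, hL⟩ : ∃ L, L ∈ LL := by
    by_contra hcon
    push Not at hcon
    have h1 : LL = ∅ := Set.eq_empty_of_forall_notMem hcon
    obtain ⟨a, -, h2, h3⟩ := h.out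
    rw [h1, sSup_empty] at h2
    exact h3 h2
  have hcs : CSg σ L := h.cs.down (le_sSup hL) (factor_of h.comm hL)
  obtain ⟨R, iR, iA, iM, iT, Y, d, hAct, ⟨C⟩⟩ := exists_act (h.crL L hL) hcs hne
  have hnor : ∀ a : A, Nor R (h.toWB.π a) := by
    intro a
    refine hAct.nor a (h.AL L hL a a.2) fun l hl => ?_
    have := h.AL L hL _ (inv_mem a.2) l hl
    rwa [inv_inv] at this
  obtain ⟨s, r, hsr⟩ := C.exists_hom h.toWB.π (fun a => Subtype.ext (h.A_sq a a.2)) hnor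
  have hsr : ∀ a : A, C.conj (σ a) = tens (s a) (r a) := hsr
  have hnonempty := C.nonempty
  have hop : ∀ l ∈ L, ∃ ρ : Module.End F Y, C.conj (σ l) = tens ρ 1 := by
    intro l hl
    obtain ⟨ρ, -, hρ⟩ := C.exists_op hAct hl
    exact ⟨_, hρ⟩
  have hmove : ∀ L ∈ LL, ¬ ∀ l ∈ L, σ l = 1 := by
    intro L hL hcon
    obtain ⟨l, hl, hlv⟩ := h.move L hL
    apply hlv
    rw [hcon l hl]
    rfl
  rcases T3 C.ne_zero (isPGroup_of_sq h.A_sq) s r (fun a b => by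
    have h1 : ∀ c : A, tens (s c) (r c) - 1 = C.conj (σ c - 1) := by
      intro c
      refine LinearMap.ext fun n => ?_
      obtain ⟨m, rfl⟩ := C.EF.surjective n
      rw [C.conj_apply, LinearMap.sub_apply, ← hsr, C.conj_apply, LinearMap.sub_apply, map_sub]
      rfl
    rw [h1, h1, ← C.conj_mul, h.quad a a.2 b b.2]
    refine LinearMap.ext fun n => ?_
    obtain ⟨m, rfl⟩ := C.EF.surjective n
    rw [C.conj_apply]
    exact map_zero _) with h1 | h1 | ⟨x, z, μ, hx, hz, hxx, hzz, hsz⟩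
  · -- `A` trivial on `F^d`
    have hsr1 : ∀ a : A, C.conj (σ a) = tens (s a) 1 := fun a => by rw [hsr, h1]
    have huniq : LL = {L} := by
      ext L'
      rw [Set.mem_singleton_iff]
      constructor
      · intro hL'
        by_contra hne
        apply hmove L' hL'
        refine h.toWB.triv_of hL' fun l hl a ha => ?_
        obtain ⟨m, hm⟩ := C.conj_comm (c := σ l) fun ρ n =>
          hAct.cm (σ l) (fun l' hl' => by
            rw [← map_mul, ← map_mul, h.comm L' hL' L hL hne l hl l' hl']) ρ n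
        exact (C.comm_of (hsr1 ⟨a, ha⟩) hm).symm
      · rintro rfl
        exact hL
    refine ⟨L, hL, huniq, R, iR, iA, iM, iT, Y, d, C, s, hAct, hsr1, ?_⟩
    have htL : Nor R (σ t) := by
      refine hAct.nor t (fun l hl => ?_) fun l hl => ?_
      · have := h.tK l (le_sSup hL hl)
        rwa [huniq, sSup_singleton] at this
      · have := h.tK' l (le_sSup hL hl)
        rwa [huniq, sSup_singleton] at this
    have htinj : Function.Injective (σ t) := fun n m hnm => by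
      rw [← inv_σ_apply (σ := σ) t n, hnm, inv_σ_apply]
    obtain ⟨st, rt, -, -, ht⟩ := C.exists_tens htL htinj
    have hv := h.v0_mem
    have hR := h.t_R
    rw [NA_eq] at hv hR
    exact C.one_or_one hsr1 ht h.v0_ne hv h.κ_ne h.t_v0 hR
  · -- `A` trivial on `Y`
    exfalso
    apply hmove L hL
    refine h.toWB.triv_of hL fun l hl a ha => ?_
    obtain ⟨ρ, hρ⟩ := hop l hl
    have h2 : C.conj (σ a) = tens 1 (r ⟨a, ha⟩) := by rw [hsr ⟨a, ha⟩, h1]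
    exact C.comm_of hρ h2
  · -- the third alternative
    exfalso
    have hFo : Fo C σ A x z μ v0 Eb :=
      { x_ne := hx
        z_ne := hz
        xx := hxx
        zz := hzz
        act := fun a => by rw [hsr, (hsz a).1, (hsz a).2]
        faith := fun a ha => Subtype.ext (h.faith a a.2 ha)
        card := h.card
        v0_ne := h.v0_ne
        idx := h.idx
        eb := fun n hn a => h.eb n hn a a.2 }
    obtain ⟨n, hn, hn1, ⟨l, -, hl⟩, hn3⟩ := h.bur L hL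
    exact hFo.false h4 hAct h.S_fix (h.evn L hL) hn hn1 hl hn3

end Cfsg.Agent.Omega.NO3S.OneQ.W
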