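import Cfsg.Agent.Omega.NO3S.OneQ.WCrd

/-!
# THEOREM W (#17961), (4.4): `A = {(1 + μ x) ⊗ (1 + μ z)}`

`Fo C x z A σ μ` : the third alternative of T3.  `Fo.dims` : both factors have dimension 2; `Fo.line` : `F v₀` is the
line `x Y ⊗ z X`; `Fo.false` : contradiction with Burnside (given that the stabiliser of `F v₀` in `N_L(S ∩ L)`
normalises `A`).
-/

set_option autoImplicit false
set_option linter.unusedSectionVars false

namespace Cfsg.Agent.Omega.NO3S.OneQ.W

open Matrix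

variable {F : Type*} [Field F] {N : Type*} [AddCommGroup N] [Module F N] {X : Type*} [Group X]
  {σ : X →* Module.End F N} {R : Type*} [Ring R] [Algebra F R] [Module R N] [IsScalarTower F R N]
  {Y : Submodule R N} {d : ℕ}

/-- the situation -/
structure Fo (C : Crd F N R Y d) (σ : X →* Module.End F N) (A : Subgroup X) (x : Module.End F Y)
    (z : Matrix (Fin d) (Fin d) F) (μ : A → F) (v0 : N) (Eb : AddSubgroup N) : Prop where
  x_ne : x ≠ 0
  z_ne : z ≠ 0
  xx : x * x = 0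
  zz : z * z = 0
  act : ∀ a : A, C.conj (σ a) = tens (1 + μ a • x) (1 + μ a • z)
  faith : ∀ a : A, σ a = 1 → a = 1
  card : Nat.card F ≤ Nat.card A
  v0_ne : v0 ≠ 0
  idx : Eb.index ≤ Nat.card A
  eb : ∀ n ∈ Eb, ∀ a : A, ∃ k : F, σ a n - n = k • v0

namespace Fo

variable {C : Crd F N R Y d} {A : Subgroup X} {x : Module.End F Y} {z : Matrix (Fin d) (Fin d) F} {μ : A → F}
  {v0 : N} {Eb : AddSubgroup N}

theorem mu_inj (h : Fo C σ A x z μ v0 Eb) : Function.Injective μ := by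
  have key : ∀ a b : A, μ a = μ b → a = b := by
    intro a b hab
    have h1 : C.conj (σ a) = C.conj (σ b) := by rw [h.act, h.act, hab]
    have h2 : σ (a : X) = σ (b : X) := C.conj_inj h1
    have h3 : σ ((b⁻¹ * a : A) : X) = 1 := by
      push_cast
      rw [map_mul, h2, ← map_mul, inv_mul_cancel, map_one]
    have h4 := h.faith _ h3
    exact (inv_mul_eq_one.1 h4).symm
  exact fun a b => key a b

theorem mu_surj [Finite F] (h : Fo C σ A x z μ v0 Eb) : Function.Surjective μ := by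
  have hfin : Finite A := Finite.of_injective μ h.mu_inj
  exact (h.mu_inj.bijective_of_nat_card_le h.card).2

theorem card_eq [Finite F] (h : Fo C σ A x z μ v0 Eb) : Nat.card A = Nat.card F :=
  Nat.card_eq_of_bijective μ ⟨h.mu_inj, h.mu_surj⟩

/-- the formula for `a - 1` -/
theorem sub_pn (h : Fo C σ A x z μ v0 Eb) (a : A) (u : Fin d → F) (y : Y) :
    σ a (C.pn u y) - C.pn u y = μ a • (C.pn u (x y) + C.pn (z *ᵥ u) y) + (μ a * μ a) • C.pn (z *ᵥ u) (x y) := by
  rw [C.apply_pn (h.act a)]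
  have e1 : (1 + μ a • z) *ᵥ u = u + μ a • (z *ᵥ u) := by
    rw [Matrix.add_mulVec, Matrix.one_mulVec, Matrix.smul_mulVec]
  have e2 : (1 + μ a • x) y = y + μ a • x y := rfl
  rw [e1, e2, C.pn_add, C.pn_add', C.pn_add', C.pn_smul, C.pn_smul', C.pn_smul', C.pn_smul, smul_smul, smul_add]
  abel

theorem exists_y (h : Fo C σ A x z μ v0 Eb) : ∃ y : Y, x y ≠ 0 := by
  by_contra hcon
  push Not at hcon
  exact h.x_ne (LinearMap.ext hcon)

theorem exists_u (h : Fo C σ A x z μ v0 Eb) : ∃ u : Fin d → F, z *ᵥ u ≠ 0 := by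
  by_contra hcon
  push Not at hcon
  apply h.z_ne
  refine Matrix.ext fun i j => ?_
  have := congrFun (hcon (Pi.single j 1)) i
  rwa [Matrix.mulVec_single_one] at this

theorem xxy (h : Fo C σ A x z μ v0 Eb) (y : Y) : x (x y) = 0 := LinearMap.congr_fun h.xx y

theorem zzu (h : Fo C σ A x z μ v0 Eb) (u : Fin d → F) : z *ᵥ (z *ᵥ u) = 0 := by
  rw [Matrix.mulVec_mulVec, h.zz, Matrix.zero_mulVec]

/-- the image of `a - 1` has order `≤ q²` -/
theorem rank_le [Finite F] [Finite N] (h : Fo C σ A x z μ v0 Eb) (a : A) {ι : Type*} [Finite ι] (f : ι → N)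
    (hf : ∀ i, ∃ n, f i = σ a n - n) (hinj : Function.Injective f) : Nat.card ι ≤ Nat.card F ^ 2 := by
  classical
  -- `N / Eb × F → image` is onto
  let q : N → N ⧸ Eb := QuotientAddGroup.mk
  choose rep hrep using (QuotientAddGroup.mk_surjective (s := Eb))
  let φ : (N ⧸ Eb) × F → N := fun p => σ a (rep p.1) - rep p.1 + p.2 • v0
  have hφ : ∀ i, ∃ p, φ p = f i := by
    intro i
    obtain ⟨n, hn⟩ := hf i
    have h1 : n - rep (q n) ∈ Eb := by
      have h2 : ((rep (q n) : N) : N ⧸ Eb) = (n : N ⧸ Eb) := hrep _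
      rw [QuotientAddGroup.eq] at h2
      rwa [neg_add_eq_sub] at h2
    obtain ⟨k, hk⟩ := h.eb _ h1 a
    refine ⟨(q n, k), ?_⟩
    show σ a (rep (q n)) - rep (q n) + k • v0 = f i
    rw [← hk, hn, map_sub]
    abel
  choose p hp using hφ
  have hpinj : Function.Injective p := by
    intro i j hij
    apply hinj
    rw [← hp, ← hp, hij]
  have h1 := Nat.card_le_card_of_injective p hpinj
  rw [Nat.card_prod] at h1
  have h2 : Nat.card (N ⧸ Eb) = Eb.index := rfl
  rw [h2] at h1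
  refine h1.trans ?_
  rw [sq]
  exact Nat.mul_le_mul_right _ (h.idx.trans h.card_eq.le)

theorem indep (h : Fo C σ A x z μ v0 Eb) {u : Fin d → F} (hu : z *ᵥ u ≠ 0) {a b : F} (hab : a • u + b • (z *ᵥ u) = 0) :
    a = 0 ∧ b = 0 := by
  have h1 : z *ᵥ (a • u + b • (z *ᵥ u)) = 0 := by rw [hab, Matrix.mulVec_zero]
  rw [Matrix.mulVec_add, Matrix.mulVec_smul, Matrix.mulVec_smul, h.zzu, smul_zero, add_zero] at h1
  have ha := (smul_eq_zero.1 h1).resolve_right hu
  rw [ha, zero_smul, zero_add] at hab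
  exact ⟨ha, (smul_eq_zero.1 hab).resolve_right hu⟩

theorem indep' (h : Fo C σ A x z μ v0 Eb) {y : Y} (hy : x y ≠ 0) {a b : F} (hab : a • y + b • x y = 0) :
    a = 0 ∧ b = 0 := by
  have h1 : x (a • y + b • x y) = 0 := by rw [hab, map_zero]
  rw [map_add, map_smul, map_smul, h.xxy, smul_zero, add_zero] at h1
  have ha := (smul_eq_zero.1 h1).resolve_right hy
  rw [ha, zero_smul, zero_add] at hab
  exact ⟨ha, (smul_eq_zero.1 hab).resolve_right hy⟩

/-- independence of `u`, `z u` against vectors of `Y` -/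
theorem pn_indep (h : Fo C σ A x z μ v0 Eb) {u : Fin d → F} (hu : z *ᵥ u ≠ 0) {y y' : Y}
    (hy : C.pn u y + C.pn (z *ᵥ u) y' = 0) : y = 0 ∧ y' = 0 := by
  have h1 : pv u y + pv (z *ᵥ u) y' = 0 := by
    rw [← C.EF_pn, ← C.EF_pn, ← map_add, hy, map_zero]
  have h2 : ∀ i, u i • y + (z *ᵥ u) i • y' = 0 := fun i => congrFun h1 i
  -- apply `z`
  have h3 : tens (1 : Module.End F Y) z (pv u y + pv (z *ᵥ u) y') = 0 := by rw [h1, map_zero]
  rw [map_add, tens_pv, tens_pv, h.zzu] at h3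
  obtain ⟨i, hi⟩ : ∃ i, (z *ᵥ u) i ≠ 0 := by
    by_contra hcon
    push Not at hcon
    exact hu (funext hcon)
  have h4 : (z *ᵥ u) i • y + (0 : F) • y' = 0 := congrFun h3 i
  rw [zero_smul, add_zero] at h4
  have hy0 := (smul_eq_zero.1 h4).resolve_left hi
  have h5 := h2 i
  rw [hy0, smul_zero, zero_add] at h5
  exact ⟨hy0, (smul_eq_zero.1 h5).resolve_left hi⟩

theorem pn_indep' (h : Fo C σ A x z μ v0 Eb) {y : Y} (hy : x y ≠ 0) {u u' : Fin d → F}
    (hu : C.pn u y + C.pn u' (x y) = 0) : u = 0 ∧ u' = 0 := by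
  have h1 : pv u y + pv u' (x y) = 0 := by
    rw [← C.EF_pn, ← C.EF_pn, ← map_add, hu, map_zero]
  have h2 : ∀ i, u i • y + u' i • x y = 0 := fun i => congrFun h1 i
  exact ⟨funext fun i => (h.indep' hy (h2 i)).1, funext fun i => (h.indep' hy (h2 i)).2⟩

theorem two_zero [CharP F 2] (n : N) : n + n = 0 := by
  rw [← two_smul F n, CharTwo.two_eq_zero, zero_smul]

/-- **`dim Y = 2`** -/
theorem dimY [Finite F] [Finite N] [CharP F 2] (h : Fo C σ A x z μ v0 Eb) {y1 : Y} (hy1 : x y1 ≠ 0) (y : Y) :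
    ∃ a b : F, y = a • y1 + b • x y1 := by
  by_contra hcon
  push Not at hcon
  obtain ⟨u, hu⟩ := h.exists_u
  obtain ⟨a1, ha1⟩ := h.mu_surj 1
  -- three independent vectors
  have h3 : Nat.card (F × F × F) ≤ Nat.card F ^ 2 := by
    refine h.rank_le a1 (fun p : F × F × F =>
      σ a1 (p.1 • C.pn u y1 + p.2.1 • C.pn u (x y1) + p.2.2 • C.pn u y) -
        (p.1 • C.pn u y1 + p.2.1 • C.pn u (x y1) + p.2.2 • C.pn u y)) (fun p => ⟨_, rfl⟩) ?_
    -- injectivity from the kernel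
    have hk : ∀ a b c : F, σ a1 (a • C.pn u y1 + b • C.pn u (x y1) + c • C.pn u y) -
        (a • C.pn u y1 + b • C.pn u (x y1) + c • C.pn u y) = 0 → a = 0 ∧ b = 0 ∧ c = 0 := by
      intro a b c habc
      rw [← C.pn_smul, ← C.pn_smul, ← C.pn_smul, ← C.pn_add, ← C.pn_add, h.sub_pn, ha1, one_smul, one_mul, one_smul]
        at habc
      set Yv := a • y1 + b • x y1 + c • y with hYv
      have h1 : C.pn u (x Yv) + C.pn (z *ᵥ u) (Yv + x Yv) = 0 := by
        rw [C.pn_add, ← add_assoc]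
        exact habc
      obtain ⟨h2, h4⟩ := h.pn_indep hu h1
      rw [h2, add_zero] at h4
      by_cases hc : c = 0
      · rw [hYv, hc, zero_smul, add_zero] at h4
        obtain ⟨h5, h6⟩ := h.indep' hy1 h4
        exact ⟨h5, h6, hc⟩
      · exfalso
        apply hcon (-(c⁻¹ * a)) (-(c⁻¹ * b))
        have h5 : c⁻¹ • (a • y1 + b • x y1 + c • y) = 0 := by rw [← hYv, h4, smul_zero]
        rw [smul_add, smul_add, smul_smul, smul_smul, smul_smul, inv_mul_cancel₀ hc, one_smul] at h5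
        rw [neg_smul, neg_smul, ← neg_add]
        exact (neg_eq_of_add_eq_zero_right h5).symm
    rintro ⟨a, b, c⟩ ⟨a', b', c'⟩ hp
    have hp : σ a1 (a • C.pn u y1 + b • C.pn u (x y1) + c • C.pn u y) -
        (a • C.pn u y1 + b • C.pn u (x y1) + c • C.pn u y) =
        σ a1 (a' • C.pn u y1 + b' • C.pn u (x y1) + c' • C.pn u y) -
        (a' • C.pn u y1 + b' • C.pn u (x y1) + c' • C.pn u y) := hp
    have h1 := hk (a - a') (b - b') (c - c') (by
      have e : (a - a') • C.pn u y1 + (b - b') • C.pn u (x y1) + (c - c') • C.pn u y =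
          (a • C.pn u y1 + b • C.pn u (x y1) + c • C.pn u y) -
          (a' • C.pn u y1 + b' • C.pn u (x y1) + c' • C.pn u y) := by
        rw [sub_smul, sub_smul, sub_smul]
        abel
      rw [e, map_sub, sub_sub_sub_comm, hp, sub_self])
    rw [Prod.mk.injEq, Prod.mk.injEq]
    exact ⟨sub_eq_zero.1 h1.1, sub_eq_zero.1 h1.2.1, sub_eq_zero.1 h1.2.2⟩
  rw [Nat.card_prod, Nat.card_prod] at h3
  have hF : 1 < Nat.card F := Finite.one_lt_card
  have h4 : Nat.card F ^ 2 * 1 < Nat.card F ^ 2 * Nat.card F :=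
    (Nat.mul_lt_mul_left (by positivity)).2 hF
  have h5 : Nat.card F * (Nat.card F * Nat.card F) = Nat.card F ^ 2 * Nat.card F := by ring
  omega

/-- **`dim X = 2`** -/
theorem dimX [Finite F] [Finite N] [CharP F 2] (h : Fo C σ A x z μ v0 Eb) {u1 : Fin d → F} (hu1 : z *ᵥ u1 ≠ 0)
    (u : Fin d → F) : ∃ a b : F, u = a • u1 + b • (z *ᵥ u1) := by
  by_contra hcon
  push Not at hcon
  obtain ⟨y, hy⟩ := h.exists_y
  obtain ⟨a1, ha1⟩ := h.mu_surj 1
  have h3 : Nat.card (F × F × F) ≤ Nat.card F ^ 2 := by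
    refine h.rank_le a1 (fun p : F × F × F =>
      σ a1 (p.1 • C.pn u1 y + p.2.1 • C.pn (z *ᵥ u1) y + p.2.2 • C.pn u y) -
        (p.1 • C.pn u1 y + p.2.1 • C.pn (z *ᵥ u1) y + p.2.2 • C.pn u y)) (fun p => ⟨_, rfl⟩) ?_
    have hk : ∀ a b c : F, σ a1 (a • C.pn u1 y + b • C.pn (z *ᵥ u1) y + c • C.pn u y) -
        (a • C.pn u1 y + b • C.pn (z *ᵥ u1) y + c • C.pn u y) = 0 → a = 0 ∧ b = 0 ∧ c = 0 := by
      intro a b c habc
      rw [← C.pn_smul', ← C.pn_smul', ← C.pn_smul', ← C.pn_add', ← C.pn_add', h.sub_pn, ha1, one_smul, one_mul,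
        one_smul] at habc
      set Uv := a • u1 + b • (z *ᵥ u1) + c • u with hUv
      have h1 : C.pn (z *ᵥ Uv) y + C.pn (Uv + z *ᵥ Uv) (x y) = 0 := by
        rw [C.pn_add', ← add_assoc, add_comm (C.pn (z *ᵥ Uv) y)]
        exact habc
      obtain ⟨h2, h4⟩ := h.pn_indep' hy h1
      rw [h2, add_zero] at h4
      by_cases hc : c = 0
      · rw [hUv, hc, zero_smul, add_zero] at h4
        obtain ⟨h5, h6⟩ := h.indep hu1 h4
        exact ⟨h5, h6, hc⟩
      · exfalso
        apply hcon (-(c⁻¹ * a)) (-(c⁻¹ * b))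
        have h5 : c⁻¹ • (a • u1 + b • (z *ᵥ u1) + c • u) = 0 := by rw [← hUv, h4, smul_zero]
        rw [smul_add, smul_add, smul_smul, smul_smul, smul_smul, inv_mul_cancel₀ hc, one_smul] at h5
        rw [neg_smul, neg_smul, ← neg_add]
        exact (neg_eq_of_add_eq_zero_right h5).symm
    rintro ⟨a, b, c⟩ ⟨a', b', c'⟩ hp
    have hp : σ a1 (a • C.pn u1 y + b • C.pn (z *ᵥ u1) y + c • C.pn u y) -
        (a • C.pn u1 y + b • C.pn (z *ᵥ u1) y + c • C.pn u y) =
        σ a1 (a' • C.pn u1 y + b' • C.pn (z *ᵥ u1) y + c' • C.pn u y) -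
        (a' • C.pn u1 y + b' • C.pn (z *ᵥ u1) y + c' • C.pn u y) := hp
    have h1 := hk (a - a') (b - b') (c - c') (by
      have e : (a - a') • C.pn u1 y + (b - b') • C.pn (z *ᵥ u1) y + (c - c') • C.pn u y =
          (a • C.pn u1 y + b • C.pn (z *ᵥ u1) y + c • C.pn u y) -
          (a' • C.pn u1 y + b' • C.pn (z *ᵥ u1) y + c' • C.pn u y) := by
        rw [sub_smul, sub_smul, sub_smul]
        abel
      rw [e, map_sub, sub_sub_sub_comm, hp, sub_self])
    rw [Prod.mk.injEq, Prod.mk.injEq]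
    exact ⟨sub_eq_zero.1 h1.1, sub_eq_zero.1 h1.2.1, sub_eq_zero.1 h1.2.2⟩
  rw [Nat.card_prod, Nat.card_prod] at h3
  have hF : 1 < Nat.card F := Finite.one_lt_card
  have h4 : Nat.card F ^ 2 * 1 < Nat.card F ^ 2 * Nat.card F :=
    (Nat.mul_lt_mul_left (by positivity)).2 hF
  have h5 : Nat.card F * (Nat.card F * Nat.card F) = Nat.card F ^ 2 * Nat.card F := by ring
  omega

/-- the form of the vectors -/
theorem form [Finite F] [Finite N] [CharP F 2] (h : Fo C σ A x z μ v0 Eb) {u1 : Fin d → F} (hu1 : z *ᵥ u1 ≠ 0)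
    {y1 : Y} (hy1 : x y1 ≠ 0) (n : N) : ∃ a b c e : F, n = a • C.pn u1 y1 + b • C.pn u1 (x y1) +
      c • C.pn (z *ᵥ u1) y1 + e • C.pn (z *ᵥ u1) (x y1) := by
  refine C.ind (p := fun n => ∃ a b c e : F, n = a • C.pn u1 y1 + b • C.pn u1 (x y1) +
      c • C.pn (z *ᵥ u1) y1 + e • C.pn (z *ᵥ u1) (x y1)) ?_ ?_ ?_ n
  · exact ⟨0, 0, 0, 0, by simp⟩
  · rintro _ _ ⟨a, b, c, e, rfl⟩ ⟨a', b', c', e', rfl⟩
    refine ⟨a + a', b + b', c + c', e + e', ?_⟩
    simp only [add_smul]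
    abel
  · intro u y
    obtain ⟨a, b, rfl⟩ := h.dimX hu1 u
    obtain ⟨c, e, rfl⟩ := h.dimY hy1 y
    refine ⟨a * c, a * e, b * c, b * e, ?_⟩
    rw [C.pn_add', C.pn_add, C.pn_add, C.pn_smul', C.pn_smul', C.pn_smul', C.pn_smul', C.pn_smul, C.pn_smul, C.pn_smul,
      C.pn_smul, smul_smul, smul_smul, smul_smul, smul_smul]
    abel

/-- the formula for `a - 1` -/
theorem sub_form (h : Fo C σ A x z μ v0 Eb) (g : A) (u1 : Fin d → F) (y1 : Y) (a b c e : F) :
    σ g (a • C.pn u1 y1 + b • C.pn u1 (x y1) + c • C.pn (z *ᵥ u1) y1 + e • C.pn (z *ᵥ u1) (x y1)) -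
      (a • C.pn u1 y1 + b • C.pn u1 (x y1) + c • C.pn (z *ᵥ u1) y1 + e • C.pn (z *ᵥ u1) (x y1)) =
      (μ g * a) • (C.pn u1 (x y1) + C.pn (z *ᵥ u1) y1) + (μ g * (b + c) + μ g * μ g * a) • C.pn (z *ᵥ u1) (x y1) := by
  have e1 := h.sub_pn g u1 y1
  have e2 := h.sub_pn g u1 (x y1)
  have e3 := h.sub_pn g (z *ᵥ u1) y1
  have e4 := h.sub_pn g (z *ᵥ u1) (x y1)
  rw [h.xxy, C.pn_zero, C.pn_zero, zero_add, smul_zero, add_zero] at e2
  rw [h.zzu, C.pn_zero', C.pn_zero', add_zero, smul_zero, add_zero] at e3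
  rw [h.xxy, C.pn_zero, C.pn_zero, h.zzu, C.pn_zero', add_zero, smul_zero, smul_zero, add_zero] at e4
  calc σ g (a • C.pn u1 y1 + b • C.pn u1 (x y1) + c • C.pn (z *ᵥ u1) y1 + e • C.pn (z *ᵥ u1) (x y1)) -
      (a • C.pn u1 y1 + b • C.pn u1 (x y1) + c • C.pn (z *ᵥ u1) y1 + e • C.pn (z *ᵥ u1) (x y1)) =
      a • (σ g (C.pn u1 y1) - C.pn u1 y1) + b • (σ g (C.pn u1 (x y1)) - C.pn u1 (x y1)) +
      c • (σ g (C.pn (z *ᵥ u1) y1) - C.pn (z *ᵥ u1) y1) +
      e • (σ g (C.pn (z *ᵥ u1) (x y1)) - C.pn (z *ᵥ u1) (x y1)) := by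
        simp only [map_add, map_smul, smul_sub]
        abel
    _ = _ := by
        rw [e1, e2, e3, e4, smul_zero, add_zero]
        simp only [smul_add, add_smul, smul_smul]
        have c1 : a * μ g = μ g * a := mul_comm _ _
        have c2 : a * (μ g * μ g) = μ g * μ g * a := by ring
        have c3 : b * μ g = μ g * b := mul_comm _ _
        have c4 : c * μ g = μ g * c := mul_comm _ _
        rw [c1, c2, c3, c4, mul_add, add_smul]
        abel

/-- **`F v₀` is the line `z X ⊗ x Y`** -/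
theorem line [Finite F] [Finite N] [CharP F 2] (h4 : 4 ≤ Nat.card F) (h : Fo C σ A x z μ v0 Eb) {u1 : Fin d → F}
    (hu1 : z *ᵥ u1 ≠ 0) {y1 : Y} (hy1 : x y1 ≠ 0) : ∃ k : F, k ≠ 0 ∧ v0 = k • C.pn (z *ᵥ u1) (x y1) := by
  set w := C.pn (z *ᵥ u1) (x y1) with hw
  have hw0 : w ≠ 0 := fun h0 => (C.pn_eq_zero h0).elim hu1 hy1
  obtain ⟨a1, ha1⟩ := h.mu_surj 1
  obtain ⟨c0, hc0, hc1⟩ := Cfsg.Agent.Omega.TwoFFour.exists_ne_ne (F := F) (by omega)
  obtain ⟨a2, ha2⟩ := h.mu_surj c0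
  -- it is enough that `w` is in the line
  have fin : (∃ k : F, w = k • v0) → ∃ k : F, k ≠ 0 ∧ v0 = k • w := by
    rintro ⟨k, hk⟩
    have hk0 : k ≠ 0 := by
      rintro rfl
      rw [zero_smul] at hk
      exact hw0 hk
    exact ⟨k⁻¹, inv_ne_zero hk0, by rw [hk, smul_smul, inv_mul_cancel₀ hk0, one_smul]⟩
  apply fin
  by_cases hE : ∃ a b c e : F, a ≠ 0 ∧ (a • C.pn u1 y1 + b • C.pn u1 (x y1) + c • C.pn (z *ᵥ u1) y1 + e • w) ∈ Eb
  · obtain ⟨a, b, c, e, ha, hE⟩ := hE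
    obtain ⟨k1, hk1⟩ := h.eb _ hE a1
    obtain ⟨k2, hk2⟩ := h.eb _ hE a2
    rw [h.sub_form, ha1] at hk1
    rw [h.sub_form, ha2] at hk2
    -- `c₀ k₁ - k₂`
    refine ⟨((c0 - c0 * c0) * a)⁻¹ * (c0 * k1 - k2), ?_⟩
    have h5 : ((c0 - c0 * c0) * a) • w = (c0 * k1 - k2) • v0 := by
      rw [sub_smul (c0 * k1) k2 v0, mul_smul c0 k1 v0, ← hk1, ← hk2]
      simp only [smul_add, smul_smul]
      have e1 : c0 * (1 * a) = c0 * a := by ring
      rw [e1]
      have e2 : ((c0 - c0 * c0) * a) • w = (c0 * (1 * (b + c) + 1 * 1 * a)) • w -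
          (c0 * (b + c) + c0 * c0 * a) • w := by
        rw [← sub_smul]
        congr 1
        ring
      rw [e2]
      abel
    have hne : (c0 - c0 * c0) * a ≠ 0 := by
      refine mul_ne_zero ?_ ha
      intro h6
      have h7 : c0 * (1 - c0) = 0 := by linear_combination h6
      rcases mul_eq_zero.1 h7 with h8 | h8
      · exact hc0 h8
      · exact hc1 (sub_eq_zero.1 h8).symm
    rw [mul_smul, ← h5, smul_smul, inv_mul_cancel₀ hne, one_smul]
  · push Not at hE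
    -- `Eb` is the hyperplane
    have hmem : C.pn u1 (x y1) ∈ Eb := by
      -- the coordinate `a`
      by_contra hnot
      -- the cosets `a u₁ ⊗ y₁`, and one more
      have hinj : Function.Injective (fun p : Option F => match p with
          | some a => ((a • C.pn u1 y1 : N) : N ⧸ Eb)
          | none => ((C.pn u1 (x y1) : N) : N ⧸ Eb)) := by
        have k1 : ∀ a a' : F, ((a • C.pn u1 y1 : N) : N ⧸ Eb) = ((a' • C.pn u1 y1 : N) : N ⧸ Eb) → a = a' := by
          intro a a' haa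
          rw [QuotientAddGroup.eq] at haa
          by_contra hne
          apply hE (a' - a) 0 0 0 (sub_ne_zero.2 (Ne.symm hne))
          have e1 : (a' - a) • C.pn u1 y1 + (0 : F) • C.pn u1 (x y1) + (0 : F) • C.pn (z *ᵥ u1) y1 + (0 : F) • w =
              -(a • C.pn u1 y1) + a' • C.pn u1 y1 := by
            rw [zero_smul, zero_smul, zero_smul, sub_smul]
            abel
          rwa [e1]
        have k2 : ∀ a : F, ((a • C.pn u1 y1 : N) : N ⧸ Eb) ≠ ((C.pn u1 (x y1) : N) : N ⧸ Eb) := by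
          intro a haa
          rw [QuotientAddGroup.eq] at haa
          by_cases ha : a = 0
          · rw [ha, zero_smul, neg_zero, zero_add] at haa
            exact hnot haa
          · apply hE (-a) 1 0 0 (neg_ne_zero.2 ha)
            have e1 : (-a) • C.pn u1 y1 + (1 : F) • C.pn u1 (x y1) + (0 : F) • C.pn (z *ᵥ u1) y1 + (0 : F) • w =
                -(a • C.pn u1 y1) + C.pn u1 (x y1) := by
              rw [zero_smul, zero_smul, one_smul, neg_smul]
              abel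
            rwa [e1]
        rintro (_ | a) (_ | a') haa
        · rfl
        · exact absurd haa.symm (k2 a')
        · exact absurd haa (k2 a)
        · exact congrArg some (k1 a a' haa)
      have h5 := Nat.card_le_card_of_injective _ hinj
      have h6 : Nat.card (N ⧸ Eb) = Eb.index := rfl
      have h7 : Nat.card (Option F) = Nat.card F + 1 := Finite.card_option
      have h8 := h.idx
      have h9 := h.card_eq
      omega
    obtain ⟨k, hk⟩ := h.eb _ hmem a1
    refine ⟨k, ?_⟩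
    rw [← hk, h.sub_pn, ha1, h.xxy, C.pn_zero, C.pn_zero, one_smul, zero_add, smul_zero, add_zero]

end Fo

end Cfsg.Agent.Omega.NO3S.OneQ.W
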