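import Cfsg.Agent.Omega.NO3S.OneQ.WNor

/-!
# THEOREM W (#17961), section 4: groups of operators

`RK σ K` : the algebra generated by `σ(K)`.
* `CR σ K` complete reducibility, `CSg σ K` : the centre of `End_K(N)` consists of scalars;
* `exists_crd_grp` : coordinates; `nor_RK` : operators normalising `K`;
* `CSg.down` : from `K` to a factor `L`;
* `center_scalar` : (4.1), (4.2), `z v₀ ∈ F v₀` for `z` in the centre of `End_K(N)`.
-/

set_option autoImplicit false
set_option linter.unusedSectionVars false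

namespace Cfsg.Agent.Omega.NO3S.OneQ.W

open Matrix

variable {F : Type*} [Field F] {N : Type*} [AddCommGroup N] [Module F N] {X : Type*} [Group X]
  (σ : X →* Module.End F N)

/-- the algebra generated by `K` -/
def RK (K : Subgroup X) : Subalgebra F (Module.End F N) := Algebra.adjoin F (σ '' (K : Set X))

variable {σ}

theorem mem_RK {K : Subgroup X} {k : X} (hk : k ∈ K) : σ k ∈ RK σ K := Algebra.subset_adjoin ⟨k, hk, rfl⟩

/-- induction -/
theorem RK_ind {K : Subgroup X} (p : Module.End F N → Prop) (hσ : ∀ k ∈ K, p (σ k))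
    (hs : ∀ c : F, p (algebraMap F _ c)) (ha : ∀ x y, p x → p y → p (x + y)) (hm : ∀ x y, p x → p y → p (x * y))
    {r : Module.End F N} (hr : r ∈ RK σ K) : p r := by
  refine Algebra.adjoin_induction (p := fun x _ => p x) ?_ hs (fun x y _ _ => ha x y) (fun x y _ _ => hm x y) hr
  rintro _ ⟨k, hk, rfl⟩
  exact hσ k hk

theorem RK_mem {K : Subgroup X} {W : Submodule F N} (hW : ∀ k ∈ K, ∀ w ∈ W, σ k w ∈ W) {r : Module.End F N}
    (hr : r ∈ RK σ K) : ∀ w ∈ W, r w ∈ W := by
  refine RK_ind (fun r => ∀ w ∈ W, r w ∈ W) hW ?_ ?_ ?_ hr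
  · intro c w hw
    rw [Module.algebraMap_end_apply]
    exact W.smul_mem c hw
  · intro x y hx hy w hw
    exact W.add_mem (hx w hw) (hy w hw)
  · intro x y hx hy w hw
    exact hx _ (hy w hw)

theorem RK_comm {K : Subgroup X} {c : Module.End F N} (hc : ∀ k ∈ K, c * σ k = σ k * c) {r : Module.End F N}
    (hr : r ∈ RK σ K) : c * r = r * c := by
  refine RK_ind (fun r => c * r = r * c) hc ?_ ?_ ?_ hr
  · intro a
    exact (Algebra.commutes a c).symm
  · intro x y hx hy
    rw [mul_add, add_mul, hx, hy]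
  · intro x y hx hy
    rw [← mul_assoc, hx, mul_assoc, hy, mul_assoc]

/-- complete reducibility -/
def CR (σ : X →* Module.End F N) (K : Subgroup X) : Prop :=
  ∀ W : Submodule F N, (∀ k ∈ K, ∀ w ∈ W, σ k w ∈ W) → ∃ W' : Submodule F N,
    (∀ k ∈ K, ∀ w ∈ W', σ k w ∈ W') ∧ IsCompl W W'

/-- an invariant subspace as a submodule -/
def toR {K : Subgroup X} (W : Submodule F N) (hW : ∀ k ∈ K, ∀ w ∈ W, σ k w ∈ W) : Submodule (RK σ K) N where
  carrier := W
  add_mem' := fun hu hv => W.add_mem hu hv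
  zero_mem' := W.zero_mem
  smul_mem' := fun r v hv => RK_mem hW r.2 v hv

theorem mem_toR {K : Subgroup X} {W : Submodule F N} {hW : ∀ k ∈ K, ∀ w ∈ W, σ k w ∈ W} {n : N} :
    n ∈ toR W hW ↔ n ∈ W := Iff.rfl

/-- a submodule as a subspace -/
def toF {K : Subgroup X} (W : Submodule (RK σ K) N) : Submodule F N where
  carrier := W
  add_mem' := fun hu hv => W.add_mem hu hv
  zero_mem' := W.zero_mem
  smul_mem' := fun c v hv => by
    have h1 := W.smul_mem (algebraMap F (RK σ K) c) hv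
    rwa [algebraMap_smul] at h1

theorem mem_toF {K : Subgroup X} {W : Submodule (RK σ K) N} {n : N} : n ∈ toF W ↔ n ∈ W := Iff.rfl

theorem toF_inv {K : Subgroup X} (W : Submodule (RK σ K) N) : ∀ k ∈ K, ∀ w ∈ toF W, σ k w ∈ toF W :=
  fun _ hk _ hw => W.smul_mem (⟨_, mem_RK hk⟩ : RK σ K) hw

theorem CR.semisimple {K : Subgroup X} (h : CR σ K) : IsSemisimpleModule (RK σ K) N := by
  rw [isSemisimpleModule_iff]
  refine ⟨fun W => ?_⟩
  obtain ⟨W', hW', hc⟩ := h (toF W) (toF_inv W)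
  refine ⟨toR W' hW', ?_⟩
  rw [isCompl_iff, Submodule.disjoint_def, codisjoint_iff] at hc ⊢
  refine ⟨fun x h1 h2 => hc.1 x h1 h2, ?_⟩
  rw [Submodule.eq_top_iff']
  intro x
  have h1 : x ∈ toF W ⊔ W' := by rw [hc.2]; exact Submodule.mem_top
  obtain ⟨y, hy, z, hz, rfl⟩ := Submodule.mem_sup.1 h1
  exact Submodule.add_mem_sup hy hz

/-- the centre of `End_K(N)` consists of scalars -/
def CSg (σ : X →* Module.End F N) (K : Subgroup X) : Prop :=
  ∀ z : Module.End F N, (∀ k ∈ K, z * σ k = σ k * z) →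
    (∀ c : Module.End F N, (∀ k ∈ K, c * σ k = σ k * c) → c * z = z * c) → ∃ k : F, ∀ n, z n = k • n

/-- an endomorphism commuting with `K` -/
def toEnd {K : Subgroup X} (c : Module.End F N) (hc : ∀ k ∈ K, c * σ k = σ k * c) : Module.End (RK σ K) N where
  toFun := c
  map_add' := map_add c
  map_smul' := fun r n => LinearMap.congr_fun (RK_comm hc r.2) n

theorem toEnd_apply {K : Subgroup X} {c : Module.End F N} {hc : ∀ k ∈ K, c * σ k = σ k * c} (n : N) :
    toEnd c hc n = c n := rfl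

/-- an `RK`-endomorphism -/
def ofEnd {K : Subgroup X} (c : Module.End (RK σ K) N) : Module.End F N where
  toFun := c
  map_add' := map_add c
  map_smul' := fun a n => by
    have h1 := c.map_smul (algebraMap F (RK σ K) a) n
    rw [algebraMap_smul, algebraMap_smul] at h1
    exact h1

theorem ofEnd_apply {K : Subgroup X} (c : Module.End (RK σ K) N) (n : N) : ofEnd c n = c n := rfl

theorem ofEnd_comm {K : Subgroup X} (c : Module.End (RK σ K) N) : ∀ k ∈ K, ofEnd c * σ k = σ k * ofEnd c := by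
  intro k hk
  refine LinearMap.ext fun n => ?_
  exact c.map_smul (⟨_, mem_RK hk⟩ : RK σ K) n

theorem CSg.cs {K : Subgroup X} (h : CSg σ K) : CS F N (RK σ K) := by
  intro z hz
  obtain ⟨k, hk⟩ := h (ofEnd z) (ofEnd_comm z) fun c hc => by
    refine LinearMap.ext fun n => ?_
    have h1 := LinearMap.congr_fun (hz (toEnd c hc)) n
    exact h1
  exact ⟨k, hk⟩

theorem CSg.of_cs {K : Subgroup X} (h : CS F N (RK σ K)) : CSg σ K := by
  intro z hz hz'
  obtain ⟨k, hk⟩ := h (toEnd z hz) fun c => by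
    refine LinearMap.ext fun n => ?_
    have h1 := LinearMap.congr_fun (hz' (ofEnd c) (ofEnd_comm c)) n
    exact h1
  exact ⟨k, hk⟩

/-- coordinates -/
theorem exists_crd_grp [Finite N] {K : Subgroup X} (h : CR σ K) (hc : CSg σ K) (hne : ∃ n : N, n ≠ 0) :
    ∃ (Y : Submodule (RK σ K) N) (d : ℕ), Nonempty (Crd F N (RK σ K) Y d) := by
  have := h.semisimple
  exact exists_crd hc.cs hne

/-- operators normalising `K` -/
theorem nor_RK {K : Subgroup X} {g : X} (hg : ∀ k ∈ K, g * k * g⁻¹ ∈ K) (hg' : ∀ k ∈ K, g⁻¹ * k * g ∈ K) :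
    Nor (RK σ K) (σ g) := by
  have key : ∀ g : X, (∀ k ∈ K, g * k * g⁻¹ ∈ K) → ∀ r ∈ RK σ K, ∃ r' ∈ RK σ K, σ g * r = r' * σ g := by
    intro g hg r hr
    refine RK_ind (fun r => ∃ r' ∈ RK σ K, σ g * r = r' * σ g) ?_ ?_ ?_ ?_ hr
    · intro k hk
      refine ⟨_, mem_RK (hg k hk), ?_⟩
      rw [← map_mul, ← map_mul, inv_mul_cancel_right]
    · intro a
      exact ⟨_, Subalgebra.algebraMap_mem _ a, (Algebra.commutes a (σ g)).symm⟩
    · rintro x y ⟨x', hx', hx⟩ ⟨y', hy', hy⟩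
      exact ⟨_, Subalgebra.add_mem _ hx' hy', by rw [mul_add, add_mul, hx, hy]⟩
    · rintro x y ⟨x', hx', hx⟩ ⟨y', hy', hy⟩
      exact ⟨_, Subalgebra.mul_mem _ hx' hy', by rw [← mul_assoc, hx, mul_assoc, hy, mul_assoc]⟩
  constructor
  · intro r
    obtain ⟨r', hr', h⟩ := key g hg r r.2
    exact ⟨⟨r', hr'⟩, fun n => LinearMap.congr_fun h n⟩
  · intro r'
    obtain ⟨r, hr, h⟩ := key g⁻¹ (by
      intro k hk
      rw [inv_inv]
      exact hg' k hk) r' r'.2
    refine ⟨⟨r, hr⟩, fun n => ?_⟩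
    have h1 : (r' : Module.End F N) * σ g = σ g * r := by
      have e1 : σ g * σ g⁻¹ = 1 := by rw [← map_mul, mul_inv_cancel, map_one]
      have e2 : σ g⁻¹ * σ g = 1 := by rw [← map_mul, inv_mul_cancel, map_one]
      calc (r' : Module.End F N) * σ g = σ g * (σ g⁻¹ * r') * σ g := by rw [← mul_assoc, e1, one_mul]
        _ = σ g * (r * σ g⁻¹) * σ g := by rw [h]
        _ = σ g * r * (σ g⁻¹ * σ g) := by simp only [mul_assoc]
        _ = σ g * r := by rw [e2, mul_one]
    exact LinearMap.congr_fun h1 n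

/-- from `K` to a factor -/
theorem CSg.down {K L : Subgroup X} (h : CSg σ K) (hLK : L ≤ K)
    (hf : ∀ k ∈ K, ∃ l ∈ L, ∃ c : X, (∀ l' ∈ L, c * l' = l' * c) ∧ k = l * c) : CSg σ L := by
  intro z hz hz'
  refine h z ?_ ?_
  · intro k hk
    obtain ⟨l, hl, c, hc, rfl⟩ := hf k hk
    have h1 := hz' (σ c) fun l' hl' => by rw [← map_mul, hc l' hl', map_mul]
    rw [map_mul, ← mul_assoc, hz l hl, mul_assoc, ← h1, mul_assoc]
  · intro c hc
    exact hz' c fun l hl => hc l (hLK hl)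

end Cfsg.Agent.Omega.NO3S.OneQ.W
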