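import Cfsg.Agent.Omega.NO3S.OneQ.WTens
import Mathlib.RingTheory.SimpleModule.Isotypic
import Mathlib.RingTheory.LittleWedderburn

/-!
# THEOREM W (#17961), section 4: homogeneous modules

* `exists_central_proj` : the projection onto a fully invariant submodule is central;
* `isotypic_of_center` : centre of `End` = scalars ⟹ isotypic;
* `exists_coord` : coordinates `N ≅ Y^d`, the endomorphisms of `Y` are scalars;
* `center_sq` : for `z` in the centre of `End`, `z² v = 0` implies `z v = 0`.
-/

set_option autoImplicit false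
set_option linter.unusedSectionVars false

namespace Cfsg.Agent.Omega.NO3S.OneQ.W

section ring

variable {R : Type*} [Ring R] {N : Type*} [AddCommGroup N] [Module R N]

/-- the projection onto a fully invariant submodule is central -/
theorem exists_central_proj [IsSemisimpleModule R N] {P : Submodule R N} (hP : P.IsFullyInvariant) :
    ∃ e : Module.End R N, (∀ n, n ∈ P ↔ e n = n) ∧ (∀ n, e n ∈ P) ∧ ∀ c : Module.End R N, c * e = e * c := by
  obtain ⟨P', hPP'⟩ := exists_isCompl P
  let e : Module.End R N := P.subtype ∘ₗ P.projectionOnto P' hPP'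
  have he1 : ∀ n, e n ∈ P := fun n => (P.projectionOnto P' hPP' n).2
  have he2 : ∀ n ∈ P, e n = n := fun n hn => by
    show ((P.projectionOnto P' hPP' n : P) : N) = n
    rw [Submodule.projectionOnto_apply_of_mem_left hPP' hn]
  refine ⟨e, fun n => ⟨he2 n, fun h => h ▸ he1 n⟩, he1, fun c => ?_⟩
  -- `e c e' = 0`
  set g : Module.End R N := e * c * (1 - e) with hg
  have hgP : ∀ n, g n ∈ P := fun n => he1 _
  have hg0 : ∀ n ∈ P, g n = 0 := by
    intro n hn
    show e (c (n - e n)) = 0
    rw [he2 n hn, sub_self, map_zero, map_zero]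
  have hgz : ∀ n, g n = 0 := by
    obtain ⟨h₀, hh₀⟩ := IsSemisimpleModule.lifting_property (LinearMap.rangeRestrict g)
      (LinearMap.surjective_rangeRestrict g) (LinearMap.id (R := R) (M := LinearMap.range g))
    obtain ⟨h, hh⟩ := IsSemisimpleModule.extension_property (LinearMap.range g).subtype
      (Submodule.injective_subtype _) h₀
    intro n
    have hq : g n ∈ LinearMap.range g := ⟨n, rfl⟩
    have h1 : h (g n) = h₀ ⟨g n, hq⟩ := LinearMap.congr_fun hh ⟨g n, hq⟩
    have h2 : (LinearMap.rangeRestrict g (h₀ ⟨g n, hq⟩) : N) = g n :=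
      congrArg Subtype.val (LinearMap.congr_fun hh₀ ⟨g n, hq⟩)
    have h3 : g (h₀ ⟨g n, hq⟩) = g n := h2
    rw [← h3, ← h1]
    exact hg0 _ (hP h (hgP n))
  refine LinearMap.ext fun n => ?_
  show c (e n) = e (c n)
  have h1 : c (e n) = e (c (e n)) := (he2 _ (hP c (he1 n))).symm
  have h2 : e (c (n - e n)) = 0 := hgz n
  rw [map_sub, map_sub, sub_eq_zero] at h2
  rw [h2, ← h1]

/-- for `z` in the centre of `End`, `z² v = 0` implies `z v = 0` -/
theorem center_sq [IsSemisimpleModule R N] {z : Module.End R N} (hz : ∀ c : Module.End R N, c * z = z * c) {v : N}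
    (h : z (z v) = 0) : z v = 0 := by
  have hP : (LinearMap.ker z).IsFullyInvariant := by
    intro f n hn
    show z (f n) = 0
    have h1 := LinearMap.congr_fun (hz f) n
    have h2 : f (z n) = z (f n) := h1
    rw [← h2, LinearMap.mem_ker.1 hn, map_zero]
  obtain ⟨e, he1, he2, he3⟩ := exists_central_proj hP
  have h1 : e (z v) = z v := (he1 _).1 h
  have h2 := LinearMap.congr_fun (he3 z) v
  have h3 : z (e v) = e (z v) := h2
  rw [← h1, ← h3]
  exact LinearMap.mem_ker.1 (he2 v)

end ring

section field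

variable {F : Type*} [Field F] {N : Type*} [AddCommGroup N] [Module F N] {R : Type*} [Ring R] [Algebra F R]
  [Module R N] [IsScalarTower F R N]

variable (F R N) in
/-- the centre of `End` consists of scalars -/
def CS : Prop :=
  ∀ z : Module.End R N, (∀ c : Module.End R N, c * z = z * c) → ∃ k : F, ∀ n, z n = k • n

theorem isotypic_of_center [IsSemisimpleModule R N] (h : CS F N R) : IsIsotypic R N := by
  rw [isIsotypic_iff_isFullyInvariant_imp_bot_or_top]
  intro P hP
  obtain ⟨e, he1, he2, he3⟩ := exists_central_proj hP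
  obtain ⟨k, hk⟩ := h e he3
  by_cases hk0 : k = 0
  · left
    rw [eq_bot_iff]
    intro n hn
    have h1 := (he1 n).1 hn
    rw [hk, hk0, zero_smul] at h1
    exact (Submodule.mem_bot R).2 h1.symm
  · right
    rw [Submodule.eq_top_iff']
    intro n
    have h1 := he2 (k⁻¹ • n)
    rw [hk, smul_smul, mul_inv_cancel₀ hk0, one_smul] at h1
    exact h1

/-- **coordinates** -/
theorem exists_coord [Finite N] [IsSemisimpleModule R N] (h : CS F N R) (hne : ∃ n : N, n ≠ 0) :
    ∃ (Y : Submodule R N) (d : ℕ), IsSimpleModule R Y ∧ 0 < d ∧ Nonempty (N ≃ₗ[R] (Fin d → Y)) ∧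
      ∀ f : Module.End R Y, ∃ k : F, ∀ y, f y = k • y := by
  classical
  have hN : Nontrivial N := by
    obtain ⟨n, hn⟩ := hne
    exact ⟨n, 0, hn⟩
  obtain ⟨Y, hY⟩ := IsSemisimpleModule.exists_simple_submodule R N
  have hty : IsIsotypicOfType R N Y := isotypic_of_center h Y
  have hfin : Module.Finite R N := Module.Finite.of_finite
  obtain ⟨d, ⟨E⟩⟩ := hty.linearEquiv_fun
  have hd : 0 < d := by
    rcases Nat.eq_zero_or_pos d with rfl | hd
    · exfalso
      obtain ⟨n, hn⟩ := hne
      apply hn
      apply E.injective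
      exact Subsingleton.elim _ _
    · exact hd
  refine ⟨Y, d, hY, hd, ⟨E⟩, fun f => ?_⟩
  have hfE : Finite (Module.End R Y) := Finite.of_injective (fun f => (f : Y → Y)) DFunLike.coe_injective
  -- `End Y` is commutative
  have hcomm : ∀ f g : Module.End R Y, f * g = g * f := by
    let D : DivisionRing (Module.End R Y) := Module.End.instDivisionRing
    exact fun f g => (@littleWedderburn (Module.End R Y) D hfE).mul_comm f g
  -- the diagonal map
  let δ : Module.End R (Fin d → Y) := LinearMap.pi fun i => f ∘ₗ LinearMap.proj i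
  have hδ : ∀ n i, δ n i = f (n i) := fun n i => rfl
  have hδc : ∀ (c : Module.End R (Fin d → Y)) (n : Fin d → Y), c (δ n) = δ (c n) := by
    intro c n
    funext i
    have key : ∀ m : Fin d → Y, c m i = ∑ j, (LinearMap.proj i ∘ₗ c ∘ₗ LinearMap.single R (fun _ => Y) j) (m j) := by
      intro m
      have h1 : m = ∑ j, Pi.single j (m j) := (Finset.univ_sum_single m).symm
      conv_lhs => rw [h1]
      rw [map_sum, Finset.sum_apply]
      rfl
    rw [key, hδ, key, map_sum]
    refine Finset.sum_congr rfl fun j _ => ?_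
    rw [hδ]
    exact LinearMap.congr_fun (hcomm (LinearMap.proj i ∘ₗ c ∘ₗ LinearMap.single R (fun _ => Y) j) f) (n j)
  let z : Module.End R N := (E.symm : (Fin d → Y) →ₗ[R] N) ∘ₗ δ ∘ₗ (E : N →ₗ[R] (Fin d → Y))
  have hz : ∀ n, z n = E.symm (δ (E n)) := fun _ => rfl
  obtain ⟨k, hk⟩ := h z fun c => by
    refine LinearMap.ext fun n => ?_
    show c (z n) = z (c n)
    have h1 := hδc ((E : N →ₗ[R] (Fin d → Y)) ∘ₗ c ∘ₗ (E.symm : (Fin d → Y) →ₗ[R] N)) (E n)
    have h2 : E (c (E.symm (δ (E n)))) = δ (E (c (E.symm (E n)))) := h1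
    rw [E.symm_apply_apply] at h2
    rw [hz, hz, ← h2, E.symm_apply_apply]
  refine ⟨k, fun y => ?_⟩
  have h1 := hk (E.symm (fun _ => y))
  rw [hz, E.apply_symm_apply] at h1
  have h2 : (fun _ : Fin d => f y) = k • (fun _ : Fin d => y) := by
    have h3 := congrArg E h1
    rw [E.apply_symm_apply] at h3
    have h4 : E (k • E.symm fun _ => y) = k • E (E.symm fun _ => y) := by
      have h5 := E.map_smul (algebraMap F R k) (E.symm fun _ => y)
      rw [algebraMap_smul, algebraMap_smul] at h5
      exact h5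
    rw [h4, E.apply_symm_apply] at h3
    exact h3
  exact congrFun h2 ⟨0, hd⟩

end field

end Cfsg.Agent.Omega.NO3S.OneQ.W
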