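import Cfsg.Agent.Omega.NO3S.OneQ.WRes
import Mathlib.LinearAlgebra.Dual.Lemmas

/-!
# THEOREM W (#17961), sections 3-4: the result

* `irr_of_one`, `scal_of_one` : `d = 1`, `L` is absolutely irreducible;
* `Y1` : the case `d ≥ 2`, with `d = 2`, `A = Hom_F(Y/Y_A, F y₀)`, `Eb = {n : [n,A] ≤ F v₀}`;
* `HD.x1_or_y1`.
-/

set_option autoImplicit false
set_option linter.unusedSectionVars false

namespace Cfsg.Agent.Omega.NO3S.OneQ.W

open Matrix

variable {F : Type*} [Field F] {N : Type*} [AddCommGroup N] [Module F N] {X : Type*} [Group X]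
  {σ : X →* Module.End F N} {A S : Subgroup X} {LL : Set (Subgroup X)} {t : X} {v0 : N} {κ : F}
  {Eb : AddSubgroup N} {R : Type*} [Ring R] [Algebra F R] [Module R N] [IsScalarTower F R N]

/-- `L` is absolutely irreducible -/
structure AbsIrr (σ : X →* Module.End F N) (L : Subgroup X) : Prop where
  irr : ∀ W : Submodule F N, (∀ l ∈ L, ∀ w ∈ W, σ l w ∈ W) → W = ⊥ ∨ W = ⊤
  scal : ∀ c : Module.End F N, (∀ l ∈ L, c * σ l = σ l * c) → ∃ k : F, ∀ n, c n = k • n

theorem absIrr_of_one {L : Subgroup X} {Y : Submodule R N} (C : Crd F N R Y 1) (hA : Act σ L R) : AbsIrr σ L := by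
  constructor
  · intro W hW
    have hs := C.simp
    let E' : N ≃ₗ[R] Y := C.E.trans (LinearEquiv.funUnique (Fin 1) R Y)
    have hsN : IsSimpleModule R N := IsSimpleModule.congr E'
    let W' : Submodule R N :=
      { carrier := W
        add_mem' := fun hu hv => W.add_mem hu hv
        zero_mem' := W.zero_mem
        smul_mem' := fun r w hw => hA.inv W hW r w hw }
    have hmem : ∀ n, n ∈ W' ↔ n ∈ W := fun _ => Iff.rfl
    rcases eq_bot_or_eq_top W' with h | h
    · left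
      rw [eq_bot_iff]
      intro n hn
      have h1 := (hmem n).2 hn
      rw [h] at h1
      exact (Submodule.mem_bot F).2 ((Submodule.mem_bot R).1 h1)
    · right
      rw [Submodule.eq_top_iff']
      intro n
      rw [← hmem, h]
      exact Submodule.mem_top
  · intro c hc
    obtain ⟨m, hm⟩ := C.conj_comm (c := c) (hA.cm c hc)
    refine ⟨m 0 0, fun n => ?_⟩
    apply C.EF.injective
    rw [← C.conj_apply, hm, map_smul]
    funext i
    rw [tens_apply]
    simp only [Finset.univ_unique, Fin.default_eq_zero, Fin.isValue, Finset.sum_singleton, Pi.smul_apply]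
    have : i = 0 := Subsingleton.elim _ _
    subst this
    rfl

/-- **CASE Y1** -/
structure Y1 (σ : X →* Module.End F N) (A : Subgroup X) (v0 : N) (Eb : AddSubgroup N) {Y : Submodule R N} {d : ℕ}
    (C : Crd F N R Y d) (s : A →* Module.End F Y) (y0 : Y) (x0 : Fin d → F) : Prop where
  hs : ∀ a : A, C.conj (σ a) = tens (s a) 1
  two : d = 2
  y0_ne : y0 ≠ 0
  x0_ne : x0 ≠ 0
  v0_eq : v0 = C.pn x0 y0
  tr : ∀ a : A, ∃ φ : Y →ₗ[F] F, ∀ y, s a y = y + φ y • y0
  full : ∀ φ : Y →ₗ[F] F, (∀ y, (∀ a, s a y = y) → φ y = 0) → ∃ a : A, ∀ y, s a y = y + φ y • y0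
  eb : ∀ n, n ∈ Eb ↔ ∀ a ∈ A, ∃ k : F, σ a n - n = k • v0
  card : Nat.card A = Eb.index

theorem y1_of [Finite F] [Finite N] {Y : Submodule R N} {d : ℕ} {C : Crd F N R Y d} {s : A →* Module.End F Y}
    (h4 : 4 ≤ Nat.card F) (h : WB σ A S LL t v0 κ Eb) (hs : ∀ a : A, C.conj (σ a) = tens (s a) 1) (hd : 2 ≤ d)
    {y0 : Y} (hy0 : ∀ y ∈ Crd.cU (fun a : A => s a), ∃ k : F, y = k • y0) : ∃ x0, Y1 σ A v0 Eb C s y0 x0 := by
  have hv := h.v0_mem
  rw [NA_eq] at hv
  -- `v₀ = x₀ ⊗ y₀`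
  obtain ⟨x0, hx0⟩ : ∃ x0 : Fin d → F, v0 = C.pn x0 y0 := by
    refine C.cN_ind hs (p := fun n => ∃ u : Fin d → F, n = C.pn u y0) ⟨0, (C.pn_zero' y0).symm⟩ ?_ ?_ ?_ hv
    · rintro _ _ ⟨u, rfl⟩ ⟨u', rfl⟩
      exact ⟨u + u', (C.pn_add' u u' y0).symm⟩
    · rintro k _ ⟨u, rfl⟩
      exact ⟨k • u, (C.pn_smul' k u y0).symm⟩
    · intro u y hy
      obtain ⟨k, rfl⟩ := hy0 y hy
      exact ⟨k • u, by rw [C.pn_smul, C.pn_smul']⟩
  have hy00 : y0 ≠ 0 := by
    rintro rfl
    rw [C.pn_zero] at hx0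
    exact h.v0_ne hx0
  have hx00 : x0 ≠ 0 := by
    rintro rfl
    rw [C.pn_zero'] at hx0
    exact h.v0_ne hx0
  -- the functionals
  have hφ : ∀ a : A, ∃ φ : Y →ₗ[F] F, ∀ y, s a y = y + φ y • y0 := by
    intro a
    have hmem : ∀ y, (s a - 1) y ∈ F ∙ y0 := by
      intro y
      obtain ⟨k, hk⟩ := hy0 _ (Submodule.subset_span ⟨a, y, rfl⟩)
      rw [Submodule.mem_span_singleton]
      exact ⟨k, hk.symm⟩
    refine ⟨(LinearEquiv.coord F Y y0 hy00 : _ →ₗ[F] F) ∘ₗ ((s a - 1).codRestrict (F ∙ y0) hmem), fun y => ?_⟩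
    have h1 : (LinearEquiv.coord F Y y0 hy00 ((s a - 1).codRestrict (F ∙ y0) hmem y)) • y0 = (s a - 1) y :=
      LinearEquiv.coord_apply_smul F Y y0 hy00 _
    have h2 : (s a - 1) y = s a y - y := rfl
    show s a y = y + (LinearEquiv.coord F Y y0 hy00 ((s a - 1).codRestrict (F ∙ y0) hmem y)) • y0
    rw [h1, h2]
    abel
  choose φ hφ using hφ
  have hinj : ∀ a b : A, φ a = φ b → a = b := by
    intro a b hab
    have h1 : s a = s b := LinearMap.ext fun y => by rw [hφ, hφ, hab]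
    have h2 : σ a = σ b := C.conj_inj (by rw [hs, hs, h1])
    have h3 : σ ((a : X) * (b : X)⁻¹) = 1 := by
      rw [map_mul, h2, σ_inv]
    have h4 := h.faith _ (mul_mem a.2 (inv_mem b.2)) h3
    exact Subtype.ext (mul_inv_eq_one.1 h4)
  let YA : Submodule F Y := ⨅ a, LinearMap.ker (φ a)
  have hYA : ∀ y, y ∈ YA ↔ ∀ a, φ a y = 0 := by
    intro y
    rw [Submodule.mem_iInf]
    rfl
  have hle : ∀ a, YA ≤ LinearMap.ker (φ a) := fun a => iInf_le _ a
  let Vq := Y ⧸ YA
  have hVf : Finite Vq := Finite.of_surjective YA.mkQ YA.mkQ_surjective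
  have : Module.Finite F Vq := Module.Finite.of_finite
  let f : A → Module.Dual F Vq := fun a => YA.liftQ (φ a) (hle a)
  have hf : ∀ a y, f a (YA.mkQ y) = φ a y := fun a y => rfl
  have hfinj : Function.Injective f := by
    intro a b hab
    apply hinj
    refine LinearMap.ext fun y => ?_
    rw [← hf, ← hf, hab]
  have hfinD : Finite (Module.Dual F Vq) := Finite.of_injective (fun f => (f : Vq → F)) DFunLike.coe_injective
  have hcD : Nat.card (Module.Dual F Vq) = Nat.card Vq := by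
    rw [Module.natCard_eq_pow_finrank (K := F) (V := Module.Dual F Vq), Module.natCard_eq_pow_finrank (K := F) (V := Vq),
      Subspace.dual_finrank_eq]
  have hAle : Nat.card A ≤ Nat.card Vq := by
    rw [← hcD]
    exact Nat.card_le_card_of_injective f hfinj
  -- the index
  let Θ : N →ₗ[F] (Fin d → Vq) := (LinearMap.pi fun i => YA.mkQ ∘ₗ LinearMap.proj i) ∘ₗ (C.EF : N →ₗ[F] (Fin d → Y))
  have hΘ : ∀ n i, Θ n i = YA.mkQ (C.EF n i) := fun _ _ => rfl
  have hΘs : Function.Surjective Θ := by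
    intro w
    choose y hy using fun i => YA.mkQ_surjective (w i)
    refine ⟨C.EF.symm y, ?_⟩
    funext i
    rw [hΘ, C.EF.apply_symm_apply, hy]
  let τ : Vq →ₗ[F] (Fin d → Vq) := LinearMap.pi fun i => x0 i • LinearMap.id
  have hτ : ∀ v i, τ v i = x0 i • v := fun _ _ => rfl
  obtain ⟨i0, hi0⟩ : ∃ i, x0 i ≠ 0 := by
    by_contra hcon
    push Not at hcon
    exact hx00 (funext hcon)
  have hτi : Function.Injective τ := by
    intro v w hvw
    have h1 := congrFun hvw i0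
    rw [hτ, hτ] at h1
    have h2 : x0 i0 • (v - w) = 0 := by rw [smul_sub, h1, sub_self]
    exact sub_eq_zero.1 ((smul_eq_zero.1 h2).resolve_left hi0)
  let T : AddSubgroup (Fin d → Vq) := (LinearMap.range τ).toAddSubgroup
  have hT : Nat.card T = Nat.card Vq := (Nat.card_congr (Equiv.ofInjective τ hτi)).symm
  let Q : AddSubgroup N := T.comap Θ.toAddMonoidHom
  have hQi : Q.index * Nat.card Vq = Nat.card Vq ^ d := by
    have h1 : Q.index = T.index := AddSubgroup.index_comap_of_surjective T hΘs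
    rw [h1, ← hT, AddSubgroup.index_mul_card, Nat.card_fun, Nat.card_eq_fintype_card (α := Fin d), Fintype.card_fin, hT]
  have hV2 : 4 ≤ Nat.card Vq := h4.trans (h.card.trans hAle)
  have hQ : ∀ n, (∀ a ∈ A, ∃ k : F, σ a n - n = k • v0) → n ∈ Q := by
    intro n hn
    refine ⟨(x0 i0)⁻¹ • YA.mkQ (C.EF n i0), ?_⟩
    funext i
    rw [hτ]
    show _ = Θ n i
    rw [hΘ, ← map_smul, ← map_smul, ← sub_eq_zero, ← map_sub]
    show YA.mkQ _ = 0
    rw [Submodule.mkQ_apply, Submodule.Quotient.mk_eq_zero, hYA]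
    intro a
    obtain ⟨k, hk⟩ := hn a a.2
    have key : ∀ j, φ a (C.EF n j) = k * x0 j := by
      intro j
      have h1 := congrArg C.EF hk
      rw [map_sub, ← C.conj_apply, hs, map_smul, hx0, C.EF_pn] at h1
      have h2 := congrFun h1 j
      rw [Pi.sub_apply, tens_apply, Pi.smul_apply] at h2
      simp only [Matrix.one_apply, ite_smul, one_smul, zero_smul, Finset.sum_ite_eq, Finset.mem_univ, if_true] at h2
      rw [hφ] at h2
      have h3 : φ a (C.EF n j) • y0 = (k * x0 j) • y0 := by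
        rw [mul_smul]
        have h4 : k • pv x0 y0 j = k • (x0 j • y0) := rfl
        rw [← h4, ← h2]
        abel
      have h5 : (φ a (C.EF n j) - k * x0 j) • y0 = 0 := by rw [sub_smul, h3, sub_self]
      exact sub_eq_zero.1 ((smul_eq_zero.1 h5).resolve_right hy00)
    rw [map_sub, map_smul, map_smul, key, key, smul_eq_mul, smul_eq_mul]
    field_simp
    ring
  have hEQ : Eb ≤ Q := fun n hn => hQ n fun a ha => h.eb n hn a ha
  have hQE : Q.index ≤ Eb.index :=
    Nat.le_of_dvd (Nat.pos_of_ne_zero AddSubgroup.index_ne_zero_of_finite) (AddSubgroup.index_dvd_of_le hEQ)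
  have hQV : Q.index ≤ Nat.card Vq := hQE.trans (h.idx.trans hAle)
  have hd2 : d = 2 := by
    by_contra hne
    have h3 : 3 ≤ d := by omega
    have h5 : Nat.card Vq ^ 3 ≤ Nat.card Vq ^ d := Nat.pow_le_pow_right (by omega) h3
    rw [← hQi] at h5
    have h6 : Q.index * Nat.card Vq ≤ Nat.card Vq * Nat.card Vq := Nat.mul_le_mul_right _ hQV
    have h7 : Nat.card Vq ^ 3 = Nat.card Vq * (Nat.card Vq * Nat.card Vq) := by ring
    rw [h7] at h5
    have h8 : 4 * (Nat.card Vq * Nat.card Vq) ≤ Nat.card Vq * (Nat.card Vq * Nat.card Vq) := Nat.mul_le_mul_right _ hV2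
    have h9 : 0 < Nat.card Vq * Nat.card Vq := Nat.mul_pos (by omega) (by omega)
    omega
  have hQV' : Q.index = Nat.card Vq := by
    rw [hd2, pow_two] at hQi
    exact Nat.eq_of_mul_eq_mul_right (by omega) hQi
  have hAV : Nat.card A = Nat.card Vq := le_antisymm hAle (by rw [← hQV']; exact hQE.trans h.idx)
  have hEi : Eb.index = Nat.card A := le_antisymm h.idx (by rw [hAV, ← hQV']; exact hQE)
  have hEQ' : Eb = Q := by
    refine le_antisymm hEQ ?_
    have h1 := AddSubgroup.relIndex_mul_index hEQ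
    rw [hEi, hAV, hQV'] at h1
    have h2 : Eb.relIndex Q = 1 := by
      have h3 : Eb.relIndex Q * Nat.card Vq = 1 * Nat.card Vq := by rw [h1, one_mul]
      exact Nat.eq_of_mul_eq_mul_right (by omega) h3
    exact AddSubgroup.relIndex_eq_one.1 h2
  have hfs : Function.Surjective f := by
    have := (Nat.bijective_iff_injective_and_card f).2 ⟨hfinj, by rw [hAV, hcD]⟩
    exact this.2
  refine ⟨x0, ⟨hs, hd2, hy00, hx00, hx0, fun a => ⟨φ a, hφ a⟩, ?_, ?_, hEi.symm⟩⟩
  · intro ψ hψ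
    have hψ' : YA ≤ LinearMap.ker ψ := by
      intro y hy
      refine hψ y fun a => ?_
      rw [hφ, (hYA y).1 hy a, zero_smul, add_zero]
    obtain ⟨a, ha⟩ := hfs (YA.liftQ ψ hψ')
    refine ⟨a, fun y => ?_⟩
    rw [hφ, ← hf, ha]
    rfl
  · intro n
    constructor
    · intro hn a ha
      exact h.eb n hn a ha
    · intro hn
      rw [hEQ']
      exact hQ n hn

/-- **X1 or Y1** -/
theorem HD.x1_or_y1.{v} {N : Type v} [AddCommGroup N] [Module F N] {σ : X →* Module.End F N} {v0 : N}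
    {Eb : AddSubgroup N} [Finite F] [Finite N] [CharP F 2] (h4 : 4 ≤ Nat.card F) (h : HD σ A S LL t v0 κ Eb) :
    ∃ L ∈ LL, LL = {L} ∧ (AbsIrr σ L ∨
      ∃ (R : Type v) (_ : Ring R) (_ : Algebra F R) (_ : Module R N) (_ : IsScalarTower F R N) (Y : Submodule R N)
        (d : ℕ) (C : Crd F N R Y d) (s : A →* Module.End F Y) (y0 : Y) (x0 : Fin d → F), Act σ L R ∧
        Y1 σ A v0 Eb C s y0 x0) := by
  obtain ⟨L, hL, huniq, R, iR, iA, iM, iT, Y, d, C, s, hAct, hsr, hor⟩ := h.main h4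
  refine ⟨L, hL, huniq, ?_⟩
  by_cases hd : d = 1
  · subst hd
    exact Or.inl (absIrr_of_one C hAct)
  · right
    rcases hor with h1 | ⟨y0, hy0⟩
    · exact absurd h1 hd
    have hpos := C.pos
    obtain ⟨x0, hx0⟩ := y1_of h4 h.toWB hsr (by omega) hy0
    exact ⟨R, iR, iA, iM, iT, Y, d, C, s, y0, x0, hAct, hx0⟩

/-- **THEOREM W, sections 3-4** -/
theorem WD.main.{v} {N : Type v} [AddCommGroup N] [Module F N] {σ : X →* Module.End F N} {v0 : N}
    {Eb : AddSubgroup N} [Finite F] [Finite N] [CharP F 2] (h4 : 4 ≤ Nat.card F) (h : WD σ A S LL t v0 κ Eb) :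
    ∃ e, ∃ he : WE σ A LL v0 e, ∃ L ∈ LL, LL = {L} ∧ (AbsIrr (resE σ e) (L.subgroupOf (XE σ e)) ∨
      ∃ (R : Type v) (_ : Ring R) (_ : Algebra F R) (_ : Module R (LinearMap.range e))
        (_ : IsScalarTower F R (LinearMap.range e)) (Y : Submodule R (LinearMap.range e)) (d : ℕ)
        (C : Crd F (LinearMap.range e) R Y d) (s : A.subgroupOf (XE σ e) →* Module.End F Y) (y0 : Y)
        (x0 : Fin d → F), Act (resE σ e) (L.subgroupOf (XE σ e)) R ∧
        Y1 (resE σ e) (A.subgroupOf (XE σ e)) ⟨v0, he.v0_mem⟩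
          (Eb.comap (LinearMap.range e).subtype.toAddMonoidHom) C s y0 x0) := by
  obtain ⟨e, he⟩ := h.exists_e
  obtain ⟨L1, ⟨L, hL, rfl⟩, huniq, hor⟩ := (he.hd h).x1_or_y1 h4
  refine ⟨e, he, L, hL, ?_, hor⟩
  ext L'
  rw [Set.mem_singleton_iff]
  constructor
  · intro hL'
    have h1 : L'.subgroupOf (XE σ e) ∈ LLo LL (XE σ e) := ⟨L', hL', rfl⟩
    rw [huniq, Set.mem_singleton_iff] at h1
    have h2 := congrArg (Subgroup.map (XE σ e).subtype) h1
    rwa [Subgroup.map_subgroupOf_eq_of_le (he.L_le L' hL'), Subgroup.map_subgroupOf_eq_of_le (he.L_le L hL)] at h2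
  · rintro rfl
    exact hL

end Cfsg.Agent.Omega.NO3S.OneQ.W
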