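import Cfsg.Agent.Omega.NO3S.OneQ.WHom

/-!
# THEOREM W (#17961), section 4: operators normalising a homogeneous module

* `exists_tens` : an operator normalising `R` on `N ≅ Y^d` is `s ⊗ r`;
* `exists_hom` : an elementary abelian 2-group of such operators is given by homomorphisms `s`, `r`.
-/

set_option autoImplicit false
set_option linter.unusedSectionVars false

namespace Cfsg.Agent.Omega.NO3S.OneQ.W

open Matrix

variable {F : Type*} [Field F] {N : Type*} [AddCommGroup N] [Module F N] {R : Type*} [Ring R] [Algebra F R]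
  [Module R N] [IsScalarTower F R N]

variable (R) in
/-- `g` normalises the action of `R` -/
def Nor (g : Module.End F N) : Prop :=
  (∀ r : R, ∃ r' : R, ∀ n : N, g (r • n) = r' • g n) ∧ (∀ r' : R, ∃ r : R, ∀ n : N, r' • g n = g (r • n))

theorem Nor.mul {g h : Module.End F N} (hg : Nor R g) (hh : Nor R h) : Nor R (g * h) := by
  constructor
  · intro r
    obtain ⟨r', hr'⟩ := hh.1 r
    obtain ⟨r'', hr''⟩ := hg.1 r'
    exact ⟨r'', fun n => by
      show g (h (r • n)) = r'' • g (h n)
      rw [hr', hr'']⟩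
  · intro r
    obtain ⟨r', hr'⟩ := hg.2 r
    obtain ⟨r'', hr''⟩ := hh.2 r'
    exact ⟨r'', fun n => by
      show r • g (h n) = g (h (r'' • n))
      rw [hr', hr'']⟩

theorem nor_one : Nor R (1 : Module.End F N) := ⟨fun r => ⟨r, fun _ => rfl⟩, fun r => ⟨r, fun _ => rfl⟩⟩

/-- coordinates of a homogeneous module -/
structure Crd (F N R : Type*) [Field F] [AddCommGroup N] [Module F N] [Ring R] [Algebra F R] [Module R N]
    [IsScalarTower F R N] (Y : Submodule R N) (d : ℕ) where
  simp : IsSimpleModule R Y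
  pos : 0 < d
  E : N ≃ₗ[R] (Fin d → Y)
  sc : ∀ f : Module.End R Y, ∃ k : F, ∀ y, f y = k • y

theorem exists_crd [Finite N] [IsSemisimpleModule R N] (h : CS F N R) (hne : ∃ n : N, n ≠ 0) :
    ∃ (Y : Submodule R N) (d : ℕ), Nonempty (Crd F N R Y d) := by
  obtain ⟨Y, d, h1, h2, ⟨E⟩, h3⟩ := exists_coord h hne
  exact ⟨Y, d, ⟨⟨h1, h2, E, h3⟩⟩⟩

namespace Crd

variable {Y : Submodule R N} {d : ℕ} (C : Crd F N R Y d)

/-- `E` is `F`-linear -/
def EF : N ≃ₗ[F] (Fin d → Y) where
  toFun := C.E
  invFun := C.E.symm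
  left_inv := C.E.left_inv
  right_inv := C.E.right_inv
  map_add' := map_add C.E
  map_smul' k n := by
    show C.E (k • n) = k • C.E n
    have h5 := C.E.map_smul (algebraMap F R k) n
    rw [algebraMap_smul, algebraMap_smul] at h5
    exact h5

@[simp] theorem EF_apply (n : N) : C.EF n = C.E n := rfl

/-- an operator in coordinates -/
def conj (g : Module.End F N) : Module.End F (Fin d → Y) :=
  (C.EF : N →ₗ[F] (Fin d → Y)) ∘ₗ g ∘ₗ (C.EF.symm : (Fin d → Y) →ₗ[F] N)

theorem conj_apply (g : Module.End F N) (n : N) : C.conj g (C.EF n) = C.EF (g n) := by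
  show C.EF (g (C.EF.symm (C.EF n))) = _
  rw [C.EF.symm_apply_apply]

theorem conj_mul (g h : Module.End F N) : C.conj (g * h) = C.conj g * C.conj h := by
  refine LinearMap.ext fun n => ?_
  obtain ⟨m, rfl⟩ := C.EF.surjective n
  show C.conj (g * h) (C.EF m) = C.conj g (C.conj h (C.EF m))
  rw [C.conj_apply, C.conj_apply, C.conj_apply]
  rfl

theorem conj_one : C.conj 1 = 1 := by
  refine LinearMap.ext fun n => ?_
  obtain ⟨m, rfl⟩ := C.EF.surjective n
  rw [C.conj_apply]
  rfl

theorem conj_inj {g h : Module.End F N} (e : C.conj g = C.conj h) : g = h := by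
  refine LinearMap.ext fun n => ?_
  have h1 := LinearMap.congr_fun e (C.EF n)
  rw [C.conj_apply, C.conj_apply] at h1
  exact C.EF.injective h1

include C in
theorem ne_zero : ∃ y : Y, y ≠ 0 := by
  have := C.simp
  have h1 := IsSimpleModule.nontrivial R Y
  exact exists_ne 0

include C in
theorem nonempty : Nonempty (Fin d) := ⟨⟨0, C.pos⟩⟩

/-- **an operator normalising `R` is `s ⊗ r`** -/
theorem exists_tens [Finite N] {g : Module.End F N} (hg : Nor R g) (hinj : Function.Injective g) :
    ∃ (s : Module.End F Y) (m : Matrix (Fin d) (Fin d) F), Function.Bijective s ∧ m ≠ 0 ∧ C.conj g = tens s m := by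
  classical
  have hsimp := C.simp
  set Gm := C.conj g with hGm
  -- blocks
  let B (i j : Fin d) : Module.End F Y := LinearMap.proj i ∘ₗ Gm ∘ₗ LinearMap.single F (fun _ => Y) j
  have hB : ∀ i j y, B i j y = Gm (Pi.single j y) i := fun _ _ _ => rfl
  have hG1 : ∀ r : R, ∃ r' : R, ∀ n, Gm (r • n) = r' • Gm n := by
    intro r
    obtain ⟨r', hr'⟩ := hg.1 r
    refine ⟨r', fun n => ?_⟩
    obtain ⟨m, rfl⟩ := C.EF.surjective n
    have h1 : r • C.EF m = C.EF (r • m) := (C.E.map_smul r m).symm
    rw [h1, C.conj_apply, C.conj_apply, hr']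
    exact C.E.map_smul r' (g m)
  have hG2 : ∀ r' : R, ∃ r : R, ∀ n, r' • Gm n = Gm (r • n) := by
    intro r'
    obtain ⟨r, hr⟩ := hg.2 r'
    refine ⟨r, fun n => ?_⟩
    obtain ⟨m, rfl⟩ := C.EF.surjective n
    have h1 : r • C.EF m = C.EF (r • m) := (C.E.map_smul r m).symm
    rw [h1, C.conj_apply, C.conj_apply, ← hr]
    exact (C.E.map_smul r' (g m)).symm
  have hsm : ∀ (r : R) (j : Fin d) (y : Y), (r • (Pi.single j y : Fin d → Y)) = Pi.single j (r • y) :=
    fun r j y => by
      funext i
      rw [Pi.smul_apply]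
      by_cases h : i = j
      · subst h
        rw [Pi.single_eq_same, Pi.single_eq_same]
      · rw [Pi.single_eq_of_ne h, Pi.single_eq_of_ne h, smul_zero]
  have hB1 : ∀ r : R, ∃ r' : R, ∀ i j y, B i j (r • y) = r' • B i j y := by
    intro r
    obtain ⟨r', hr'⟩ := hG1 r
    refine ⟨r', fun i j y => ?_⟩
    rw [hB, hB, ← hsm, hr']
    rfl
  have hB2 : ∀ r' : R, ∃ r : R, ∀ i j y, r' • B i j y = B i j (r • y) := by
    intro r'
    obtain ⟨r, hr⟩ := hG2 r'
    refine ⟨r, fun i j y => ?_⟩
    rw [hB, hB, ← hsm, ← hr]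
    rfl
  -- a nonzero block
  have hsum : ∀ n i, Gm n i = ∑ j, B i j (n j) := by
    intro n i
    have h1 : n = ∑ j, Pi.single j (n j) := (Finset.univ_sum_single n).symm
    conv_lhs => rw [h1]
    rw [map_sum, Finset.sum_apply]
    rfl
  obtain ⟨i0, j0, y0, h0⟩ : ∃ i j y, B i j y ≠ 0 := by
    by_contra hcon
    push Not at hcon
    obtain ⟨y, hy⟩ := C.ne_zero
    have h1 : Gm (Pi.single ⟨0, C.pos⟩ y) = 0 := by
      funext i
      rw [hsum]
      exact Finset.sum_eq_zero fun j _ => hcon i j _
    obtain ⟨m, hm⟩ := C.EF.surjective (Pi.single ⟨0, C.pos⟩ y)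
    rw [← hm, C.conj_apply] at h1
    have h2 : g m = 0 := by
      apply C.EF.injective
      rw [h1, map_zero]
    have h3 : m = 0 := hinj (by rw [h2, map_zero])
    rw [h3, map_zero] at hm
    have h4 := congrFun hm ⟨0, C.pos⟩
    rw [Pi.single_eq_same] at h4
    exact hy h4.symm
  set s := B i0 j0 with hs
  have hker : ∀ y, s y = 0 → y = 0 := by
    let K : Submodule R Y :=
      { carrier := {y | s y = 0}
        add_mem' := fun {a b} ha hb => by
          show s (a + b) = 0
          rw [map_add, ha, hb, add_zero]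
        zero_mem' := map_zero s
        smul_mem' := fun r y hy => by
          obtain ⟨r', hr'⟩ := hB1 r
          show s (r • y) = 0
          rw [hs, hr', ← hs, hy, smul_zero] }
    rcases eq_bot_or_eq_top K with h1 | h1
    · intro y hy
      have h2 : y ∈ K := hy
      rw [h1] at h2
      exact (Submodule.mem_bot R).1 h2
    · exfalso
      have h2 : y0 ∈ K := by rw [h1]; exact Submodule.mem_top
      exact h0 h2
  have hbij : Function.Bijective s := by
    have h1 : Function.Injective s := (injective_iff_map_eq_zero s).2 hker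
    exact Finite.injective_iff_bijective.1 h1
  let sE : Y ≃ₗ[F] Y := LinearEquiv.ofBijective s hbij
  have hsE : ∀ y, s (sE.symm y) = y := fun y => sE.apply_symm_apply y
  have key : ∀ i j, ∃ k : F, ∀ y, B i j y = k • s y := by
    intro i j
    let f : Module.End R Y :=
      { toFun := fun y => sE.symm (B i j y)
        map_add' := fun a b => by rw [map_add, map_add]
        map_smul' := fun r y => by
          obtain ⟨r', hr'⟩ := hB1 r
          apply hbij.1
          rw [hsE, RingHom.id_apply, hr', hs, hr', ← hs, hsE] }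
    obtain ⟨k, hk⟩ := C.sc f
    refine ⟨k, fun y => ?_⟩
    have h1 : s (f y) = B i j y := hsE _
    rw [← h1, hk, map_smul]
  choose m hm using key
  refine ⟨s, Matrix.of m, hbij, ?_, ?_⟩
  · intro h
    have h1 : m i0 j0 = 0 := congrFun (congrFun h i0) j0
    apply h0
    rw [hm, h1, zero_smul]
  · refine LinearMap.ext fun n => funext fun i => ?_
    rw [hsum, tens_apply]
    exact Finset.sum_congr rfl fun j _ => hm i j _

theorem tens_ne_zero {s : Module.End F Y} {m : Matrix (Fin d) (Fin d) F} (hs : s ≠ 0) (hm : m ≠ 0) :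
    tens s m ≠ 0 := fun h => (tens_eq_zero h).elim hs hm

include C in
theorem one_ne : (1 : Module.End F Y) ≠ 0 := by
  intro h
  obtain ⟨y, hy⟩ := C.ne_zero
  exact hy (LinearMap.congr_fun h y)

include C in
theorem one_ne' : (1 : Matrix (Fin d) (Fin d) F) ≠ 0 := by
  intro h
  have h1 := congrFun (congrFun h ⟨0, C.pos⟩) ⟨0, C.pos⟩
  rw [Matrix.one_apply_eq] at h1
  exact one_ne_zero h1

include C in
/-- uniqueness -/
theorem uniq [CharP F 2] {s s' : Module.End F Y} {m m' : Matrix (Fin d) (Fin d) F} (h : tens s m = tens s' m')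
    (hs : s * s = 1) (hs' : s' * s' = 1) (hm : m ≠ 0) (hm' : m' ≠ 0) : s = s' ∧ m = m' := by
  have hs0 : s ≠ 0 := by
    rintro rfl
    rw [zero_mul] at hs
    exact C.one_ne hs.symm
  obtain ⟨c, h1, h2⟩ := tens_prop h hs0 hm'
  have h3 : (c * c) • (1 : Module.End F Y) = 1 := by
    have h4 := hs'
    rw [h1, smul_mul_smul_comm, hs] at h4
    exact h4
  obtain ⟨y, hy⟩ := C.ne_zero
  have h4 : (c * c) • y = y := LinearMap.congr_fun h3 y
  have h5 : (c * c - 1) • y = 0 := by rw [sub_smul, h4, one_smul, sub_self]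
  have h6 := (smul_eq_zero.1 h5).resolve_right hy
  have h7 : c = 1 := by
    have h8 : (c - 1) * (c - 1) = 0 := by
      have h9 : (2 : F) = 0 := CharTwo.two_eq_zero
      linear_combination h6 + (1 - c) * h9
    exact sub_eq_zero.1 (mul_self_eq_zero.1 h8)
  rw [h7, one_smul] at h1 h2
  exact ⟨h1.symm, h2⟩

/-- **an elementary abelian group of operators** -/
theorem exists_hom [Finite N] [Finite F] [CharP F 2] {A : Type*} [Group A] (π : A →* Module.End F N)
    (hA : ∀ a : A, a * a = 1) (hnor : ∀ a, Nor R (π a)) :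
    ∃ (s : A →* Module.End F Y) (r : A →* Matrix (Fin d) (Fin d) F), ∀ a, C.conj (π a) = tens (s a) (r a) := by
  have hinj : ∀ a, Function.Injective (π a) := by
    intro a n m h
    have h1 : π a * π a = 1 := by rw [← map_mul, hA, map_one]
    have h2 : ∀ n, π a (π a n) = n := fun n => LinearMap.congr_fun h1 n
    rw [← h2 n, h, h2]
  have key : ∀ a, ∃ (s : Module.End F Y) (m : Matrix (Fin d) (Fin d) F), C.conj (π a) = tens s m ∧ s * s = 1 ∧
      m * m = 1 := by
    intro a
    obtain ⟨s, m, hs, hm, h⟩ := C.exists_tens (hnor a) (hinj a)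
    have h1 : tens (s * s) (m * m) = tens (1 : Module.End F Y) (1 : Matrix (Fin d) (Fin d) F) := by
      rw [← tens_mul, ← h, ← C.conj_mul, ← map_mul, hA, map_one, C.conj_one, tens_one]
    have hss : s * s ≠ 0 := by
      intro h0
      obtain ⟨y, hy⟩ := C.ne_zero
      obtain ⟨y1, rfl⟩ := hs.2 y
      obtain ⟨y2, rfl⟩ := hs.2 y1
      exact hy (LinearMap.congr_fun h0 y2)
    obtain ⟨c, h2, h3⟩ := tens_prop h1 hss C.one_ne'
    have hc : c ≠ 0 := by
      rintro rfl
      rw [zero_smul] at h2
      exact C.one_ne h2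
    obtain ⟨e, he⟩ : ∃ e : F, e * e = c := by
      have hinj : Function.Injective (fun t : F => t * t) := by
        intro x y hxy
        have h1 : x * x = y * y := hxy
        have h2 : (x - y) * (x - y) = 0 := by
          have : (2 : F) = 0 := CharTwo.two_eq_zero
          linear_combination h1 + (y ^ 2 - x * y) * this
        exact sub_eq_zero.1 (mul_self_eq_zero.1 h2)
      exact Finite.surjective_of_injective hinj c
    have he0 : e ≠ 0 := by
      rintro rfl
      rw [mul_zero] at he
      exact hc he.symm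
    refine ⟨e • s, e⁻¹ • m, ?_, ?_, ?_⟩
    · rw [tens_smul_left, tens_smul_right, smul_smul, mul_inv_cancel₀ he0, one_smul, h]
    · rw [smul_mul_smul_comm, he]
      exact h2.symm
    · rw [smul_mul_smul_comm, h3, smul_smul, ← he]
      have e1 : e⁻¹ * e⁻¹ * (e * e) = 1 := by field_simp
      rw [e1, one_smul]
  choose s m h hs hm using key
  have hm0 : ∀ a, m a ≠ 0 := by
    intro a h0
    have := hm a
    rw [h0, zero_mul] at this
    exact C.one_ne' this.symm
  have hs0 : ∀ a, s a ≠ 0 := by
    intro a h0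
    have := hs a
    rw [h0, zero_mul] at this
    exact C.one_ne this.symm
  have hmm0 : ∀ a b, m a * m b ≠ 0 := by
    intro a b h0
    have h1 : m a * (m a * m b) * m b = 1 := by
      rw [← mul_assoc, hm a, one_mul, hm b]
    rw [h0, mul_zero, zero_mul] at h1
    exact C.one_ne' h1.symm
  have hss0 : ∀ a b, s a * s b ≠ 0 := by
    intro a b h0
    have h1 : s a * (s a * s b) * s b = 1 := by
      rw [← mul_assoc, hs a, one_mul, hs b]
    rw [h0, mul_zero, zero_mul] at h1
    exact C.one_ne h1.symm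
  have hab : ∀ a b : A, a * b = b * a := by
    intro a b
    have h1 := hA (a * b)
    have h2 : a * b = b⁻¹ * a⁻¹ := by
      rw [← _root_.mul_inv_rev]
      exact eq_inv_of_mul_eq_one_left h1
    rw [h2, inv_eq_of_mul_eq_one_left (hA b), inv_eq_of_mul_eq_one_left (hA a)]
  -- commutation
  have hcomm : ∀ a b, s b * s a = s a * s b := by
    intro a b
    have h1 : tens (s a * s b) (m a * m b) = tens (s b * s a) (m b * m a) := by
      rw [← tens_mul, ← tens_mul, ← h, ← h, ← C.conj_mul, ← C.conj_mul, ← map_mul, ← map_mul, hab]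
    obtain ⟨c, h2, -⟩ := tens_prop h1 (hss0 a b) (hmm0 b a)
    -- `s b = c² s b`
    have h3 : s b = (c * c) • s b := by
      calc s b = s b * s a * s a := by rw [mul_assoc, hs a, mul_one]
        _ = c • (s a * s b) * s a := by rw [h2]
        _ = c • (s a * (s b * s a)) := by rw [smul_mul_assoc, mul_assoc]
        _ = c • (s a * (c • (s a * s b))) := by rw [h2]
        _ = (c * c) • (s a * s a * s b) := by rw [mul_smul_comm, smul_smul, mul_assoc]
        _ = (c * c) • s b := by rw [hs a, one_mul]
    obtain ⟨y, hy⟩ : ∃ y, s b y ≠ 0 := by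
      by_contra hcon
      push Not at hcon
      exact hs0 b (LinearMap.ext hcon)
    have h4 : (c * c - 1) • s b y = 0 := by
      have h6 : s b y = (c * c) • s b y := LinearMap.congr_fun h3 y
      rw [sub_smul, ← h6, one_smul, sub_self]
    have h5 := (smul_eq_zero.1 h4).resolve_right hy
    have h7 : c = 1 := by
      have h8 : (c - 1) * (c - 1) = 0 := by
        have h9 : (2 : F) = 0 := CharTwo.two_eq_zero
        linear_combination h5 + (1 - c) * h9
      exact sub_eq_zero.1 (mul_self_eq_zero.1 h8)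
    rw [h2, h7, one_smul]
  have hmul : ∀ a b, s (a * b) = s a * s b ∧ m (a * b) = m a * m b := by
    intro a b
    refine C.uniq ?_ (hs _) ?_ (hm0 _) (hmm0 _ _)
    · rw [← tens_mul, ← h, ← h, ← h, ← C.conj_mul, ← map_mul]
    · calc s a * s b * (s a * s b) = s a * (s b * s a) * s b := by simp only [mul_assoc]
        _ = s a * (s a * s b) * s b := by rw [hcomm]
        _ = (s a * s a) * (s b * s b) := by simp only [mul_assoc]
        _ = 1 := by rw [hs, hs, one_mul]
  have hone : s 1 = 1 ∧ m 1 = 1 := by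
    refine C.uniq ?_ (hs _) (one_mul 1) (hm0 _) C.one_ne'
    rw [← h, map_one, C.conj_one, tens_one]
  exact ⟨{ toFun := s, map_one' := hone.1, map_mul' := fun a b => (hmul a b).1 },
    { toFun := m, map_one' := hone.2, map_mul' := fun a b => (hmul a b).2 }, h⟩

end Crd

end Cfsg.Agent.Omega.NO3S.OneQ.W
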