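import Cfsg.Agent.Omega.NO3S.OneQ.WDat

/-!
# THEOREM W (#17961), sections 3-4: restriction to the homogeneous component

* `WD.exists_e` : the projection `e` onto the homogeneous component of `v₀` (`WE`);
* `XE σ e`, `resE σ e` : the operators commuting with `e`, restricted to `e N`;
* `WE.hd` : the restricted data satisfy `HD`;
-/

set_option autoImplicit false
set_option linter.unusedSectionVars false

namespace Cfsg.Agent.Omega.NO3S.OneQ.W

open Matrix

variable {F : Type*} [Field F] {N : Type*} [AddCommGroup N] [Module F N] {X : Type*} [Group X]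
  {σ : X →* Module.End F N} {A S : Subgroup X} {LL : Set (Subgroup X)} {t : X} {v0 : N} {κ : F}
  {Eb : AddSubgroup N}

/-- `e` : the projection onto the homogeneous component of `v₀` -/
structure WE (σ : X →* Module.End F N) (A : Subgroup X) (LL : Set (Subgroup X)) (v0 : N) (e : Module.End F N) :
    Prop where
  zk : ZK σ (sSup LL) e
  ee : e * e = e
  ev : e v0 = v0
  sc : ∀ z, ZK σ (sSup LL) z → ∃ k : F, z * e = k • e
  com : ∀ g : X, (∀ k ∈ sSup LL, g⁻¹ * k * g ∈ sSup LL) → (∀ k ∈ sSup LL, g * k * g⁻¹ ∈ sSup LL) →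
    (∃ c : F, σ g v0 = c • v0) → σ g * e = e * σ g
  na : ∀ n ∈ NA σ A, e n = n
  ker : ∀ a ∈ A, ∀ n, e n = 0 → σ a n = n
  kerL : ∀ L ∈ LL, ∀ l ∈ L, ∀ n, e n = 0 → σ l n = n

theorem WB.A_fix (h : WB σ A S LL t v0 κ Eb) {a : X} (ha : a ∈ A) {n : N} (hn : n ∈ NA σ A) : σ a n = n := by
  refine Submodule.span_induction (p := fun n _ => σ a n = n) ?_ (map_zero _) ?_ ?_ hn
  · rintro _ ⟨b, hb, n', rfl⟩
    have h1 := LinearMap.congr_fun (h.quad a ha b hb) n'
    have h2 : σ a (σ b n' - n') - (σ b n' - n') = 0 := h1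
    exact sub_eq_zero.1 h2
  · intro x y _ _ hx hy
    rw [map_add, hx, hy]
  · intro k x _ hx
    rw [map_smul, hx]

theorem WB.A_v0 (h : WB σ A S LL t v0 κ Eb) {a : X} (ha : a ∈ A) : σ a v0 = v0 := h.A_fix ha h.v0_mem

theorem WB.AK (h : WB σ A S LL t v0 κ Eb) {a : X} (ha : a ∈ A) : ∀ k ∈ sSup LL, a * k * a⁻¹ ∈ sSup LL := by
  have h1 : sSup LL ≤ (sSup LL).comap (MulAut.conj a).toMonoidHom :=
    sSup_le fun L hL l hl => le_sSup hL (h.AL L hL a ha l hl)
  exact fun k hk => h1 hk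

/-- a nonzero `S`-invariant subspace of `[N,A]` contains `v₀` -/
theorem WD.mem_of [Finite N] [CharP F 2] (h : WD σ A S LL t v0 κ Eb) {W : Submodule F N} (hW : W ≤ NA σ A)
    (hS : ∀ s ∈ S, ∀ w ∈ W, σ s w ∈ W) (hne : ∃ w ∈ W, w ≠ 0) : v0 ∈ W := by
  let s : S →* Module.End F W :=
    { toFun := fun s => (σ s).restrict fun w hw => hS s s.2 w hw
      map_one' := by
        refine LinearMap.ext fun w => Subtype.ext ?_
        show σ (1 : X) (w : N) = w
        rw [map_one]
        rfl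
      map_mul' := fun a b => by
        refine LinearMap.ext fun w => Subtype.ext ?_
        show σ ((a : X) * b) (w : N) = _
        rw [map_mul]
        rfl }
  obtain ⟨w, hw, hw0⟩ := hne
  obtain ⟨y, hy0, hy⟩ := exists_fixed h.S2 s ⟨⟨w, hw⟩, fun h => hw0 (congrArg Subtype.val h)⟩
  obtain ⟨k, hk⟩ := h.fixR y (hW y.2) fun s' hs' => congrArg Subtype.val (hy ⟨s', hs'⟩)
  have hk0 : k ≠ 0 := by
    rintro rfl
    rw [zero_smul] at hk
    exact hy0 (Subtype.ext hk)
  have h1 : v0 = k⁻¹ • (y : N) := by rw [hk, smul_smul, inv_mul_cancel₀ hk0, one_smul]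
  rw [h1]
  exact W.smul_mem _ y.2

/-- **(4.1), (4.2)** -/
theorem WD.exists_e [Finite N] [CharP F 2] (h : WD σ A S LL t v0 κ Eb) : ∃ e, WE σ A LL v0 e := by
  -- `C v₀ ≤ [N,A]`
  have hC : ∀ c, CK σ (sSup LL) c → c v0 ∈ NA σ A := by
    let W0 : Submodule F N := Submodule.span F {n | ∃ a ∈ A, a ∈ sSup LL ∧ ∃ n', n = σ a n' - n'}
    have hW0 : W0 ≤ NA σ A := by
      refine Submodule.span_mono ?_
      rintro _ ⟨a, ha, -, n', rfl⟩
      exact ⟨a, ha, n', rfl⟩
    have hv : v0 ∈ W0 := by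
      refine h.mem_of hW0 ?_ ?_
      · intro s hs w hw
        refine Submodule.span_induction (p := fun w _ => σ s w ∈ W0) ?_ ?_ ?_ ?_ hw
        · rintro _ ⟨a, ha, hak, n', rfl⟩
          refine Submodule.subset_span ⟨s * a * s⁻¹, h.SA s hs a ha, h.SK s hs a hak, σ s n', ?_⟩
          have e1 : σ (s * a * s⁻¹) (σ s n') = σ s (σ a n') := by
            rw [map_mul, map_mul]
            show σ s (σ a (σ s⁻¹ (σ s n'))) = _
            rw [inv_σ_apply]
          rw [e1, map_sub]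
        · rw [map_zero]; exact Submodule.zero_mem _
        · intro x y _ _ hx hy
          rw [map_add]; exact Submodule.add_mem _ hx hy
        · intro k x _ hx
          rw [map_smul]; exact Submodule.smul_mem _ _ hx
      · obtain ⟨a, ha, hak, ha1⟩ := h.out
        by_contra hcon
        push Not at hcon
        apply ha1
        refine h.faith a ha (LinearMap.ext fun n => ?_)
        have := hcon _ (Submodule.subset_span ⟨a, ha, hak, n, rfl⟩)
        exact sub_eq_zero.1 this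
    intro c hc
    apply hW0
    refine Submodule.span_induction (p := fun w _ => c w ∈ W0) ?_ ?_ ?_ ?_ hv
    · rintro _ ⟨a, ha, hak, n', rfl⟩
      refine Submodule.subset_span ⟨a, ha, hak, c n', ?_⟩
      rw [map_sub]
      congr 1
      exact LinearMap.congr_fun (hc a hak) n'
    · rw [map_zero]; exact Submodule.zero_mem _
    · intro x y _ _ hx hy
      rw [map_add]; exact Submodule.add_mem _ hx hy
    · intro k x _ hx
      rw [map_smul]; exact Submodule.smul_mem _ _ hx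
  obtain ⟨e, he, hee, hev, hsc⟩ := exists_comp h.crK fun z hz =>
    center_scalar h.crK h.tK' h.v0_ne hC h.κ_ne h.t_v0 h.t_R hz
  have hcom : ∀ g : X, (∀ k ∈ sSup LL, g⁻¹ * k * g ∈ sSup LL) → (∀ k ∈ sSup LL, g * k * g⁻¹ ∈ sSup LL) →
      (∃ c : F, σ g v0 = c • v0) → σ g * e = e * σ g := by
    rintro g hg hg' ⟨c, hc⟩
    exact comp_comm h.v0_ne he hee hev hsc hg hg' hc
  have hA : ∀ a ∈ A, σ a * e = e * σ a := fun a ha =>
    hcom a (fun k hk => by
      have := h.AK (inv_mem ha) k hk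
      rwa [inv_inv] at this) (h.AK ha) ⟨1, by rw [one_smul, h.A_v0 ha]⟩
  have hS : ∀ s ∈ S, σ s * e = e * σ s := fun s hs =>
    hcom s (fun k hk => by
      have := h.SK _ (inv_mem hs) k hk
      rwa [inv_inv] at this) (h.SK s hs) ⟨1, by rw [one_smul, h.S_fix s hs]⟩
  -- `[N,A] ≤ e N`
  have hee' : ∀ n, e (e n) = e n := fun n => LinearMap.congr_fun hee n
  have heA : ∀ n ∈ NA σ A, e n ∈ NA σ A := by
    intro n hn
    refine Submodule.span_induction (p := fun n _ => e n ∈ NA σ A) ?_ ?_ ?_ ?_ hn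
    · rintro _ ⟨a, ha, n', rfl⟩
      refine Submodule.subset_span ⟨a, ha, e n', ?_⟩
      rw [map_sub]
      congr 1
      exact (LinearMap.congr_fun (hA a ha) n').symm
    · rw [map_zero]; exact Submodule.zero_mem _
    · intro x y _ _ hx hy
      rw [map_add]; exact Submodule.add_mem _ hx hy
    · intro k x _ hx
      rw [map_smul]; exact Submodule.smul_mem _ _ hx
  have hSA : ∀ s ∈ S, ∀ n ∈ NA σ A, σ s n ∈ NA σ A := by
    intro s hs n hn
    refine Submodule.span_induction (p := fun n _ => σ s n ∈ NA σ A) ?_ ?_ ?_ ?_ hn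
    · rintro _ ⟨a, ha, n', rfl⟩
      refine Submodule.subset_span ⟨s * a * s⁻¹, h.SA s hs a ha, σ s n', ?_⟩
      have e1 : σ (s * a * s⁻¹) (σ s n') = σ s (σ a n') := by
        rw [map_mul, map_mul]
        show σ s (σ a (σ s⁻¹ (σ s n'))) = _
        rw [inv_σ_apply]
      rw [e1, map_sub]
    · rw [map_zero]; exact Submodule.zero_mem _
    · intro x y _ _ hx hy
      rw [map_add]; exact Submodule.add_mem _ hx hy
    · intro k x _ hx
      rw [map_smul]; exact Submodule.smul_mem _ _ hx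
  have hna : ∀ n ∈ NA σ A, e n = n := by
    by_contra hcon
    push Not at hcon
    obtain ⟨n, hn, hne⟩ := hcon
    have h1 : v0 ∈ (NA σ A).map ((1 : Module.End F N) - e) := by
      refine h.mem_of ?_ ?_ ?_
      · rintro _ ⟨m, hm, rfl⟩
        exact Submodule.sub_mem _ hm (heA m hm)
      · rintro s hs _ ⟨m, hm, rfl⟩
        refine ⟨σ s m, hSA s hs m hm, ?_⟩
        show σ s m - e (σ s m) = σ s (m - e m)
        rw [map_sub]
        congr 1
        exact (LinearMap.congr_fun (hS s hs) m).symm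
      · refine ⟨n - e n, ⟨n, hn, rfl⟩, ?_⟩
        intro h
        exact hne (sub_eq_zero.1 h).symm
    obtain ⟨m, -, hm⟩ := h1
    have h2 : m - e m = v0 := hm
    apply h.v0_ne
    rw [← hev, ← h2, map_sub, hee', sub_self]
  have hker : ∀ a ∈ A, ∀ n, e n = 0 → σ a n = n := by
    intro a ha n hn
    have h1 := hna _ (Submodule.subset_span ⟨a, ha, n, rfl⟩)
    have h2 : e (σ a n) = σ a (e n) := (LinearMap.congr_fun (hA a ha) n).symm
    rw [map_sub, h2, hn, map_zero, sub_self] at h1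
    exact sub_eq_zero.1 h1.symm
  refine ⟨e, he, hee, hev, hsc, hcom, hna, hker, ?_⟩
  intro L hL l hl
  have hKe : ∀ k ∈ sSup LL, ∀ n, e (σ k n) = σ k (e n) := fun k hk n => LinearMap.congr_fun (he.1 k hk) n
  let M : Subgroup X :=
    { carrier := {g | (∀ n, e n = 0 → σ g n = n)}
      one_mem' := fun n _ => by rw [map_one]; rfl
      mul_mem' := by
        intro a b ha hb n hn
        rw [map_mul]
        show σ a (σ b n) = n
        rw [hb n hn, ha n hn]
      inv_mem' := by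
        intro a ha n hn
        have h1 := inv_σ_apply (σ := σ) a n
        rwa [ha n hn] at h1 }
  have h1 : L ≤ M := by
    refine (h.LA L hL).trans ((Subgroup.closure_le _).2 ?_)
    rintro _ ⟨l, hl, a, ha, rfl⟩
    intro n hn
    rw [map_mul, map_mul, map_mul]
    show σ l (σ a (σ l⁻¹ (σ a⁻¹ n))) = n
    have h2 : e (σ l⁻¹ n) = 0 := by rw [hKe _ (le_sSup hL (inv_mem hl)), hn, map_zero]
    rw [hker _ (inv_mem ha) n hn, hker a ha _ h2, σ_inv_apply]
  exact h1 hl

/-- the operators commuting with `e` -/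
def XE (σ : X →* Module.End F N) (e : Module.End F N) : Subgroup X where
  carrier := {g | σ g * e = e * σ g}
  one_mem' := by show σ 1 * e = e * σ 1; rw [map_one, one_mul, mul_one]
  mul_mem' := by
    intro a b ha hb
    show σ (a * b) * e = e * σ (a * b)
    rw [map_mul, mul_assoc, show σ b * e = e * σ b from hb, ← mul_assoc, show σ a * e = e * σ a from ha, mul_assoc]
  inv_mem' := by
    intro a ha
    show σ a⁻¹ * e = e * σ a⁻¹
    calc σ a⁻¹ * e = σ a⁻¹ * (e * σ a) * σ a⁻¹ := by rw [mul_assoc, mul_assoc, σ_inv, mul_one]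
      _ = σ a⁻¹ * (σ a * e) * σ a⁻¹ := by rw [show σ a * e = e * σ a from ha]
      _ = e * σ a⁻¹ := by rw [← mul_assoc, inv_σ, one_mul]

theorem mem_XE {e : Module.End F N} {g : X} : g ∈ XE σ e ↔ σ g * e = e * σ g := Iff.rfl

/-- restriction to the range of `e` -/
def resE (σ : X →* Module.End F N) (e : Module.End F N) : XE σ e →* Module.End F (LinearMap.range e) where
  toFun g := (σ g).restrict (p := LinearMap.range e) (q := LinearMap.range e) (by
    rintro _ ⟨n, rfl⟩
    exact ⟨σ g n, (LinearMap.congr_fun g.2 n).symm⟩)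
  map_one' := by
    refine LinearMap.ext fun w => Subtype.ext ?_
    show σ (1 : X) (w : N) = w
    rw [map_one]
    rfl
  map_mul' a b := by
    refine LinearMap.ext fun w => Subtype.ext ?_
    show σ ((a : X) * b) (w : N) = _
    rw [map_mul]
    rfl

theorem resE_apply {e : Module.End F N} (g : XE σ e) (n : LinearMap.range e) :
    ((resE σ e g n : LinearMap.range e) : N) = σ g n := rfl

theorem CR.res {e : Module.End F N} {L : Subgroup X} (hL : L ≤ XE σ e) (h : CR σ L) :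
    CR (resE σ e) (L.subgroupOf (XE σ e)) := by
  intro W hW
  obtain ⟨W', hW', hc⟩ := h (W.map (LinearMap.range e).subtype) (by
    rintro k hk _ ⟨w, hw, rfl⟩
    exact ⟨_, hW ⟨k, hL hk⟩ hk w hw, rfl⟩)
  refine ⟨W'.comap (LinearMap.range e).subtype, ?_, ?_⟩
  · intro k hk w hw
    exact hW' k hk w hw
  · rw [isCompl_iff, Submodule.disjoint_def, codisjoint_iff] at hc ⊢
    refine ⟨fun x h1 h2 => Subtype.ext (hc.1 x ⟨x, h1, rfl⟩ h2), ?_⟩
    rw [Submodule.eq_top_iff']
    intro x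
    have h1 : (x : N) ∈ W.map (LinearMap.range e).subtype ⊔ W' := by rw [hc.2]; exact Submodule.mem_top
    obtain ⟨_, ⟨y, hy, rfl⟩, z, hz, hyz⟩ := Submodule.mem_sup.1 h1
    have hyz' : (y : N) + z = x := hyz
    have hz2 : z ∈ LinearMap.range e := by
      have : z = x - y := by rw [← hyz']; abel
      rw [this]
      exact Submodule.sub_mem _ x.2 y.2
    exact Submodule.mem_sup.2 ⟨y, hy, ⟨z, hz2⟩, hz, Subtype.ext hyz'⟩

/-- the family in a subgroup -/
def LLo (LL : Set (Subgroup X)) (X1 : Subgroup X) : Set (Subgroup X1) := (fun L => L.subgroupOf X1) '' LL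

theorem sSup_LLo {X1 : Subgroup X} (h : ∀ L ∈ LL, L ≤ X1) : sSup (LLo LL X1) = (sSup LL).subgroupOf X1 := by
  have h1 : (sSup (LLo LL X1)).map X1.subtype = sSup LL := by
    rw [LLo, sSup_image, Subgroup.map_iSup, sSup_eq_iSup]
    refine iSup_congr fun L => ?_
    rw [Subgroup.map_iSup]
    refine iSup_congr fun hL => ?_
    exact Subgroup.map_subgroupOf_eq_of_le (h L hL)
  rw [← h1]
  exact (Subgroup.comap_map_eq_self_of_injective X1.subtype_injective _).symm

theorem closure_res {X1 L A : Subgroup X} (hL : L ≤ X1) (hA : A ≤ X1)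
    (h : L ≤ Subgroup.closure {g | ∃ l ∈ L, ∃ a ∈ A, g = l * a * l⁻¹ * a⁻¹}) :
    L.subgroupOf X1 ≤ Subgroup.closure {g | ∃ l ∈ L.subgroupOf X1, ∃ a ∈ A.subgroupOf X1, g = l * a * l⁻¹ * a⁻¹} := by
  have h1 : L ≤ (Subgroup.closure {g | ∃ l ∈ L.subgroupOf X1, ∃ a ∈ A.subgroupOf X1, g = l * a * l⁻¹ * a⁻¹}).map
      X1.subtype := by
    refine h.trans ((Subgroup.closure_le _).2 ?_)
    rintro _ ⟨l, hl, a, ha, rfl⟩
    exact ⟨⟨l, hL hl⟩ * ⟨a, hA ha⟩ * ⟨l, hL hl⟩⁻¹ * ⟨a, hA ha⟩⁻¹,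
      Subgroup.subset_closure ⟨⟨l, hL hl⟩, hl, ⟨a, hA ha⟩, ha, rfl⟩, rfl⟩
  intro x hx
  obtain ⟨y, hy, hyx⟩ := h1 hx
  have : y = x := Subtype.ext hyx
  rwa [this] at hy

theorem WE.decomp {e : Module.End F N} (he : WE σ A LL v0 e) (n : N) : e (n - e n) = 0 := by
  rw [map_sub, show e (e n) = e n from LinearMap.congr_fun he.ee n, sub_self]

theorem WE.range_fix {e : Module.End F N} (he : WE σ A LL v0 e) (n : LinearMap.range e) : e n = n := by
  obtain ⟨m, hm⟩ := n.2
  rw [← hm]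
  exact LinearMap.congr_fun he.ee m

/-- two elements which agree on `e N` and are trivial on `ker e` -/
theorem WE.ext {e : Module.End F N} (he : WE σ A LL v0 e) {f g : Module.End F N} (h1 : ∀ n, e n = 0 → f n = g n)
    (h2 : ∀ n, e n = n → f n = g n) : f = g := by
  refine LinearMap.ext fun n => ?_
  have e1 : n = (n - e n) + e n := by abel
  rw [e1, map_add, map_add, h1 _ (he.decomp n), h2 _ (LinearMap.congr_fun he.ee n)]

theorem WE.A_le {e : Module.End F N} (he : WE σ A LL v0 e) (h : WB σ A S LL t v0 κ Eb) : A ≤ XE σ e := fun a ha =>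
  he.com a (fun k hk => by
    have := h.AK (inv_mem ha) k hk
    rwa [inv_inv] at this) (h.AK ha) ⟨1, by rw [one_smul, h.A_v0 ha]⟩

theorem WE.K_le {e : Module.End F N} (he : WE σ A LL v0 e) : sSup LL ≤ XE σ e := fun k hk => (he.zk.1 k hk).symm

theorem WE.L_le {e : Module.End F N} (he : WE σ A LL v0 e) : ∀ L ∈ LL, L ≤ XE σ e := fun _ hL =>
  (le_sSup hL).trans he.K_le

theorem WE.S_le {e : Module.End F N} (he : WE σ A LL v0 e) (h : WD σ A S LL t v0 κ Eb) : S ≤ XE σ e := fun s hs =>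
  he.com s (fun k hk => by
    have := h.SK _ (inv_mem hs) k hk
    rwa [inv_inv] at this) (h.SK s hs) ⟨1, by rw [one_smul, h.S_fix s hs]⟩

theorem WE.t_mem {e : Module.End F N} (he : WE σ A LL v0 e) (h : WB σ A S LL t v0 κ Eb) : t ∈ XE σ e :=
  he.com t h.tK' h.tK ⟨κ, h.t_v0⟩

theorem WE.v0_mem {e : Module.End F N} (he : WE σ A LL v0 e) : v0 ∈ LinearMap.range e := ⟨v0, he.ev⟩

/-- `[eN, A]` -/
theorem WE.NA_res {e : Module.End F N} (he : WE σ A LL v0 e) (h : WB σ A S LL t v0 κ Eb) {n : LinearMap.range e} :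
    n ∈ NA (resE σ e) (A.subgroupOf (XE σ e)) ↔ (n : N) ∈ NA σ A := by
  constructor
  · intro hn
    refine Submodule.span_induction (p := fun (n : LinearMap.range e) _ => (n : N) ∈ NA σ A) ?_ ?_ ?_ ?_ hn
    · rintro _ ⟨a, ha, n', rfl⟩
      exact Submodule.subset_span ⟨a, ha, n', rfl⟩
    · exact Submodule.zero_mem _
    · intro x y _ _ hx hy
      exact Submodule.add_mem _ hx hy
    · intro k x _ hx
      exact Submodule.smul_mem _ _ hx
  · intro hn
    have key : ∀ m ∈ NA σ A, (⟨e m, ⟨m, rfl⟩⟩ : LinearMap.range e) ∈ NA (resE σ e) (A.subgroupOf (XE σ e)) := by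
      intro m hm
      refine Submodule.span_induction
        (p := fun m _ => (⟨e m, ⟨m, rfl⟩⟩ : LinearMap.range e) ∈ NA (resE σ e) (A.subgroupOf (XE σ e))) ?_ ?_ ?_ ?_ hm
      · rintro _ ⟨a, ha, n', rfl⟩
        refine Submodule.subset_span ⟨⟨a, he.A_le h ha⟩, ha, ⟨e n', ⟨n', rfl⟩⟩, Subtype.ext ?_⟩
        show e (σ a n' - n') = σ a (e n') - e n'
        rw [map_sub]
        congr 1
        exact (LinearMap.congr_fun (he.A_le h ha) n').symm
      · have e0 : (⟨e 0, ⟨0, rfl⟩⟩ : LinearMap.range e) = 0 := Subtype.ext (map_zero e)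
        rw [e0]
        exact Submodule.zero_mem _
      · intro x y _ _ hx hy
        have e0 : (⟨e (x + y), ⟨x + y, rfl⟩⟩ : LinearMap.range e) = ⟨e x, ⟨x, rfl⟩⟩ + ⟨e y, ⟨y, rfl⟩⟩ :=
          Subtype.ext (map_add e x y)
        rw [e0]
        exact Submodule.add_mem _ hx hy
      · intro k x _ hx
        have e0 : (⟨e (k • x), ⟨k • x, rfl⟩⟩ : LinearMap.range e) = k • ⟨e x, ⟨x, rfl⟩⟩ :=
          Subtype.ext (map_smul e k x)
        rw [e0]
        exact Submodule.smul_mem _ _ hx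
    have h1 := key n hn
    have e0 : (⟨e n, ⟨n, rfl⟩⟩ : LinearMap.range e) = n := Subtype.ext (he.range_fix n)
    rwa [e0] at h1

/-- the centre of `End_K(e N)` consists of scalars -/
theorem WE.cs {e : Module.End F N} (he : WE σ A LL v0 e) :
    CSg (resE σ e) ((sSup LL).subgroupOf (XE σ e)) := by
  intro z hz hz'
  have hke : ∀ k ∈ sSup LL, ∀ n, e (σ k n) = σ k (e n) := fun k hk n => LinearMap.congr_fun (he.zk.1 k hk) n
  let z' : Module.End F N := (LinearMap.range e).subtype ∘ₗ z ∘ₗ e.rangeRestrict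
  have hz1 : ∀ n, z' n = z ⟨e n, ⟨n, rfl⟩⟩ := fun _ => rfl
  have hzk : ZK σ (sSup LL) z' := by
    constructor
    · intro k hk
      refine LinearMap.ext fun n => ?_
      show z' (σ k n) = σ k (z' n)
      have h1 := LinearMap.congr_fun (hz ⟨k, he.K_le hk⟩ hk) ⟨e n, ⟨n, rfl⟩⟩
      have h2 := congrArg Subtype.val h1
      have h3 : (z (resE σ e ⟨k, he.K_le hk⟩ ⟨e n, ⟨n, rfl⟩⟩) : N) = σ k (z ⟨e n, ⟨n, rfl⟩⟩) := h2
      rw [hz1, hz1, ← h3]
      congr 2
      exact Subtype.ext (hke k hk n)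
    · intro c hc
      have hce : ∀ n, e (c n) = c (e n) := fun n => (LinearMap.congr_fun (he.zk.2 c hc) n).symm
      let c1 : Module.End F (LinearMap.range e) := c.restrict (p := LinearMap.range e) (q := LinearMap.range e) (by
        rintro _ ⟨n, rfl⟩
        exact ⟨c n, hce n⟩)
      have hc1 : ∀ k ∈ (sSup LL).subgroupOf (XE σ e), c1 * resE σ e k = resE σ e k * c1 := by
        intro k hk
        refine LinearMap.ext fun n => Subtype.ext ?_
        exact LinearMap.congr_fun (hc k hk) n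
      refine LinearMap.ext fun n => ?_
      show c (z' n) = z' (c n)
      have h1 := congrArg Subtype.val (LinearMap.congr_fun (hz' c1 hc1) ⟨e n, ⟨n, rfl⟩⟩)
      have h3 : c (z ⟨e n, ⟨n, rfl⟩⟩) = (z (c1 ⟨e n, ⟨n, rfl⟩⟩) : N) := h1
      rw [hz1, hz1, h3]
      congr 2
      exact Subtype.ext (hce n).symm
  obtain ⟨k, hk⟩ := he.sc z' hzk
  refine ⟨k, fun n => Subtype.ext ?_⟩
  have h1 := LinearMap.congr_fun hk (n : N)
  have h2 : z' (e n) = k • e n := h1
  rw [he.range_fix n, hz1] at h2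
  have h3 : (⟨e n, ⟨n, rfl⟩⟩ : LinearMap.range e) = n := Subtype.ext (he.range_fix n)
  rw [h3] at h2
  exact h2

/-- **the restricted data** -/
theorem WE.hd [Finite N] {e : Module.End F N} (he : WE σ A LL v0 e) (h : WD σ A S LL t v0 κ Eb) :
    HD (resE σ e) (A.subgroupOf (XE σ e)) (S.subgroupOf (XE σ e)) (LLo LL (XE σ e)) ⟨t, he.t_mem h.toWB⟩
      ⟨v0, he.v0_mem⟩ κ (Eb.comap (LinearMap.range e).subtype.toAddMonoidHom) := by
  have hAX := he.A_le h.toWB
  have hSX := he.S_le h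
  have hext : ∀ L ∈ LL, ∀ g ∈ L, ∀ g' ∈ L, (∀ n : N, e n = n → σ g n = σ g' n) → σ g = σ g' := by
    intro L hL g hg g' hg' hgg
    refine he.ext (fun n hn => ?_) hgg
    rw [he.kerL L hL g hg n hn, he.kerL L hL g' hg' n hn]
  constructor
  · constructor
    · intro a ha
      exact Subtype.ext (h.A_sq a ha)
    · intro a ha h1
      apply Subtype.ext
      refine h.faith a ha ?_
      refine he.ext (fun n hn => ?_) fun n hn => ?_
      · rw [he.ker a ha n hn]; rfl
      · exact congrArg Subtype.val (LinearMap.congr_fun h1 ⟨n, ⟨n, hn⟩⟩)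
    · intro a ha b hb
      refine LinearMap.ext fun n => Subtype.ext ?_
      exact LinearMap.congr_fun (h.quad a ha b hb) (n : N)
    · rw [Nat.card_congr (Subgroup.subgroupOfEquivOfLe hAX).toEquiv]
      exact h.card
    · rintro _ ⟨L, hL, rfl⟩ a ha l hl
      exact h.AL L hL a ha l hl
    · rintro _ ⟨L, hL, rfl⟩ _ ⟨L', hL', rfl⟩ hne l hl l' hl'
      exact Subtype.ext (h.comm L hL L' hL' (fun h => hne (by rw [h])) l hl l' hl')
    · rintro _ ⟨L, hL, rfl⟩
      exact closure_res (he.L_le L hL) hAX (h.LA L hL)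
    · rintro _ ⟨L, hL, rfl⟩
      exact (h.crL L hL).res (he.L_le L hL)
    · rintro _ ⟨L, hL, rfl⟩
      obtain ⟨l, hl, hlv⟩ := h.move L hL
      exact ⟨⟨l, he.L_le L hL hl⟩, hl, fun h => hlv (congrArg Subtype.val h)⟩
    · obtain ⟨a, ha, hak, ha1⟩ := h.out
      rw [sSup_LLo he.L_le]
      exact ⟨⟨a, hAX ha⟩, ha, hak, fun h => ha1 (congrArg Subtype.val h)⟩
    · rw [sSup_LLo he.L_le]
      intro k hk
      exact h.tK k hk
    · rw [sSup_LLo he.L_le]
      intro k hk
      exact h.tK' k hk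
    · exact fun hh => h.v0_ne (congrArg Subtype.val hh)
    · exact (he.NA_res h.toWB).2 h.v0_mem
    · intro s hs
      exact Subtype.ext (h.S_fix s hs)
    · exact h.κ_ne
    · exact Subtype.ext h.t_v0
    · intro r hr
      obtain ⟨k, hk⟩ := h.t_R r ((he.NA_res h.toWB).1 hr)
      exact ⟨k, Subtype.ext hk⟩
    · rw [Nat.card_congr (Subgroup.subgroupOfEquivOfLe hAX).toEquiv, AddSubgroup.index_comap]
      refine le_trans ?_ h.idx
      refine Nat.le_of_dvd (Nat.pos_of_ne_zero AddSubgroup.index_ne_zero_of_finite) ?_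
      exact AddSubgroup.relIndex_dvd_index_of_normal _ _
    · intro n hn a ha
      obtain ⟨k, hk⟩ := h.eb n hn a ha
      exact ⟨k, Subtype.ext hk⟩
    · rintro _ ⟨L, hL, rfl⟩
      obtain ⟨s, ⟨hs, hsL⟩, hs1⟩ := h.evn L hL
      refine ⟨⟨s, hSX hs⟩, ⟨hs, hsL⟩, fun h1 => hs1 ?_⟩
      have h2 := hext L hL s hsL 1 (one_mem _) fun n hn => by
        rw [map_one]
        exact congrArg Subtype.val (LinearMap.congr_fun h1 ⟨n, ⟨n, hn⟩⟩)
      rwa [map_one] at h2
    · rintro _ ⟨L, hL, rfl⟩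
      obtain ⟨n, hn, hn1, ⟨l, hl, hl1⟩, hn3⟩ := h.bur L hL
      refine ⟨⟨n, he.L_le L hL hn⟩, hn, ?_, ⟨⟨l, he.L_le L hL hl⟩, hl, ?_⟩, ?_⟩
      · intro s hs
        exact hn1 s hs
      · intro h1
        apply hl1
        rw [← map_mul, ← map_mul]
        refine hext L hL _ (mul_mem (mul_mem hn hn) hl) _ (mul_mem hl (mul_mem hn hn)) fun m hm => ?_
        rw [← map_mul, ← map_mul] at h1
        exact congrArg Subtype.val (LinearMap.congr_fun h1 ⟨m, ⟨m, hm⟩⟩)
      · rintro ⟨k, hk⟩ a ha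
        exact hn3 ⟨k, congrArg Subtype.val hk⟩ a ha
  · rw [sSup_LLo he.L_le]
    exact he.cs

end Cfsg.Agent.Omega.NO3S.OneQ.W
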