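import Cfsg.Agent.Omega.TwoFFour.SzNat

/-!
# THEOREM W (#17961), section 3: quadratic actions on tensor products

`tens s r` is `s ⊗ r` on `ι → Y = Y ⊗ F^ι`.  `T3`: an elementary abelian 2-group of operators `s a ⊗ r a` acting
quadratically is trivial on one factor or `s a = 1 + μ(a) x`, `r a = 1 + μ(a) z`.
-/

set_option autoImplicit false
set_option linter.unusedSectionVars false

namespace Cfsg.Agent.Omega.NO3S.OneQ.W

open Matrix

variable {F : Type*} [Field F] {Y : Type*} [AddCommGroup Y] [Module F Y] {ι : Type*} [Fintype ι] [DecidableEq ι]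

/-- `s ⊗ r` -/
def tens (s : Module.End F Y) (r : Matrix ι ι F) : Module.End F (ι → Y) where
  toFun n i := ∑ j, r i j • s (n j)
  map_add' n m := by
    funext i
    simp only [Pi.add_apply, map_add, smul_add, Finset.sum_add_distrib]
  map_smul' c n := by
    funext i
    simp only [Pi.smul_apply, map_smul, RingHom.id_apply, Finset.smul_sum]
    exact Finset.sum_congr rfl fun j _ => smul_comm _ _ _

theorem tens_apply (s : Module.End F Y) (r : Matrix ι ι F) (n : ι → Y) (i : ι) :
    tens s r n i = ∑ j, r i j • s (n j) := rfl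

theorem tens_mul (s s' : Module.End F Y) (r r' : Matrix ι ι F) :
    tens s r * tens s' r' = tens (s * s') (r * r') := by
  refine LinearMap.ext fun n => funext fun i => ?_
  show tens s r (tens s' r' n) i = _
  simp only [tens_apply, map_sum, map_smul, Finset.smul_sum, Matrix.mul_apply, Finset.sum_smul]
  rw [Finset.sum_comm]
  refine Finset.sum_congr rfl fun k _ => Finset.sum_congr rfl fun j _ => ?_
  rw [smul_smul]
  rfl

theorem tens_one : tens (1 : Module.End F Y) (1 : Matrix ι ι F) = 1 := by
  refine LinearMap.ext fun n => funext fun i => ?_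
  rw [tens_apply]
  simp [Matrix.one_apply]

theorem tens_add_left (s s' : Module.End F Y) (r : Matrix ι ι F) : tens (s + s') r = tens s r + tens s' r := by
  refine LinearMap.ext fun n => funext fun i => ?_
  simp only [tens_apply, LinearMap.add_apply, Pi.add_apply, smul_add, Finset.sum_add_distrib]

theorem tens_add_right (s : Module.End F Y) (r r' : Matrix ι ι F) : tens s (r + r') = tens s r + tens s r' := by
  refine LinearMap.ext fun n => funext fun i => ?_
  simp only [tens_apply, LinearMap.add_apply, Pi.add_apply, Matrix.add_apply, add_smul, Finset.sum_add_distrib]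

theorem tens_smul_left (c : F) (s : Module.End F Y) (r : Matrix ι ι F) : tens (c • s) r = c • tens s r := by
  refine LinearMap.ext fun n => funext fun i => ?_
  simp only [tens_apply, LinearMap.smul_apply, Pi.smul_apply, Finset.smul_sum]
  exact Finset.sum_congr rfl fun j _ => smul_comm _ _ _

theorem tens_smul_right (c : F) (s : Module.End F Y) (r : Matrix ι ι F) : tens s (c • r) = c • tens s r := by
  refine LinearMap.ext fun n => funext fun i => ?_
  simp only [tens_apply, LinearMap.smul_apply, Pi.smul_apply, Finset.smul_sum, Matrix.smul_apply, smul_assoc]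

/-- pure vectors -/
def pv (u : ι → F) (y : Y) : ι → Y := fun i => u i • y

theorem tens_pv (s : Module.End F Y) (r : Matrix ι ι F) (u : ι → F) (y : Y) :
    tens s r (pv u y) = pv (r *ᵥ u) (s y) := by
  funext i
  rw [tens_apply]
  simp only [pv, map_smul, Matrix.mulVec, dotProduct, Finset.sum_smul, smul_smul]

theorem tens_single (s : Module.End F Y) (r : Matrix ι ι F) (i j : ι) (y : Y) :
    tens s r (Pi.single j y) i = r i j • s y := by
  rw [tens_apply, Finset.sum_eq_single j]
  · rw [Pi.single_eq_same]
  · intro k _ hk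
    rw [Pi.single_eq_of_ne hk, map_zero, smul_zero]
  · intro h
    exact absurd (Finset.mem_univ j) h

/-- proportionality -/
theorem tens_prop {s s' : Module.End F Y} {r r' : Matrix ι ι F} (h : tens s r = tens s' r') (hs : s ≠ 0)
    (hr' : r' ≠ 0) : ∃ c : F, s' = c • s ∧ r = c • r' := by
  have h1 : ∀ i j y, r i j • s y = r' i j • s' y := by
    intro i j y
    rw [← tens_single, ← tens_single, h]
  obtain ⟨i, j, hij⟩ : ∃ i j, r' i j ≠ 0 := by
    by_contra hcon
    push Not at hcon
    exact hr' (Matrix.ext hcon)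
  obtain ⟨y, hy⟩ : ∃ y, s y ≠ 0 := by
    by_contra hcon
    push Not at hcon
    exact hs (LinearMap.ext hcon)
  have h2 : s' = ((r' i j)⁻¹ * r i j) • s := by
    refine LinearMap.ext fun y => ?_
    rw [LinearMap.smul_apply, mul_smul, h1, smul_smul, inv_mul_cancel₀ hij, one_smul]
  refine ⟨(r' i j)⁻¹ * r i j, h2, Matrix.ext fun k l => ?_⟩
  have h3 := h1 k l y
  rw [h2, LinearMap.smul_apply, smul_smul] at h3
  have h4 : (r k l - r' k l * ((r' i j)⁻¹ * r i j)) • s y = 0 := by
    rw [sub_smul, h3, sub_self]
  have h5 := (smul_eq_zero.1 h4).resolve_right hy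
  rw [Matrix.smul_apply, smul_eq_mul, mul_comm]
  exact sub_eq_zero.1 h5

theorem tens_eq_zero {s : Module.End F Y} {r : Matrix ι ι F} (h : tens s r = 0) : s = 0 ∨ r = 0 := by
  by_contra hcon
  push Not at hcon
  obtain ⟨hs, hr⟩ := hcon
  obtain ⟨i, j, hij⟩ : ∃ i j, r i j ≠ 0 := by
    by_contra hcon
    push Not at hcon
    exact hr (Matrix.ext hcon)
  obtain ⟨y, hy⟩ : ∃ y, s y ≠ 0 := by
    by_contra hcon
    push Not at hcon
    exact hs (LinearMap.ext hcon)
  have h1 : r i j • s y = 0 := by rw [← tens_single, h]; rfl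
  exact (smul_eq_zero.1 h1).elim hij hy

section T3

variable {A : Type*} [Group A]

/-- a 2-group of operators fixes a nonzero vector -/
theorem exists_fixed [Finite Y] [CharP F 2] (hA : IsPGroup 2 A) (s : A →* Module.End F Y) (hne : ∃ y : Y, y ≠ 0) :
    ∃ y : Y, y ≠ 0 ∧ ∀ a, s a y = y := by
  let : DistribMulAction A Y :=
    { smul := fun a y => s a y
      one_smul := fun y => by show s 1 y = y; rw [map_one]; rfl
      mul_smul := fun a b y => by show s (a * b) y = s a (s b y); rw [map_mul]; rfl
      smul_zero := fun a => map_zero (s a)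
      smul_add := fun a => map_add (s a) }
  exact Cfsg.Agent.Omega.TwoFFour.exists_fix_of hA (fun y => by
    rw [← two_smul F y, CharTwo.two_eq_zero, zero_smul]) hne

/-- the action of matrices on columns -/
def mvEnd : Matrix ι ι F →* Module.End F (ι → F) where
  toFun r := Matrix.mulVecLin r
  map_one' := by
    refine LinearMap.ext fun v => ?_
    exact Matrix.one_mulVec v
  map_mul' r r' := by
    refine LinearMap.ext fun v => ?_
    exact (Matrix.mulVec_mulVec v r r').symm

theorem add_self_end [CharP F 2] (s : Module.End F Y) : s + s = 0 := by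
  rw [← two_smul F s, CharTwo.two_eq_zero, zero_smul]

theorem add_self_mat [CharP F 2] (r : Matrix ι ι F) : r + r = 0 := by
  rw [← two_smul F r, CharTwo.two_eq_zero, zero_smul]

/-- **T3**: quadratic action on a tensor product -/
theorem T3 [Finite F] [Finite Y] [CharP F 2] [Nonempty ι] (hY : ∃ y : Y, y ≠ 0) (hA : IsPGroup 2 A)
    (s : A →* Module.End F Y) (r : A →* Matrix ι ι F)
    (quad : ∀ a b, (tens (s a) (r a) - 1) * (tens (s b) (r b) - 1) = 0) :
    (∀ a, r a = 1) ∨ (∀ a, s a = 1) ∨ ∃ (x : Module.End F Y) (z : Matrix ι ι F) (μ : A → F), x ≠ 0 ∧ z ≠ 0 ∧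
      x * x = 0 ∧ z * z = 0 ∧ ∀ a, s a = 1 + μ a • x ∧ r a = 1 + μ a • z := by
  obtain ⟨y0, hy0, hy0'⟩ := exists_fixed hA s hY
  obtain ⟨u0, hu0, hu0'⟩ := exists_fixed (F := F) (Y := ι → F) hA (mvEnd.comp r) ⟨fun _ => 1, fun h => by
    have := congrFun h (Classical.arbitrary ι)
    exact one_ne_zero this⟩
  have hu0' : ∀ a, r a *ᵥ u0 = u0 := hu0'
  obtain ⟨i0, hi0⟩ : ∃ i, u0 i ≠ 0 := by
    by_contra hcon
    push Not at hcon
    exact hu0 (funext hcon)
  -- quadratic on the factors
  have qs : ∀ a b, (s a - 1) * (s b - 1) = 0 := by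
    intro a b
    refine LinearMap.ext fun y => ?_
    have h1 := LinearMap.congr_fun (quad a b) (pv u0 y)
    have h2 : ∀ (c : A) (y : Y), (tens (s c) (r c) - 1) (pv u0 y) = pv u0 ((s c - 1) y) := by
      intro c y
      rw [LinearMap.sub_apply, tens_pv, hu0', LinearMap.sub_apply]
      funext i
      show u0 i • s c y - u0 i • y = u0 i • (s c y - y)
      rw [smul_sub]
    have h3 : (tens (s a) (r a) - 1) ((tens (s b) (r b) - 1) (pv u0 y)) = 0 := h1
    rw [h2, h2] at h3
    have h4 := congrFun h3 i0
    exact (smul_eq_zero.1 h4).resolve_left hi0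
  have qr : ∀ a b, (r a - 1) * (r b - 1) = 0 := by
    intro a b
    have h2 : ∀ (c : A) (u : ι → F), (tens (s c) (r c) - 1) (pv u y0) = pv ((r c - 1) *ᵥ u) y0 := by
      intro c u
      rw [LinearMap.sub_apply, tens_pv, hy0', Matrix.sub_mulVec, Matrix.one_mulVec]
      funext i
      show (r c *ᵥ u) i • y0 - u i • y0 = ((r c *ᵥ u) i - u i) • y0
      rw [sub_smul]
    have h5 : ∀ u, ((r a - 1) * (r b - 1)) *ᵥ u = 0 := by
      intro u
      have h1 := LinearMap.congr_fun (quad a b) (pv u y0)
      have h3 : (tens (s a) (r a) - 1) ((tens (s b) (r b) - 1) (pv u y0)) = 0 := h1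
      rw [h2, h2, Matrix.mulVec_mulVec] at h3
      funext i
      have h4 := congrFun h3 i
      exact (smul_eq_zero.1 h4).resolve_right hy0
    refine Matrix.ext fun i j => ?_
    have h6 := congrFun (h5 (Pi.single j 1)) i
    rw [Matrix.mulVec_single_one] at h6
    exact h6
  -- the mixed terms
  have mix : ∀ a b, tens (s a - 1) (r b - 1) = tens (s b - 1) (r a - 1) := by
    intro a b
    have h1 := quad a b
    set x := s a - 1 with hx
    set x' := s b - 1 with hx'
    set z := r a - 1 with hz
    set z' := r b - 1 with hz'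
    have e1 : s a = 1 + x := by rw [hx]; abel
    have e2 : s b = 1 + x' := by rw [hx']; abel
    have e3 : r a = 1 + z := by rw [hz]; abel
    have e4 : r b = 1 + z' := by rw [hz']; abel
    have q1 : x * x' = 0 := qs a b
    have q2 : z * z' = 0 := qr a b
    rw [e1, e2, e3, e4] at h1
    have e5 : tens (1 + x) (1 + z) - 1 = tens x 1 + tens 1 z + tens x z := by
      rw [tens_add_left, tens_add_right, tens_add_right, tens_one]
      abel
    have e6 : tens (1 + x') (1 + z') - 1 = tens x' 1 + tens 1 z' + tens x' z' := by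
      rw [tens_add_left, tens_add_right, tens_add_right, tens_one]
      abel
    have z1 : ∀ r : Matrix ι ι F, tens (0 : Module.End F Y) r = 0 := by
      intro r
      have := tens_smul_left 0 (0 : Module.End F Y) r
      rwa [zero_smul, zero_smul] at this
    have z2 : ∀ s : Module.End F Y, tens s (0 : Matrix ι ι F) = 0 := by
      intro s
      have := tens_smul_right 0 s (0 : Matrix ι ι F)
      rwa [zero_smul, zero_smul] at this
    rw [e5, e6] at h1
    have e7 : (tens x 1 + tens 1 z + tens x z) * (tens x' 1 + tens 1 z' + tens x' z') =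
        tens x z' + tens x' z := by
      simp only [add_mul, mul_add, tens_mul, q1, q2, z1, z2, one_mul, mul_one, add_zero, zero_add]
      exact add_comm _ _
    rw [e7] at h1
    rw [eq_neg_of_add_eq_zero_left h1]
    have h8 := add_self_end (tens x' z)
    exact (eq_neg_of_add_eq_zero_left h8).symm
  by_cases hr : ∀ a, r a = 1
  · exact Or.inl hr
  by_cases hs : ∀ a, s a = 1
  · exact Or.inr (Or.inl hs)
  right; right
  push Not at hr hs
  obtain ⟨b, hb⟩ := hr
  obtain ⟨a, ha⟩ := hs
  have ha' : s a - 1 ≠ 0 := sub_ne_zero.2 ha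
  have hb' : r b - 1 ≠ 0 := sub_ne_zero.2 hb
  have hza : r a - 1 ≠ 0 := by
    intro h
    have h1 := mix a b
    rw [h] at h1
    have h2 : tens (s a - 1) (r b - 1) = 0 := by
      rw [h1]
      have := tens_smul_right 0 (s b - 1) (0 : Matrix ι ι F)
      rwa [zero_smul, zero_smul] at this
    exact (tens_eq_zero h2).elim ha' hb'
  have key : ∀ c, ∃ m : F, s c = 1 + m • (s a - 1) ∧ r c = 1 + m • (r a - 1) := by
    intro c
    obtain ⟨m, h1, h2⟩ := tens_prop (mix a c) ha' hza
    exact ⟨m, by rw [← h1]; abel, by rw [← h2]; abel⟩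
  choose μ hμ using key
  exact ⟨s a - 1, r a - 1, μ, ha', hza, qs a a, qr a a, hμ⟩

end T3

end Cfsg.Agent.Omega.NO3S.OneQ.W
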