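import Cfsg.Agent.Omega.NO3S.OneQ.Co
import Cfsg.Agent.Omega.NO3S.OneQ.Rep
import Cfsg.Agent.Omega.NO3S.OneQ.Flag
import Cfsg.Agent.Omega.NO3S.OneQ.QuadNat

/-!
# NO-3S, `OneQ`: quadratic sections for `X_l` (bb OMEGA #18875, WEIGHT THEOREM)

* `Co.Sec W R` : `W / R` is an elementary abelian section, normalised by `X_l`, on which `K_T ∩ C_G(V)` is trivial and the
  root group is quadratic;
* `Co.Sec.add_of` : if `[e, K_Z] ≤ R`, and `a`, `b`, `c ∈ X_l` map `e(1,0)` to `e(s,0)`, `e(t,0)`, `e(s+t,0)`, then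
  `e^c ≡ e^a e^b` modulo `R` and elements fixed by `X_l`;
* `EL V Z = ⟨E_T⟩`, `DL V Z = ⟨D_T⟩` : `EL` is elementary abelian, `DL` commutes with all `W_T`;
* `quad_line` (0), (1) : `[EL V, E_Y', E_Y'] = 1` for every line `L` on `Z` and `Y' ∈ L - Z`;
* `Co.weight` : **WEIGHT THEOREM**.
-/

set_option autoImplicit false
set_option linter.unusedSectionVars false

namespace Cfsg.Agent.Omega.NO3S.OneQ

open Subgroup Cfsg.Agent.Omega.NO3S.PT Cfsg.Agent.Omega.NoFF.Basic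
open Cfsg.Agent.ZN.Block (conj_mem_of_normalizer)
open scoped Pointwise

universe u

variable {G : Type u} [Group G]

namespace Co

variable [Finite G] {F : Type*} [Field F] [CharP F 2] {S : Sylow 2 G} {B P V Z : Subgroup G} (h : Co F S B P V Z)

/-! ### The action on coordinates -/

open Classical in
/-- coordinates of an element of `V` -/
noncomputable def pq (g : G) : F × F := if hg : ∃ p : F × F, h.e p.1 p.2 = g then hg.choose else 0

theorem pq_e (p : F × F) : h.pq (h.e p.1 p.2) = p := by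
  have hg : ∃ q : F × F, h.e q.1 q.2 = h.e p.1 p.2 := ⟨p, rfl⟩
  rw [pq, dif_pos hg]
  obtain ⟨h1, h2⟩ := h.e_inj hg.choose_spec
  exact Prod.ext h1 h2

theorem e_pq {g : G} (hg : g ∈ V) : h.e (h.pq g).1 (h.pq g).2 = g := by
  obtain ⟨a, b, rfl⟩ := (h.mem_V g).1 hg
  rw [h.pq_e (a, b)]

/-- the action of `X_l` on coordinates -/
noncomputable def wrho (g : XV V Z) (p : F × F) : F × F := h.pq ((g : G) * h.e p.1 p.2 * (g : G)⁻¹)

theorem e_wrho (g : XV V Z) (p : F × F) : h.e (h.wrho g p).1 (h.wrho g p).2 = (g : G) * h.e p.1 p.2 * (g : G)⁻¹ :=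
  h.e_pq ((mem_normalizer_iff.1 (h.one.pl.XV_le_N g.2) _).1 (h.e_memV _ _))

theorem wrho_eq {g : XV V Z} {p q : F × F} (hg : (g : G) * h.e p.1 p.2 * (g : G)⁻¹ = h.e q.1 q.2) : h.wrho g p = q := by
  rw [wrho, hg, h.pq_e]

theorem wrho_mul (g g' : XV V Z) (p : F × F) : h.wrho (g * g') p = h.wrho g (h.wrho g' p) := by
  apply h.wrho_eq
  rw [h.e_wrho, h.e_wrho, Subgroup.coe_mul]
  group

theorem wrho_one (p : F × F) : h.wrho 1 p = p := by
  apply h.wrho_eq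
  rw [Subgroup.coe_one, one_mul, inv_one, mul_one]

include h in
/-- `g` maps the point `X` onto the point `Y` -/
theorem cj_Z_Y {g : G} (hgN : g ∈ normalizer (V : Set G)) {X Y : Subgroup G} (hX : Pnt V Z X) (hY : Pnt V Z Y)
    (hg : ∀ z ∈ X, g * z * g⁻¹ ∈ Y) : PT.cj g X = Y := by
  obtain ⟨z, hz, hz1⟩ := h.one.pl.pt_ne_bot hX.cj
  have h1 := hX.conj hgN
  refine h.one.pl.pts_eq h1.cj hY.cj (conj_mem_cj hz) (hg z hz) ?_
  intro e
  apply hz1
  rw [mul_inv_eq_one, mul_eq_left] at e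
  exact e

theorem closure_K (g : XV V Z) :
    g ∈ Subgroup.closure ((((kx V Z).subgroupOf (XV V Z) : Subgroup (XV V Z)) : Set (XV V Z)) ∪
      (((kx V h.Yp).subgroupOf (XV V Z) : Subgroup (XV V Z)) : Set (XV V Z))) := by
  have hZ := h.one.self
  have hY := h.pY
  have key : XV V Z ≤ (Subgroup.closure ((((kx V Z).subgroupOf (XV V Z) : Subgroup (XV V Z)) : Set (XV V Z)) ∪
      (((kx V h.Yp).subgroupOf (XV V Z) : Subgroup (XV V Z)) : Set (XV V Z)))).map (XV V Z).subtype := by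
    set C := (Subgroup.closure ((((kx V Z).subgroupOf (XV V Z) : Subgroup (XV V Z)) : Set (XV V Z)) ∪
      (((kx V h.Yp).subgroupOf (XV V Z) : Subgroup (XV V Z)) : Set (XV V Z)))).map (XV V Z).subtype with hC
    have hZC : kx V Z ≤ C := by
      intro k hk
      refine ⟨⟨k, le_XV hZ.cj hZ.le hk⟩, subset_closure (Or.inl ?_), rfl⟩
      exact mem_subgroupOf.2 hk
    have hYC : kx V h.Yp ≤ C := by
      intro k hk
      refine ⟨⟨k, le_XV hY.cj hY.le hk⟩, subset_closure (Or.inr ?_), rfl⟩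
      exact mem_subgroupOf.2 hk
    refine sSup_le ?_
    rintro _ ⟨T, hT, hTV, rfl⟩
    by_cases hTZ : T = Z
    · subst hTZ
      exact hZC
    obtain ⟨k, hk, rfl⟩ := h.one.move hZ hY ⟨hT, hTV⟩ h.Yp_ne hTZ
    rw [kx_cj]
    intro x hx
    rw [mem_cj] at hx
    have h1 := mul_mem (mul_mem (hZC hk) (hYC hx)) (inv_mem (hZC hk))
    have e : k * (k⁻¹ * x * k) * k⁻¹ = x := by group
    rwa [e] at h1
  obtain ⟨x, hx, hxg⟩ := key g.2
  rwa [show x = g from Subtype.ext hxg] at hx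

/-- a quadratic section for `X_l` -/
structure Sec (W R : Subgroup G) : Prop where
  ab : ∀ a ∈ W, ∀ b ∈ W, a * b = b * a
  sq : ∀ a ∈ W, a * a = 1
  RW : R ≤ W
  NW : XV V Z ≤ normalizer (W : Set G)
  NR : XV V Z ≤ normalizer (R : Set G)
  triv : ∀ T, Pnt V Z T → ∀ k ∈ kx V T, k ∈ centralizer (V : Set G) → ∀ w ∈ W, k * w * k⁻¹ * w⁻¹ ∈ R
  quad : ∀ t t' : F, ∃ k ∈ kx V Z, ∃ k' ∈ kx V Z, (∀ x y, k * h.e x y * k⁻¹ = h.e (x + t * y) y) ∧
    (∀ x y, k' * h.e x y * k'⁻¹ = h.e (x + t' * y) y) ∧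
    ∀ w ∈ W, k' * (k * w * k⁻¹ * w⁻¹) * k'⁻¹ * (k * w * k⁻¹ * w⁻¹)⁻¹ ∈ R

variable {h}

theorem Sec.ok {W R : Subgroup G} (s : h.Sec W R) : WRep.Ok W R (XV V Z) := ⟨s.ab, s.RW, s.NW⟩

/-- the abstract quadratic module -/
theorem Sec.toQuad {W R : Subgroup G} (s : h.Sec W R) {M H : Type u} [AddCommGroup M] [Group H]
    [DistribMulAction H M] (r : WRep W R (XV V Z) M H) :
    letI := DistribMulAction.compHom M r.hom
    QuadNat.Quad F M h.wrho ((kx V Z).subgroupOf (XV V Z)) ((kx V h.Yp).subgroupOf (XV V Z)) := by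
  let _ := DistribMulAction.compHom M r.hom
  have hZ := h.one.self
  have hY := h.pY
  have hsm : ∀ (g : XV V Z) (w : G), w ∈ W → g • r.pi w = r.pi ((g : G) * w * (g : G)⁻¹) := fun g w hw =>
    r.act _ g.2 w hw
  have hcw : ∀ (g : XV V Z) (w : G), w ∈ W → (g : G) * w * (g : G)⁻¹ ∈ W := fun g w hw =>
    (mem_normalizer_iff.1 (s.NW g.2) w).1 hw
  -- elements of `K_T` centralising `V` are trivial
  have heq : ∀ T, Pnt V Z T → ∀ k : XV V Z, (k : G) ∈ kx V T → (∀ p, h.wrho k p = p) → ∀ a : M, k • a = a := by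
    intro T hT k hk hp a
    obtain ⟨w, hw, rfl⟩ := r.pi_surj a
    rw [hsm k w hw, r.pi_eq (hcw k w hw) hw]
    refine s.triv T hT k hk (h.mem_cent fun x y => ?_) w hw
    have := h.e_wrho k (x, y)
    rw [hp] at this
    exact this.symm
  -- `K_Z` is quadratic
  have hq : ∀ k k' : XV V Z, (k : G) ∈ kx V Z → (k' : G) ∈ kx V Z → ∀ a : M, k' • (k • a - a) = k • a - a := by
    intro k k' hk hk' a
    obtain ⟨t, ht⟩ := h.K_tv hk
    obtain ⟨t', ht'⟩ := h.K_tv hk'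
    obtain ⟨l, hl, l', hl', hlt, hlt', hll⟩ := s.quad t t'
    have hlX := le_XV hZ.cj hZ.le hl
    have hlX' := le_XV hZ.cj hZ.le hl'
    have same : ∀ (k l : G) (hk : k ∈ XV V Z) (hl : l ∈ XV V Z) (hkZ : k ∈ kx V Z) (hlZ : l ∈ kx V Z) (t : F),
        (∀ x y, k * h.e x y * k⁻¹ = h.e (x + t * y) y) → (∀ x y, l * h.e x y * l⁻¹ = h.e (x + t * y) y) →
        ∀ a : M, (⟨k, hk⟩ : XV V Z) • a = (⟨l, hl⟩ : XV V Z) • a := by
      intro k l hk hl hkZ hlZ t hkt hlt a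
      have h1 := heq Z hZ ((⟨l, hl⟩ : XV V Z)⁻¹ * ⟨k, hk⟩) (mul_mem (inv_mem hlZ) hkZ) (fun p => by
        apply h.wrho_eq
        have e : ((((⟨l, hl⟩ : XV V Z)⁻¹ * ⟨k, hk⟩ : XV V Z) : G)) = l⁻¹ * k := rfl
        rw [e]
        have e1 : l⁻¹ * k * h.e p.1 p.2 * (l⁻¹ * k)⁻¹ = l⁻¹ * (k * h.e p.1 p.2 * k⁻¹) * l := by group
        rw [e1, hkt, ← hlt]
        group) a
      rw [mul_smul, inv_smul_eq_iff] at h1
      exact h1
    have e1 := fun a => same k l k.2 hlX hk hl t ht hlt a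
    have e2 := fun a => same k' l' k'.2 hlX' hk' hl' t' ht' hlt' a
    have e1' : ∀ a : M, k • a = (⟨l, hlX⟩ : XV V Z) • a := e1
    have e2' : ∀ a : M, k' • a = (⟨l', hlX'⟩ : XV V Z) • a := e2
    rw [e1' a, e2']
    obtain ⟨w, hw, rfl⟩ := r.pi_surj a
    have h3 : (⟨l, hlX⟩ : XV V Z) • r.pi w - r.pi w = r.pi (l * w * l⁻¹ * w⁻¹) := by
      rw [r.pi_comm s.ok hlX hw]
      rfl
    have h4 : l * w * l⁻¹ * w⁻¹ ∈ W := mul_mem (hcw ⟨l, hlX⟩ w hw) (inv_mem hw)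
    rw [h3, hsm _ _ h4, r.pi_eq (hcw ⟨l', hlX'⟩ _ h4) h4]
    exact hll w hw
  obtain ⟨n, hn, hne⟩ := h.exists_n (one_ne_zero (α := F))
  have hne' : ∀ x y, n * h.e x y * n⁻¹ = h.e y x := fun x y => by rw [hne, one_mul, inv_one, one_mul]
  have hnZ : PT.cj n Z = h.Yp := h.cj_swap hne'
  exact
    { mul := h.wrho_mul
      one := h.wrho_one
      tv₁ := by
        intro k hk
        obtain ⟨t, ht⟩ := h.K_tv (mem_subgroupOf.1 hk)
        exact ⟨t, fun x y => h.wrho_eq (ht x y)⟩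
      tv₂ := by
        intro k hk
        obtain ⟨t, ht⟩ := h.K_tv' (mem_subgroupOf.1 hk)
        exact ⟨t, fun x y => h.wrho_eq (ht x y)⟩
      ex₁ := by
        intro t
        obtain ⟨k, hk, -, hke⟩ := h.exists_K t
        exact ⟨⟨k, le_XV hZ.cj hZ.le hk⟩, mem_subgroupOf.2 hk, fun x y => h.wrho_eq (hke x y)⟩
      ex₂ := by
        intro t
        obtain ⟨k, hk, hke⟩ := h.exists_K' t
        exact ⟨⟨k, le_XV hY.cj hY.le hk⟩, mem_subgroupOf.2 hk, fun x y => h.wrho_eq (hke x y)⟩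
      norm₁ := by
        intro g hg k hk
        have h1 : PT.cj (g : G) Z = Z := by
          refine h.cj_Z_Y (h.one.pl.XV_le_N g.2) hZ hZ fun z hz => ?_
          obtain ⟨a, rfl⟩ := (h.mem_Z z).1 hz
          rw [← h.e_wrho g (a, 0), h.e_memZ_iff]
          exact hg a
        have h2 := conj_mem_cj (g := (g : G)) (mem_subgroupOf.1 hk)
        rw [← kx_cj, h1] at h2
        exact mem_subgroupOf.2 h2
      swap₂ := by
        intro g hg k hk
        have h1 : PT.cj (g : G) h.Yp = Z := by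
          refine h.cj_Z_Y (h.one.pl.XV_le_N g.2) hY hZ fun z hz => ?_
          obtain ⟨a, rfl⟩ := h.mem_Yp.1 hz
          rw [← h.e_wrho g (0, a), h.e_memZ_iff]
          exact hg a
        have h2 := conj_mem_cj (g := (g : G)) (mem_subgroupOf.1 hk)
        rw [← kx_cj, h1] at h2
        exact mem_subgroupOf.2 h2
      swap₁ := by
        intro g hg k hk
        have h1 : PT.cj (g : G) Z = h.Yp := by
          refine h.cj_Z_Y (h.one.pl.XV_le_N g.2) hZ hY fun z hz => ?_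
          obtain ⟨a, rfl⟩ := (h.mem_Z z).1 hz
          have h2 := h.e_wrho g (a, 0)
          have h3 := hg a
          rw [← h2, h.mem_Yp]
          exact ⟨_, by rw [h3]⟩
        have h2 := conj_mem_cj (g := (g : G)) (mem_subgroupOf.1 hk)
        rw [← kx_cj, h1] at h2
        exact mem_subgroupOf.2 h2
      gen := h.closure_K
      eq₁ := fun k hk => heq Z hZ k (mem_subgroupOf.1 hk)
      eq₂ := fun k hk => heq h.Yp hY k (mem_subgroupOf.1 hk)
      quad₁ := fun k hk k' hk' => hq k k' (mem_subgroupOf.1 hk) (mem_subgroupOf.1 hk')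
      quad₂ := by
        intro k hk k' hk' a
        have hc : ∀ k : XV V Z, k ∈ (kx V h.Yp).subgroupOf (XV V Z) →
            (((⟨n, hn⟩ : XV V Z)⁻¹ * k * ⟨n, hn⟩ : XV V Z) : G) ∈ kx V Z := by
          intro k hk
          change n⁻¹ * (k : G) * n ∈ kx V Z
          rw [← mem_cj, ← kx_cj, hnZ]
          exact mem_subgroupOf.1 hk
        have h1 := hq _ _ (hc k hk) (hc k' hk') ((⟨n, hn⟩ : XV V Z)⁻¹ • a)
        have h2 := congrArg (fun b : M => (⟨n, hn⟩ : XV V Z) • b) h1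
        simp only [mul_smul, smul_sub, smul_inv_smul] at h2
        rw [smul_sub]
        exact h2
      two := by
        intro a
        obtain ⟨w, hw, rfl⟩ := r.pi_surj a
        rw [← r.pi_mul w hw w hw, s.sq w hw, r.pi_one] }

/-- **sections on which the root groups are quadratic** -/
theorem Sec.add_of [Finite F] {W R : Subgroup G} (s : h.Sec W R) {e : G} (he : e ∈ W)
    (heK : ∀ k ∈ kx V Z, k * e * k⁻¹ * e⁻¹ ∈ R) {a b c : G} (ha : a ∈ XV V Z) (hb : b ∈ XV V Z) (hc : c ∈ XV V Z)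
    {x y : F} (hax : a * h.e 1 0 * a⁻¹ = h.e x 0) (hby : b * h.e 1 0 * b⁻¹ = h.e y 0)
    (hcz : c * h.e 1 0 * c⁻¹ = h.e (x + y) 0) {g : G} (hg : g ∈ XV V Z) :
    g * (c * e * c⁻¹ * (a * e * a⁻¹) * (b * e * b⁻¹)) * g⁻¹ * (c * e * c⁻¹ * (a * e * a⁻¹) * (b * e * b⁻¹))⁻¹ ∈ R := by
  obtain ⟨M, H, iM, -, iH, -, iA, -, ⟨r⟩⟩ := exists_wrep s.ab s.NW s.NR
  let _ := DistribMulAction.compHom M r.hom
  have hQ := s.toQuad r
  have hsm : ∀ (g : XV V Z) (w : G), w ∈ W → g • r.pi w = r.pi ((g : G) * w * (g : G)⁻¹) := fun g w hw =>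
    r.act _ g.2 w hw
  have hcw : ∀ (g : G), g ∈ XV V Z → ∀ (w : G), w ∈ W → g * w * g⁻¹ ∈ W := fun g hg w hw =>
    (mem_normalizer_iff.1 (s.NW hg) w).1 hw
  have h1 := hQ.add_of (e := r.pi e) (a := ⟨a, ha⟩) (b := ⟨b, hb⟩) (c := ⟨c, hc⟩) (s := x) (t := y) (fun k hk => by
    rw [hsm _ _ he, r.pi_eq (hcw _ k.2 _ he) he]
    exact heK k (mem_subgroupOf.1 hk)) (h.wrho_eq hax) (h.wrho_eq hby) (h.wrho_eq hcz)
  have h2 : r.pi (c * e * c⁻¹ * (a * e * a⁻¹) * (b * e * b⁻¹)) =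
      (⟨c, hc⟩ : XV V Z) • r.pi e - ((⟨a, ha⟩ : XV V Z) • r.pi e + (⟨b, hb⟩ : XV V Z) • r.pi e) := by
    rw [hQ.sub_eq, hsm _ _ he, hsm _ _ he, hsm _ _ he, r.pi_mul _ (mul_mem (hcw c hc e he) (hcw a ha e he)) _
      (hcw b hb e he), r.pi_mul _ (hcw c hc e he) _ (hcw a ha e he), add_assoc]
  have hw : c * e * c⁻¹ * (a * e * a⁻¹) * (b * e * b⁻¹) ∈ W :=
    mul_mem (mul_mem (hcw c hc e he) (hcw a ha e he)) (hcw b hb e he)
  rw [← r.pi_eq (hcw g hg _ hw) hw, ← hsm ⟨g, hg⟩ _ hw, h2]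
  exact h1 ⟨g, hg⟩

end Co

end Cfsg.Agent.Omega.NO3S.OneQ
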